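import Cfsg.Prelude.Def_TwoFusion
import Cfsg.Prelude.Def_Balance
import Cfsg.Agent.OddHalf.D4.CommConj
import Cfsg.Agent.SignalizersComponents.StandardTrichotomy

/-!
# D4: even pairs exist, `O(C(K)) = 1`, Theorem A for standard subgroups

`H1173 G` is S1173 for `G` (with `O(G) = 1`), to be supplied by `Cfsg.Agent.S1173.result`.
-/

set_option autoImplicit false

namespace Cfsg.Agent.OddHalf.D4.EvenPair

open Cfsg.Agent.OddHalf.D4.CommConj Cfsg.Agent.Blocks.SylowIn
  Cfsg.Agent.TwoFusion.StronglyEmbeddedBasic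

/-- S1173 for the group `G` -/
def H1173 (G : Type*) [Group G] : Prop :=
  ∀ (S : Sylow 2 G) (T : Subgroup G), Cfsg.IsStronglyClosed T (S : Subgroup G) →
    ((⨅ n : ℕ, derivedSeries ↥(Subgroup.centralizer (T : Set G)) n).map
      (Subgroup.centralizer (T : Set G)).subtype).Normal

variable {G : Type*} [Group G]

theorem exists_even [Finite G] [IsSimpleGroup G] (h1173 : H1173 G)
    {C M K : Subgroup G} (T : Tight C M) (hC : Even (Nat.card C)) (hK : K ≠ ⊥)
    (hKp : ⁅K, K⁆ = K) (hKC : ∀ k ∈ K, ∀ c ∈ C, k * c = c * k) :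
    ∃ g : G, g ∉ M ∧ ∃ r ∈ M, orderOf r = 2 ∧ g⁻¹ * r * g ∈ C := by
  classical
  by_contra hcon
  push Not at hcon
  -- a `2`-element of `M` conjugate into `C` by `g` is conjugated by an element of `M`
  have key : ∀ g x : G, x ∈ C → x ≠ 1 → (∃ k : ℕ, x ^ 2 ^ k = 1) → g * x * g⁻¹ ∈ M → g ∈ M := by
    intro g x hx hx1 hx2 hgx
    by_contra hg
    obtain ⟨k, hk⟩ := hx2
    have hp : IsPGroup 2 (Subgroup.zpowers x) := by
      rw [IsPGroup.iff_card]
      obtain ⟨m, -, hm⟩ := (Nat.dvd_prime_pow Nat.prime_two).mp (orderOf_dvd_of_pow_eq_one hk)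
      exact ⟨m, by rw [Nat.card_zpowers, hm]⟩
    obtain ⟨n, hn⟩ := exists_pow_involution hp (Subgroup.mem_zpowers x) hx1
    have h1 : (g * x * g⁻¹) ^ n = g * x ^ n * g⁻¹ := conj_pow
    refine hcon g hg ((g * x * g⁻¹) ^ n) (pow_mem hgx n) ?_ ?_
    · rw [h1, orderOf_conj, hn]
    · rw [h1]
      have h2 : g⁻¹ * (g * x ^ n * g⁻¹) * g = x ^ n := by group
      rw [h2]
      exact pow_mem hx n
  -- Sylow subgroup of `C` inside one of `M`
  obtain ⟨c, hc⟩ := exists_prime_orderOf_dvd_card' (G := C) 2 (even_iff_two_dvd.mp hC)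
  have hc2 : orderOf (c : G) = 2 := by rw [← hc]; exact Subgroup.orderOf_coe c
  have hcp : IsPGroup 2 (Subgroup.zpowers (c : G)) := by
    rw [IsPGroup.iff_card]
    exact ⟨1, by rw [Nat.card_zpowers, hc2, pow_one]⟩
  obtain ⟨S, hS, hcS⟩ := exists_sylow_ge (D := M) hcp (Subgroup.zpowers_le.mpr (T.le c.2))
  have hS' := exists_sylow_map_eq_iff.mp hS
  have hcS' : (c : G) ∈ S := hcS (Subgroup.mem_zpowers _)
  have hc1 : (c : G) ≠ 1 := by
    intro h
    rw [h, orderOf_one] at hc2
    exact absurd hc2 (by norm_num)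
  have hpow : ∀ x ∈ S, ∃ k : ℕ, x ^ 2 ^ k = 1 := by
    intro x hx
    obtain ⟨k, hk⟩ := hS'.2.1 ⟨x, hx⟩
    exact ⟨k, congrArg Subtype.val hk⟩
  -- `S` is Sylow in `G`
  have hST : ∃ P : Sylow 2 (⊤ : Subgroup G), (P : Subgroup (⊤ : Subgroup G)).map
      (⊤ : Subgroup G).subtype = S := by
    refine sylow_up le_top hS ?_
    intro g hg
    refine key g c c.2 hc1 (hpow _ hcS') (hS'.1 ?_)
    exact (Subgroup.mem_normalizer_iff.mp hg.1 _).mp hcS'
  have hSG := exists_sylow_map_eq_iff.mp hST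
  let P : Sylow 2 G := ⟨S, hSG.2.1, fun hQ hle => hSG.2.2 _ le_top hQ hle⟩
  -- `S ∩ C` is strongly closed
  have hsc : Cfsg.IsStronglyClosed (S ⊓ C) (P : Subgroup G) := by
    refine ⟨inf_le_left, ?_⟩
    intro x hx g hg
    refine ⟨hg, ?_⟩
    by_cases hx1 : x = 1
    · rw [hx1]; simp
    · exact T.norm g (key g x hx.2 hx1 (hpow x hx.1) (hS'.1 hg)) x hx.2
  have hn := h1173 P (S ⊓ C) hsc
  -- `K ≤ C(S ∩ C)^∞`
  have hKle : K ≤ Subgroup.centralizer ((S ⊓ C : Subgroup G) : Set G) := by
    intro k hk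
    rw [Subgroup.mem_centralizer_iff]
    intro x hx
    exact (hKC k hk x hx.2).symm
  have hder : ∀ n, K.subgroupOf (Subgroup.centralizer ((S ⊓ C : Subgroup G) : Set G)) ≤
      derivedSeries ↥(Subgroup.centralizer ((S ⊓ C : Subgroup G) : Set G)) n := by
    intro n
    induction n with
    | zero => exact le_top
    | succ n ih =>
      rw [derivedSeries_succ]
      refine le_trans (le_of_eq ?_) (Subgroup.commutator_mono ih ih)
      apply Subgroup.map_injective (Subgroup.subtype_injective _)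
      rw [Subgroup.map_commutator, Subgroup.subgroupOf_map_subtype, inf_eq_left.mpr hKle, hKp]
  have hKin : K ≤ (⨅ n : ℕ, derivedSeries
      ↥(Subgroup.centralizer ((S ⊓ C : Subgroup G) : Set G)) n).map
      (Subgroup.centralizer ((S ⊓ C : Subgroup G) : Set G)).subtype := by
    have h1 : K.subgroupOf (Subgroup.centralizer ((S ⊓ C : Subgroup G) : Set G)) ≤
        ⨅ n : ℕ, derivedSeries ↥(Subgroup.centralizer ((S ⊓ C : Subgroup G) : Set G)) n :=
      le_iInf hder
    have h2 := Subgroup.map_mono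
      (f := (Subgroup.centralizer ((S ⊓ C : Subgroup G) : Set G)).subtype) h1
    rwa [Subgroup.subgroupOf_map_subtype, inf_eq_left.mpr hKle] at h2
  rcases hn.eq_bot_or_eq_top with h | h
  · rw [h, le_bot_iff] at hKin
    exact hK hKin
  · -- `c` is central in `G`
    have h1 : (⊤ : Subgroup G) ≤ Subgroup.centralizer ((S ⊓ C : Subgroup G) : Set G) := by
      rw [← h]
      exact Subgroup.map_subtype_le _
    have h2 : (c : G) ∈ Subgroup.center G := by
      rw [Subgroup.mem_center_iff]
      intro g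
      have h3 := h1 (Subgroup.mem_top g)
      rw [Subgroup.mem_centralizer_iff] at h3
      exact (h3 c ⟨hcS', c.2⟩).symm
    rcases (inferInstance : (Subgroup.center G).Normal).eq_bot_or_eq_top with h4 | h4
    · rw [h4, Subgroup.mem_bot] at h2
      exact hc1 h2
    · apply hK
      rw [← hKp, Subgroup.commutator_eq_bot_iff_le_centralizer]
      intro k _
      rw [Subgroup.mem_centralizer_iff]
      intro x _
      have : x ∈ Subgroup.center G := by rw [h4]; trivial
      exact (Subgroup.mem_center_iff.mp this k).symm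

/-! ### Standard subgroups -/

open Subgroup in
/-- the centralizer of a standard subgroup is tightly embedded with control the normalizer -/
theorem tight_of_standard [Finite G] {K : Subgroup G} (hK : Cfsg.IsStandardSubgroup K) :
    Tight (centralizer (K : Set G)) (normalizer (K : Set G)) where
  le := by
    rw [hK.2.2.2]
    exact le_normalizer
  norm := by
    intro m hm c hc
    rw [hK.2.2.2] at hm
    exact (mem_normalizer_iff.mp hm c).mp hc
  tight := by
    intro g x hx hx2 hgx
    rw [hK.2.2.2]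
    by_contra hg
    refine not_odd_of_mem _ (g * x * g⁻¹) ?_ ?_ (hK.2.1.2 g hg)
    · exact ⟨hgx, x, hx, by simp⟩
    · rw [orderOf_conj, hx2]

/-- the centralizer of an involution of `C` lies in `M` -/
theorem cent_le {C M : Subgroup G} (T : Tight C M) {k g : G} (hk : k ∈ C)
    (hk2 : orderOf k = 2) (hg : g * k = k * g) : g ∈ M := by
  refine T.tight g k hk hk2 ?_
  rw [hg]
  simpa using hk

/-- **(0)** an `M`-invariant subgroup of odd order of `C` meets trivially the centralizers of the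
involutions of `C`, if `O(C_G(k)) = 1`. -/
theorem inf_centralizer_eq_bot [Finite G] {C M O : Subgroup G} (T : Tight C M)
    (hbal : ∀ t : G, orderOf t = 2 → Cfsg.centralizerPPrimeCore 2 t = ⊥)
    (hO : ∀ m ∈ M, ∀ o ∈ O, m * o * m⁻¹ ∈ O) (hodd : Odd (Nat.card O)) {k : G} (hk : k ∈ C)
    (hk2 : orderOf k = 2) {x : G} (hx : x ∈ O) (hxk : x * k = k * x) : x = 1 := by
  have hxc : x ∈ Subgroup.centralizer ({k} : Set G) :=
    Subgroup.mem_centralizer_singleton_iff.mpr hxk
  have hn : (O.subgroupOf (Subgroup.centralizer ({k} : Set G))).Normal := by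
    refine ⟨?_⟩
    intro n hn g
    rw [Subgroup.mem_subgroupOf] at hn ⊢
    refine hO g (cent_le T hk hk2 ?_) n hn
    exact Subgroup.mem_centralizer_singleton_iff.mp g.2
  have hcop : (Nat.card (O.subgroupOf (Subgroup.centralizer ({k} : Set G)))).Coprime 2 := by
    apply Nat.coprime_two_right.mpr
    apply hodd.of_dvd_nat
    have h1 : Nat.card (O.subgroupOf (Subgroup.centralizer ({k} : Set G))) =
        Nat.card ((O.subgroupOf (Subgroup.centralizer ({k} : Set G))).map
          (Subgroup.centralizer ({k} : Set G)).subtype) :=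
      (Subgroup.card_map_of_injective (Subgroup.subtype_injective _)).symm
    rw [h1]
    apply Subgroup.card_dvd_of_le
    rw [Subgroup.subgroupOf_map_subtype]
    exact inf_le_left
  have h1 := Cfsg.Agent.Lib.Cores.le_pPrimeCore hn hcop
  have h2 : x ∈ Cfsg.centralizerPPrimeCore 2 k :=
    ⟨⟨x, hxc⟩, h1 (Subgroup.mem_subgroupOf.mpr hx), rfl⟩
  rw [hbal k hk2, Subgroup.mem_bot] at h2
  exact h2

/-- an involution `k ∈ C` inverts every `M`-invariant subgroup of odd order -/
theorem conj_eq_inv [Finite G] {C M O : Subgroup G} (T : Tight C M)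
    (hbal : ∀ t : G, orderOf t = 2 → Cfsg.centralizerPPrimeCore 2 t = ⊥)
    (hO : ∀ m ∈ M, ∀ o ∈ O, m * o * m⁻¹ ∈ O) (hodd : Odd (Nat.card O)) {k : G} (hk : k ∈ C)
    (hk2 : orderOf k = 2) {x : G} (hx : x ∈ O) : k * x * k⁻¹ = x⁻¹ := by
  have hkM : k ∈ M := T.le hk
  have hkO : ∀ o ∈ O, k * o * k⁻¹ ∈ O := hO k hkM
  let φ : O →* O :=
    { toFun := fun o => ⟨k * o * k⁻¹, hkO o o.2⟩
      map_one' := Subtype.ext (by simp)
      map_mul' := fun a b => Subtype.ext (by
        show k * ((a : G) * b) * k⁻¹ = k * a * k⁻¹ * (k * b * k⁻¹)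
        group) }
  have hφ : ∀ o : O, ((φ o : O) : G) = k * o * k⁻¹ := fun o => rfl
  have hfp : MonoidHom.FixedPointFree φ := by
    intro o ho
    apply Subtype.ext
    refine inf_centralizer_eq_bot T hbal hO hodd hk hk2 o.2 ?_
    have h1 : k * (o : G) * k⁻¹ = o := congrArg Subtype.val ho
    calc (o : G) * k = (k * (o : G) * k⁻¹) * k := by rw [h1]
      _ = k * o := by group
  have hinv : Function.Involutive φ := by
    intro o
    apply Subtype.ext
    rw [hφ, hφ]
    have hkk := mul_self_of_orderOf hk2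
    calc k * (k * (o : G) * k⁻¹) * k⁻¹ = (k * k) * o * (k * k)⁻¹ := by group
      _ = o := by rw [hkk]; simp
  have h1 := MonoidHom.FixedPointFree.coe_eq_inv_of_involutive hfp hinv
  have h2 := congrFun h1 ⟨x, hx⟩
  exact congrArg Subtype.val h2

/-- **(0)** if `C` contains two commuting involutions and `O(C_G(k)) = 1` for all involutions then
every `M`-invariant subgroup of odd order is trivial; in particular `O(M) = O(C) = 1`. -/
theorem eq_bot_of_odd [Finite G] {C M O : Subgroup G} (T : Tight C M)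
    (hbal : ∀ t : G, orderOf t = 2 → Cfsg.centralizerPPrimeCore 2 t = ⊥)
    (hO : ∀ m ∈ M, ∀ o ∈ O, m * o * m⁻¹ ∈ O) (hodd : Odd (Nat.card O)) {a b : G} (ha : a ∈ C)
    (ha2 : orderOf a = 2) (hb : b ∈ C) (hb2 : orderOf b = 2) (hab : a * b = b * a) (hne : a ≠ b) :
    O = ⊥ := by
  rw [eq_bot_iff]
  intro x hx
  rw [Subgroup.mem_bot]
  have haa := mul_self_of_orderOf ha2
  have hbb := mul_self_of_orderOf hb2
  have h1 := conj_eq_inv T hbal hO hodd ha ha2 hx
  have h2 := conj_eq_inv T hbal hO hodd hb hb2 (O.inv_mem hx)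
  have hab2 : orderOf (b * a) = 2 := by
    apply orderOf_eq_two_of_mul_self
    · calc b * a * (b * a) = b * (a * b) * a := by group
        _ = b * (b * a) * a := by rw [hab]
        _ = (b * b) * (a * a) := by group
        _ = 1 := by rw [haa, hbb, one_mul]
    · intro h
      apply hne
      have h3 : b⁻¹ = a := inv_eq_of_mul_eq_one_right h
      rw [← h3]
      exact inv_eq_self_of_orderOf hb2
  refine inf_centralizer_eq_bot T hbal hO hodd (C.mul_mem hb ha) hab2 hx ?_
  have h3 : (b * a) * x * (b * a)⁻¹ = x := by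
    calc (b * a) * x * (b * a)⁻¹ = b * (a * x * a⁻¹) * b⁻¹ := by group
      _ = b * x⁻¹ * b⁻¹ := by rw [h1]
      _ = x := by rw [h2, inv_inv]
  calc x * (b * a) = ((b * a) * x * (b * a)⁻¹) * (b * a) := by rw [h3]
    _ = b * a * x := by group

/-- an elementary abelian subgroup of order at least 4 gives two commuting involutions -/
theorem exists_two_of_not_pRankLE [Finite G] {C : Subgroup G} (h : ¬ Cfsg.PRankLE 2 1 ↥C) :
    ∃ a b : G, a ∈ C ∧ b ∈ C ∧ orderOf a = 2 ∧ orderOf b = 2 ∧ a * b = b * a ∧ a ≠ b := by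
  unfold Cfsg.PRankLE at h
  push Not at h
  obtain ⟨A, hA, hA2, hc⟩ := h
  rw [pow_one] at hc
  have h1 : ∃ a : A, a ≠ 1 := by
    by_contra hcon
    push Not at hcon
    have : Subsingleton A := ⟨fun x y => by rw [hcon x, hcon y]⟩
    have h2 : Nat.card A ≤ 1 := Finite.card_le_one_iff_subsingleton.mpr this
    omega
  obtain ⟨a, ha⟩ := h1
  have h2 : ∃ b : A, b ≠ 1 ∧ b ≠ a := by
    by_contra hcon
    push Not at hcon
    have h3 : (Set.univ : Set A) ⊆ {1, a} := by
      intro x _
      by_cases hx : x = 1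
      · left; exact hx
      · right; exact hcon x hx
    have h4 : Nat.card A ≤ 2 := by
      rw [← Set.ncard_univ]
      exact (Set.ncard_le_ncard h3).trans ((Set.ncard_insert_le _ _).trans (by rw [Set.ncard_singleton]))
    omega
  obtain ⟨b, hb, hba⟩ := h2
  have hord : ∀ x : A, x ≠ 1 → orderOf ((x : C) : G) = 2 := by
    intro x hx
    have h3 := hA2 (x : C) x.2
    apply orderOf_eq_two_of_mul_self
    · rw [pow_two] at h3
      exact congrArg Subtype.val h3
    · intro h4
      exact hx (Subtype.ext (Subtype.ext h4))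
  refine ⟨((a : C) : G), ((b : C) : G), (a : C).2, (b : C).2, hord a ha, hord b hb, ?_, ?_⟩
  · have h3 := hA.is_comm.comm a b
    exact congrArg (fun z : A => ((z : C) : G)) h3
  · intro h3
    exact hba (Subtype.ext (Subtype.ext h3.symm))

/-- **Theorem A for a standard subgroup** `K` of a simple group whose centre has odd order. -/
theorem theoremA_std [Finite G] [IsSimpleGroup G] (h1173 : H1173 G) {K : Subgroup G}
    (hK : Cfsg.IsStandardSubgroup K)
    (hZ : ∀ x ∈ K, x ∈ Subgroup.centralizer (K : Set G) → orderOf x ≠ 2) :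
    ∃ S : Subgroup G, (∃ P : Sylow 2 (Subgroup.normalizer (K : Set G)),
        (P : Subgroup (Subgroup.normalizer (K : Set G))).map
          (Subgroup.normalizer (K : Set G)).subtype = S) ∧
      ∃ a : G, a ∉ Subgroup.normalizer (K : Set G) ∧
      ((∀ x ∈ S ⊓ Subgroup.centralizer (K : Set G), a * x * a⁻¹ ∈ S) ∨
        ∃ r ∈ S, orderOf r = 2 ∧ a⁻¹ * r * a ∈ Subgroup.centralizer (K : Set G) ∧
          (∀ k ∈ S ⊓ K, r * k = k * r) ∧
          ∀ c ∈ S ⊓ Subgroup.centralizer (K : Set G), ∀ k ∈ S ⊓ K, r ≠ c * k) := by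
  have T := tight_of_standard hK
  have hcomm : ∀ k ∈ K, ∀ c ∈ Subgroup.centralizer (K : Set G), k * c = c * k :=
    fun k hk c hc => Subgroup.mem_centralizer_iff.mp hc k hk
  have hperf : ⁅K, K⁆ = K := by
    have := hK.1.1
    exact Subgroup.commutator_eq_self (H := K)
  obtain ⟨g, hg, r, hr, hr2, hrg⟩ := exists_even h1173 T hK.2.1.1
    (Cfsg.Agent.SignalizersComponents.StandardTrichotomy.ne_bot hK) hperf hcomm
  exact theoremA T hg hr hr2 hrg
    (fun m hm k hk => (Subgroup.mem_normalizer_iff.mp hm k).mp hk) hcomm hZ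

end Cfsg.Agent.OddHalf.D4.EvenPair
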