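import Mathlib
import Cfsg.Agent.OddHalf.D4.NoBig

/-!
# ODD, D4: full pairs

`FullPair K L Q U`: `L ≠ K` is a conjugate of `K`, the Sylow 2-subgroups `Q` of `C(K)` and `U` of `C(L)` commute
(so `Q ≤ N(L)`, `U ≤ N(K)`). Consequences for the action of `U` and `C(L)` on `K`.
-/

set_option autoImplicit false

namespace Cfsg.Agent.OddHalf.D4

open Subgroup Basic
open Cfsg.Agent.OddHalf.D4.CommConj (Tight cj mem_cj cj_mul card_cj cj_eq_of_mem_normalizer mem_normalizer_of_cj_eq
  mem_cj_mul)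

variable {G : Type*} [Group G]

/-- A full pair. -/
structure FullPair (K L Q U : Subgroup G) : Prop where
  conj : ∃ g : G, g ∉ normalizer (K : Set G) ∧ L = cj g K
  sylQ : IsSyl Q (centralizer (K : Set G))
  sylU : IsSyl U (centralizer (L : Set G))
  comm : ∀ q ∈ Q, ∀ u ∈ U, q * u = u * q

/-! ### Conjugates of centralizers and normalizers -/

theorem centralizer_cj (g : G) (K : Subgroup G) :
    centralizer ((cj g K : Subgroup G) : Set G) = cj g (centralizer (K : Set G)) := by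
  ext x
  rw [mem_cj, mem_centralizer_iff, mem_centralizer_iff]
  constructor
  · intro h k hk
    have h1 := h _ (mem_cj_mul (g := g) hk)
    calc k * (g⁻¹ * x * g) = g⁻¹ * ((g * k * g⁻¹) * x) * g := by group
      _ = g⁻¹ * (x * (g * k * g⁻¹)) * g := by rw [h1]
      _ = (g⁻¹ * x * g) * k := by group
  · intro h k hk
    have h1 := h _ (mem_cj.mp hk)
    calc k * x = g * ((g⁻¹ * k * g) * (g⁻¹ * x * g)) * g⁻¹ := by group
      _ = g * ((g⁻¹ * x * g) * (g⁻¹ * k * g)) * g⁻¹ := by rw [h1]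
      _ = x * k := by group

theorem normalizer_cj (g : G) (K : Subgroup G) :
    normalizer ((cj g K : Subgroup G) : Set G) = cj g (normalizer (K : Set G)) := by
  ext x
  rw [mem_cj, mem_normalizer_iff, mem_normalizer_iff]
  constructor
  · intro h k
    have h1 := h (g * k * g⁻¹)
    rw [mem_cj, mem_cj] at h1
    have e1 : g⁻¹ * (g * k * g⁻¹) * g = k := by group
    have e2 : g⁻¹ * (x * (g * k * g⁻¹) * x⁻¹) * g = (g⁻¹ * x * g) * k * (g⁻¹ * x * g)⁻¹ := by group
    rw [e1, e2] at h1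
    exact h1
  · intro h k
    have h1 := h (g⁻¹ * k * g)
    rw [mem_cj, mem_cj, h1]
    have e2 : (g⁻¹ * x * g) * (g⁻¹ * k * g) * (g⁻¹ * x * g)⁻¹ = g⁻¹ * (x * k * x⁻¹) * g := by group
    rw [e2]

theorem cj_inv_cj (g : G) (K : Subgroup G) : cj g⁻¹ (cj g K) = K := by
  rw [← cj_mul, inv_mul_cancel]
  ext x
  rw [mem_cj]
  simp

theorem cj_cj_inv (g : G) (K : Subgroup G) : cj g (cj g⁻¹ K) = K := by
  rw [← cj_mul, mul_inv_cancel]
  ext x
  rw [mem_cj]
  simp

theorem tight_cj {C M : Subgroup G} (h : Tight C M) (g : G) : Tight (cj g C) (cj g M) := by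
  refine ⟨map_mono h.le, ?_, ?_⟩
  · intro m hm c hc
    rw [mem_cj] at hm hc ⊢
    have h1 := h.norm _ hm _ hc
    have e : g⁻¹ * m * g * (g⁻¹ * c * g) * (g⁻¹ * m * g)⁻¹ = g⁻¹ * (m * c * m⁻¹) * g := by group
    rwa [e] at h1
  · intro x c hc hc2 hx
    rw [mem_cj] at hc hx ⊢
    apply h.tight _ _ hc
    · have := Basic.orderOf_conj g⁻¹ c
      rw [inv_inv] at this
      rw [this, hc2]
    · have e : g⁻¹ * x * g * (g⁻¹ * c * g) * (g⁻¹ * x * g)⁻¹ = g⁻¹ * (x * c * x⁻¹) * g := by group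
      rw [e]; exact hx

/-- Tightness of `C(K)` with control `N(K)`. -/
abbrev TightAt (K : Subgroup G) : Prop := Tight (centralizer (K : Set G)) (normalizer (K : Set G))

theorem TightAt.cj {K : Subgroup G} (h : TightAt K) (g : G) : TightAt (CommConj.cj g K) := by
  show Tight _ _
  rw [centralizer_cj, normalizer_cj]
  exact tight_cj h g

/-- The elements commuting with an involution of `C(K)` normalize `K`. -/
theorem TightAt.mem {K : Subgroup G} (h : TightAt K) {k x : G} (hk : k ∈ centralizer (K : Set G))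
    (hk2 : orderOf k = 2) (hx : x * k = k * x) : x ∈ normalizer (K : Set G) := by
  apply h.tight x k hk hk2
  have : x * k * x⁻¹ = k := by rw [hx]; group
  rw [this]; exact hk

/-- An involution centralizes only one conjugate. -/
theorem TightAt.eq {K : Subgroup G} (h : TightAt K) {g k : G} (hk : k ∈ centralizer (K : Set G))
    (hk2 : orderOf k = 2) (hkg : k ∈ centralizer ((CommConj.cj g K : Subgroup G) : Set G)) :
    g ∈ normalizer (K : Set G) := by
  rw [centralizer_cj, mem_cj] at hkg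
  have h1 : g⁻¹ ∈ normalizer (K : Set G) := by
    apply h.tight g⁻¹ k hk hk2
    rw [inv_inv]; exact hkg
  have h2 := inv_mem h1
  rwa [inv_inv] at h2

theorem FullPair.symm {K L Q U : Subgroup G} (h : FullPair K L Q U) : FullPair L K U Q := by
  obtain ⟨g, hg, hL⟩ := h.conj
  refine ⟨⟨g⁻¹, ?_, ?_⟩, h.sylU, h.sylQ, fun u hu q hq => (h.comm q hq u hu).symm⟩
  · subst hL
    intro h1
    apply hg
    rw [normalizer_cj, mem_cj] at h1
    have e : g⁻¹ * g⁻¹ * g = g⁻¹ := by group
    rw [e] at h1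
    have h2 := inv_mem h1
    rwa [inv_inv] at h2
  · rw [hL, cj_inv_cj]

theorem FullPair.tightL {K L Q U : Subgroup G} (h : FullPair K L Q U) (hK : TightAt K) : TightAt L := by
  obtain ⟨g, _, rfl⟩ := h.conj
  exact hK.cj g

theorem FullPair.ne {K L Q U : Subgroup G} (h : FullPair K L Q U) : L ≠ K := by
  obtain ⟨g, hg, hL⟩ := h.conj
  intro h1
  apply hg
  apply mem_normalizer_of_cj_eq
  rw [← hL, h1]

/-- No involution centralizes both. -/
theorem FullPair.noInv {K L Q U : Subgroup G} (h : FullPair K L Q U) (hK : TightAt K) {k : G}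
    (hk : k ∈ centralizer (K : Set G)) (hk' : k ∈ centralizer (L : Set G)) : orderOf k ≠ 2 := by
  obtain ⟨g, hg, rfl⟩ := h.conj
  intro hk2
  exact hg (hK.eq hk hk2 hk')

section Finite

variable [Finite G] {K L Q U : Subgroup G}

theorem exists_inv_syl {C Q : Subgroup G} (hQ : IsSyl Q C) (he : Even (Nat.card ↥C)) : ∃ q ∈ Q, orderOf q = 2 := by
  obtain ⟨u, hu, hu2⟩ := exists_invol_of_even he
  have hup : IsPGroup 2 ↥(zpowers u) := by
    rw [IsPGroup.iff_card]; exact ⟨1, by rw [Nat.card_zpowers, hu2]; norm_num⟩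
  obtain ⟨m, _, hmu⟩ := hQ.conj_into hup (by rw [zpowers_le]; exact hu)
  exact ⟨_, hmu u (mem_zpowers u), by rw [Basic.orderOf_conj]; exact hu2⟩

/-- `Q ≤ N(L)`. -/
theorem FullPair.leQ (h : FullPair K L Q U) (hK : TightAt K) (he : Even (Nat.card ↥(centralizer (K : Set G)))) :
    Q ≤ normalizer (L : Set G) := by
  have heL : Even (Nat.card ↥(centralizer (L : Set G))) := by
    obtain ⟨g, _, rfl⟩ := h.conj
    rw [centralizer_cj, card_cj]; exact he
  obtain ⟨u, hu, hu2⟩ := exists_inv_syl h.sylU heL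
  intro q hq
  exact (h.tightL hK).mem (h.sylU.le hu) hu2 (h.comm q hq u hu)

/-- `U ≤ N(K)`. -/
theorem FullPair.leU (h : FullPair K L Q U) (hK : TightAt K) (he : Even (Nat.card ↥(centralizer (K : Set G)))) :
    U ≤ normalizer (K : Set G) := by
  obtain ⟨q, hq, hq2⟩ := exists_inv_syl h.sylQ he
  intro u hu
  exact hK.mem (h.sylQ.le hq) hq2 (h.comm q hq u hu).symm

/-- **(f2)** `N(L)` contains no Sylow 2-subgroup of `K`. -/
theorem FullPair.noSyl (h : FullPair K L Q U) (hK : Loc K) {SK : Subgroup G} (hSK : IsSyl SK K)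
    (hle : SK ≤ normalizer (L : Set G)) : False := by
  have hQ := h.leQ hK.tight hK.even
  obtain ⟨g, hg, rfl⟩ := h.conj
  rw [normalizer_cj] at hle hQ
  exact no_big hK hg h.sylQ hSK hQ hle

/-- **(f2')** no involution of `C(L) ∩ N(K)` centralizes a Sylow 2-subgroup of `K`. -/
theorem FullPair.noCentral (h : FullPair K L Q U) (hK : Loc K) {y : G} (hy : y ∈ centralizer (L : Set G))
    (hy2 : orderOf y = 2) {SK : Subgroup G} (hSK : IsSyl SK K) (hc : ∀ s ∈ SK, s * y = y * s) : False :=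
  h.noSyl hK hSK fun s hs => (h.tightL hK.tight).mem hy hy2 (hc s hs)

omit [Finite G] in
/-- **(f3)** `[K ∩ N(L), C(L) ∩ N(K)] ≤ K ∩ C(L)`. -/
theorem commutator_mem {x y : G} (hx : x ∈ K) (hxL : x ∈ normalizer (L : Set G)) (hy : y ∈ centralizer (L : Set G))
    (hyK : y ∈ normalizer (K : Set G)) : x * y * x⁻¹ * y⁻¹ ∈ K ∧ x * y * x⁻¹ * y⁻¹ ∈ centralizer (L : Set G) := by
  constructor
  · have e : x * y * x⁻¹ * y⁻¹ = x * (y * x⁻¹ * y⁻¹) := by group
    rw [e]
    exact K.mul_mem hx ((mem_normalizer_iff.mp hyK _).mp (K.inv_mem hx))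
  · apply (centralizer (L : Set G)).mul_mem _ ((centralizer (L : Set G)).inv_mem hy)
    rw [mem_centralizer_iff] at hy ⊢
    intro l hl
    have h1 : x⁻¹ * l * x ∈ L := (mem_normalizer_iff''.mp hxL l).mp hl
    have h2 := hy _ h1
    calc l * (x * y * x⁻¹) = x * ((x⁻¹ * l * x) * y) * x⁻¹ := by group
      _ = x * (y * (x⁻¹ * l * x)) * x⁻¹ := by rw [h2]
      _ = x * y * x⁻¹ * l := by group

end Finite

end Cfsg.Agent.OddHalf.D4
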