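import Mathlib
import Cfsg.Agent.OddHalf.D4.CaseOneA
import Cfsg.Agent.OddHalf.D4.FullPair

/-!
# ODD, D4: the normalizer of a Sylow 2-subgroup of `N(K)` lies in `N(K)`

`Dat` is invariant under conjugation; `pair_false` for `K` and `K^g`, `g ∈ N_G(T)`.
-/

set_option autoImplicit false

namespace Cfsg.Agent.OddHalf.D4

open Cfsg Subgroup Basic
open Cfsg.Agent.OddHalf.D4.CommConj (Tight cj mem_cj cj_mul card_cj cj_eq_of_mem_normalizer mem_normalizer_of_cj_eq
  mem_cj_mul)

variable {G : Type*} [Group G]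

theorem cj_le_iff {g : G} {H K : Subgroup G} : cj g H ≤ K ↔ H ≤ cj g⁻¹ K := by
  constructor
  · intro h x hx
    rw [mem_cj, inv_inv]
    exact h (mem_cj_mul hx)
  · intro h x hx
    rw [mem_cj] at hx
    have h1 := h hx
    rw [mem_cj, inv_inv] at h1
    have e : g * (g⁻¹ * x * g) * g⁻¹ = x := by group
    rwa [e] at h1

theorem eq_one_of_conj {g x : G} (h : g⁻¹ * x * g = 1) : x = 1 := by
  have : x = g * (g⁻¹ * x * g) * g⁻¹ := by group
  rw [this, h]; group

theorem orderOf_conj' (g x : G) : orderOf (g⁻¹ * x * g) = orderOf x := by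
  have := Basic.orderOf_conj g⁻¹ x
  rwa [inv_inv] at this

/-- `Dat` is invariant under conjugation. -/
theorem Dat.cj [Finite G] {A T : Subgroup G} (h : Dat A T) (g : G) : Dat (CommConj.cj g A) (CommConj.cj g T) := by
  have conj_eq : ∀ x y : G, (g⁻¹ * x * g) * (g⁻¹ * y * g) = g⁻¹ * (x * y) * g := fun x y => by group
  have conj_inj : ∀ x y : G, g⁻¹ * x * g = g⁻¹ * y * g → x = y := fun x y h => by
    have : x = g * (g⁻¹ * x * g) * g⁻¹ := by group
    rw [this, h]; group
  have comm_iff : ∀ x y : G, (g⁻¹ * x * g) * (g⁻¹ * y * g) = (g⁻¹ * y * g) * (g⁻¹ * x * g) ↔ x * y = y * x := by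
    intro x y
    rw [conj_eq, conj_eq]
    exact ⟨conj_inj _ _, fun h => by rw [h]⟩
  have back : ∀ x : G, g⁻¹ * (g * x * g⁻¹) * g = x := fun x => by group
  refine ⟨?_, ?_, ?_, ?_, ?_, ?_, ?_, ?_, ?_⟩
  · rw [normalizer_cj]; exact h.syl.cj g
  · -- simple
    intro N hN hn
    have h1 := h.simp (CommConj.cj g⁻¹ N) (cj_le_iff.mpr (by rw [inv_inv]; exact hN)) (by
      intro a ha n hn'
      rw [mem_cj, inv_inv] at hn' ⊢
      have h2 := hn (g * a * g⁻¹) (mem_cj_mul ha) _ hn'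
      have e : g * a * g⁻¹ * (g * n * g⁻¹) * (g * a * g⁻¹)⁻¹ = g * (a * n * a⁻¹) * g⁻¹ := by group
      rwa [e] at h2)
    rcases h1 with h1 | h1
    · left
      rw [eq_bot_iff_forall]
      intro x hx
      have h2 : g⁻¹ * x * g ∈ CommConj.cj g⁻¹ N := by
        rw [mem_cj, inv_inv]
        have e : g * (g⁻¹ * x * g) * g⁻¹ = x := by group
        rw [e]; exact hx
      rw [h1, mem_bot] at h2
      exact eq_one_of_conj h2
    · right
      rw [← h1, cj_cj_inv]
  · intro x hx hxc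
    rw [centralizer_cj, mem_cj] at hxc
    exact eq_one_of_conj (h.cen _ (mem_cj.mp hx) hxc)
  · intro k hk hk2 x hx
    rw [centralizer_cj, mem_cj] at hk
    rw [normalizer_cj, mem_cj]
    rw [mem_centralizer_singleton_iff] at hx
    apply h.te _ hk (by rw [orderOf_conj']; exact hk2)
    rw [mem_centralizer_singleton_iff]
    exact (comm_iff _ _).mpr hx
  · -- core
    intro N hN hn hodd
    rw [centralizer_cj] at hN
    have h1 := h.core (CommConj.cj g⁻¹ N) (cj_le_iff.mpr (by rw [inv_inv]; exact hN)) (by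
      intro a ha n hn'
      rw [mem_cj, inv_inv] at hn' ⊢
      have h2 := hn (g * a * g⁻¹) (by rw [centralizer_cj]; exact mem_cj_mul ha) _ hn'
      have e : g * a * g⁻¹ * (g * n * g⁻¹) * (g * a * g⁻¹)⁻¹ = g * (a * n * a⁻¹) * g⁻¹ := by group
      rwa [e] at h2) (by rw [card_cj]; exact hodd)
    rw [eq_bot_iff_forall]
    intro x hx
    have h2 : g⁻¹ * x * g ∈ CommConj.cj g⁻¹ N := by
      rw [mem_cj, inv_inv]
      have e : g * (g⁻¹ * x * g) * g⁻¹ = x := by group
      rw [e]; exact hx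
    rw [h1, mem_bot] at h2
    exact eq_one_of_conj h2
  · obtain ⟨x, hxT, hxC, y, hyT, hyC, hx2, hy2, hxy, hc⟩ := h.rk
    refine ⟨g * x * g⁻¹, mem_cj_mul hxT, by rw [centralizer_cj]; exact mem_cj_mul hxC,
      g * y * g⁻¹, mem_cj_mul hyT, by rw [centralizer_cj]; exact mem_cj_mul hyC,
      by rw [Basic.orderOf_conj]; exact hx2, by rw [Basic.orderOf_conj]; exact hy2, ?_, ?_⟩
    · intro he
      apply hxy
      exact mul_left_cancel (mul_right_cancel he)
    · calc g * x * g⁻¹ * (g * y * g⁻¹) = g * (x * y) * g⁻¹ := by group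
        _ = g * (y * x) * g⁻¹ := by rw [hc]
        _ = g * y * g⁻¹ * (g * x * g⁻¹) := by group
  · -- balance
    intro a ha ha2 I hI hIa hIn hodd
    have h1 := h.bal _ (mem_cj.mp ha) (by rw [orderOf_conj']; exact ha2) (CommConj.cj g⁻¹ I)
      (cj_le_iff.mpr (by rw [inv_inv]; exact hI)) (by
        intro i hi
        rw [mem_cj, inv_inv] at hi
        have h2 := (comm_iff _ _).mpr (hIa _ hi)
        rwa [back] at h2) (by
        intro x hx hxa i hi
        rw [mem_cj, inv_inv] at hi ⊢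
        have h2 := hIn (g * x * g⁻¹) (mem_cj_mul hx) (by
          apply (comm_iff _ _).mp
          rw [back]; exact hxa) _ hi
        have e : g * x * g⁻¹ * (g * i * g⁻¹) * (g * x * g⁻¹)⁻¹ = g * (x * i * x⁻¹) * g⁻¹ := by group
        rwa [e] at h2) (by rw [card_cj]; exact hodd)
    rw [eq_bot_iff_forall]
    intro x hx
    have h2 : g⁻¹ * x * g ∈ CommConj.cj g⁻¹ I := by
      rw [mem_cj, inv_inv]
      have e : g * (g⁻¹ * x * g) * g⁻¹ = x := by group
      rw [e]; exact hx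
    rw [h1, mem_bot] at h2
    exact eq_one_of_conj h2
  · -- inner
    intro y hy hc
    obtain ⟨k, hk, s, hsT, hsA, hsc, hys⟩ := h.inner _ (mem_cj.mp hy) (by
      intro s hs hsA
      have h2 := (comm_iff _ _).mpr (hc (g * s * g⁻¹) (mem_cj_mul hs) (mem_cj_mul hsA))
      rwa [back] at h2)
    refine ⟨g * k * g⁻¹, by rw [centralizer_cj]; exact mem_cj_mul hk, g * s * g⁻¹, mem_cj_mul hsT,
      mem_cj_mul hsA, ?_, ?_⟩
    · intro u hu huA
      have h2 := hsc _ (mem_cj.mp hu) (mem_cj.mp huA)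
      calc u * (g * s * g⁻¹) = g * ((g⁻¹ * u * g) * s) * g⁻¹ := by group
        _ = g * (s * (g⁻¹ * u * g)) * g⁻¹ := by rw [h2]
        _ = g * s * g⁻¹ * u := by group
    · calc y = g * (g⁻¹ * y * g) * g⁻¹ := by group
        _ = g * (k * s) * g⁻¹ := by rw [hys]
        _ = g * k * g⁻¹ * (g * s * g⁻¹) := by group
  · -- uniq
    intro s hs hsA hs2 hsc s' hs' hsA' hs2' hsc'
    apply conj_inj
    apply h.uniq _ (mem_cj.mp hs) (mem_cj.mp hsA) (by rw [orderOf_conj']; exact hs2) _ _ (mem_cj.mp hs')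
      (mem_cj.mp hsA') (by rw [orderOf_conj']; exact hs2')
    · intro u hu huA
      have h2 := (comm_iff _ _).mpr (hsc' (g * u * g⁻¹) (mem_cj_mul hu) (mem_cj_mul huA))
      rwa [back] at h2
    · intro u hu huA
      have h2 := (comm_iff _ _).mpr (hsc (g * u * g⁻¹) (mem_cj_mul hu) (mem_cj_mul huA))
      rwa [back] at h2

/-- **(1A) is dead**: `N_G(T) ≤ N(K)`. -/
theorem normalizer_le [Finite G] {K T : Subgroup G} (h : Dat K T) (ht : TightAt K)
    (hnc : ∀ g : G, g ∉ normalizer (K : Set G) → ∃ a ∈ K, ∃ b ∈ cj g K, a * b ≠ b * a)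
    (hse : ∀ H : Subgroup ↥K, ¬ IsStronglyEmbedded H) : normalizer (T : Set G) ≤ normalizer (K : Set G) := by
  intro g hg
  by_contra hgK
  have h1 := h.cj g
  rw [cj_eq_of_mem_normalizer hg] at h1
  refine pair_false h h1 ?_ (hnc g hgK) hse
  intro k hk hk' hk2
  exact hgK (ht.eq hk hk2 hk')

end Cfsg.Agent.OddHalf.D4
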