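import Mathlib
import Cfsg.Agent.Lib.Cores
import Cfsg.Agent.OddHalf.D4.OneA
import Cfsg.Agent.OddHalf.D4.EvenPair

/-!
# ODD, D4: the facts on `K` (as an abstract group) that give `Loc K`

`AutFacts X`: (F1) 2-elements of `Aut X` centralizing a Sylow 2-subgroup are inner; (F5) one central involution in a
Sylow 2-subgroup; (F0) `O(C_X(a)) = 1` for involutions `a`; no strongly embedded subgroup.

`loc_of_std`: `K` standard and simple, `O(C_G(t)) = 1` for all involutions, `m_2(C(K)) ≥ 2`, `AutFacts K` give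
`Loc K`.
-/

set_option autoImplicit false

namespace Cfsg.Agent.OddHalf.D4

open Cfsg Subgroup Basic
open Cfsg.Agent.OddHalf.D4.CommConj (Tight cj mem_cj cj_mul card_cj cj_eq_of_mem_normalizer mem_normalizer_of_cj_eq
  mem_cj_mul)

/-- The facts on the simple group `X`. -/
structure AutFacts (X : Type*) [Group X] : Prop where
  /-- (F1) -/
  inner : ∀ (S : Sylow 2 X) (φ : MulAut X), (∃ k : ℕ, φ ^ 2 ^ k = 1) → (∀ s ∈ S, φ s = s) →
    ∃ s ∈ S, φ = MulAut.conj s
  /-- (F5) -/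
  uniq : ∀ S : Sylow 2 X, ∀ s ∈ S, orderOf s = 2 → (∀ u ∈ S, u * s = s * u) →
    ∀ s' ∈ S, orderOf s' = 2 → (∀ u ∈ S, u * s' = s' * u) → s = s'
  /-- (F0) for inner involutions -/
  bal : ∀ a : X, orderOf a = 2 → centralizerPPrimeCore 2 a = ⊥
  /-- no strongly embedded subgroup -/
  se : ∀ H : Subgroup X, ¬ IsStronglyEmbedded H

variable {G : Type*} [Group G]

/-- A normal subgroup of odd order of `C_X(a)`, elementwise. -/
theorem eq_bot_of_core [Finite G] {a : G} (h : centralizerPPrimeCore 2 a = ⊥) {I : Subgroup G}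
    (hI : ∀ i ∈ I, i * a = a * i) (hn : ∀ x, x * a = a * x → ∀ i ∈ I, x * i * x⁻¹ ∈ I) (hodd : Odd (Nat.card ↥I)) :
    I = ⊥ := by
  have hIC : I ≤ centralizer ({a} : Set G) := fun i hi => mem_centralizer_singleton_iff.mpr (hI i hi)
  have hN : (I.subgroupOf (centralizer ({a} : Set G))).Normal := by
    refine ⟨?_⟩
    intro n hn' g
    rw [mem_subgroupOf] at hn' ⊢
    exact hn g (mem_centralizer_singleton_iff.mp g.2) n hn'
  have hcard : Nat.card ↥(I.subgroupOf (centralizer ({a} : Set G))) = Nat.card ↥I :=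
    Nat.card_congr (subgroupOfEquivOfLe hIC).toEquiv
  have h1 := Cfsg.Agent.Lib.Cores.le_pPrimeCore (p := 2) hN (by
    rw [hcard]; exact Nat.coprime_two_right.mpr hodd)
  rw [eq_bot_iff_forall]
  intro x hx
  have h2 : x ∈ centralizerPPrimeCore 2 a :=
    ⟨⟨x, hIC hx⟩, h1 (mem_subgroupOf.mpr hx), rfl⟩
  rw [h, mem_bot] at h2
  exact h2

theorem sub_mem_iff {K : Subgroup G} {T : Subgroup G} (x : ↥K) : x ∈ T.subgroupOf K ↔ (x : G) ∈ T := mem_subgroupOf

/-- A Sylow 2-subgroup of `N(K)` gives one of `K`. -/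
theorem exists_sylow_inf [Finite G] {K T : Subgroup G} (hT : IsSyl T (normalizer (K : Set G))) :
    ∃ S : Sylow 2 ↥K, ∀ x : ↥K, x ∈ S ↔ (x : G) ∈ T := by
  have h1 : IsSyl (T ⊓ K) K := hT.inf le_normalizer hT.le
  obtain ⟨S, hS⟩ := h1.toSylow
  refine ⟨S, ?_⟩
  intro x
  have : x ∈ S ↔ x ∈ (S : Subgroup ↥K) := Iff.rfl
  rw [this, hS, mem_subgroupOf, mem_inf]
  exact ⟨fun h => h.1, fun h => ⟨h, x.2⟩⟩

/-- The action on `K` of an element of `N(K)`. -/
theorem normalizerMonoidHom_coe {K : Subgroup G} (y : ↥(normalizer (K : Set G))) (x : ↥K) :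
    ((K.normalizerMonoidHom y x : ↥K) : G) = (y : G) * x * (y : G)⁻¹ := rfl

theorem AutFacts.innerIn [Finite G] {K : Subgroup G} (h : AutFacts ↥K) {T : Subgroup G}
    (hT : IsSyl T (normalizer (K : Set G))) {y : G} (hy : y ∈ T) (hc : ∀ s ∈ T, s ∈ K → s * y = y * s) :
    ∃ k ∈ centralizer (K : Set G), ∃ s ∈ T, s ∈ K ∧ (∀ u ∈ T, u ∈ K → u * s = s * u) ∧ y = k * s := by
  obtain ⟨S, hS⟩ := exists_sylow_inf hT
  obtain ⟨n, hn⟩ := hT.two ⟨y, hy⟩
  have hn' : y ^ 2 ^ n = 1 := congrArg Subtype.val hn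
  let y' : ↥(normalizer (K : Set G)) := ⟨y, hT.le hy⟩
  have hy' : y' ^ 2 ^ n = 1 := Subtype.ext hn'
  obtain ⟨s, hs, hφ⟩ := h.inner S (K.normalizerMonoidHom y') ⟨n, by rw [← map_pow, hy', map_one]⟩ (by
    intro s hs
    apply Subtype.ext
    rw [normalizerMonoidHom_coe]
    have h1 := hc s ((hS s).mp hs) s.2
    show y * (s : G) * y⁻¹ = s
    rw [← h1]; group)
  have hact : ∀ x ∈ K, y * x * y⁻¹ = (s : G) * x * (s : G)⁻¹ := by
    intro x hx
    have h1 := congrArg (fun f : MulAut ↥K => ((f ⟨x, hx⟩ : ↥K) : G)) hφ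
    simpa [normalizerMonoidHom_coe] using h1
  have hsT : (s : G) ∈ T := (hS s).mp hs
  refine ⟨y * (s : G)⁻¹, ?_, s, hsT, s.2, ?_, by group⟩
  · rw [mem_centralizer_iff]
    intro x hx
    have h1 := hact ((s : G)⁻¹ * x * s) (K.mul_mem (K.mul_mem (K.inv_mem s.2) hx) s.2)
    have h2 : y * ((s : G)⁻¹ * x * s) * y⁻¹ = x := by rw [h1]; group
    calc x * (y * (s : G)⁻¹) = (y * ((s : G)⁻¹ * x * s) * y⁻¹) * (y * (s : G)⁻¹) := by rw [h2]
      _ = y * (s : G)⁻¹ * x := by group
  · intro u hu huK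
    have h1 := hact u huK
    have h2 := hc u hu huK
    have h3 : y * u * y⁻¹ = u := by rw [← h2]; group
    rw [h3] at h1
    calc u * (s : G) = ((s : G) * u * (s : G)⁻¹) * s := by rw [← h1]
      _ = (s : G) * u := by group

theorem AutFacts.uniqIn [Finite G] {K : Subgroup G} (h : AutFacts ↥K) {T : Subgroup G}
    (hT : IsSyl T (normalizer (K : Set G))) :
    ∀ s ∈ T, s ∈ K → orderOf s = 2 → (∀ u ∈ T, u ∈ K → u * s = s * u) →
    ∀ s' ∈ T, s' ∈ K → orderOf s' = 2 → (∀ u ∈ T, u ∈ K → u * s' = s' * u) → s = s' := by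
  obtain ⟨S, hS⟩ := exists_sylow_inf hT
  intro s hs hsK hs2 hsc s' hs' hsK' hs2' hsc'
  have h1 := h.uniq S ⟨s, hsK⟩ ((hS _).mpr hs) (by rw [← hs2]; exact (Subgroup.orderOf_coe _).symm)
    (fun u hu => Subtype.ext (hsc u ((hS u).mp hu) u.2)) ⟨s', hsK'⟩ ((hS _).mpr hs')
    (by rw [← hs2']; exact (Subgroup.orderOf_coe _).symm) (fun u hu => Subtype.ext (hsc' u ((hS u).mp hu) u.2))
  exact congrArg Subtype.val h1

/-- `Dat` from the facts. -/
theorem dat_of_std [Finite G] {K : Subgroup G} (hK : IsStandardSubgroup K) [IsSimpleGroup ↥K]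
    (hbal : ∀ t : G, orderOf t = 2 → centralizerPPrimeCore 2 t = ⊥)
    (hrk : ¬ PRankLE 2 1 ↥(centralizer (K : Set G))) (hF : AutFacts ↥K) {T : Subgroup G}
    (hT : IsSyl T (normalizer (K : Set G))) : Dat K T := by
  have ht := EvenPair.tight_of_standard hK
  have hna : ∃ a b : ↥K, a * b ≠ b * a := by
    by_contra hcon
    push Not at hcon
    have h1 : ⁅(⊤ : Subgroup ↥K), (⊤ : Subgroup ↥K)⁆ = ⊤ := hK.1.1.commutator_eq_top
    have h2 : ⁅(⊤ : Subgroup ↥K), (⊤ : Subgroup ↥K)⁆ = ⊥ := by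
      rw [commutator_eq_bot_iff_le_centralizer]
      intro x _
      rw [mem_centralizer_iff]
      intro y _
      exact hcon y x
    rw [h1] at h2
    exact (top_ne_bot (α := Subgroup ↥K)) h2
  have hcen : ∀ x ∈ K, x ∈ centralizer (K : Set G) → x = 1 := by
    intro x hx hxc
    have h1 : (⟨x, hx⟩ : ↥K) ∈ center ↥K := by
      rw [mem_center_iff]
      intro y
      exact Subtype.ext (mem_centralizer_iff.mp hxc y y.2)
    rcases (inferInstance : (center ↥K).Normal).eq_bot_or_eq_top with h2 | h2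
    · rw [h2, mem_bot] at h1
      exact congrArg Subtype.val h1
    · exfalso
      obtain ⟨a, b, hab⟩ := hna
      apply hab
      have h3 : b ∈ center ↥K := by rw [h2]; exact mem_top b
      exact mem_center_iff.mp h3 a
  obtain ⟨a, b, ha, hb, ha2, hb2, hab, hne⟩ := EvenPair.exists_two_of_not_pRankLE hrk
  refine ⟨hT, ?_, hcen, ?_, ?_, ?_, ?_, ?_, hF.uniqIn hT⟩
  · intro N hN hn
    have h1 : (N.subgroupOf K).Normal := by
      refine ⟨?_⟩
      intro n hn' g
      rw [mem_subgroupOf] at hn' ⊢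
      exact hn g g.2 n hn'
    rcases h1.eq_bot_or_eq_top with h2 | h2
    · left
      rw [eq_bot_iff_forall]
      intro x hx
      have h3 : (⟨x, hN hx⟩ : ↥K) ∈ N.subgroupOf K := mem_subgroupOf.mpr hx
      rw [h2, mem_bot] at h3
      exact congrArg Subtype.val h3
    · right
      apply le_antisymm hN
      intro x hx
      have h3 : (⟨x, hx⟩ : ↥K) ∈ N.subgroupOf K := by rw [h2]; exact mem_top _
      exact mem_subgroupOf.mp h3
  · intro k hk hk2 x hx
    exact TightAt.mem ht hk hk2 (mem_centralizer_singleton_iff.mp hx)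
  · -- `O(C(K)) = 1`
    intro N hN hn hodd
    set C := centralizer (K : Set G) with hC
    let O : Subgroup G := (pPrimeCore 2 ↥C).map C.subtype
    have hOodd : Odd (Nat.card ↥O) := by
      have h1 : Nat.card ↥O = Nat.card ↥(pPrimeCore 2 ↥C) :=
        (Nat.card_congr ((pPrimeCore 2 ↥C).equivMapOfInjective _ C.subtype_injective).toEquiv).symm
      rw [h1]
      exact Nat.coprime_two_right.mp (Cfsg.Agent.Lib.Cores.pPrimeCore_coprime 2)
    have hOM : ∀ m ∈ normalizer (K : Set G), ∀ o ∈ O, m * o * m⁻¹ ∈ O := by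
      intro m hm o ho
      have hnorm : ∀ m ∈ normalizer (K : Set G), ∀ c ∈ C, m * c * m⁻¹ ∈ C := ht.norm
      let e : ↥C ≃* ↥C :=
        { toFun := fun c => ⟨m * c * m⁻¹, hnorm m hm c c.2⟩
          invFun := fun c => ⟨m⁻¹ * c * m, by
            have := hnorm m⁻¹ (inv_mem hm) c c.2
            rwa [inv_inv] at this⟩
          left_inv := fun c => Subtype.ext (by show m⁻¹ * (m * (c : G) * m⁻¹) * m = c; group)
          right_inv := fun c => Subtype.ext (by show m * (m⁻¹ * (c : G) * m) * m⁻¹ = c; group)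
          map_mul' := fun c d => Subtype.ext (by
            show m * ((c : G) * d) * m⁻¹ = m * c * m⁻¹ * (m * d * m⁻¹)
            group) }
      obtain ⟨c, hc, rfl⟩ := ho
      have h1 : e c ∈ pPrimeCore 2 ↥C := by
        rw [← Cfsg.Agent.Lib.Cores.map_equiv_pPrimeCore e 2]
        exact ⟨c, hc, rfl⟩
      exact ⟨e c, h1, rfl⟩
    have hO : O = ⊥ := EvenPair.eq_bot_of_odd ht hbal hOM hOodd ha ha2 hb hb2 hab hne
    have hNn : (N.subgroupOf C).Normal := by
      refine ⟨?_⟩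
      intro n hn' g
      rw [mem_subgroupOf] at hn' ⊢
      exact hn g g.2 n hn'
    have hcard : Nat.card ↥(N.subgroupOf C) = Nat.card ↥N := Nat.card_congr (subgroupOfEquivOfLe hN).toEquiv
    have h1 := Cfsg.Agent.Lib.Cores.le_pPrimeCore (p := 2) hNn (by
      rw [hcard]; exact Nat.coprime_two_right.mpr hodd)
    rw [eq_bot_iff_forall]
    intro x hx
    have h2 : x ∈ O := ⟨⟨x, hN hx⟩, h1 (mem_subgroupOf.mpr hx), rfl⟩
    rw [hO, mem_bot] at h2
    exact h2
  · -- two commuting involutions in `T ∩ C(K)`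
    have hfour : IsPGroup 2 ↥(zpowers a ⊔ zpowers b) := by
      have h1 : IsPGroup 2 ↥(zpowers a) := by
        rw [IsPGroup.iff_card]; exact ⟨1, by rw [Nat.card_zpowers, ha2]; norm_num⟩
      have h2 : IsPGroup 2 ↥(zpowers b) := by
        rw [IsPGroup.iff_card]; exact ⟨1, by rw [Nat.card_zpowers, hb2]; norm_num⟩
      apply h1.to_sup_of_normal_left' h2
      rw [zpowers_le, mem_normalizer_iff]
      have h3 : ∀ n : ℤ, b * a ^ n * b⁻¹ = a ^ n := by
        intro n
        have h4 : Commute b (a ^ n) := (Commute.zpow_right (show Commute b a from hab.symm) n)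
        rw [h4.eq]; group
      intro x
      constructor
      · rintro ⟨n, rfl⟩
        exact ⟨n, (h3 n).symm⟩
      · rintro ⟨n, hn⟩
        refine ⟨n, ?_⟩
        have h5 : b * x * b⁻¹ = b * a ^ n * b⁻¹ := by rw [h3 n]; exact hn.symm
        exact (mul_left_cancel (mul_right_cancel h5)).symm
    obtain ⟨m, hm, hmq⟩ := hT.conj_into hfour (sup_le (by rw [zpowers_le]; exact ht.le ha)
      (by rw [zpowers_le]; exact ht.le hb))
    refine ⟨m * a * m⁻¹, hmq a (mem_sup_left (mem_zpowers a)), ht.norm m hm a ha, m * b * m⁻¹,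
      hmq b (mem_sup_right (mem_zpowers b)), ht.norm m hm b hb, by rw [Basic.orderOf_conj]; exact ha2,
      by rw [Basic.orderOf_conj]; exact hb2, ?_, ?_⟩
    · intro he
      exact hne (mul_left_cancel (mul_right_cancel he))
    · calc m * a * m⁻¹ * (m * b * m⁻¹) = m * (a * b) * m⁻¹ := by group
        _ = m * (b * a) * m⁻¹ := by rw [hab]
        _ = m * b * m⁻¹ * (m * a * m⁻¹) := by group
  · -- balance
    intro a ha ha2 I hI hIa hIn hodd
    have h1 := eq_bot_of_core (G := ↥K) (a := ⟨a, ha⟩)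
      (hF.bal _ (by rw [← ha2]; exact (Subgroup.orderOf_coe _).symm)) (I := I.subgroupOf K)
      (fun i hi => Subtype.ext (hIa i (mem_subgroupOf.mp hi)))
      (fun x hx i hi => by
        rw [mem_subgroupOf] at hi ⊢
        exact hIn x x.2 (congrArg Subtype.val hx) i hi)
      (by rw [Nat.card_congr (subgroupOfEquivOfLe hI).toEquiv]; exact hodd)
    rw [eq_bot_iff_forall]
    intro x hx
    have h2 : (⟨x, hI hx⟩ : ↥K) ∈ I.subgroupOf K := mem_subgroupOf.mpr hx
    rw [h1, mem_bot] at h2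
    exact congrArg Subtype.val h2
  · intro y hy hc
    exact hF.innerIn hT hy hc

/-- **`Loc K` from the facts on `K`.** -/
theorem loc_of_std [Finite G] {K : Subgroup G} (hK : IsStandardSubgroup K) [IsSimpleGroup ↥K]
    (hbal : ∀ t : G, orderOf t = 2 → centralizerPPrimeCore 2 t = ⊥)
    (hrk : ¬ PRankLE 2 1 ↥(centralizer (K : Set G))) (hF : AutFacts ↥K) : Loc K := by
  have ht := EvenPair.tight_of_standard hK
  obtain ⟨T₀, hT₀, _⟩ := exists_isSyl (G := G) (M := normalizer (K : Set G)) (Q := ⊥) (IsPGroup.of_bot) bot_le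
  have hD := dat_of_std hK hbal hrk hF hT₀
  refine ⟨ht, hK.2.1.1, hD.cen, fun T hT y hy hc => hF.innerIn hT hy hc, fun T hT => hF.uniqIn hT, ?_⟩
  intro T hT
  refine normalizer_le (dat_of_std hK hbal hrk hF hT) ht ?_ hF.se
  intro g hg
  by_contra hcon
  push Not at hcon
  have h1 : K.map (MulAut.conj g).toMonoidHom ≠ K := fun h => hg (mem_normalizer_of_cj_eq h)
  apply hK.2.2.1 g h1
  rw [commutator_eq_bot_iff_le_centralizer]
  intro a ha
  rw [mem_centralizer_iff]
  intro b hb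
  exact (hcon a ha b hb).symm

end Cfsg.Agent.OddHalf.D4
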