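import Cfsg.Agent.OddHalf.D4.Cut
import Cfsg.Agent.OddHalf.D9.MultOf
import Cfsg.Agent.OddHalf.D9.L34Mult.Mult

/-!
# D4: the multiplier facts `MultD4` from the rows of D10

Noncyclic centres: `NCRows` says for each exceptional quotient with cyclic multiplier (2-part) that a noncyclic centre
does not occur (`NonCyc.of_oneCover`), `VRows` bounds the centre by 4 for `U_6(2)`, `Ω_8^+(2)`, `²E_6(2)`, `Sz(8)`.
-/

set_option autoImplicit false
set_option linter.style.haveILetI false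

namespace Cfsg.Agent.OddHalf.D4.MultOf

open Subgroup Cfsg Cfsg.Agent.OddHalf.Iface Cfsg.Agent.OddHalf.D7.Cases Cfsg.Agent.OddHalf.D9.Cut
  Cfsg.Agent.OddHalf.D4.Cut
open Cfsg.Agent.KFacts.MulDef Cfsg.Agent.KFacts.MulBound Cfsg.Agent.OddHalf.D9.MultOf

universe u v

/-! ### General reductions -/

theorem QsNon.ne_bot {K : Type u} [Group K] (h : QsNon K) : center K ≠ ⊥ := by
  intro hz
  apply h.2.2.2
  haveI : Subsingleton ↥(center K) := by
    rw [hz]
    infer_instance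
  exact isCyclic_of_subsingleton

/-- `NoDouble X`: no noncyclic centre. -/
theorem nonCyc_of_noDouble {K : Type u} [Group K] (h : QsNon K) {X : Type v} [Group X] (hX : NoDouble X)
    (e : K ⧸ center K ≃* X) : False := by
  haveI := h.1
  exact QsNon.ne_bot h (Cfsg.Agent.KFacts.MulY.Tower.center_eq_bot hX h.2.1.1.commutator_eq_top h.2.2.1 e)

/-- A 2-group of order not divisible by 4 is cyclic. -/
theorem cyclic_of_not_four {Z : Type u} [Group Z] [Finite Z] (hp : IsPGroup 2 Z) (h : ¬ 4 ∣ Nat.card Z) :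
    IsCyclic Z := by
  haveI : Fact (Nat.Prime 2) := ⟨Nat.prime_two⟩
  obtain ⟨n, hn⟩ := IsPGroup.iff_card.1 hp
  rcases n with _ | _ | n
  · haveI : Subsingleton Z := by
      rw [pow_zero] at hn
      exact (Nat.card_eq_one_iff_unique.mp hn).1
    exact isCyclic_of_subsingleton
  · haveI : Fact (Nat.Prime 2) := ⟨Nat.prime_two⟩
    exact isCyclic_of_prime_card (p := 2) (by rw [hn]; norm_num)
  · exact absurd ⟨2 ^ n, by rw [hn]; ring⟩ h

/-- No noncyclic centre for quotients of type `P`. -/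
def NonCyc (P : (X : Type u) → [Group X] → Prop) : Prop :=
  ∀ (K : Type u) [Group K], QsNon K → ¬ P (K ⧸ center K)

theorem NonCyc.of_oneCover {P : (X : Type u) → [Group X] → Prop}
    (h : ∀ (X : Type u) [Group X], P X → OneCover X) : NonCyc.{u} P := by
  intro K _ hK hP
  haveI := hK.1
  apply hK.2.2.2
  apply cyclic_of_not_four hK.2.2.1
  have e : K ⧸ center K ≃* K ⧸ center K := MulEquiv.refl _
  have hk := Cfsg.Agent.KFacts.MulY.Tower.ker_equiv e
  have h5 := (h _ hP).not_four_dvd hK.2.1.1.commutator_eq_top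
    (f := e.toMonoidHom.comp (QuotientGroup.mk' (center K)))
    (e.surjective.comp (QuotientGroup.mk'_surjective _)) (by rw [hk])
  rw [hk] at h5
  exact h5

/-- The exceptional quotients with cyclic multiplier: `|Z(K)| ∣ 2` for every `K` whose centre is a 2-group. -/
theorem NonCyc.of_card {P : (X : Type u) → [Group X] → Prop}
    (h : ∀ (K : Type u) [Group K], Finite K → IsQuasisimple K → IsPGroup 2 ↥(center K) → P (K ⧸ center K) →
      Nat.card ↥(center K) ∣ 2) : NonCyc.{u} P := by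
  intro K _ hK hP
  haveI := hK.1
  apply hK.2.2.2
  apply cyclic_of_not_four hK.2.2.1
  intro h4
  have := Nat.le_of_dvd (by norm_num) (h4.trans (h K hK.1 hK.2.1 hK.2.2.1 hP))
  omega

/-- A noncyclic 2-group of order dividing 4 is a Klein four-group. -/
theorem klein_of_dvd {Z : Type u} [Group Z] [Finite Z] (hp : IsPGroup 2 Z) (hc : ¬ IsCyclic Z)
    (h : Nat.card Z ∣ 4) : IsKleinFour Z := by
  haveI : Fact (Nat.Prime 2) := ⟨Nat.prime_two⟩
  have h4 : Nat.card Z = 4 := by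
    by_contra hne
    apply hc
    apply cyclic_of_not_four hp
    intro h'
    exact hne (Nat.dvd_antisymm h h')
  refine ⟨h4, ?_⟩
  have h2 : ∀ z : Z, z * z = 1 := by
    intro z
    have h5 : orderOf z ∣ 2 ^ 2 := by
      rw [show (2 : ℕ) ^ 2 = 4 by norm_num, ← h4]
      exact orderOf_dvd_natCard z
    obtain ⟨k, hk, hz⟩ := (Nat.dvd_prime_pow Nat.prime_two).mp h5
    interval_cases k
    · rw [pow_zero, orderOf_eq_one_iff] at hz
      rw [hz, one_mul]
    · rw [← pow_two]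
      rw [pow_one] at hz
      rw [← hz]
      exact pow_orderOf_eq_one z
    · exfalso
      apply hc
      exact isCyclic_of_orderOf_eq_card z (by rw [hz, h4]; norm_num)
  haveI : Nontrivial Z := by
    rw [← Finite.one_lt_card_iff_nontrivial, h4]
    norm_num
  apply Nat.dvd_antisymm
  · exact Monoid.exponent_dvd_of_forall_pow_eq_one (fun z => by rw [pow_two]; exact h2 z)
  · obtain ⟨z, hz⟩ := exists_ne (1 : Z)
    have h5 : orderOf z = 2 := orderOf_eq_prime (by rw [pow_two]; exact h2 z) hz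
    rw [← h5]
    exact Monoid.order_dvd_exponent z

/-- `|Z(K)| ∣ 4` for every `K` whose centre is a 2-group. -/
def BdAll (P : (X : Type u) → [Group X] → Prop) : Prop :=
  ∀ (K : Type u) [Group K], Finite K → IsQuasisimple K → IsPGroup 2 ↥(center K) → P (K ⧸ center K) →
    Nat.card ↥(center K) ∣ 4

/-! ### The rows -/

/-- The exceptional quotients with cyclic multiplier (2-part). -/
structure NCRows : Prop where
  sp62 : NonCyc.{u} (fun X _ => XSp62 X)
  g24 : NonCyc.{u} (fun X _ => XG24 X)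
  f42 : NonCyc.{u} (fun X _ => XF42 X)
  m12 : NonCyc.{u} (fun X _ => Spor.IsoM12 X)
  j2 : NonCyc.{u} (fun X _ => Spor.IsoJ2 X)
  hs : NonCyc.{u} (fun X _ => Spor.IsoHS X)
  suz : NonCyc.{u} (fun X _ => Spor.IsoSuz X)
  ru : NonCyc.{u} (fun X _ => Spor.IsoRu X)
  fi22 : NonCyc.{u} (fun X _ => Spor.IsoFi22 X)
  co1 : NonCyc.{u} (fun X _ => Spor.IsoCo1 X)
  b : NonCyc.{u} (fun X _ => Spor.IsoB X)
  m22 : NonCyc.{u} (fun X _ => Spor.IsoM22 X)

/-- The exceptional quotients with multiplier `2 × 2` (2-part), and the Suzuki groups. -/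
structure VRows : Prop where
  u62 : BdAll.{u} (fun X _ => XU62 X)
  o82 : BdAll.{u} (fun X _ => XO82 X)
  e62 : BdAll.{u} (fun X _ => X2E62 X)
  sz8 : ∀ (K : Type u) [Group K], Finite K → IsQuasisimple K → IsPGroup 2 ↥(center K) → XSz8 (K ⧸ center K) →
    (∀ z ∈ center K, z * z = 1) ∧ Nat.card ↥(center K) ∣ 4
  szBig : ∀ (F : Type) [Field F] [Fintype F] (m : ℕ), 2 ≤ m → Fintype.card F = 2 ^ (2 * m + 1) →
    NoDouble ↥(Lie.Sz F (2 ^ (m + 1)))

/-- the Suzuki groups -/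
theorem sz_cases {X : Type u} [Group X] (h : XSz X) : XSz8 X ∨
    ∃ (F : Type) (_ : Field F) (_ : Fintype F) (m : ℕ), 2 ≤ m ∧ Fintype.card F = 2 ^ (2 * m + 1) ∧
      Nonempty (X ≃* ↥(Lie.Sz F (2 ^ (m + 1)))) := by
  obtain ⟨F, _, _, m, hm, hF, ⟨e⟩⟩ := h
  by_cases h2 : 2 ≤ m
  · exact Or.inr ⟨F, _, _, m, h2, hF, ⟨e⟩⟩
  · have : m = 1 := by omega
    subst this
    exact Or.inl ⟨F, _, _, by simpa using hF, ⟨e⟩⟩

theorem l34_card {K : Type u} [Group K] (hK : QsNon K) (h : XL34 (K ⧸ center K)) :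
    (Nat.card ↥(center K) = 4 ∨ Nat.card ↥(center K) = 8 ∨ Nat.card ↥(center K) = 16) ∧
      Nat.card {z : ↥(center K) // z * z = 1} = 4 := by
  haveI := hK.1
  haveI : Fact (Nat.Prime 2) := ⟨Nat.prime_two⟩
  obtain ⟨F, _, _, hF, ⟨e⟩⟩ := h
  have hperf := hK.2.1.1.commutator_eq_top
  have h4 := Cfsg.Agent.OddHalf.D9.L34Mult.center_four hperf hK.2.2.1 hF e
  have hom := Cfsg.Agent.OddHalf.D9.L34Mult.card_omega hperf hK.2.2.1 hF e hK.2.2.2
  let icg : CommGroup (center K) :=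
    { (inferInstance : Group (center K)) with
      mul_comm := fun a b => Subtype.ext (mem_center_iff.mp b.2 a) }
  let sq : ↥(center K) →* ↥(center K) := powMonoidHom 2
  have e1 : {z : ↥(center K) // z * z = 1} ≃ Cfsg.Agent.OddHalf.D9.L34Mult.omega K :=
    { toFun := fun a => ⟨a.1.1, a.1.2, congrArg Subtype.val a.2⟩
      invFun := fun a => ⟨⟨a.1, a.2.1⟩, Subtype.ext a.2.2⟩
      left_inv := fun a => rfl
      right_inv := fun a => rfl }
  have e2 : {z : ↥(center K) // z * z = 1} ≃ sq.ker :=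
    Equiv.subtypeEquivRight fun z => by
      rw [MonoidHom.mem_ker]
      show z * z = 1 ↔ z ^ 2 = 1
      rw [pow_two]
  have hk : Nat.card sq.ker = 4 := by rw [← Nat.card_congr e2, Nat.card_congr e1, hom]
  have hr : sq.range ≤ sq.ker := by
    rintro _ ⟨z, rfl⟩
    rw [MonoidHom.mem_ker]
    show (z ^ 2) ^ 2 = 1
    rw [← pow_mul]
    exact Subtype.ext (h4 z z.2)
  have hrd : Nat.card sq.range ∣ 4 := hk ▸ Subgroup.card_dvd_of_le hr
  have hcard : Nat.card ↥(center K) = 4 * Nat.card sq.range := by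
    have h1 := Subgroup.card_mul_index sq.ker
    rw [Subgroup.index_ker, hk] at h1
    exact h1.symm
  refine ⟨?_, by rw [Nat.card_congr e1, hom]⟩
  have hle := Nat.le_of_dvd (by norm_num) hrd
  have hpos : 0 < Nat.card sq.range := Nat.card_pos
  rw [hcard]
  interval_cases Nat.card sq.range
  · exact Or.inl rfl
  · exact Or.inr (Or.inl rfl)
  · exact absurd hrd (by decide)
  · exact Or.inr (Or.inr rfl)

theorem lie_non (h : LieND) (N : NCRows.{u}) (V : VRows.{u}) (K : Type u) [Group K] (hK : QsNon K)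
    (hl : LieTwo (K ⧸ center K)) : ExcV (K ⧸ center K) ∨ XL34 (K ⧸ center K) := by
  by_cases hs : SmallRank (K ⧸ center K)
  · rcases hs with hs | hs | hs | hs | hs | hs | hs
    · obtain ⟨F, _, _, a, ha, hF, ⟨e⟩⟩ := hs
      rcases Nat.lt_or_ge a 3 with h3 | h3
      · exfalso
        have : a = 2 := by omega
        subst this
        exact hl.2.1 (Iso5.isAlternating_of_l24 (by simpa using hF) e)
      · exact (nonCyc_of_noDouble hK (h.l2 F a h3 hF) e).elim
    · obtain ⟨F, _, _, a, ha, hF, ⟨e⟩⟩ := hs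
      exact (nonCyc_of_noDouble hK (h.u3 F a ha hF) e).elim
    · rcases sz_cases hs with h8 | ⟨F, _, _, m, hm, hF, ⟨e⟩⟩
      · exact Or.inl (Or.inr (Or.inr (Or.inr h8)))
      · exact (nonCyc_of_noDouble hK (V.szBig F m hm hF) e).elim
    · obtain ⟨F, _, _, a, ha, hF, ⟨⟨e⟩⟩ | ⟨⟨e⟩⟩ | ⟨⟨e⟩⟩⟩ := hs
      · rcases Nat.lt_or_ge a 3 with h3 | h3
        · have : a = 2 := by omega
          subst this
          exact Or.inr ⟨F, _, _, by simpa using hF, ⟨e⟩⟩
        · exact (nonCyc_of_noDouble hK (h.l3 F a h3 hF) e).elim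
      · exact (nonCyc_of_noDouble hK (h.sp4 F a ha hF) e).elim
      · rcases Nat.lt_or_ge a 3 with h3 | h3
        · exfalso
          have : a = 2 := by omega
          subst this
          exact N.g24 K hK ⟨F, _, _, by simpa using hF, ⟨e⟩⟩
        · exact (nonCyc_of_noDouble hK (h.g2 F a h3 hF) e).elim
    · obtain ⟨F, _, _, a, ha, hF, ⟨⟨e⟩⟩ | ⟨⟨e⟩⟩⟩ := hs
      · exact (nonCyc_of_noDouble hK (h.u4 F a ha hF) e).elim
      · exact (nonCyc_of_noDouble hK (h.u5 F a (by omega) hF) e).elim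
    · obtain ⟨F, _, _, hF, ⟨e⟩⟩ := hs
      exact (nonCyc_of_noDouble hK (h.u5 F 1 le_rfl (by rw [hF]; norm_num)) e).elim
    · obtain ⟨F, _, _, a, ha, hF, ⟨e⟩⟩ := hs
      exact (nonCyc_of_noDouble hK (h.d43 F a ha hF) e).elim
  rcases lieTwo_cases hl hs with hc | hc | hc | hc | hc | hc | hc | hc | hc | hc | hc | hc
  · obtain ⟨F, _, _, a, n, ha, hF, hn, hna, ⟨e⟩⟩ := hc
    exact (nonCyc_of_noDouble hK (h.l F a n ha hF hn hna) e).elim
  · obtain ⟨F, _, _, a, n, ha, hF, hn, ⟨e⟩⟩ := hc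
    by_cases h6 : n = 6 → 2 ≤ a
    · exact (nonCyc_of_noDouble hK (h.u F a n ha hF hn h6) e).elim
    · push Not at h6
      obtain ⟨rfl, h6⟩ := h6
      have := one_of_not_two_le ha (by omega)
      subst this
      exact Or.inl (Or.inl ⟨F, _, _, by simpa using hF, ⟨by simpa using e⟩⟩)
  · obtain ⟨F, _, _, a, m, ha, hF, hm, ⟨e⟩⟩ := hc
    by_cases h6 : m = 3 → 2 ≤ a
    · exact (nonCyc_of_noDouble hK (h.sp F a m ha hF hm h6) e).elim
    · push Not at h6
      obtain ⟨rfl, h6⟩ := h6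
      have := one_of_not_two_le ha (by omega)
      subst this
      exact (N.sp62 K hK ⟨F, _, _, by simpa using hF, ⟨e⟩⟩).elim
  · obtain ⟨F, _, _, a, m, ha, hF, hm, ⟨e⟩⟩ := hc
    by_cases h6 : m = 4 → 2 ≤ a
    · exact (nonCyc_of_noDouble hK (h.oplus F a m ha hF hm h6) e).elim
    · push Not at h6
      obtain ⟨rfl, h6⟩ := h6
      have := one_of_not_two_le ha (by omega)
      subst this
      exact Or.inl (Or.inr (Or.inl ⟨F, _, _, by simpa using hF, ⟨e⟩⟩))
  · obtain ⟨F, _, _, a, m, b, c, ha, hF, hm, hbc, ⟨e⟩⟩ := hc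
    exact (nonCyc_of_noDouble hK (h.ominus F a m b c ha hF hm hbc) e).elim
  · obtain ⟨F, _, _, a, ha, hF, ⟨e⟩⟩ := hc
    by_cases h6 : 2 ≤ a
    · exact (nonCyc_of_noDouble hK (h.f4 F a h6 hF) e).elim
    · have := one_of_not_two_le ha h6
      subst this
      exact (N.f42 K hK ⟨F, _, _, by simpa using hF, ⟨e⟩⟩).elim
  · obtain ⟨F, _, _, a, ha, hF, ⟨e⟩⟩ := hc
    exact (nonCyc_of_noDouble hK (h.e6 F a ha hF) e).elim
  · obtain ⟨F, _, _, a, ha, hF, ⟨e⟩⟩ := hc
    exact (nonCyc_of_noDouble hK (h.e7 F a ha hF) e).elim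
  · obtain ⟨F, _, _, a, ha, hF, ⟨e⟩⟩ := hc
    exact (nonCyc_of_noDouble hK (h.e8 F a ha hF) e).elim
  · obtain ⟨F, _, _, a, ha, hF, ⟨e⟩⟩ := hc
    by_cases h6 : 2 ≤ a
    · exact (nonCyc_of_noDouble hK (h.e62 F a h6 hF) e).elim
    · have := one_of_not_two_le ha h6
      subst this
      exact Or.inl (Or.inr (Or.inr (Or.inl ⟨F, _, _, by simpa using hF, ⟨by simpa using e⟩⟩)))
  · obtain ⟨F, _, _, m, hm, hF, ⟨e⟩⟩ := hc
    exact (nonCyc_of_noDouble hK (h.f42 F m hm hF) e).elim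
  · obtain ⟨e⟩ := hc
    exact (nonCyc_of_noDouble hK h.tits e).elim

theorem spor_non (h : SporND.{u}) (N : NCRows.{u}) (K : Type u) [Group K] (hK : QsNon K) :
    ¬ IsSporadicGroup (K ⧸ center K) := by
  have key : NoDouble (K ⧸ center K) → False := fun hX => nonCyc_of_noDouble hK hX (MulEquiv.refl _)
  intro hs
  rcases hs with hs | hs | hs | hs | hs | hs | hs | hs | hs | hs | hs | hs | hs | hs | hs | hs | hs | hs | hs |
    hs | hs | hs | hs | hs | hs | hs
  · exact key (h.m11 _ hs)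
  · exact N.m12 K hK hs
  · exact N.m22 K hK hs
  · exact key (h.m23 _ hs)
  · exact key (h.m24 _ hs)
  · exact key (h.j1 _ hs)
  · exact N.j2 K hK hs
  · exact key (h.j3 _ hs)
  · exact key (h.j4 _ hs)
  · exact N.co1 K hK hs
  · exact key (h.co2 _ hs)
  · exact key (h.co3 _ hs)
  · exact key (h.mcl _ hs)
  · exact N.hs K hK hs
  · exact N.suz K hK hs
  · exact key (h.he _ hs)
  · exact N.ru K hK hs
  · exact key (h.on _ hs)
  · exact key (h.ly _ hs)
  · exact N.fi22 K hK hs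
  · exact key (h.fi23 _ hs)
  · exact key (h.fi24 _ hs)
  · exact key (h.hn _ hs)
  · exact key (h.th _ hs)
  · exact N.b K hK hs
  · exact key (h.m _ hs)

/-- **The multiplier facts of D4.** -/
theorem multD4_of (S : SporND.{u}) (L : LieND) (N : NCRows.{u}) (V : VRows.{u}) : MultD4.{u} where
  sz := by
    intro K _ hK hs hz
    haveI := hK.1
    rcases sz_cases hs with h8 | ⟨F, _, _, m, hm, hF, ⟨e⟩⟩
    · refine ⟨h8, ?_⟩
      obtain ⟨h1, h2⟩ := V.sz8 K hK.1 hK.2.1 hK.2.2.1 h8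
      obtain ⟨g, hg⟩ := hK.2.2.2.exists_generator
      have h3 : orderOf g = Nat.card ↥(center K) := orderOf_eq_card_of_forall_mem_zpowers hg
      have h4 : g * g = 1 := Subtype.ext (h1 g g.2)
      have h5 : orderOf g ∣ 2 := orderOf_dvd_of_pow_eq_one (by rw [pow_two]; exact h4)
      rw [h3] at h5
      rcases (Nat.dvd_prime Nat.prime_two).mp h5 with h6 | h6
      · exact absurd (Subgroup.card_eq_one.mp h6) hz
      · exact h6
    · exact absurd (center_eq_bot hK (V.szBig F m hm hF) e) hz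
  lie := lie_non L N V
  spor := spor_non S N
  four := by
    intro K _ hK h
    haveI := hK.1
    rcases h with h | h | h | h
    · exact klein_of_dvd hK.2.2.1 hK.2.2.2 (V.u62 K hK.1 hK.2.1 hK.2.2.1 h)
    · exact klein_of_dvd hK.2.2.1 hK.2.2.2 (V.o82 K hK.1 hK.2.1 hK.2.2.1 h)
    · exact klein_of_dvd hK.2.2.1 hK.2.2.2 (V.e62 K hK.1 hK.2.1 hK.2.2.1 h)
    · exact klein_of_dvd hK.2.2.1 hK.2.2.2 (V.sz8 K hK.1 hK.2.1 hK.2.2.1 h).2
  l34 := fun K _ hK h => l34_card hK h

end Cfsg.Agent.OddHalf.D4.MultOf
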