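import Mathlib
import Cfsg.Agent.S0215
import Cfsg.Agent.OddHalf.D4.Facts
import Cfsg.Agent.OddHalf.Iface

/-!
# ODD, D4: `Z(K)` cyclic and nontrivial, `m_2(C(K)) ≥ 2` (text: helper378, ODD #9543)

`z` the involution of `Z(K)`, `M = N(K) = C_G(z)`, `Σ = z^G`.

* (II) `false_of_no_pair`: if `Aut K` satisfies (P2) `SqDiff`, some `a ∈ Σ`, `a ≠ z`, commutes with an involution
  `c ≠ z` of `C(K)`.
* (I) `no_pair`: if `Aut K` satisfies (P1) `PairFree`, this is impossible.
* `main`, `row`: (P1) and (P2) for `K` imply `m_2(C(K)) ≤ 1`.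
-/

set_option autoImplicit false

namespace Cfsg.Agent.OddHalf.D4.EvenCyc

open Cfsg Subgroup Basic
open Cfsg.Agent.OddHalf.D4.CommConj (Tight cj mem_cj cj_mul card_cj cj_eq_of_mem_normalizer mem_normalizer_of_cj_eq
  mem_cj_mul exists_norm_elt)

/-- (P1) no commuting involutory automorphisms `α ≠ β` with `C(α) ≤ C(β)` and `C(αβ) ≤ C(β)`. -/
def PairFree (X : Type*) [Group X] : Prop :=
  ∀ α β : MulAut X, α * α = 1 → β * β = 1 → α * β = β * α → α ≠ 1 → β ≠ 1 → α ≠ β →
    (∀ x, α x = x → β x = x) → ¬ ∀ x, α (β x) = x → β x = x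

/-- (P2) for every involutory automorphism `α` some `y = α(x)⁻¹ x`, not in the centre, has `y² = 1`. -/
def SqDiff (X : Type*) [Group X] : Prop :=
  ∀ α : MulAut X, α * α = 1 → α ≠ 1 →
    ∃ x : X, (α x)⁻¹ * x ∉ center X ∧ ((α x)⁻¹ * x) * ((α x)⁻¹ * x) = 1

/-- The setting. -/
structure Ev {G : Type*} [Group G] (K : Subgroup G) (z : G) : Prop where
  std : IsStandardSubgroup K
  zK : z ∈ K
  zC : z ∈ centralizer (K : Set G)
  z2 : orderOf z = 2
  uniq : ∀ x ∈ K, x ∈ centralizer (K : Set G) → orderOf x = 2 → x = z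

section Aux

variable {G : Type*} [Group G]

theorem mul_self_of_order {x : G} (h : orderOf x = 2) : x * x = 1 := by
  rw [← pow_two, ← h, pow_orderOf_eq_one]

theorem order_of_mul_self {x : G} (h : x * x = 1) (h1 : x ≠ 1) : orderOf x = 2 :=
  orderOf_eq_prime (by rw [pow_two, h]) h1

/-- a cyclic group has at most one involution -/
theorem eq_of_cyclic {Z : Type*} [Group Z] [Finite Z] [IsCyclic Z] {x y : Z} (hx : orderOf x = 2)
    (hy : orderOf y = 2) : x = y := by
  classical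
  haveI := Fintype.ofFinite Z
  by_contra hne
  have hcard := IsCyclic.card_pow_eq_one_le (α := Z) (n := 2) (by norm_num)
  have hx1 : x ≠ 1 := fun h => by rw [h, orderOf_one] at hx; omega
  have hy1 : y ≠ 1 := fun h => by rw [h, orderOf_one] at hy; omega
  have hsub : ({1, x, y} : Finset Z) ⊆ Finset.univ.filter (fun a : Z => a ^ 2 = 1) := by
    intro a ha
    simp only [Finset.mem_insert, Finset.mem_singleton] at ha
    simp only [Finset.mem_filter, Finset.mem_univ, true_and]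
    rcases ha with rfl | rfl | rfl
    · exact one_pow 2
    · exact orderOf_dvd_iff_pow_eq_one.mp hx.dvd
    · exact orderOf_dvd_iff_pow_eq_one.mp hy.dvd
  have h3 : ({1, x, y} : Finset Z).card = 3 := by
    rw [Finset.card_eq_three]
    exact ⟨1, x, y, hx1.symm, hy1.symm, hne, rfl⟩
  have := Finset.card_le_card hsub
  omega

/-- In a simple group an involution commutes with another conjugate (Z*). -/
theorem exists_conj_comm [Finite G] [IsSimpleGroup G] (hna : ∃ a b : G, a * b ≠ b * a) {z : G}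
    (hz : orderOf z = 2) : ∃ g : G, g * z * g⁻¹ ≠ z ∧ (g * z * g⁻¹) * z = z * (g * z * g⁻¹) := by
  haveI : Fact (Nat.Prime 2) := ⟨Nat.prime_two⟩
  by_contra hcon
  push Not at hcon
  obtain ⟨P, hP⟩ := IsPGroup.exists_le_sylow (p := 2) (P := zpowers z) (by
    rw [IsPGroup.iff_card]
    exact ⟨1, by rw [Nat.card_zpowers, hz, pow_one]⟩)
  have hzP : z ∈ P := hP (mem_zpowers z)
  -- `z` is central in `P`
  have hcent : ∀ x ∈ (P : Subgroup G), x * z = z * x := by
    by_contra hne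
    push Not at hne
    obtain ⟨x, hx, hxz⟩ := hne
    obtain ⟨b, hb, hbE, -, hbn⟩ := exists_norm_elt (S := (P : Subgroup G))
      (E := (P : Subgroup G) ⊓ centralizer ({z} : Set G)) (B := P) P.2 inf_le_left le_rfl
      (fun s hs b hb => mul_mem (mul_mem hs hb) (inv_mem hs))
      (fun h => hxz (mem_centralizer_singleton_iff.mp (h hx).2))
    have hzE : z ∈ (P : Subgroup G) ⊓ centralizer ({z} : Set G) :=
      ⟨hzP, mem_centralizer_singleton_iff.mpr rfl⟩
    have h1 : b * z * b⁻¹ ∈ (P : Subgroup G) ⊓ centralizer ({z} : Set G) := by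
      have := (mem_normalizer_iff.mp hbn z).mp hzE
      exact this
    have h2 := mem_centralizer_singleton_iff.mp h1.2
    have h3 : b * z * b⁻¹ = z := by
      by_contra hne
      exact hcon b hne h2
    apply hbE
    refine ⟨hb, mem_centralizer_singleton_iff.mpr ?_⟩
    calc b * z = (b * z * b⁻¹) * b := by group
      _ = z * b := by rw [h3]
  obtain ⟨N, hN, hodd, hcomm⟩ := Cfsg.Agent.S0215.result P z hz hzP (fun g hg => by
    by_contra hne
    exact hcon g hne (hcent _ hg))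
  rcases hN.eq_bot_or_eq_top with h | h
  · have hzc : z ∈ center G := by
      rw [mem_center_iff]
      intro g
      have h1 := hcomm g
      rw [h, mem_bot] at h1
      calc g * z = (z * g * z⁻¹ * g⁻¹)⁻¹ * (z * g) := by group
        _ = z * g := by rw [h1, inv_one, one_mul]
    rcases (inferInstance : (center G).Normal).eq_bot_or_eq_top with h2 | h2
    · rw [h2, mem_bot] at hzc
      rw [hzc, orderOf_one] at hz
      omega
    · obtain ⟨a, b, hab⟩ := hna
      have : a ∈ center G := by rw [h2]; exact mem_top a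
      exact hab (mem_center_iff.mp this b).symm
  · rw [h, card_top] at hodd
    have h2 : 2 ∣ Nat.card G := by rw [← hz]; exact orderOf_dvd_natCard z
    rw [Nat.odd_iff] at hodd
    omega

end Aux

section Main

variable {G : Type*} [Group G] [Finite G] {K : Subgroup G} {z : G}

namespace Ev

theorem tight (E : Ev K z) : Tight (centralizer (K : Set G)) (normalizer (K : Set G)) :=
  EvenPair.tight_of_standard E.std

/-- `N(K) = C_G(z)` -/
theorem mem_iff (E : Ev K z) {g : G} : g ∈ normalizer (K : Set G) ↔ g * z = z * g := by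
  constructor
  · intro h
    have h1 : g * z * g⁻¹ ∈ K := (mem_normalizer_iff.mp h z).mp E.zK
    have h2 : g * z * g⁻¹ ∈ centralizer (K : Set G) := E.tight.norm g h z E.zC
    have h3 := E.uniq _ h1 h2 (by rw [orderOf_conj]; exact E.z2)
    calc g * z = (g * z * g⁻¹) * g := by group
      _ = z * g := by rw [h3]
  · intro h
    refine E.tight.tight g z E.zC E.z2 ?_
    have : g * z * g⁻¹ = z := by rw [h]; group
    rw [this]
    exact E.zC

/-- the centralizer of an involution of `C(K)` is in `N(K)` -/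
theorem mem_of_comm (E : Ev K z) {c y : G} (hc : c ∈ centralizer (K : Set G)) (h2 : orderOf c = 2)
    (hy : y * c = c * y) : y ∈ normalizer (K : Set G) := by
  refine E.tight.tight y c hc h2 ?_
  have : y * c * y⁻¹ = c := by rw [hy]; group
  rw [this]
  exact hc

theorem z_ne_one (E : Ev K z) : z ≠ 1 := by
  intro h
  have := E.z2
  rw [h, orderOf_one] at this
  omega

/-- `Σ ∩ C(K) = {z}`, in the form: an element of `C(K) ∩ C(K)^g` of even order... -/
theorem conj_eq (E : Ev K z) {g : G} (h : g * z * g⁻¹ ∈ centralizer (K : Set G)) : g * z * g⁻¹ = z := by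
  have h1 : g ∈ normalizer (K : Set G) := E.tight.tight g z E.zC E.z2 h
  rw [E.mem_iff.mp h1]
  group

/-- an involution `c ∈ C(K)` with `g⁻¹cg ∈ C(K)`: `g` commutes with `z` -/
theorem comm_of_both (E : Ev K z) {g c : G} (hc : c ∈ centralizer (K : Set G)) (h2 : orderOf c = 2)
    (h : g⁻¹ * c * g ∈ centralizer (K : Set G)) : g * z = z * g := by
  rw [← E.mem_iff]
  have h1 : g⁻¹ ∈ normalizer (K : Set G) := by
    refine E.tight.tight g⁻¹ c hc h2 ?_
    simpa using h
  simpa using inv_mem h1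

/-- Some commuting pair `z`, `a ∈ z^G`, `a ≠ z`, and an involution `c ≠ z` of `C(K)` commuting with `a`. -/
def HasPair (K : Subgroup G) (z : G) : Prop :=
  ∃ g c : G, g * z * g⁻¹ ≠ z ∧ c ∈ centralizer (K : Set G) ∧ orderOf c = 2 ∧ c ≠ z ∧
    c * (g * z * g⁻¹) = (g * z * g⁻¹) * c

omit [Finite G] in
theorem z_comm (E : Ev K z) {n : G} (hn : n ∈ centralizer (K : Set G)) : n * z = z * n :=
  (mem_centralizer_iff.mp hn z E.zK).symm

/-- (a) -/
theorem move (E : Ev K z) (hNP : ¬ HasPair K z) {c : G} (hc : c ∈ centralizer (K : Set G))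
    (hc2 : orderOf c = 2) (hcz : c ≠ z) {g : G} (hne : g * z * g⁻¹ ≠ z)
    (hcomm : (g * z * g⁻¹) * z = z * (g * z * g⁻¹)) :
    ∃ n ∈ centralizer (K : Set G), n * (g * z * g⁻¹) * n⁻¹ = (g * z * g⁻¹) * z := by
  haveI : Fact (Nat.Prime 2) := ⟨Nat.prime_two⟩
  set u := g * z * g⁻¹ with hu
  have hu2 : orderOf u = 2 := by rw [hu, orderOf_conj]; exact E.z2
  have huM : u ∈ normalizer (K : Set G) := E.mem_iff.mpr hcomm
  have hNP' : ∀ x ∈ centralizer (K : Set G), orderOf x = 2 → x * u = u * x → x = z := by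
    intro x hx hx2 hxu
    by_contra hxz
    exact hNP ⟨g, x, hne, hx, hx2, hxz, hxu⟩
  obtain ⟨T, hT, huT⟩ := exists_isSyl (M := normalizer (K : Set G)) (Q := zpowers u) (by
    rw [IsPGroup.iff_card]
    exact ⟨1, by rw [Nat.card_zpowers, hu2, pow_one]⟩) (by rwa [zpowers_le])
  have hTC : T ≤ normalizer ((centralizer (K : Set G) : Subgroup G) : Set G) := by
    intro t ht
    rw [mem_normalizer_iff]
    intro x
    constructor
    · exact E.tight.norm t (hT.le ht) x
    · intro h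
      have := E.tight.norm t⁻¹ (inv_mem (hT.le ht)) _ h
      have h2 : t⁻¹ * (t * x * t⁻¹) * t⁻¹⁻¹ = x := by group
      rwa [h2] at this
  obtain ⟨i, hi, hic⟩ := hT.conj_into_inf E.tight.le hTC (Q := zpowers c) (by
    rw [IsPGroup.iff_card]
    exact ⟨1, by rw [Nat.card_zpowers, hc2, pow_one]⟩) (by rwa [zpowers_le])
  have hc' := hic c (mem_zpowers c)
  have hc'z : i * c * i⁻¹ ≠ z := by
    intro h
    apply hcz
    have h1 := E.z_comm hi
    calc c = i⁻¹ * (i * c * i⁻¹) * i := by group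
      _ = i⁻¹ * (z * i) := by rw [h]; group
      _ = z := by rw [← h1]; group
  have huT' : u ∈ T := huT (mem_zpowers u)
  obtain ⟨b, hb, hbE, -, hbn⟩ := exists_norm_elt (S := T) (E := T ⊓ centralizer ({u} : Set G))
    (B := T ⊓ centralizer (K : Set G)) hT.two inf_le_left inf_le_left
    (fun s hs b hb => ⟨T.mul_mem (T.mul_mem hs hb.1) (T.inv_mem hs),
      E.tight.norm s (hT.le hs) b hb.2⟩)
    (fun h => hc'z (hNP' _ hc'.2 (by rw [orderOf_conj]; exact hc2)
      (mem_centralizer_singleton_iff.mp (h hc').2)))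
  have hbu : b * u ≠ u * b := fun h => hbE ⟨hb.1, mem_centralizer_singleton_iff.mpr h⟩
  have h1 : b * u * b⁻¹ ∈ T ⊓ centralizer ({u} : Set G) :=
    (mem_normalizer_iff.mp hbn u).mp ⟨huT', mem_centralizer_singleton_iff.mpr rfl⟩
  have h2 : (b * u * b⁻¹) * u = u * (b * u * b⁻¹) := mem_centralizer_singleton_iff.mp h1.2
  have huu : u * u = 1 := mul_self_of_order hu2
  have huinv : u⁻¹ = u := by rw [inv_eq_iff_mul_eq_one]; exact huu
  set w := u * (b * u * b⁻¹) with hw
  have hwC : w ∈ centralizer (K : Set G) := by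
    have h3 : u * b * u⁻¹ ∈ centralizer (K : Set G) := E.tight.norm u huM b hb.2
    have h4 : w = (u * b * u⁻¹) * b⁻¹ := by rw [hw, huinv]; group
    rw [h4]
    exact (centralizer (K : Set G)).mul_mem h3 ((centralizer (K : Set G)).inv_mem hb.2)
  have hw1 : w ≠ 1 := by
    intro h
    apply hbu
    have h5 : b * u * b⁻¹ = u := by
      have : b * u * b⁻¹ = u⁻¹ := by rw [hw] at h; exact (inv_eq_of_mul_eq_one_right h).symm
      rw [this, huinv]
    calc b * u = (b * u * b⁻¹) * b := by group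
      _ = u * b := by rw [h5]
  have hww : w * w = 1 := by
    rw [hw]
    calc u * (b * u * b⁻¹) * (u * (b * u * b⁻¹)) = u * ((b * u * b⁻¹) * u) * (b * u * b⁻¹) := by group
      _ = u * (u * (b * u * b⁻¹)) * (b * u * b⁻¹) := by rw [h2]
      _ = (u * u) * (b * (u * u) * b⁻¹) := by group
      _ = 1 := by rw [huu]; group
  have hwu : w * u = u * w := by
    rw [hw]
    calc u * (b * u * b⁻¹) * u = u * ((b * u * b⁻¹) * u) := by group
      _ = u * (u * (b * u * b⁻¹)) := by rw [h2]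
  have hwz : w = z := hNP' w hwC (order_of_mul_self hww hw1) hwu
  refine ⟨b, hb.2, ?_⟩
  calc b * u * b⁻¹ = (u * u) * (b * u * b⁻¹) := by rw [huu, one_mul]
    _ = u * w := by rw [hw]; group
    _ = u * z := by rw [hwz]

/-- (c) -/
theorem eq_of_mem (E : Ev K z) (hNP : ¬ HasPair K z) {c : G} (hc : c ∈ centralizer (K : Set G))
    (hc2 : orderOf c = 2) (hcz : c ≠ z) {g : G} (hg : g * z * g⁻¹ ∈ K) : g * z * g⁻¹ = z := by
  by_contra hne
  obtain ⟨n, hn, hn'⟩ := E.move hNP hc hc2 hcz hne (mem_centralizer_iff.mp E.zC _ hg)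
  have h1 : n * (g * z * g⁻¹) * n⁻¹ = g * z * g⁻¹ := by
    rw [← mem_centralizer_iff.mp hn _ hg]
    group
  rw [h1] at hn'
  exact E.z_ne_one (mul_eq_left.mp hn'.symm)

/-- (b) the product of two commuting points is a point -/
theorem mul_point (E : Ev K z) (hNP : ¬ HasPair K z) {c : G} (hc : c ∈ centralizer (K : Set G))
    (hc2 : orderOf c = 2) (hcz : c ≠ z) {g h : G} (hne : h * z * h⁻¹ ≠ g * z * g⁻¹)
    (hcomm : (h * z * h⁻¹) * (g * z * g⁻¹) = (g * z * g⁻¹) * (h * z * h⁻¹)) :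
    ∃ x : G, (h * z * h⁻¹) * (g * z * g⁻¹) = x * z * x⁻¹ := by
  have key : (g⁻¹ * h) * z * (g⁻¹ * h)⁻¹ = g⁻¹ * (h * z * h⁻¹) * g := by group
  obtain ⟨n, hn, hn'⟩ := E.move hNP hc hc2 hcz (g := g⁻¹ * h) (by
    rw [key]
    intro h1
    apply hne
    calc h * z * h⁻¹ = g * (g⁻¹ * (h * z * h⁻¹) * g) * g⁻¹ := by group
      _ = g * z * g⁻¹ := by rw [h1]) (by
    rw [key]
    calc g⁻¹ * (h * z * h⁻¹) * g * z = g⁻¹ * ((h * z * h⁻¹) * (g * z * g⁻¹)) * g := by group
      _ = g⁻¹ * ((g * z * g⁻¹) * (h * z * h⁻¹)) * g := by rw [hcomm]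
      _ = z * (g⁻¹ * (h * z * h⁻¹) * g) := by group)
  rw [key] at hn'
  refine ⟨g * n * g⁻¹ * h, ?_⟩
  calc (h * z * h⁻¹) * (g * z * g⁻¹) = g * (g⁻¹ * (h * z * h⁻¹) * g * z) * g⁻¹ := by group
    _ = g * (n * (g⁻¹ * (h * z * h⁻¹) * g) * n⁻¹) * g⁻¹ := by rw [hn']
    _ = _ := by group

/-- the action on `K` -/
noncomputable def act (K : Subgroup G) (y : ↥(normalizer (K : Set G))) : MulAut ↥K := K.normalizerMonoidHom y

omit [Finite G] in
theorem act_coe {y : ↥(normalizer (K : Set G))} (x : ↥K) :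
    ((act K y x : ↥K) : G) = (y : G) * x * (y : G)⁻¹ := rfl

omit [Finite G] in
theorem act_mul {x y : ↥(normalizer (K : Set G))} : act K (x * y) = act K x * act K y := map_mul _ _ _

omit [Finite G] in
theorem act_eq_one_iff {y : ↥(normalizer (K : Set G))} : act K y = 1 ↔ (y : G) ∈ centralizer (K : Set G) := by
  constructor
  · intro h
    rw [mem_centralizer_iff]
    intro x hx
    have h1 := congrArg (fun f : MulAut ↥K => ((f ⟨x, hx⟩ : ↥K) : G)) h
    have h2 : (y : G) * x * (y : G)⁻¹ = x := h1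
    calc x * (y : G) = ((y : G) * x * (y : G)⁻¹) * y := by rw [h2]
      _ = (y : G) * x := by group
  · intro h
    ext x
    rw [act_coe]
    have h1 := mem_centralizer_iff.mp h x x.2
    show (y : G) * (x : G) * (y : G)⁻¹ = x
    rw [← h1]
    group

/-- **(II)** -/
theorem hasPair [IsSimpleGroup G] (E : Ev K z) (hna : ∃ a b : G, a * b ≠ b * a) (h2 : SqDiff ↥K)
    {c : G} (hc : c ∈ centralizer (K : Set G)) (hc2 : orderOf c = 2) (hcz : c ≠ z) : HasPair K z := by
  by_contra hNP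
  obtain ⟨g, hg, hgz⟩ := exists_conj_comm hna E.z2
  set a := g * z * g⁻¹ with ha
  have haa : a * a = 1 := mul_self_of_order (by rw [ha, orderOf_conj]; exact E.z2)
  have haM : a ∈ normalizer (K : Set G) := E.mem_iff.mpr hgz
  have hainv : a⁻¹ = a := by rw [inv_eq_iff_mul_eq_one]; exact haa
  obtain ⟨x, hx, hxx⟩ := h2 (act K ⟨a, haM⟩) (by
      rw [← act_mul]
      have : (⟨a, haM⟩ * ⟨a, haM⟩ : ↥(normalizer (K : Set G))) = 1 := Subtype.ext haa
      rw [this]
      exact map_one _) (by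
      rw [Ne, act_eq_one_iff]
      intro h
      exact hg (E.conj_eq h))
  -- `y = a a^x`
  have hy : (((act K ⟨a, haM⟩ x)⁻¹ * x : ↥K) : G) = a * ((x : G)⁻¹ * a * x) := by
    rw [coe_mul, coe_inv, act_coe]
    show (a * (x : G) * a⁻¹)⁻¹ * x = _
    have e1 : ∀ a x : G, (a * x * a⁻¹)⁻¹ * x = a * (x⁻¹ * a⁻¹ * x) := by intro a x; group
    rw [e1, hainv]
  set y : G := a * ((x : G)⁻¹ * a * x) with hydef
  have hyK : y ∈ K := by rw [← hy]; exact SetLike.coe_mem _
  have hyy : y * y = 1 := by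
    rw [← hy]
    exact congrArg Subtype.val hxx
  have hbb : ((x : G)⁻¹ * a * x) * ((x : G)⁻¹ * a * x) = 1 := by
    calc ((x : G)⁻¹ * a * x) * ((x : G)⁻¹ * a * x) = (x : G)⁻¹ * (a * a) * x := by group
      _ = 1 := by rw [haa]; group
  have hcommab : a * ((x : G)⁻¹ * a * x) = ((x : G)⁻¹ * a * x) * a := by
    set b := (x : G)⁻¹ * a * x
    have h3 : a * b * (a * b) = 1 := hyy
    calc a * b = (a * b)⁻¹ := by rw [eq_inv_iff_mul_eq_one]; exact h3
      _ = b⁻¹ * a⁻¹ := mul_inv_rev _ _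
      _ = b * a := by
        have hb' : b⁻¹ = b := by rw [inv_eq_iff_mul_eq_one]; exact hbb
        rw [hainv, hb']
  have key : (x : G)⁻¹ * a * x = ((x : G)⁻¹ * g) * z * ((x : G)⁻¹ * g)⁻¹ := by rw [ha]; group
  have hne : a ≠ (x : G)⁻¹ * a * x := by
    intro h
    apply hx
    have h3 : (act K ⟨a, haM⟩ x)⁻¹ * x = 1 := by
      apply Subtype.ext
      rw [hy, hydef, ← h, haa]
      rfl
    rw [h3]
    exact one_mem _
  obtain ⟨v, hv⟩ := E.mul_point hNP hc hc2 hcz (g := (x : G)⁻¹ * g) (h := g) (by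
    rw [← key]; exact hne) (by rw [← key]; exact hcommab)
  rw [← key] at hv
  have hvz : v * z * v⁻¹ = z := E.eq_of_mem hNP hc hc2 hcz (by rw [← hv]; exact hyK)
  apply hx
  have h4 : (act K ⟨a, haM⟩ x)⁻¹ * x = ⟨z, E.zK⟩ := by
    apply Subtype.ext
    rw [hy]
    show y = z
    rw [← hvz, ← hv]
  rw [h4, mem_center_iff]
  intro k
  exact Subtype.ext (mem_centralizer_iff.mp E.zC k k.2)

/-- The pair seen from the other point: `a = gzg⁻¹ ≠ z` commutes with `c`; then `v = g⁻¹zg`, `d = g⁻¹cg` normalize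
`K`, act faithfully and `C_K(d), C_K(dv) ≤ C_K(v)`. -/
structure Pair (K : Subgroup G) (z g c v d : G) : Prop where
  v_def : v = g⁻¹ * z * g
  d_def : d = g⁻¹ * c * g
  ne : v ≠ z
  vM : v ∈ normalizer (K : Set G)
  dM : d ∈ normalizer (K : Set G)
  cC : c ∈ centralizer (K : Set G)
  c2 : orderOf c = 2
  cz : c ≠ z
  comm : d * v = v * d
  vC : v ∉ centralizer (K : Set G)
  dC : d ∉ centralizer (K : Set G)
  dvC : d * v ∉ centralizer (K : Set G)
  centd : ∀ k ∈ K, d * k = k * d → v * k = k * v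
  centdv : ∀ k ∈ K, d * v * k = k * (d * v) → v * k = k * v

theorem pair_of (E : Ev K z) {g c : G} (hgz : g * z * g⁻¹ ≠ z) (hc : c ∈ centralizer (K : Set G))
    (hc2 : orderOf c = 2) (hcz : c ≠ z) (hcomm : c * (g * z * g⁻¹) = (g * z * g⁻¹) * c) :
    Pair K z g c (g⁻¹ * z * g) (g⁻¹ * c * g) := by
  have hz2 := mul_self_of_order E.z2
  have hcc := mul_self_of_order hc2
  have hcZ : c * z = z * c := E.z_comm hc
  have hgM : g ∉ normalizer (K : Set G) := by
    intro h
    apply hgz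
    rw [E.mem_iff.mp h]
    group
  -- `a` commutes with `z`
  have ha : (g * z * g⁻¹) * z = z * (g * z * g⁻¹) :=
    E.mem_iff.mp (E.mem_of_comm hc hc2 hcomm.symm)
  have hcz' : c * z ∈ centralizer (K : Set G) := mul_mem hc E.zC
  have hcz2 : orderOf (c * z) = 2 := by
    refine order_of_mul_self ?_ ?_
    · calc c * z * (c * z) = c * (z * c) * z := by group
        _ = (c * c) * (z * z) := by rw [← hcZ]; group
        _ = 1 := by rw [hcc, hz2, one_mul]
    · intro h
      apply hcz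
      calc c = c * (z * z) := by rw [hz2, mul_one]
        _ = (c * z) * z := by group
        _ = z := by rw [h, one_mul]
  have hnot : ∀ x ∈ centralizer (K : Set G), orderOf x = 2 → g⁻¹ * x * g ∉ centralizer (K : Set G) := by
    intro x hx hx2 hx'
    exact hgM (E.mem_iff.mpr (E.comm_of_both hx hx2 hx'))
  have hback : ∀ x ∈ centralizer (K : Set G), orderOf x = 2 → ∀ k : G,
      (g⁻¹ * x * g) * k = k * (g⁻¹ * x * g) → (g⁻¹ * z * g) * k = k * (g⁻¹ * z * g) := by
    intro x hx hx2 k hk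
    have h1 : (g * k * g⁻¹) * x = x * (g * k * g⁻¹) := by
      calc (g * k * g⁻¹) * x = g * (k * (g⁻¹ * x * g)) * g⁻¹ := by group
        _ = g * ((g⁻¹ * x * g) * k) * g⁻¹ := by rw [hk]
        _ = x * (g * k * g⁻¹) := by group
    have h2 := E.mem_iff.mp (E.mem_of_comm hx hx2 h1)
    calc (g⁻¹ * z * g) * k = g⁻¹ * (z * (g * k * g⁻¹)) * g := by group
      _ = g⁻¹ * ((g * k * g⁻¹) * z) * g := by rw [h2]
      _ = k * (g⁻¹ * z * g) := by group
  have hdv : g⁻¹ * c * g * (g⁻¹ * z * g) = g⁻¹ * (c * z) * g := by group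
  refine ⟨rfl, rfl, ?_, ?_, ?_, hc, hc2, hcz, ?_, hnot z E.zC E.z2,
    hnot c hc hc2, ?_, ?_, ?_⟩
  · intro h
    apply hgz
    calc g * z * g⁻¹ = g * (g⁻¹ * z * g) * g⁻¹ := by rw [h]
      _ = z := by group
  · rw [E.mem_iff]
    calc g⁻¹ * z * g * z = g⁻¹ * (z * (g * z * g⁻¹)) * g := by group
      _ = g⁻¹ * ((g * z * g⁻¹) * z) * g := by rw [ha]
      _ = z * (g⁻¹ * z * g) := by group
  · rw [E.mem_iff]
    calc g⁻¹ * c * g * z = g⁻¹ * (c * (g * z * g⁻¹)) * g := by group
      _ = g⁻¹ * ((g * z * g⁻¹) * c) * g := by rw [hcomm]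
      _ = z * (g⁻¹ * c * g) := by group
  · calc g⁻¹ * c * g * (g⁻¹ * z * g) = g⁻¹ * (c * z) * g := by group
      _ = g⁻¹ * (z * c) * g := by rw [hcZ]
      _ = _ := by group
  · rw [hdv]
    exact hnot _ hcz' hcz2
  · intro k _ hk
    exact hback c hc hc2 k hk
  · intro k _ hk
    rw [hdv] at hk
    exact hback _ hcz' hcz2 k hk

theorem exists_pair (E : Ev K z) (h : HasPair K z) : ∃ g c v d : G, Pair K z g c v d := by
  obtain ⟨g, c, hgz, hc, hc2, hcz, hcomm⟩ := h
  exact ⟨g, c, _, _, E.pair_of hgz hc hc2 hcz hcomm⟩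

/-- **(I)** -/
theorem not_hasPair (E : Ev K z) (h1 : PairFree ↥K) : ¬ HasPair K z := by
  intro h
  obtain ⟨g, c, v, d, P⟩ := E.exists_pair h
  have hcc := mul_self_of_order P.c2
  have hzz := mul_self_of_order E.z2
  have hvv : v * v = 1 := by
    rw [P.v_def]
    calc g⁻¹ * z * g * (g⁻¹ * z * g) = g⁻¹ * (z * z) * g := by group
      _ = 1 := by rw [hzz]; group
  have hdd : d * d = 1 := by
    rw [P.d_def]
    calc g⁻¹ * c * g * (g⁻¹ * c * g) = g⁻¹ * (c * c) * g := by group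
      _ = 1 := by rw [hcc]; group
  have hone : ∀ {x : G} (hx : x ∈ normalizer (K : Set G)), x * x = 1 → act K ⟨x, hx⟩ * act K ⟨x, hx⟩ = 1 := by
    intro x hx hxx
    rw [← act_mul]
    have : (⟨x, hx⟩ * ⟨x, hx⟩ : ↥(normalizer (K : Set G))) = 1 := Subtype.ext hxx
    rw [this]
    exact map_one _
  have hfix : ∀ (x : G) (hx : x ∈ normalizer (K : Set G)) (k : ↥K), act K ⟨x, hx⟩ k = k ↔ x * k = k * x := by
    intro x hx k
    constructor
    · intro h
      have h2 : x * (k : G) * x⁻¹ = k := congrArg Subtype.val h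
      calc x * (k : G) = (x * (k : G) * x⁻¹) * x := by group
        _ = k * x := by rw [h2]
    · intro h
      apply Subtype.ext
      show x * (k : G) * x⁻¹ = k
      rw [h]
      group
  refine h1 (act K ⟨d, P.dM⟩) (act K ⟨v, P.vM⟩) (hone _ hdd) (hone _ hvv) ?_ ?_ ?_ ?_ ?_ ?_
  · rw [← act_mul, ← act_mul]
    congr 1
    exact Subtype.ext P.comm
  · rw [Ne, act_eq_one_iff]
    exact P.dC
  · rw [Ne, act_eq_one_iff]
    exact P.vC
  · intro h2
    apply P.dvC
    have h3 : act K (⟨d, P.dM⟩ * ⟨v, P.vM⟩) = 1 := by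
      rw [act_mul, h2]
      exact hone _ hvv
    exact act_eq_one_iff.mp h3
  · intro k hk
    rw [hfix] at hk ⊢
    exact P.centd k k.2 hk
  · intro k hk
    have h3 : act K (⟨d, P.dM⟩ * ⟨v, P.vM⟩) k = k := by
      rw [act_mul]
      exact hk
    have h4 := (hfix (d * v) (mul_mem P.dM P.vM) k).mp h3
    rw [hfix]
    exact P.centdv k k.2 h4

end Ev

/-- (P2) and 'no pair' imply `m_2(C(K)) ≤ 1`. -/
theorem main_of_not [IsSimpleGroup G] (E : Ev K z) (h1 : ¬ Ev.HasPair K z) (h2 : SqDiff ↥K) :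
    PRankLE 2 1 ↥(centralizer (K : Set G)) := by
  by_contra hrk
  obtain ⟨a, b, ha, hb, ha2, hb2, hab, hne⟩ := EvenPair.exists_two_of_not_pRankLE hrk
  have hna : ∃ a b : G, a * b ≠ b * a := by
    by_contra hcon
    push Not at hcon
    have h3 : ⁅(⊤ : Subgroup ↥K), (⊤ : Subgroup ↥K)⁆ = ⊤ := E.std.1.1.commutator_eq_top
    have h4 : ⁅(⊤ : Subgroup ↥K), (⊤ : Subgroup ↥K)⁆ = ⊥ := by
      rw [commutator_eq_bot_iff_le_centralizer]
      intro x _
      rw [mem_centralizer_iff]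
      intro y _
      exact Subtype.ext (hcon y x)
    have h5 : (⟨z, E.zK⟩ : ↥K) ∈ (⊤ : Subgroup ↥K) := mem_top _
    rw [← h3, h4, mem_bot] at h5
    exact E.z_ne_one (congrArg Subtype.val h5)
  by_cases haz : a = z
  · exact h1 (E.hasPair hna h2 hb hb2 (fun h => hne (haz.trans h.symm)))
  · exact h1 (E.hasPair hna h2 ha ha2 haz)

/-- **(P1) and (P2) for `K` imply `m_2(C(K)) ≤ 1`.** -/
theorem main [IsSimpleGroup G] (E : Ev K z) (h1 : PairFree ↥K) (h2 : SqDiff ↥K) :
    PRankLE 2 1 ↥(centralizer (K : Set G)) :=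
  main_of_not E (E.not_hasPair h1) h2

/-- The row form: `Std`, `Z(K)` cyclic and nontrivial. -/
theorem ev_of_std {G : Type*} [Group G] {K : Subgroup G} (S : Iface.Std0 G K) [Finite G]
    (hcyc : IsCyclic ↥(center ↥K)) (hne : center ↥K ≠ ⊥) : ∃ z : G, Ev K z := by
  obtain ⟨x, hx, hx2⟩ := exists_invol_of_two (H := center ↥K) S.z2 hne
  have hmem : ∀ y ∈ K, y ∈ centralizer (K : Set G) → ∀ hy : y ∈ K, (⟨y, hy⟩ : ↥K) ∈ center ↥K := by
    intro y hyK hy hy'
    rw [mem_center_iff]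
    intro k
    exact Subtype.ext (mem_centralizer_iff.mp hy k k.2)
  refine ⟨x, S.std, x.2, ?_, ?_, ?_⟩
  · rw [mem_centralizer_iff]
    intro k hk
    exact congrArg Subtype.val (mem_center_iff.mp hx ⟨k, hk⟩)
  · rw [← hx2]
    exact Subgroup.orderOf_coe x
  · intro y hyK hy hy2
    have h1 := hmem y hyK hy hyK
    have h2 : orderOf (⟨⟨y, hyK⟩, h1⟩ : ↥(center ↥K)) = 2 := by
      rw [← Subgroup.orderOf_coe, ← Subgroup.orderOf_coe]
      exact hy2
    have h3 : orderOf (⟨x, hx⟩ : ↥(center ↥K)) = 2 := by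
      rw [← Subgroup.orderOf_coe]
      exact hx2
    have h4 : (⟨⟨y, hyK⟩, h1⟩ : ↥(center ↥K)) = ⟨x, hx⟩ := by
      exact eq_of_cyclic h2 h3
    exact congrArg (fun a : ↥(center ↥K) => ((a : ↥K) : G)) h4

end Main

/-- **The row**: `Z(K)` cyclic and nontrivial, (P1) and (P2). -/
theorem row {G : Type*} [Group G] {K : Subgroup G} (C : Iface.Ctx G) (S : Iface.Std0 G K)
    (hcyc : IsCyclic ↥(center ↥K)) (hne : center ↥K ≠ ⊥) (h1 : PairFree ↥K) (h2 : SqDiff ↥K) :
    PRankLE 2 1 ↥(centralizer (K : Set G)) := by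
  haveI := C.fin
  haveI := C.simple
  obtain ⟨z, E⟩ := ev_of_std S hcyc hne
  exact main E h1 h2

section Transport

variable {X Y : Type*} [Group X] [Group Y]

theorem PairFree.map (e : X ≃* Y) (h : PairFree X) : PairFree Y := by
  intro α β hα hβ hαβ hα1 hβ1 hne hc hc'
  let φ : MulAut Y ≃* MulAut X := MulAut.congr e.symm
  have hφ : ∀ (γ : MulAut Y) (x : X), φ γ x = e.symm (γ (e x)) := fun γ x => rfl
  have hfix : ∀ (γ : MulAut Y) (x : X), φ γ x = x ↔ γ (e x) = e x := by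
    intro γ x
    rw [hφ]
    constructor
    · intro h
      exact (MulEquiv.symm_apply_eq e).mp h
    · intro h
      rw [h, MulEquiv.symm_apply_apply]
  refine h (φ α) (φ β) (by rw [← map_mul, hα, map_one]) (by rw [← map_mul, hβ, map_one])
    (by rw [← map_mul, hαβ, map_mul]) (fun h1 => hα1 (φ.injective (by rw [h1, map_one])))
    (fun h1 => hβ1 (φ.injective (by rw [h1, map_one]))) (fun h1 => hne (φ.injective h1)) ?_ ?_
  · intro x hx
    rw [hfix] at hx ⊢
    exact hc _ hx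
  · intro x hx
    have h1 : φ (α * β) x = x := by rw [map_mul]; exact hx
    rw [hfix] at h1 ⊢
    exact hc' _ h1

theorem SqDiff.map (e : X ≃* Y) (h : SqDiff X) : SqDiff Y := by
  intro α hα hα1
  let φ : MulAut Y ≃* MulAut X := MulAut.congr e.symm
  obtain ⟨x, hx, hxx⟩ := h (φ α) (by rw [← map_mul, hα, map_one])
    (fun h1 => hα1 (φ.injective (by rw [h1, map_one])))
  have he : e ((φ α x)⁻¹ * x) = (α (e x))⁻¹ * e x := by
    rw [map_mul, map_inv]
    congr 2
    exact e.apply_symm_apply _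
  refine ⟨e x, ?_, ?_⟩
  · rw [← he]
    intro hc
    apply hx
    rw [mem_center_iff] at hc ⊢
    intro g
    exact e.injective (by rw [map_mul e g, map_mul e _ g]; exact hc (e g))
  · rw [← he, ← map_mul, hxx, map_one]

end Transport

end Cfsg.Agent.OddHalf.D4.EvenCyc
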