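import Mathlib

/-!
# ODD, D4: the barycentre lemma

`Γ` acts on the finite elementary abelian 2-group `A`, `Y ≤ Γ`, `p : A →* A` commutes with `Y`. The product
`bar p` of the conjugates of `p` (over `Γ ⧸ Y`) commutes with `Γ`. If `E ≤ Y` acts freely on `Γ ⧸ Y` minus the
base point and has norm one on `A`, then `bar p = p` on the fixed points of `E`.
-/

set_option autoImplicit false

namespace Cfsg.Agent.OddHalf.D4.Bary

open Subgroup

section Free

variable {E Ω A : Type*} [Group E] [MulAction E Ω] [CommGroup A] [MulDistribMulAction E A]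

/-- The product of an equivariant function over a free finite `E`-set is a product of norms. -/
theorem prod_free [Fintype E] [Fintype Ω] (F : Ω → A) (hF : ∀ s : E, ∀ c : Ω, F (s • c) = s • F c)
    (free : ∀ c : Ω, ∀ s : E, s • c = c → s = 1) (norm : ∀ a : A, ∏ s : E, s • a = 1) :
    ∏ c : Ω, F c = 1 := by
  classical
  rw [← Finset.prod_fiberwise_of_maps_to (s := (Finset.univ : Finset Ω))
    (t := (Finset.univ : Finset (MulAction.orbitRel.Quotient E Ω)))
    (g := fun c => (Quotient.mk'' c : MulAction.orbitRel.Quotient E Ω)) (fun _ _ => Finset.mem_univ _)]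
  apply Finset.prod_eq_one
  intro ω _
  induction ω using Quotient.inductionOn' with
  | h c0 =>
    have key : ∏ c ∈ (Finset.univ : Finset Ω) with (Quotient.mk'' c : MulAction.orbitRel.Quotient E Ω) =
        Quotient.mk'' c0, F c = ∏ s : E, F (s • c0) := by
      symm
      apply Finset.prod_bij (fun s _ => s • c0)
      · intro s _
        simp only [Finset.mem_filter, Finset.mem_univ, true_and]
        rw [Quotient.eq'']
        exact ⟨s, rfl⟩
      · intro s _ s' _ h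
        have h1 : (s'⁻¹ * s) • c0 = c0 := by
          rw [mul_smul, show s • c0 = s' • c0 from h, ← mul_smul, inv_mul_cancel, one_smul]
        have h2 := free _ _ h1
        exact (inv_mul_eq_one.mp h2).symm
      · intro c hc
        simp only [Finset.mem_filter, Finset.mem_univ, true_and] at hc
        rw [Quotient.eq''] at hc
        obtain ⟨s, hs⟩ := hc
        exact ⟨s, Finset.mem_univ _, hs⟩
      · intro s _
        rfl
    rw [key]
    rw [← norm (F c0)]
    exact Finset.prod_congr rfl fun s _ => hF s c0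

end Free

section Main

variable {Γ A : Type*} [Group Γ] [CommGroup A] [MulDistribMulAction Γ A]

/-- The conjugate of `p` attached to a coset. -/
def cp (Y : Subgroup Γ) (p : A →* A) (hp : ∀ y ∈ Y, ∀ a, p (y • a) = y • p a) (a : A) (c : Γ ⧸ Y) : A :=
  Quotient.liftOn' c (fun g => g • p (g⁻¹ • a)) (by
    intro g h hgh
    rw [QuotientGroup.leftRel_apply] at hgh
    have h1 : h = g * (g⁻¹ * h) := by group
    rw [h1, mul_smul, mul_inv_rev, mul_smul (g⁻¹ * h)⁻¹, hp _ (inv_mem hgh), smul_inv_smul])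

theorem cp_mk {Y : Subgroup Γ} {p : A →* A} (hp : ∀ y ∈ Y, ∀ a, p (y • a) = y • p a) (a : A) (g : Γ) :
    cp Y p hp a (g : Γ ⧸ Y) = g • p (g⁻¹ • a) := rfl

theorem cp_smul {Y : Subgroup Γ} {p : A →* A} (hp : ∀ y ∈ Y, ∀ a, p (y • a) = y • p a) (a : A) (x : Γ)
    (c : Γ ⧸ Y) : cp Y p hp (x • a) (x • c) = x • cp Y p hp a c := by
  induction c using Quotient.inductionOn' with
  | h g =>
    change (x * g) • p ((x * g)⁻¹ • (x • a)) = x • (g • p (g⁻¹ • a))
    rw [mul_smul, mul_inv_rev, mul_smul g⁻¹ x⁻¹, inv_smul_smul]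

theorem cp_mul {Y : Subgroup Γ} {p : A →* A} (hp : ∀ y ∈ Y, ∀ a, p (y • a) = y • p a) (a b : A)
    (c : Γ ⧸ Y) : cp Y p hp (a * b) c = cp Y p hp a c * cp Y p hp b c := by
  induction c using Quotient.inductionOn' with
  | h g =>
    change g • p (g⁻¹ • (a * b)) = g • p (g⁻¹ • a) * g • p (g⁻¹ • b)
    rw [smul_mul', map_mul, smul_mul']

variable [Finite Γ]

/-- The product of all conjugates of `p`. -/
noncomputable def bar (Y : Subgroup Γ) (p : A →* A) (hp : ∀ y ∈ Y, ∀ a, p (y • a) = y • p a) : A →* A :=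
  letI := Fintype.ofFinite (Γ ⧸ Y)
  { toFun := fun a => ∏ c : Γ ⧸ Y, cp Y p hp a c
    map_one' := by
      apply Finset.prod_eq_one
      intro c _
      induction c using Quotient.inductionOn' with
      | h g => change g • p (g⁻¹ • (1 : A)) = 1; rw [smul_one, map_one, smul_one]
    map_mul' := by
      intro a b
      rw [← Finset.prod_mul_distrib]
      exact Finset.prod_congr rfl fun c _ => cp_mul hp a b c }

theorem bar_apply {Y : Subgroup Γ} {p : A →* A} (hp : ∀ y ∈ Y, ∀ a, p (y • a) = y • p a) [Fintype (Γ ⧸ Y)]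
    (a : A) : bar Y p hp a = ∏ c : Γ ⧸ Y, cp Y p hp a c := by
  have h : (Fintype.ofFinite (Γ ⧸ Y)) = (inferInstance : Fintype (Γ ⧸ Y)) := Subsingleton.elim _ _
  change (∏ c ∈ @Finset.univ _ (Fintype.ofFinite (Γ ⧸ Y)), cp Y p hp a c) = _
  rw [h]

theorem bar_smul {Y : Subgroup Γ} {p : A →* A} (hp : ∀ y ∈ Y, ∀ a, p (y • a) = y • p a) (x : Γ) (a : A) :
    bar Y p hp (x • a) = x • bar Y p hp a := by
  classical
  have := Fintype.ofFinite (Γ ⧸ Y)
  rw [bar_apply, bar_apply, Finset.smul_prod']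
  refine (Fintype.prod_equiv (MulAction.toPerm x) (fun c => x • cp Y p hp a c)
    (fun c => cp Y p hp (x • a) c) ?_).symm
  intro c
  exact (cp_smul hp a x c).symm

/-- The cosets different from the base point. -/
def off {Y E : Subgroup Γ} (hEY : E ≤ Y) : SubMulAction ↥E (Γ ⧸ Y) where
  carrier := {c | c ≠ ((1 : Γ) : Γ ⧸ Y)}
  smul_mem' := by
    intro s c hc h
    apply hc
    have h1 : c = (s⁻¹ : ↥E) • (((1 : Γ) : Γ ⧸ Y)) := by rw [← h, inv_smul_smul]
    rw [h1]
    change ((((s⁻¹ : ↥E) : Γ) * 1 : Γ) : Γ ⧸ Y) = ((1 : Γ) : Γ ⧸ Y)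
    rw [QuotientGroup.eq]
    simpa using hEY s.2

/-- **The barycentre lemma.** -/
theorem bar_eq {Y E : Subgroup Γ} (hEY : E ≤ Y) {p : A →* A} (hp : ∀ y ∈ Y, ∀ a, p (y • a) = y • p a)
    [Fintype ↥E] (semi : ∀ g : Γ, g ∉ Y → ∀ s ∈ E, g⁻¹ * s * g ∈ Y → s = 1)
    (norm : ∀ a : A, ∏ s : ↥E, (s : Γ) • a = 1) {a : A} (ha : ∀ s ∈ E, s • a = a) :
    bar Y p hp a = p a := by
  classical
  have := Fintype.ofFinite (Γ ⧸ Y)
  rw [bar_apply, Fintype.prod_eq_mul_prod_subtype_ne _ (((1 : Γ) : Γ ⧸ Y))]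
  have h1 : cp Y p hp a ((1 : Γ) : Γ ⧸ Y) = p a := by
    rw [cp_mk]; simp
  rw [h1]
  have h2 : ∏ c : ↥(off hEY), cp Y p hp a (c : Γ ⧸ Y) = 1 := by
    apply prod_free (E := ↥E) (Ω := ↥(off hEY)) (fun c => cp Y p hp a (c : Γ ⧸ Y))
    · intro s c
      have h3 := cp_smul hp a (s : Γ) (c : Γ ⧸ Y)
      rw [ha s s.2] at h3
      exact h3
    · intro c s hsc
      obtain ⟨c, hc⟩ := c
      induction c using Quotient.inductionOn' with
      | h g =>
        have h4 : (((s : Γ) * g : Γ) : Γ ⧸ Y) = (g : Γ ⧸ Y) := congrArg Subtype.val hsc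
        have h5 : g ∉ Y := by
          intro hg
          apply hc
          change (g : Γ ⧸ Y) = ((1 : Γ) : Γ ⧸ Y)
          rw [QuotientGroup.eq]
          simpa using inv_mem hg
        rw [eq_comm, QuotientGroup.eq] at h4
        have h6 : g⁻¹ * (s : Γ) * g ∈ Y := by simpa [mul_assoc] using h4
        exact Subtype.ext (semi g h5 s s.2 h6)
    · exact norm
  have h3 : ∏ c : {c : Γ ⧸ Y // c ≠ ((1 : Γ) : Γ ⧸ Y)}, cp Y p hp a (c : Γ ⧸ Y) = 1 := by
    refine Eq.trans ?_ h2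
    exact @Fintype.prod_equiv {c : Γ ⧸ Y // c ≠ ((1 : Γ) : Γ ⧸ Y)} ↥(off hEY) A _ _ _ (Equiv.refl _) _ _
      fun _ => rfl
  rw [h3, mul_one]

/-- **The contradiction.** `A = V × ker p`, generated by the conjugates of `V`; `E` a 2-group of norm one which
centralizes `V`: then `p` is injective. -/
theorem ker_eq_bot [Finite A] {Y E : Subgroup Γ} (hEY : E ≤ Y) {p : A →* A}
    (hp : ∀ y ∈ Y, ∀ a, p (y • a) = y • p a) [Fintype ↥E]
    (semi : ∀ g : Γ, g ∉ Y → ∀ s ∈ E, g⁻¹ * s * g ∈ Y → s = 1)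
    (norm : ∀ a : A, ∏ s : ↥E, (s : Γ) • a = 1) (h2A : IsPGroup 2 A) (h2E : IsPGroup 2 ↥E)
    (hpp : ∀ a, p (p a) = p a) (hEV : ∀ s ∈ E, ∀ a, s • p a = p a)
    (gen : ∀ H : Subgroup A, (∀ g : Γ, ∀ a, g • p a ∈ H) → H = ⊤) : ∀ a, p a = 1 → a = 1 := by
  classical
  have hid : ∀ a, bar Y p hp a = a := by
    let H : Subgroup A := (bar Y p hp).eqLocus (MonoidHom.id A)
    have hH : H = ⊤ := by
      apply gen
      intro g a
      change bar Y p hp (g • p a) = g • p a
      rw [bar_smul, bar_eq hEY hp semi norm (fun s hs => hEV s hs a), hpp]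
    intro a
    have : a ∈ H := by rw [hH]; exact mem_top a
    exact this
  by_contra hne
  push Not at hne
  obtain ⟨a0, ha0, ha01⟩ := hne
  -- `E` acts on the kernel of `p`
  let K : Subgroup A := p.ker
  have hK : ∀ s ∈ E, ∀ a ∈ K, s • a ∈ K := by
    intro s hs a ha
    rw [MonoidHom.mem_ker] at ha ⊢
    rw [hp s (hEY hs), ha, smul_one]
  letI : MulAction ↥E ↥K :=
    { smul := fun s a => ⟨(s : Γ) • (a : A), hK s s.2 a a.2⟩
      one_smul := fun a => Subtype.ext (one_smul _ _)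
      mul_smul := fun s t a => Subtype.ext (mul_smul _ _ _) }
  haveI : Nontrivial ↥K := ⟨⟨⟨a0, ha0⟩, 1, fun h => ha01 (congrArg Subtype.val h)⟩⟩
  have hKp : IsPGroup 2 ↥K := h2A.to_subgroup K
  have hdvd : 2 ∣ Nat.card ↥K := by
    obtain ⟨n, hn, hn'⟩ := hKp.nontrivial_iff_card.mp inferInstance
    rw [hn']
    exact dvd_pow_self 2 hn.ne'
  have h1 : (1 : ↥K) ∈ MulAction.fixedPoints ↥E ↥K := by
    intro s
    exact Subtype.ext (smul_one _)
  obtain ⟨b, hb, hb1⟩ := h2E.exists_fixed_point_of_prime_dvd_card_of_fixed_point ↥K hdvd h1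
  apply hb1
  have h3 : ∀ s ∈ E, s • (b : A) = b := fun s hs => congrArg Subtype.val (hb ⟨s, hs⟩)
  have h4 := bar_eq hEY hp semi norm h3
  rw [hid] at h4
  have h5 : p (b : A) = 1 := b.2
  rw [h5] at h4
  exact (Subtype.ext h4).symm

end Main

end Cfsg.Agent.OddHalf.D4.Bary
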