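import Mathlib
import Cfsg.Agent.OddHalf.D4.BaryEnd

/-!
# ODD, D4, (1B): lines

`IsLine S l`: `l` elementary abelian of order at least four and `C_l(y) ∈ {1, l}` for every `y ∈ S`. A line of
`S ∩ K` normalizing the maximal group `E`, not contained in `E`, gives a contradiction if the conjugates of
`V₀ = Ω₁(Z(E)) ∩ C(K)` act on `K` as inner automorphisms. `no_maxE`: this is the case if `S = (S ∩ C)(S ∩ K)` and
`S ∩ K` has a central series generated by lines.
-/

set_option autoImplicit false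

namespace Cfsg.Agent.OddHalf.D4.Line

open Cfsg Subgroup Cfsg.Agent.OddHalf.D4 Cfsg.Agent.OddHalf.D4.Basic Cfsg.Agent.OddHalf.D4.BaryEnd
open Cfsg.Agent.OddHalf.D4.CommConj (Tight MaxE cj mem_cj mem_cj_mul exists_central_involution)

/-- A line of `S`. -/
structure IsLine {G : Type*} [Group G] (S l : Subgroup G) : Prop where
  sq : ∀ x ∈ l, x * x = 1
  card : 3 ≤ Nat.card ↥l
  star : ∀ y ∈ S, ∀ x ∈ l, x ≠ 1 → x * y = y * x → ∀ x' ∈ l, x' * y = y * x'

/-- A central series generated by lines. -/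
structure Filt {G : Type*} [Group G] (S : Subgroup G) (U : ℕ → Subgroup G) : Prop where
  zero : U 0 = S
  bot : ∃ n, U n = ⊥
  le : ∀ j, U (j + 1) ≤ U j
  comm : ∀ j, ∀ u ∈ U j, ∀ s ∈ S, s * u * s⁻¹ * u⁻¹ ∈ U (j + 1)
  gen : ∀ j, ∀ u ∈ U j, u ∈ closure ({x | ∃ l : Subgroup G, l ≤ U j ∧ IsLine S l ∧ x ∈ l} ∪ (U (j + 1) : Set G))

/-- The K-fact. -/
def LineFacts (X : Type*) [Group X] : Prop := ∀ S : Sylow 2 X, ∃ U : ℕ → Subgroup X, Filt (S : Subgroup X) U

section Line

variable {G : Type*} [Group G]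

theorem IsLine.comm {S l : Subgroup G} (h : IsLine S l) {x y : G} (hx : x ∈ l) (hy : y ∈ l) : x * y = y * x := by
  have h1 := h.sq _ (mul_mem hx hy)
  have h2 : x⁻¹ = x := inv_eq_of_mul_eq_one_right (h.sq x hx)
  have h3 : y⁻¹ = y := inv_eq_of_mul_eq_one_right (h.sq y hy)
  calc x * y = (x * y)⁻¹ := eq_inv_of_mul_eq_one_left h1
    _ = y * x := by rw [mul_inv_rev, h2, h3]

/-- two different nontrivial elements -/
theorem IsLine.exists_pair [Finite G] {S l : Subgroup G} (h : IsLine S l) :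
    ∃ a ∈ l, ∃ b ∈ l, a ≠ 1 ∧ b ≠ 1 ∧ a ≠ b := by
  by_contra hcon
  push Not at hcon
  have hcard := h.card
  have h1 : ∃ a ∈ l, a ≠ 1 := by
    by_contra h1
    push Not at h1
    have h2 : l = ⊥ := by rw [eq_bot_iff_forall]; exact h1
    rw [h2] at hcard
    simp at hcard
  obtain ⟨a, ha, ha1⟩ := h1
  have h2 : (l : Set G) ⊆ ({1, a} : Set G) := by
    intro b hb
    by_cases hb1 : b = 1
    · exact Or.inl hb1
    · exact Or.inr (hcon a ha b hb ha1 hb1).symm
  have h3 : Nat.card ↥l ≤ 2 := by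
    have h4 : (l : Set G).ncard ≤ ({1, a} : Set G).ncard := Set.ncard_le_ncard h2 (Set.toFinite _)
    have h5 : ({1, a} : Set G).ncard ≤ ({a} : Set G).ncard + 1 := Set.ncard_insert_le _ _
    rw [Set.ncard_singleton] at h5
    have h6 : Nat.card ↥l = (l : Set G).ncard := rfl
    omega
  omega

end Line

variable {G : Type*} [Group G] [Finite G] {K E Q : Subgroup G}

/-- **A line normalizing `E`.** -/
theorem false_of_line (ht : TightAt K) (hcen : ∀ x ∈ K, x ∈ centralizer (K : Set G) → x = 1)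
    (hE : MaxE (centralizer (K : Set G)) (normalizer (K : Set G)) E)
    (hQ : IsSyl Q (centralizer (K : Set G))) (hQE : Q ≤ E)
    (hinn : ∀ n ∈ normalizer (E : Set G), ∀ v ∈ omegaZ E (centralizer (K : Set G)),
      ∃ c ∈ centralizer (K : Set G), ∃ k ∈ K, n * v * n⁻¹ = c * k)
    {S l : Subgroup G} (hES : E ≤ S) (hl : IsLine (S ⊓ K) l) (hlK : l ≤ K)
    (hlN : l ≤ normalizer (E : Set G)) (hlE : ¬ l ≤ E) : False := by
  set N := normalizer (E : Set G) with hN
  set M := normalizer (K : Set G) with hM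
  set C := centralizer (K : Set G) with hC
  have hcomm : ∀ k ∈ K, ∀ c ∈ C, k * c = c * k := fun k hk c hc => mem_centralizer_iff.mp hc k hk
  have hKM : ∀ m ∈ M, ∀ k ∈ K, m * k * m⁻¹ ∈ K := fun m hm k hk => (mem_normalizer_iff.mp hm k).mp hk
  have hcjE : ∀ n ∈ N, ∀ x ∈ E, n * x * n⁻¹ ∈ E := fun n hn x hx => (mem_normalizer_iff.mp hn x).mp hx
  -- elements of the hull
  have hVZ : ∀ v ∈ hull N (omegaZ E C), v ∈ E ∧ v * v = 1 ∧ ∀ e ∈ E, e * v = v * e := by
    intro v hv
    have h1 : hull N (omegaZ E C) ≤ omegaZ E ⊤ := by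
      unfold hull
      rw [closure_le]
      rintro _ ⟨n, hn, x, hx, rfl⟩
      refine ⟨hcjE n hn x hx.1, mem_top _, ?_, ?_⟩
      · calc n * x * n⁻¹ * (n * x * n⁻¹) = n * (x * x) * n⁻¹ := by group
          _ = 1 := by rw [hx.2.2.1]; group
      · intro e he
        have h1 : n⁻¹ * e * n ∈ E := by
          have := hcjE n⁻¹ (inv_mem hn) e he
          rwa [inv_inv] at this
        have h2 := hx.2.2.2 _ h1
        calc e * (n * x * n⁻¹) = n * (n⁻¹ * e * n * x) * n⁻¹ := by group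
          _ = n * (x * (n⁻¹ * e * n)) * n⁻¹ := by rw [h2]
          _ = n * x * n⁻¹ * e := by group
    have h2 := h1 hv
    exact ⟨h2.1, h2.2.2.1, h2.2.2.2⟩
  have hdec : ∀ v ∈ hull N (omegaZ E C), ∃ c ∈ C, ∃ k ∈ K, v = c * k := by
    intro v hv
    have hv' : v ∈ closure {y | ∃ n ∈ N, ∃ x ∈ omegaZ E C, y = n * x * n⁻¹} := hv
    induction hv' using closure_induction with
    | mem x hx =>
      obtain ⟨n, hn, y, hy, rfl⟩ := hx
      exact hinn n hn y hy
    | one => exact ⟨1, one_mem _, 1, one_mem _, by simp⟩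
    | mul x y hx hy hx' hy' =>
      obtain ⟨c, hc, k, hk, rfl⟩ := hx' hx
      obtain ⟨c', hc', k', hk', rfl⟩ := hy' hy
      refine ⟨c * c', mul_mem hc hc', k * k', mul_mem hk hk', ?_⟩
      calc c * k * (c' * k') = c * (k * c') * k' := by group
        _ = c * (c' * k) * k' := by rw [hcomm k hk c' hc']
        _ = c * c' * (k * k') := by group
    | inv x hx hx' =>
      obtain ⟨c, hc, k, hk, rfl⟩ := hx' hx
      refine ⟨c⁻¹, inv_mem hc, k⁻¹, inv_mem hk, ?_⟩
      rw [mul_inv_rev, hcomm _ (inv_mem hk) _ (inv_mem hc)]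
  -- commutators of the hull with elements of `K ∩ N`
  have hbr : ∀ v ∈ hull N (omegaZ E C), ∀ x ∈ l, v * x * v⁻¹ * x⁻¹ ∈ hull N (omegaZ E C) ∧
      v * x * v⁻¹ * x⁻¹ ∈ S ⊓ K := by
    intro v hv x hx
    have h1 : v * x * v⁻¹ * x⁻¹ ∈ hull N (omegaZ E C) := by
      have e : v * x * v⁻¹ * x⁻¹ = v * (x * v⁻¹ * x⁻¹) := by group
      rw [e]
      exact mul_mem hv (hull_cj (hlN hx) (inv_mem hv))
    refine ⟨h1, hES (hVZ _ h1).1, ?_⟩
    exact K.mul_mem (hKM v (hE.le (hVZ v hv).1) x (hlK hx)) (K.inv_mem (hlK hx))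
  -- quadratic action
  have hquad : ∀ v ∈ hull N (omegaZ E C), ∀ x ∈ l, ∀ x' ∈ l,
      x' * (v * x * v⁻¹ * x⁻¹) = (v * x * v⁻¹ * x⁻¹) * x' := by
    intro v hv x hx x' hx'
    by_cases hx1 : x = 1
    · subst hx1; simp
    obtain ⟨h1, h2⟩ := hbr v hv x hx
    apply hl.star _ h2 x hx hx1 ?_ x' hx'
    -- `x` commutes with `[v, x]`
    obtain ⟨-, hsq, -⟩ := hVZ _ h1
    have hxx := hl.sq x hx
    have hvv := (hVZ v hv).2.1
    have e1 : v⁻¹ = v := inv_eq_of_mul_eq_one_right hvv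
    have e2 : x⁻¹ = x := inv_eq_of_mul_eq_one_right hxx
    have h3 : x * v * x⁻¹ ∈ E := hcjE x (hlN hx) v (hVZ v hv).1
    have h4 := (hVZ v hv).2.2 _ h3
    -- `x v x` commutes with `v`
    rw [e1, e2] at *
    calc x * (v * x * v * x) = (x * v * x * v) * x := by group
      _ = (v * (x * v * x)) * x := by rw [h4]
      _ = v * x * v * x * x := by group
  -- `l ∩ E = 1`
  have hle : ∀ t ∈ l, t ∈ E → t = 1 := by
    intro t htl htE
    by_contra ht1
    apply hlE
    intro x hx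
    obtain ⟨n, hn, hnM⟩ := hE.exists_norm
    obtain ⟨y, hyE, hyC, hy2⟩ := hE.exists_inv
    obtain ⟨z, hzE, hzC, hz2, hzc⟩ := exists_central_involution (S := E) (N := E ⊓ C) hE.isPGroup (by
        intro s hs n hn
        exact mem_inf.mpr ⟨mul_mem (mul_mem hs hn.1) (inv_mem hs), ht.norm s (hE.le hs) n hn.2⟩)
      ⟨y, hyE, ⟨hyE, hyC⟩, by rintro rfl; rw [orderOf_one] at hy2; exact absurd hy2 (by norm_num)⟩
    have hz : z ∈ omegaZ E C := ⟨hzE, hzC.2, by rw [← pow_two, ← hz2]; exact pow_orderOf_eq_one z, hzc⟩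
    have hv : n * z * n⁻¹ ∈ hull N (omegaZ E C) :=
      hull_cj hn (subset_closure ⟨1, one_mem _, z, hz, by group⟩)
    obtain ⟨c, hc, k, hk, hck⟩ := hdec _ hv
    obtain ⟨hvE, hv2, hvc⟩ := hVZ _ hv
    -- `c ∈ Q`, so `k ∈ S`
    have huniq : ∀ c ∈ C, ∀ k ∈ K, ∀ c' ∈ C, ∀ k' ∈ K, c * k = c' * k' → c = c' := by
      intro c hc k hk c' hc' k' hk' h
      have h1 : c'⁻¹ * c = k' * k⁻¹ := by
        calc c'⁻¹ * c = c'⁻¹ * (c * k) * k⁻¹ := by group
          _ = c'⁻¹ * (c' * k') * k⁻¹ := by rw [h]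
          _ = k' * k⁻¹ := by group
      have h2 := hcen _ (by rw [h1]; exact mul_mem hk' (inv_mem hk)) (mul_mem (inv_mem hc') hc)
      exact (inv_mul_eq_one.mp h2).symm
    have hkc := hcomm k hk c hc
    have hcc : c * c = 1 := by
      have h2 : c * c * (k * k) = 1 := by
        calc c * c * (k * k) = c * (c * k) * k := by group
          _ = c * (k * c) * k := by rw [hkc]
          _ = (c * k) * (c * k) := by group
          _ = 1 := by rw [← hck]; exact hv2
      exact huniq _ (mul_mem hc hc) _ (mul_mem hk hk) 1 (one_mem _) 1 (one_mem _) (by rw [h2, mul_one])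
    have hcE' : ∀ e ∈ E, e * c = c * e := by
      intro e he
      have h2 := hvc e he
      rw [hck] at h2
      have h3 : e * c * e⁻¹ * (e * k * e⁻¹) = c * k := by
        calc e * c * e⁻¹ * (e * k * e⁻¹) = e * (c * k) * e⁻¹ := by group
          _ = c * k * e * e⁻¹ := by rw [h2]
          _ = c * k := by group
      have h4 := huniq _ (ht.norm e (hE.le he) c hc) _ (hKM e (hE.le he) k hk) _ hc _ hk h3
      calc e * c = e * c * e⁻¹ * e := by group
        _ = c * e := by rw [h4]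
    have hcQ : c ∈ Q := by
      apply BaryEnd.mem_of_syl hQ hc ⟨1, by rw [pow_one, pow_two, hcc]⟩
      intro q hq
      rw [← hcE' q (hQE hq)]
      simpa using hq
    have hkS : k ∈ S ⊓ K := by
      refine mem_inf.mpr ⟨?_, hk⟩
      have h1 : k = c⁻¹ * (n * z * n⁻¹) := by rw [hck]; group
      rw [h1]
      exact hES (mul_mem (inv_mem (hQE hcQ)) hvE)
    -- `t` commutes with `k`
    have htk : t * k = k * t := by
      have h1 := hvc t htE
      rw [hck] at h1
      have h2 : t * c = c * t := hcomm t (hlK htl) c hc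
      have h3 : c * (t * k) = c * (k * t) := by
        calc c * (t * k) = (c * t) * k := by group
          _ = t * c * k := by rw [h2]
          _ = t * (c * k) := by group
          _ = c * k * t := h1
          _ = c * (k * t) := by group
      exact mul_left_cancel h3
    have hxk := hl.star k hkS t htl ht1 htk x hx
    have hxv : x * (n * z * n⁻¹) = n * z * n⁻¹ * x := by
      rw [hck]
      calc x * (c * k) = (x * c) * k := by group
        _ = (c * x) * k := by rw [hcomm x (hlK hx) c hc]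
        _ = c * (x * k) := by group
        _ = c * (k * x) := by rw [hxk]
        _ = c * k * x := by group
    refine hE.mem_of_comm ht hn hnM (r := n * z * n⁻¹) ?_ ?_ (hlN hx) (le_normalizer (hlK hx))
      ⟨1, by rw [pow_one, pow_two]; exact hl.sq x hx⟩ hxv
    · rw [Basic.orderOf_conj]; exact hz2
    · have e : n⁻¹ * (n * z * n⁻¹) * n = z := by group
      rw [e]; exact hzC.2
  obtain ⟨a, ha, b, hb, ha1, hb1, hne⟩ := hl.exists_pair
  refine maxE_false_inner ht hcen hE hQ hQE hinn hlK hlN ?_ hle ?_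
  · intro x
    exact ⟨1, Subtype.ext (by
      show (x : G) ^ 2 ^ 1 = 1
      rw [pow_one, pow_two]; exact hl.sq _ x.2)⟩
  · intro v hv
    refine ⟨a, ha, b, hb, hl.sq a ha, hl.sq b hb, hl.comm ha hb, ha1, hb1, hne, ?_⟩
    obtain ⟨hvE, hvv, hvc⟩ := hVZ v hv
    have hca := hquad v hv a ha b hb
    have e1 : v⁻¹ = v := inv_eq_of_mul_eq_one_right hvv
    have e2 : a⁻¹ = a := inv_eq_of_mul_eq_one_right (hl.sq a ha)
    have e3 : b⁻¹ = b := inv_eq_of_mul_eq_one_right (hl.sq b hb)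
    have hbb := hl.sq b hb
    have haa := hl.sq a ha
    -- `w = v a v a`, `b w = w b`
    have h5 : b * (v * a * v * a) = v * a * v * a * b := by
      rw [e1, e2] at hca; exact hca
    have h6 : v * a * v * a * (v * a * v * a) = 1 := by
      have h7 := (hVZ _ (hbr v hv a ha).1).2.1
      rwa [e1, e2] at h7
    rw [mul_inv_rev, e2, e3]
    calc v * (a * v * a) * (b * v * b) * (a * b * v * (b * a))
        = v * (a * v * a) * (b * v * (a * (b * b) * v * (b * a))) := by
          have h8 : a * b = b * a := hl.comm ha hb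
          have h9 : b * v * b * (a * b * v * (b * a)) = b * v * (b * (a * b) * v * (b * a)) := by group
          have h10 : b * (a * b) = a * (b * b) := by rw [← mul_assoc, ← h8, mul_assoc]
          rw [mul_assoc (v * (a * v * a)), h9, h10]
      _ = v * a * v * a * (b * (v * a * v) * (b * a)) := by rw [hbb]; group
      _ = v * a * v * a * (b * (v * a * v * a) * (a * (b * a))) := by
          have h11 : v * a * v = v * a * v * a * a := by rw [mul_assoc (v * a * v), haa, mul_one]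
          have h12 : b * (v * a * v) * (b * a) = b * (v * a * v * a) * (a * (b * a)) := by
            conv_lhs => rw [h11]
            group
          rw [h12]
      _ = v * a * v * a * (v * a * v * a * b * (a * (b * a))) := by rw [h5]
      _ = (v * a * v * a * (v * a * v * a)) * (b * (a * b) * a) := by group
      _ = 1 := by
          have h8 : a * b = b * a := hl.comm ha hb
          rw [h6, one_mul, h8, ← mul_assoc, hbb, one_mul, haa]

/-- **(1B) without outer part.** -/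
theorem no_maxE (ht : TightAt K) (hcen : ∀ x ∈ K, x ∈ centralizer (K : Set G) → x = 1)
    (hE : MaxE (centralizer (K : Set G)) (normalizer (K : Set G)) E)
    (hQ : IsSyl Q (centralizer (K : Set G))) (hQE : Q ≤ E)
    {S : Subgroup G} (hES : E ≤ S) (hSE : ¬ S ⊓ K ≤ E)
    (hSM : ∀ s ∈ S, ∃ c ∈ centralizer (K : Set G), ∃ k ∈ S ⊓ K, s = c * k)
    {U : ℕ → Subgroup G} (hU : Filt (S ⊓ K) U) : False := by
  classical
  have hcomm : ∀ k ∈ K, ∀ c ∈ centralizer (K : Set G), k * c = c * k :=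
    fun k hk c hc => mem_centralizer_iff.mp hc k hk
  have hex : ∃ j, U j ≤ E := by
    obtain ⟨n, hn⟩ := hU.bot
    exact ⟨n, by rw [hn]; exact bot_le⟩
  have h1 := Nat.find_spec hex
  have h2 : Nat.find hex ≠ 0 := by
    intro h
    rw [h, hU.zero] at h1
    exact hSE h1
  obtain ⟨j, hj⟩ := Nat.exists_eq_succ_of_ne_zero h2
  rw [hj] at h1
  have h3 : ¬ U j ≤ E := Nat.find_min hex (by omega)
  have hUS : ∀ i, U i ≤ S ⊓ K := by
    intro i
    induction i with
    | zero => exact hU.zero.le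
    | succ i ih => exact (hU.le i).trans ih
  -- a line of `U j` not in `E`
  have h4 : ∃ l : Subgroup G, l ≤ U j ∧ IsLine (S ⊓ K) l ∧ ¬ l ≤ E := by
    by_contra hcon
    push Not at hcon
    apply h3
    intro u hu
    have h5 := hU.gen j u hu
    have h6 : closure ({x | ∃ l : Subgroup G, l ≤ U j ∧ IsLine (S ⊓ K) l ∧ x ∈ l} ∪ (U (j + 1) : Set G)) ≤ E := by
      rw [closure_le]
      rintro x (⟨l, hl, hl', hx⟩ | hx)
      · exact hcon l hl hl' hx
      · exact h1 hx
    exact h6 h5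
  obtain ⟨l, hlU, hl, hlE⟩ := h4
  have hlK : l ≤ K := (hlU.trans (hUS j)).trans inf_le_right
  refine false_of_line ht hcen hE hQ hQE ?_ hES hl hlK ?_ hlE
  · intro n hn v hv
    have h5 : n * v * n⁻¹ ∈ E := (mem_normalizer_iff.mp hn v).mp hv.1
    obtain ⟨c, hc, k, hk, h6⟩ := hSM _ (hES h5)
    exact ⟨c, hc, k, hk.2, h6⟩
  · intro x hx
    apply mem_normalizer_fintype
    intro e he
    obtain ⟨c, hc, k, hk, rfl⟩ := hSM e (hES he)
    have h5 : k * x * k⁻¹ * x⁻¹ ∈ E := h1 (hU.comm j x (hlU hx) k hk)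
    -- `x e x⁻¹ = (x e x⁻¹ e⁻¹) e`
    have h6 : x * (c * k) * x⁻¹ = (k * x * k⁻¹ * x⁻¹)⁻¹ * (c * k) := by
      have h7 : x * c = c * x := hcomm x (hlK hx) c hc
      have h8 : k * x * k⁻¹ * x⁻¹ ∈ K := by
        have e : k * x * k⁻¹ * x⁻¹ = k * (x * k⁻¹ * x⁻¹) := by group
        rw [e]
        exact mul_mem hk.2 (mul_mem (mul_mem (hlK hx) (inv_mem hk.2)) (inv_mem (hlK hx)))
      have h9 : (k * x * k⁻¹ * x⁻¹)⁻¹ * c = c * (k * x * k⁻¹ * x⁻¹)⁻¹ := hcomm _ (inv_mem h8) c hc
      calc x * (c * k) * x⁻¹ = (x * c) * k * x⁻¹ := by group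
        _ = (c * x) * k * x⁻¹ := by rw [h7]
        _ = c * (k * x * k⁻¹ * x⁻¹)⁻¹ * k := by group
        _ = (k * x * k⁻¹ * x⁻¹)⁻¹ * c * k := by rw [h9]
        _ = (k * x * k⁻¹ * x⁻¹)⁻¹ * (c * k) := by group
    rw [h6]
    exact mul_mem (inv_mem h5) he

end Cfsg.Agent.OddHalf.D4.Line
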