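import Mathlib
import Cfsg.Agent.OddHalf.D4.BaryEnd

/-!
# ODD, D4: the barycentre lemma, general form

`V₀ ≤ C(K)` elementary abelian, `hull N V₀ = ⟨V₀^n : n ∈ N⟩` abelian, every conjugate of `V₀` in `V₀K`, `T ≤ K ∩ N`
a 2-group, semiregular on the conjugates `≠ V₀`, with vanishing four-group traces: contradiction.
-/

set_option autoImplicit false

namespace Cfsg.Agent.OddHalf.D4.BaryGen

open Cfsg Subgroup Cfsg.Agent.OddHalf.D4 Cfsg.Agent.OddHalf.D4.Basic Cfsg.Agent.OddHalf.D4.BaryEnd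

/-- **Barycentres.** -/
theorem hull_false {G : Type*} [Group G] [Finite G] {K M N V₀ T : Subgroup G}
    (hVK : ∀ x ∈ V₀, ∀ k ∈ K, k * x = x * k)
    (hcen : ∀ x ∈ K, x ∈ centralizer (K : Set G) → x = 1)
    (hKM : ∀ m ∈ M, ∀ k ∈ K, m * k * m⁻¹ ∈ K)
    (hV2 : ∀ v ∈ hull N V₀, v * v = 1)
    (hab : ∀ x ∈ hull N V₀, ∀ y ∈ hull N V₀, x * y = y * x)
    (hVN : ∀ n ∈ N, n ∈ M → ∀ x ∈ V₀, n * x * n⁻¹ ∈ V₀)
    (hdec0 : ∀ n ∈ N, ∀ v ∈ V₀, ∃ c ∈ V₀, ∃ k ∈ K, n * v * n⁻¹ = c * k)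
    (hend : ∃ n ∈ N, ∃ z ∈ V₀, n * z * n⁻¹ ∉ V₀)
    (hTK : T ≤ K) (hTN : T ≤ N) (hTM : T ≤ M) (hT2 : IsPGroup 2 ↥T)
    (semi : ∀ n ∈ N, n ∉ M → ∀ s ∈ T, n⁻¹ * s * n ∈ M → s = 1)
    (htr : ∀ v ∈ hull N V₀, ∃ a ∈ T, ∃ b ∈ T,
      a * a = 1 ∧ b * b = 1 ∧ a * b = b * a ∧ a ≠ 1 ∧ b ≠ 1 ∧ a ≠ b ∧
      v * (a * v * a⁻¹) * (b * v * b⁻¹) * (a * b * v * (a * b)⁻¹) = 1) : False := by
  classical
  set V := hull N V₀ with hV
  have hcomm : ∀ k ∈ K, ∀ c ∈ V₀, k * c = c * k := fun k hk c hc => hVK c hc k hk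
  have hV₀C : ∀ c ∈ V₀, c ∈ centralizer (K : Set G) := fun c hc => mem_centralizer_iff.mpr fun k hk => hcomm k hk c hc
  -- decompositions
  have huniq : ∀ c ∈ V₀, ∀ k ∈ K, ∀ c' ∈ V₀, ∀ k' ∈ K, c * k = c' * k' → c = c' := by
    intro c hc k hk c' hc' k' hk' h
    have h1 : c'⁻¹ * c = k' * k⁻¹ := by
      calc c'⁻¹ * c = c'⁻¹ * (c * k) * k⁻¹ := by group
        _ = c'⁻¹ * (c' * k') * k⁻¹ := by rw [h]
        _ = k' * k⁻¹ := by group
    have h2 := hcen _ (by rw [h1]; exact mul_mem hk' (inv_mem hk)) (hV₀C _ (mul_mem (inv_mem hc') hc))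
    exact (inv_mul_eq_one.mp h2).symm
  have hdec : ∀ v ∈ V, ∃ c ∈ V₀, ∃ k ∈ K, v = c * k := by
    intro v hv
    have hv' : v ∈ closure {y | ∃ n ∈ N, ∃ x ∈ V₀, y = n * x * n⁻¹} := hv
    induction hv' using closure_induction with
    | mem x hx =>
      obtain ⟨n, hn, y, hy, rfl⟩ := hx
      exact hdec0 n hn y hy
    | one => exact ⟨1, one_mem _, 1, one_mem _, by simp⟩
    | mul x y hx hy hx' hy' =>
      obtain ⟨c, hc, k, hk, rfl⟩ := hx' hx
      obtain ⟨c', hc', k', hk', rfl⟩ := hy' hy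
      refine ⟨c * c', mul_mem hc hc', k * k', mul_mem hk hk', ?_⟩
      calc c * k * (c' * k') = c * (k * c') * k' := by group
        _ = c * (c' * k) * k' := by rw [hcomm k hk c' hc']
        _ = c * c' * (k * k') := by group
    | inv x hx hx' =>
      obtain ⟨c, hc, k, hk, rfl⟩ := hx' hx
      refine ⟨c⁻¹, inv_mem hc, k⁻¹, inv_mem hk, ?_⟩
      rw [mul_inv_rev, hcomm _ (inv_mem hk) _ (inv_mem hc)]
  have hV₀V : V₀ ≤ V := fun x hx => subset_closure ⟨1, one_mem _, x, hx, by group⟩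
  -- the projection
  choose! pf hpf kf hkf hpk using hdec
  letI hcg : CommGroup ↥V := { (inferInstance : Group ↥V) with mul_comm := fun x y => Subtype.ext (hab x x.2 y y.2) }
  let p : ↥V →* ↥V :=
    { toFun := fun v => ⟨pf v, hV₀V (hpf v v.2)⟩
      map_one' := Subtype.ext (by
        show pf ((1 : ↥V) : G) = 1
        have h1 := hpk _ (1 : ↥V).2
        exact huniq _ (hpf _ (1 : ↥V).2) _ (hkf _ (1 : ↥V).2) 1 (one_mem _) 1 (one_mem _)
          (by rw [← h1]; simp))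
      map_mul' := fun x y => Subtype.ext (by
        show pf ((x * y : ↥V) : G) = pf x * pf y
        have h1 := hpk _ (x * y).2
        have hx := hpk _ x.2
        have hy := hpk _ y.2
        refine huniq _ (hpf _ (x * y).2) _ (hkf _ (x * y).2) _
          (mul_mem (hpf _ x.2) (hpf _ y.2)) (kf x * kf y) (mul_mem (hkf _ x.2) (hkf _ y.2)) ?_
        rw [← h1]
        show (x : G) * y = _
        conv_lhs => rw [hx, hy]
        calc pf x * kf x * (pf y * kf y) = pf x * (kf x * pf y) * kf y := by group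
          _ = pf x * (pf y * kf x) * kf y := by rw [hcomm _ (hkf _ x.2) _ (hpf _ y.2)]
          _ = pf x * pf y * (kf x * kf y) := by group) }
  letI hact : MulDistribMulAction ↥N ↥V := conjAct N V (fun n hn v hv => hull_cj hn hv)
  have hsmul : ∀ (n : ↥N) (v : ↥V), ((n • v : ↥V) : G) = n * v * (n : G)⁻¹ := fun _ _ => rfl
  have hp : ∀ y ∈ M.subgroupOf N, ∀ a : ↥V, p (y • a) = y • p a := by
    intro y hy a
    have hyM : (y : G) ∈ M := mem_subgroupOf.mp hy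
    apply Subtype.ext
    rw [hsmul]
    show pf ((y • a : ↥V) : G) = y * pf a * (y : G)⁻¹
    have h1 := hpk _ (y • a : ↥V).2
    have h2 := hpk _ a.2
    refine huniq _ (hpf _ (y • a : ↥V).2) _ (hkf _ (y • a : ↥V).2) _
      (hVN _ y.2 hyM _ (hpf _ a.2)) ((y : G) * kf a * (y : G)⁻¹) (hKM _ hyM _ (hkf _ a.2)) ?_
    rw [← h1, hsmul]
    conv_lhs => rw [h2]
    group
  have hT : T.subgroupOf N ≤ M.subgroupOf N := by
    intro t ht'
    exact mem_subgroupOf.mpr (hTM (mem_subgroupOf.mp ht'))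
  letI hfT : Fintype ↥(T.subgroupOf N) := Fintype.ofFinite _
  have hT2' : IsPGroup 2 ↥(T.subgroupOf N) := hT2.comap_subtype
  have hpe : ∀ t ∈ T, ∃ k : ℕ, t ^ 2 ^ k = 1 := by
    intro t ht'
    obtain ⟨k, hk⟩ := hT2 ⟨t, ht'⟩
    exact ⟨k, congrArg Subtype.val hk⟩
  have hVp : IsPGroup 2 ↥V := by
    intro v
    exact ⟨1, Subtype.ext (by
      show (v : G) ^ 2 ^ 1 = 1
      rw [pow_one, pow_two]; exact hV2 _ v.2)⟩
  have hfix : ∀ s ∈ T.subgroupOf N, ∀ a : ↥V, s • p a = p a := by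
    intro s hs a
    apply Subtype.ext
    rw [hsmul]
    show (s : G) * pf a * (s : G)⁻¹ = pf a
    rw [hcomm _ (hTK (mem_subgroupOf.mp hs)) _ (hpf _ a.2)]
    group
  have hpV₀ : ∀ x (hx : x ∈ V₀), p ⟨x, hV₀V hx⟩ = ⟨x, hV₀V hx⟩ := by
    intro x hx
    apply Subtype.ext
    show pf x = x
    have h1 := hpk x (hV₀V hx)
    exact huniq _ (hpf _ (hV₀V hx)) _ (hkf _ (hV₀V hx)) _ hx 1 (one_mem _) (by rw [← h1, mul_one])
  have key := Bary.ker_eq_bot (Γ := ↥N) (A := ↥V) (Y := M.subgroupOf N) (E := T.subgroupOf N) hT hp (by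
      intro g hg s hs hgs
      apply Subtype.ext
      exact semi _ g.2 (fun h => hg (mem_subgroupOf.mpr h)) _ (mem_subgroupOf.mp hs) (mem_subgroupOf.mp hgs)) (by
      intro v
      obtain ⟨a, ha, b, hb, ha2, hb2, hab', ha1, hb1, hne, htr'⟩ := htr v v.2
      have haN : a ∈ N := hTN ha
      have hbN : b ∈ N := hTN hb
      let a' : ↥(T.subgroupOf N) := ⟨⟨a, haN⟩, mem_subgroupOf.mpr ha⟩
      let b' : ↥(T.subgroupOf N) := ⟨⟨b, hbN⟩, mem_subgroupOf.mpr hb⟩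
      exact prod_smul_eq_one (Y := ↥(T.subgroupOf N)) (V := ↥V) (a := a') (b := b')
        (Subtype.ext (Subtype.ext ha2)) (Subtype.ext (Subtype.ext hb2)) (Subtype.ext (Subtype.ext hab'))
        (fun h => ha1 (congrArg (fun z : ↥(T.subgroupOf N) => ((z : ↥N) : G)) h))
        (fun h => hb1 (congrArg (fun z : ↥(T.subgroupOf N) => ((z : ↥N) : G)) h))
        (fun h => hne (congrArg (fun z : ↥(T.subgroupOf N) => ((z : ↥N) : G)) h))
        (v := v) (Subtype.ext htr')) hVp hT2' (by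
      intro a
      exact hpV₀ _ (hpf _ a.2)) hfix (by
      intro H hH
      rw [Subgroup.eq_top_iff']
      have h1 : V ≤ H.map V.subtype := by
        refine (Subgroup.closure_le (H.map V.subtype)).mpr ?_
        rintro _ ⟨n, hn, x, hx, rfl⟩
        refine ⟨(⟨n, hn⟩ : ↥N) • p ⟨x, hV₀V hx⟩, hH _ _, ?_⟩
        rw [hpV₀ x hx]
        rfl
      intro v
      obtain ⟨w, hw, hwv⟩ := h1 v.2
      have : w = v := Subtype.ext hwv
      rwa [← this])
  -- conclusion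
  obtain ⟨n, hn, z, hz, hnz⟩ := hend
  have hv : n * z * n⁻¹ ∈ V := hull_cj hn (hV₀V hz)
  have h1 : p (⟨n * z * n⁻¹, hv⟩ * (p ⟨n * z * n⁻¹, hv⟩)⁻¹) = 1 := by
    rw [map_mul, map_inv]
    have h2 : p (p ⟨n * z * n⁻¹, hv⟩) = p ⟨n * z * n⁻¹, hv⟩ := hpV₀ _ (hpf _ hv)
    rw [h2, mul_inv_cancel]
  have h2 := key _ h1
  have h3 : n * z * n⁻¹ = pf (n * z * n⁻¹) := by
    have h4 := mul_inv_eq_one.mp h2
    exact congrArg Subtype.val h4
  exact hnz (by rw [h3]; exact hpf _ hv)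

end Cfsg.Agent.OddHalf.D4.BaryGen
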