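import Mathlib
import Cfsg.Agent.OddHalf.D4.BaryGen
import Cfsg.Agent.OddHalf.D4.Line

/-!
# ODD, D4: pairs with maximal `K`-part

`KMaxE K F`: `F` is a maximal 2-subgroup with `N(F) ≰ N(K)` (`MaxE`), and `|F ∩ K|` is maximal among all 2-groups
`F' ≤ N(K) ∩ N(K)^g`, `g ∉ N(K)`, with involutions in `C(K)` and `C(K)^g`. Then the fusion arguments work for every
`E₁ ≤ F` with `E₁ ∩ K = F ∩ K` (instead of `F`).
-/

set_option autoImplicit false

namespace Cfsg.Agent.OddHalf.D4.KMax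

open Cfsg Subgroup Cfsg.Agent.OddHalf.D4 Cfsg.Agent.OddHalf.D4.Basic Cfsg.Agent.OddHalf.D4.BaryEnd
open Cfsg.Agent.OddHalf.D4.Line Cfsg.Agent.OddHalf.D4.BaryGen
open Cfsg.Agent.OddHalf.D4.CommConj (Tight MaxE cj mem_cj mem_cj_mul exists_central_involution cj_mul card_cj
  cj_eq_of_mem_normalizer mem_normalizer_of_cj_eq)

variable {G : Type*} [Group G]

/-- `F` is a 2-subgroup of `N(K) ∩ N(K)^g`, `g ∉ N(K)`, with involutions in `C(K)` and `C(K)^g`. -/
structure Pair (K F : Subgroup G) (g : G) : Prop where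
  notMem : g ∉ normalizer (K : Set G)
  two : IsPGroup 2 ↥F
  le : F ≤ normalizer (K : Set G)
  le' : F ≤ cj g (normalizer (K : Set G))
  inv : ∃ x ∈ F, x ∈ centralizer (K : Set G) ∧ orderOf x = 2
  inv' : ∃ x ∈ F, x ∈ cj g (centralizer (K : Set G)) ∧ orderOf x = 2

/-- Maximal `K`-part. -/
structure KMaxE (K F : Subgroup G) : Prop where
  maxE : MaxE (centralizer (K : Set G)) (normalizer (K : Set G)) F
  kmax : ∀ (g : G) (F' : Subgroup G), Pair K F' g → Nat.card ↥(F' ⊓ K : Subgroup G) ≤ Nat.card ↥(F ⊓ K : Subgroup G)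

theorem pair_of_normalizer {K P : Subgroup G} {a : G} (hP : IsPGroup 2 ↥P) (hle : P ≤ normalizer (K : Set G))
    (ha : a ∈ normalizer (P : Set G)) (haM : a ∉ normalizer (K : Set G))
    (hinv : ∃ x ∈ P, x ∈ centralizer (K : Set G) ∧ orderOf x = 2) : Pair K P a := by
  refine ⟨haM, hP, hle, ?_, hinv, ?_⟩
  · conv_lhs => rw [← cj_eq_of_mem_normalizer ha]
    exact map_mono hle
  · obtain ⟨x, hx, hxC, hx2⟩ := hinv
    exact ⟨a * x * a⁻¹, (mem_normalizer_iff.mp ha x).mp hx, mem_cj_mul hxC, by rw [Basic.orderOf_conj]; exact hx2⟩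

theorem exists_kmaxE [Finite G] {K F' : Subgroup G} {g' : G} (h : Pair K F' g') : ∃ F, KMaxE K F := by
  classical
  let f : Subgroup G → ℕ := fun F => Nat.card ↥(F ⊓ K : Subgroup G) * (Nat.card G + 1) + Nat.card ↥F
  let 𝓟 : Set (Subgroup G) := {F | ∃ g, Pair K F g}
  have hne : Nonempty 𝓟 := ⟨⟨F', g', h⟩⟩
  have hfin : Finite 𝓟 := inferInstance
  obtain ⟨⟨F, g, hF⟩, hmax⟩ := Finite.exists_max (fun F : 𝓟 => f F)
  have hcard : ∀ H : Subgroup G, Nat.card ↥H ≤ Nat.card G := fun H => Subgroup.card_le_card_group H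
  have hmax' : ∀ (g : G) (F' : Subgroup G), Pair K F' g → f F' ≤ f F := fun g F' h' => hmax ⟨F', g, h'⟩
  have hlt : ∀ (g : G) (P : Subgroup G), Pair K P g → F ≤ P → P = F := by
    intro g P hP hle
    have h1 := hmax' g P hP
    have h2 : Nat.card ↥(F ⊓ K : Subgroup G) ≤ Nat.card ↥(P ⊓ K : Subgroup G) :=
      card_le_of_le (inf_le_inf_right K hle)
    have h3 : Nat.card ↥P ≤ Nat.card ↥F := by
      by_contra hcon
      push Not at hcon
      have h4 : Nat.card ↥(F ⊓ K : Subgroup G) * (Nat.card G + 1) ≤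
          Nat.card ↥(P ⊓ K : Subgroup G) * (Nat.card G + 1) := Nat.mul_le_mul_right _ h2
      have h5 : f P = Nat.card ↥(P ⊓ K : Subgroup G) * (Nat.card G + 1) + Nat.card ↥P := rfl
      have h6 : f F = Nat.card ↥(F ⊓ K : Subgroup G) * (Nat.card G + 1) + Nat.card ↥F := rfl
      omega
    exact (eq_of_le_of_card_ge hle h3).symm
  have hnorm : ∃ a ∈ normalizer (F : Set G), a ∉ normalizer (K : Set G) := by
    by_contra hcon
    push Not at hcon
    have hcon' : normalizer (F : Set G) ≤ normalizer (K : Set G) := hcon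
    -- `F` is Sylow in `M^g`
    have hS1 : IsSyl F (cj g (normalizer (K : Set G))) := by
      refine ⟨hF.two, hF.le', ?_⟩
      intro P hP hFP hPM
      have h1 : normalizer (F : Set G) ⊓ P ≤ F := by
        have h2 : Pair K (normalizer (F : Set G) ⊓ P) g := by
          refine ⟨hF.notMem, hP.to_le inf_le_right, inf_le_left.trans hcon', inf_le_right.trans hPM, ?_, ?_⟩
          · obtain ⟨x, hx, h3⟩ := hF.inv
            exact ⟨x, ⟨le_normalizer hx, hFP hx⟩, h3⟩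
          · obtain ⟨x, hx, h3⟩ := hF.inv'
            exact ⟨x, ⟨le_normalizer hx, hFP hx⟩, h3⟩
        exact (hlt g _ h2 (le_inf le_normalizer hFP)).le
      exact (Cfsg.Agent.Blocks.SylowIn.eq_of_normalizer_inf_le hP hFP h1).le
    have hS2 : IsSyl F (normalizer (K : Set G)) := by
      obtain ⟨T, hT, hFT⟩ := exists_isSyl hF.two hF.le
      have h1 : IsSyl (cj g T) (cj g (normalizer (K : Set G))) := hT.cj g
      have h2 : Nat.card ↥T ≤ Nat.card ↥F := by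
        obtain ⟨m, hm, hmq⟩ := hS1.conj_into h1.two h1.le
        have h3 : cj m (cj g T) ≤ F := by
          rintro _ ⟨q, hq, rfl⟩
          exact hmq q hq
        have h4 := card_le_of_le h3
        rwa [card_cj, card_cj] at h4
      have h3 : F = T := eq_of_le_of_card_ge hFT h2
      rw [h3]; exact hT
    -- conjugate
    have h1 : IsPGroup 2 ↥(cj g⁻¹ F) := hF.two.map _
    have h2 : cj g⁻¹ F ≤ normalizer (K : Set G) := by
      intro x hx
      rw [mem_cj, inv_inv] at hx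
      have h3 := mem_cj.mp (hF.le' hx)
      have e : g⁻¹ * (g * x * g⁻¹) * g = x := by group
      rwa [e] at h3
    obtain ⟨m, hm, hmq⟩ := hS2.conj_into h1 h2
    have h3 : m * g⁻¹ ∈ normalizer (F : Set G) := by
      apply mem_normalizer_fintype
      intro x hx
      have h4 := hmq (g⁻¹ * x * g) (by
        rw [mem_cj]
        have e : g⁻¹⁻¹ * (g⁻¹ * x * g) * g⁻¹ = x := by group
        rw [e]; exact hx)
      have e : m * (g⁻¹ * x * g) * m⁻¹ = m * g⁻¹ * x * (m * g⁻¹)⁻¹ := by group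
      rwa [e] at h4
    apply hF.notMem
    have h4 := mul_mem (inv_mem hm) (hcon' h3)
    have e : m⁻¹ * (m * g⁻¹) = g⁻¹ := by group
    rw [e] at h4
    exact (inv_mem_iff).mp h4
  refine ⟨F, ⟨hF.two, hF.le, hF.inv, hnorm, ?_⟩, ?_⟩
  · intro P hP hFP hPM a ha
    by_contra haM
    have h1 : Pair K P a := pair_of_normalizer hP hPM ha haM (by
      obtain ⟨x, hx, h2⟩ := hF.inv
      exact ⟨x, hFP.le hx, h2⟩)
    have h2 := hlt a P h1 hFP.le
    exact hFP.ne h2.symm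
  · intro g F' h'
    have h1 := hmax' g F' h'
    by_contra hcon
    push Not at hcon
    have h4 : (Nat.card ↥(F ⊓ K : Subgroup G) + 1) * (Nat.card G + 1) ≤
        Nat.card ↥(F' ⊓ K : Subgroup G) * (Nat.card G + 1) := Nat.mul_le_mul_right _ hcon
    have h5 : f F' = Nat.card ↥(F' ⊓ K : Subgroup G) * (Nat.card G + 1) + Nat.card ↥F' := rfl
    have h6 : f F = Nat.card ↥(F ⊓ K : Subgroup G) * (Nat.card G + 1) + Nat.card ↥F := rfl
    have h7 := hcard F
    rw [add_mul, one_mul] at h4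
    omega

/-- quadratic action gives vanishing traces -/
theorem trace_of_quad {v a b : G} (hvv : v * v = 1) (h6' : v * a * v⁻¹ * a⁻¹ * (v * a * v⁻¹ * a⁻¹) = 1)
    (haa : a * a = 1) (hbb : b * b = 1) (h8 : a * b = b * a)
    (hca : b * (v * a * v⁻¹ * a⁻¹) = v * a * v⁻¹ * a⁻¹ * b) :
    v * (a * v * a⁻¹) * (b * v * b⁻¹) * (a * b * v * (a * b)⁻¹) = 1 := by
  have e1 : v⁻¹ = v := inv_eq_of_mul_eq_one_right hvv
  have e2 : a⁻¹ = a := inv_eq_of_mul_eq_one_right haa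
  have e3 : b⁻¹ = b := inv_eq_of_mul_eq_one_right hbb
  have h5 : b * (v * a * v * a) = v * a * v * a * b := by
    rw [e1, e2] at hca; exact hca
  have h6 : v * a * v * a * (v * a * v * a) = 1 := by
    rw [e1, e2] at h6'; exact h6'
  rw [mul_inv_rev, e2, e3]
  calc v * (a * v * a) * (b * v * b) * (a * b * v * (b * a))
      = v * (a * v * a) * (b * v * (a * (b * b) * v * (b * a))) := by
        have h9 : b * v * b * (a * b * v * (b * a)) = b * v * (b * (a * b) * v * (b * a)) := by group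
        have h10 : b * (a * b) = a * (b * b) := by rw [← mul_assoc, ← h8, mul_assoc]
        rw [mul_assoc (v * (a * v * a)), h9, h10]
    _ = v * a * v * a * (b * (v * a * v) * (b * a)) := by rw [hbb]; group
    _ = v * a * v * a * (b * (v * a * v * a) * (a * (b * a))) := by
        have h11 : v * a * v = v * a * v * a * a := by rw [mul_assoc (v * a * v), haa, mul_one]
        have h12 : b * (v * a * v) * (b * a) = b * (v * a * v * a) * (a * (b * a)) := by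
          conv_lhs => rw [h11]
          group
        rw [h12]
    _ = v * a * v * a * (v * a * v * a * b * (a * (b * a))) := by rw [h5]
    _ = (v * a * v * a * (v * a * v * a)) * (b * (a * b) * a) := by group
    _ = 1 := by rw [h6, one_mul, h8, ← mul_assoc, hbb, one_mul, haa]

/-- the hull of `Ω₁(Z(E)) ∩ C` lies in `Ω₁(Z(E))` -/
theorem hull_omegaZ {E C : Subgroup G} : ∀ v ∈ hull (normalizer (E : Set G)) (omegaZ E C),
    v ∈ E ∧ v * v = 1 ∧ ∀ e ∈ E, e * v = v * e := by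
  have hcjE : ∀ n ∈ normalizer (E : Set G), ∀ x ∈ E, n * x * n⁻¹ ∈ E :=
    fun n hn x hx => (mem_normalizer_iff.mp hn x).mp hx
  intro v hv
  have h1 : hull (normalizer (E : Set G)) (omegaZ E C) ≤ omegaZ E ⊤ := by
    unfold hull
    rw [closure_le]
    rintro _ ⟨n, hn, x, hx, rfl⟩
    refine ⟨hcjE n hn x hx.1, mem_top _, ?_, ?_⟩
    · calc n * x * n⁻¹ * (n * x * n⁻¹) = n * (x * x) * n⁻¹ := by group
        _ = 1 := by rw [hx.2.2.1]; group
    · intro e he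
      have h1 : n⁻¹ * e * n ∈ E := by
        have := hcjE n⁻¹ (inv_mem hn) e he
        rwa [inv_inv] at this
      have h2 := hx.2.2.2 _ h1
      calc e * (n * x * n⁻¹) = n * (n⁻¹ * e * n * x) * n⁻¹ := by group
        _ = n * (x * (n⁻¹ * e * n)) * n⁻¹ := by rw [h2]
        _ = n * x * n⁻¹ * e := by group
  have h2 := h1 hv
  exact ⟨h2.1, h2.2.2.1, h2.2.2.2⟩

/-- the `C(K)`-component of an element of `Ω₁(Z(E))` -/
theorem comp_omegaZ [Finite G] {K E Q : Subgroup G} (ht : TightAt K)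
    (hcen : ∀ x ∈ K, x ∈ centralizer (K : Set G) → x = 1) (hQ : IsSyl Q (centralizer (K : Set G))) (hQE : Q ≤ E)
    (hEM : E ≤ normalizer (K : Set G)) {c k : G} (hc : c ∈ centralizer (K : Set G)) (hk : k ∈ K)
    (_hvE : c * k ∈ E) (hv2 : c * k * (c * k) = 1) (hvc : ∀ e ∈ E, e * (c * k) = c * k * e) :
    c ∈ omegaZ E (centralizer (K : Set G)) := by
  have hcomm : ∀ k ∈ K, ∀ c ∈ centralizer (K : Set G), k * c = c * k :=
    fun k hk c hc => mem_centralizer_iff.mp hc k hk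
  have hKM : ∀ m ∈ normalizer (K : Set G), ∀ k ∈ K, m * k * m⁻¹ ∈ K :=
    fun m hm k hk => (mem_normalizer_iff.mp hm k).mp hk
  have huniq : ∀ c ∈ centralizer (K : Set G), ∀ k ∈ K, ∀ c' ∈ centralizer (K : Set G), ∀ k' ∈ K,
      c * k = c' * k' → c = c' := by
    intro c hc k hk c' hc' k' hk' h
    have h1 : c'⁻¹ * c = k' * k⁻¹ := by
      calc c'⁻¹ * c = c'⁻¹ * (c * k) * k⁻¹ := by group
        _ = c'⁻¹ * (c' * k') * k⁻¹ := by rw [h]
        _ = k' * k⁻¹ := by group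
    have h2 := hcen _ (by rw [h1]; exact mul_mem hk' (inv_mem hk)) (mul_mem (inv_mem hc') hc)
    exact (inv_mul_eq_one.mp h2).symm
  have hkc := hcomm k hk c hc
  have hcc : c * c = 1 := by
    have h2 : c * c * (k * k) = 1 := by
      calc c * c * (k * k) = c * (c * k) * k := by group
        _ = c * (k * c) * k := by rw [hkc]
        _ = (c * k) * (c * k) := by group
        _ = 1 := hv2
    exact huniq _ (mul_mem hc hc) _ (mul_mem hk hk) 1 (one_mem _) 1 (one_mem _) (by rw [h2, mul_one])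
  have hcE' : ∀ e ∈ E, e * c = c * e := by
    intro e he
    have h2 := hvc e he
    have h3 : e * c * e⁻¹ * (e * k * e⁻¹) = c * k := by
      calc e * c * e⁻¹ * (e * k * e⁻¹) = e * (c * k) * e⁻¹ := by group
        _ = c * k * e * e⁻¹ := by rw [h2]
        _ = c * k := by group
    have h4 := huniq _ (ht.norm e (hEM he) c hc) _ (hKM e (hEM he) k hk) _ hc _ hk h3
    calc e * c = e * c * e⁻¹ * e := by group
      _ = c * e := by rw [h4]
  have hcQ : c ∈ Q := by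
    apply BaryEnd.mem_of_syl hQ hc ⟨1, by rw [pow_one, pow_two, hcc]⟩
    intro q hq
    rw [← hcE' q (hQE hq)]
    simpa using hq
  exact ⟨hQE hcQ, hc, hcc, hcE'⟩

section

variable [Finite G] {K F E₁ Q : Subgroup G}

/-- **semiregularity for `E₁`** -/
theorem KMaxE.semi (h : KMaxE K F) (hle : E₁ ≤ F) (hFK : F ⊓ K ≤ E₁)
    (hinv : ∃ x ∈ E₁, x ∈ centralizer (K : Set G) ∧ orderOf x = 2) {n s : G}
    (hn : n ∈ normalizer (E₁ : Set G)) (hnM : n ∉ normalizer (K : Set G)) (hsN : s ∈ normalizer (E₁ : Set G))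
    (hsK : s ∈ K) (hs2 : ∃ k : ℕ, s ^ 2 ^ k = 1) (hns : n⁻¹ * s * n ∈ normalizer (K : Set G)) : s ∈ E₁ := by
  have hsp : IsPGroup 2 ↥(zpowers s) := by
    obtain ⟨k, hk⟩ := hs2
    rw [IsPGroup.iff_card]
    obtain ⟨m, -, hm⟩ := (Nat.dvd_prime_pow Nat.prime_two).mp (orderOf_dvd_of_pow_eq_one hk)
    exact ⟨m, by rw [Nat.card_zpowers, hm]⟩
  have hE2 : IsPGroup 2 ↥E₁ := h.maxE.isPGroup.to_le hle
  have hP : Pair K (E₁ ⊔ zpowers s) n := by
    have h1 : E₁ ≤ cj n (normalizer (K : Set G)) := by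
      conv_lhs => rw [← cj_eq_of_mem_normalizer hn]
      exact map_mono (hle.trans h.maxE.le)
    refine ⟨hnM, hE2.to_sup_of_normal_left' hsp (zpowers_le.mpr hsN),
      sup_le (hle.trans h.maxE.le) (zpowers_le.mpr (le_normalizer hsK)),
      sup_le h1 (zpowers_le.mpr (mem_cj.mpr hns)), ?_, ?_⟩
    · obtain ⟨x, hx, h2⟩ := hinv
      exact ⟨x, mem_sup_left hx, h2⟩
    · obtain ⟨x, hx, hxC, hx2⟩ := hinv
      exact ⟨n * x * n⁻¹, mem_sup_left ((mem_normalizer_iff.mp hn x).mp hx), mem_cj_mul hxC,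
        by rw [Basic.orderOf_conj]; exact hx2⟩
  have h1 := h.kmax n _ hP
  have h2 : F ⊓ K ≤ (E₁ ⊔ zpowers s) ⊓ K := le_inf (hFK.trans le_sup_left) inf_le_right
  have h3 := eq_of_le_of_card_ge h2 h1
  have h4 : s ∈ F ⊓ K := by
    rw [h3]
    exact ⟨mem_sup_right (mem_zpowers s), hsK⟩
  exact hFK h4

/-- **general form**: `V₀ ≤ E₁ ∩ C(K)` -/
theorem KMaxE.false_of_trace (h : KMaxE K F) (ht : TightAt K)
    (hcen : ∀ x ∈ K, x ∈ centralizer (K : Set G) → x = 1) (hle : E₁ ≤ F) (hFK : F ⊓ K ≤ E₁)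
    (hend : ∃ n ∈ normalizer (E₁ : Set G), n ∉ normalizer (K : Set G))
    {V₀ : Subgroup G} (hV₀E : V₀ ≤ E₁) (hV₀C : V₀ ≤ centralizer (K : Set G)) (hV₀ : V₀ ≠ ⊥)
    (hV2 : ∀ v ∈ hull (normalizer (E₁ : Set G)) V₀, v * v = 1)
    (hab : ∀ x ∈ hull (normalizer (E₁ : Set G)) V₀, ∀ y ∈ hull (normalizer (E₁ : Set G)) V₀, x * y = y * x)
    (hVN : ∀ n ∈ normalizer (E₁ : Set G), n ∈ normalizer (K : Set G) → ∀ x ∈ V₀, n * x * n⁻¹ ∈ V₀)
    (hdec : ∀ n ∈ normalizer (E₁ : Set G), ∀ v ∈ V₀, ∃ c ∈ V₀, ∃ k ∈ K, n * v * n⁻¹ = c * k)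
    {T : Subgroup G} (hTK : T ≤ K) (hTN : T ≤ normalizer (E₁ : Set G)) (hT2 : IsPGroup 2 ↥T)
    (hTE : ∀ t ∈ T, t ∈ E₁ → t = 1)
    (htr : ∀ v ∈ hull (normalizer (E₁ : Set G)) V₀, ∃ a ∈ T, ∃ b ∈ T,
      a * a = 1 ∧ b * b = 1 ∧ a * b = b * a ∧ a ≠ 1 ∧ b ≠ 1 ∧ a ≠ b ∧
      v * (a * v * a⁻¹) * (b * v * b⁻¹) * (a * b * v * (a * b)⁻¹) = 1) : False := by
  have hv2 : ∀ v ∈ V₀, v * v = 1 := fun v hv => hV2 v (subset_closure ⟨1, one_mem _, v, hv, by group⟩)
  obtain ⟨z, hz, hz1⟩ := (Subgroup.bot_or_exists_ne_one V₀).resolve_left hV₀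
  have hz2 : orderOf z = 2 := orderOf_eq_prime (by rw [pow_two]; exact hv2 z hz) hz1
  have hinv : ∃ x ∈ E₁, x ∈ centralizer (K : Set G) ∧ orderOf x = 2 := ⟨z, hV₀E hz, hV₀C hz, hz2⟩
  refine hull_false (K := K) (M := normalizer (K : Set G)) (N := normalizer (E₁ : Set G)) (V₀ := V₀) (T := T)
    ?_ hcen ?_ hV2 hab hVN hdec ?_ hTK hTN (hTK.trans le_normalizer) hT2 ?_ htr
  · intro x hx k hk
    exact mem_centralizer_iff.mp (hV₀C hx) k hk
  · intro m hm k hk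
    exact (mem_normalizer_iff.mp hm k).mp hk
  · obtain ⟨n, hn, hnM⟩ := hend
    refine ⟨n, hn, z, hz, ?_⟩
    intro h1
    exact hnM (ht.tight n z (hV₀C hz) hz2 (hV₀C h1))
  · intro n hn hnM s hs hns
    apply hTE s hs
    obtain ⟨k, hk⟩ := hT2 ⟨s, hs⟩
    exact h.semi hle hFK hinv hn hnM (hTN hs) (hTK hs) ⟨k, congrArg Subtype.val hk⟩ hns

/-- **a line normalizing `E₁`**, general `V₀` centralized by `Q`, `Q ≤ E₁` a Sylow 2-subgroup of `C(K)`. -/
theorem KMaxE.false_of_line (h : KMaxE K F) (ht : TightAt K)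
    (hcen : ∀ x ∈ K, x ∈ centralizer (K : Set G) → x = 1) (hle : E₁ ≤ F) (hFK : F ⊓ K ≤ E₁)
    (hend : ∃ n ∈ normalizer (E₁ : Set G), n ∉ normalizer (K : Set G))
    {V₀ : Subgroup G} (hV₀E : V₀ ≤ E₁) (hV₀C : V₀ ≤ centralizer (K : Set G)) (hV₀ : V₀ ≠ ⊥)
    (hV2 : ∀ v ∈ hull (normalizer (E₁ : Set G)) V₀, v * v = 1)
    (hab : ∀ x ∈ hull (normalizer (E₁ : Set G)) V₀, ∀ y ∈ hull (normalizer (E₁ : Set G)) V₀, x * y = y * x)
    (hVN : ∀ n ∈ normalizer (E₁ : Set G), n ∈ normalizer (K : Set G) → ∀ x ∈ V₀, n * x * n⁻¹ ∈ V₀)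
    (hdec : ∀ n ∈ normalizer (E₁ : Set G), ∀ v ∈ V₀, ∃ c ∈ V₀, ∃ k ∈ K, n * v * n⁻¹ = c * k)
    {l : Subgroup G} (hl : IsLine (E₁ ⊓ K) l) (hlK : l ≤ K) (hlN : l ≤ normalizer (E₁ : Set G))
    (hlE : ¬ l ≤ E₁)
    (hcent : ∀ t ∈ l, t ∈ E₁ → ∀ v ∈ hull (normalizer (E₁ : Set G)) V₀, t * v = v * t) : False := by
  set N := normalizer (E₁ : Set G) with hN
  set C := centralizer (K : Set G) with hC
  have hcomm : ∀ k ∈ K, ∀ c ∈ C, k * c = c * k := fun k hk c hc => mem_centralizer_iff.mp hc k hk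
  have hcjE : ∀ n ∈ N, ∀ x ∈ E₁, n * x * n⁻¹ ∈ E₁ := fun n hn x hx => (mem_normalizer_iff.mp hn x).mp hx
  have hVE : hull N V₀ ≤ E₁ := by
    unfold hull
    rw [closure_le]
    rintro _ ⟨n, hn, x, hx, rfl⟩
    exact hcjE n hn x (hV₀E hx)
  have hv2 : ∀ v ∈ V₀, v * v = 1 := fun v hv => hV2 v (subset_closure ⟨1, one_mem _, v, hv, by group⟩)
  have hKM : ∀ m ∈ normalizer (K : Set G), ∀ k ∈ K, m * k * m⁻¹ ∈ K :=
    fun m hm k hk => (mem_normalizer_iff.mp hm k).mp hk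
  have hbr : ∀ v ∈ hull N V₀, ∀ x ∈ l, v * x * v⁻¹ * x⁻¹ ∈ hull N V₀ ∧ v * x * v⁻¹ * x⁻¹ ∈ E₁ ⊓ K := by
    intro v hv x hx
    have h1 : v * x * v⁻¹ * x⁻¹ ∈ hull N V₀ := by
      have e : v * x * v⁻¹ * x⁻¹ = v * (x * v⁻¹ * x⁻¹) := by group
      rw [e]
      exact mul_mem hv (hull_cj (hlN hx) (inv_mem hv))
    refine ⟨h1, hVE h1, ?_⟩
    exact K.mul_mem (hKM v (h.maxE.le (hle (hVE hv))) x (hlK hx)) (K.inv_mem (hlK hx))
  have hquad : ∀ v ∈ hull N V₀, ∀ x ∈ l, ∀ x' ∈ l,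
      x' * (v * x * v⁻¹ * x⁻¹) = (v * x * v⁻¹ * x⁻¹) * x' := by
    intro v hv x hx x' hx'
    by_cases hx1 : x = 1
    · subst hx1; simp
    obtain ⟨h1, h2⟩ := hbr v hv x hx
    apply hl.star _ h2 x hx hx1 ?_ x' hx'
    have hxx := hl.sq x hx
    have hvv := hV2 v hv
    have e1 : v⁻¹ = v := inv_eq_of_mul_eq_one_right hvv
    have e2 : x⁻¹ = x := inv_eq_of_mul_eq_one_right hxx
    have h4 := hab _ (hull_cj (hlN hx) hv) v hv
    rw [e1, e2] at *
    calc x * (v * x * v * x) = (x * v * x * v) * x := by group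
      _ = (v * (x * v * x)) * x := by rw [h4]
      _ = v * x * v * x * x := by group
  obtain ⟨z, hz, hz1⟩ := (Subgroup.bot_or_exists_ne_one V₀).resolve_left hV₀
  have hz2 : orderOf z = 2 := orderOf_eq_prime (by rw [pow_two]; exact hv2 z hz) hz1
  have hinv : ∃ x ∈ E₁, x ∈ C ∧ orderOf x = 2 := ⟨z, hV₀E hz, hV₀C hz, hz2⟩
  have hlE' : ∀ t ∈ l, t ∈ E₁ → (∀ v ∈ hull N V₀, t * v = v * t) → t = 1 := by
    intro t htl htE htc
    by_contra ht1
    apply hlE
    intro x hx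
    obtain ⟨n, hn, hnM⟩ := hend
    have hv : n * z * n⁻¹ ∈ hull N V₀ := hull_cj hn (subset_closure ⟨1, one_mem _, z, hz, by group⟩)
    obtain ⟨c, hc, k, hk, hck⟩ := hdec n hn z hz
    have hkE : k ∈ E₁ ⊓ K := by
      refine mem_inf.mpr ⟨?_, hk⟩
      have h1 : k = c⁻¹ * (n * z * n⁻¹) := by rw [hck]; group
      rw [h1]
      exact mul_mem (inv_mem (hV₀E hc)) (hVE hv)
    have htk : t * k = k * t := by
      have h1 := htc _ hv
      rw [hck] at h1
      have h2 : t * c = c * t := hcomm t (hlK htl) c (hV₀C hc)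
      have h3 : c * (t * k) = c * (k * t) := by
        calc c * (t * k) = (c * t) * k := by group
          _ = t * c * k := by rw [h2]
          _ = t * (c * k) := by group
          _ = c * k * t := h1
          _ = c * (k * t) := by group
      exact mul_left_cancel h3
    have hxk := hl.star k hkE t htl ht1 htk x hx
    have hxv : x * (n * z * n⁻¹) = n * z * n⁻¹ * x := by
      rw [hck]
      calc x * (c * k) = (x * c) * k := by group
        _ = (c * x) * k := by rw [hcomm x (hlK hx) c (hV₀C hc)]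
        _ = c * (x * k) := by group
        _ = c * (k * x) := by rw [hxk]
        _ = c * k * x := by group
    refine h.semi hle hFK hinv hn hnM (hlN hx) (hlK hx) ⟨1, by rw [pow_one, pow_two]; exact hl.sq x hx⟩ ?_
    have h1 : n⁻¹ * (n * z * n⁻¹) * n ∈ C := by
      have e : n⁻¹ * (n * z * n⁻¹) * n = z := by group
      rw [e]; exact hV₀C hz
    refine Tight.mem_of_comm ht h1 ?_ hxv
    rw [Basic.orderOf_conj]; exact hz2
  have hlE'' : ∀ t ∈ l, t ∈ E₁ → t = 1 := fun t ht' htE => hlE' t ht' htE (hcent t ht' htE)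
  obtain ⟨a, ha, b, hb, ha1, hb1, hne⟩ := hl.exists_pair
  refine h.false_of_trace ht hcen hle hFK hend hV₀E hV₀C hV₀ hV2 hab hVN hdec hlK hlN ?_ hlE'' ?_
  · intro x
    exact ⟨1, Subtype.ext (by
      show (x : G) ^ 2 ^ 1 = 1
      rw [pow_one, pow_two]; exact hl.sq _ x.2)⟩
  · intro v hv
    refine ⟨a, ha, b, hb, hl.sq a ha, hl.sq b hb, hl.comm ha hb, ha1, hb1, hne, ?_⟩
    exact trace_of_quad (hV2 v hv) (hV2 _ (hbr v hv a ha).1) (hl.sq a ha) (hl.sq b hb) (hl.comm ha hb)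
      (hquad v hv a ha b hb)

/-- the case `V₀ = Ω₁(Z(E₁)) ∩ C(K)`, `Q ≤ E₁` -/
theorem KMaxE.false_of_line_omegaZ (h : KMaxE K F) (ht : TightAt K)
    (hcen : ∀ x ∈ K, x ∈ centralizer (K : Set G) → x = 1)
    (hQ : IsSyl Q (centralizer (K : Set G))) (hQE : Q ≤ E₁) (hle : E₁ ≤ F) (hFK : F ⊓ K ≤ E₁)
    (hend : ∃ n ∈ normalizer (E₁ : Set G), n ∉ normalizer (K : Set G))
    (hinn : ∀ n ∈ normalizer (E₁ : Set G), ∀ v ∈ omegaZ E₁ (centralizer (K : Set G)),
      ∃ c ∈ centralizer (K : Set G), ∃ k ∈ K, n * v * n⁻¹ = c * k)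
    {l : Subgroup G} (hl : IsLine (E₁ ⊓ K) l) (hlK : l ≤ K) (hlN : l ≤ normalizer (E₁ : Set G))
    (hlE : ¬ l ≤ E₁) : False := by
  have hE2 : IsPGroup 2 ↥E₁ := h.maxE.isPGroup.to_le hle
  have hEM : E₁ ≤ normalizer (K : Set G) := hle.trans h.maxE.le
  have hVZ := hull_omegaZ (C := centralizer (K : Set G)) (E := E₁)
  have hV₀ : omegaZ E₁ (centralizer (K : Set G)) ≠ ⊥ := by
    obtain ⟨x, hx, hxC, hx2⟩ := h.maxE.exists_inv
    -- an involution of `Q`
    obtain ⟨m, hm, hmq⟩ := hQ.conj_into (Q := zpowers x) (by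
      rw [IsPGroup.iff_card]; exact ⟨1, by rw [Nat.card_zpowers, hx2]; norm_num⟩) (zpowers_le.mpr hxC)
    have hy := hmq x (mem_zpowers x)
    have hy2 : orderOf (m * x * m⁻¹) = 2 := by rw [Basic.orderOf_conj]; exact hx2
    obtain ⟨z, hzE, hzC, hz2, hzc⟩ := exists_central_involution (S := E₁) (N := E₁ ⊓ centralizer (K : Set G))
      hE2 (by
        intro s hs n hn
        exact mem_inf.mpr ⟨mul_mem (mul_mem hs hn.1) (inv_mem hs), ht.norm s (hEM hs) n hn.2⟩)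
      ⟨_, hQE hy, ⟨hQE hy, hQ.le hy⟩, by
        intro h1
        rw [h1, orderOf_one] at hy2; exact absurd hy2 (by norm_num)⟩
    intro hbot
    have hz : z ∈ omegaZ E₁ (centralizer (K : Set G)) :=
      ⟨hzE, hzC.2, by rw [← pow_two, ← hz2]; exact pow_orderOf_eq_one z, hzc⟩
    rw [hbot, mem_bot] at hz
    rw [hz, orderOf_one] at hz2
    exact absurd hz2 (by norm_num)
  refine h.false_of_line ht hcen hle hFK hend (V₀ := omegaZ E₁ (centralizer (K : Set G)))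
    (fun x hx => hx.1) (fun x hx => hx.2.1) hV₀ (fun v hv => (hVZ v hv).2.1)
    (fun x hx y hy => (hVZ y hy).2.2 x (hVZ x hx).1) ?_ ?_ hl hlK hlN hlE
    (fun t _ htE v hv => (hVZ v hv).2.2 t htE)
  · intro n hn hnM x hx
    have h1 := hVZ _ (hull_cj (v := x) hn (subset_closure ⟨1, one_mem _, x, hx, by group⟩))
    exact ⟨h1.1, ht.norm n hnM x hx.2.1, h1.2.1, h1.2.2⟩
  · intro n hn v hv
    obtain ⟨c, hc, k, hk, hck⟩ := hinn n hn v hv
    have h1 := hVZ _ (hull_cj (v := v) hn (subset_closure ⟨1, one_mem _, v, hv, by group⟩))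
    rw [hck] at h1
    refine ⟨c, comp_omegaZ ht hcen hQ hQE hEM hc hk h1.1 h1.2.1 h1.2.2, k, hk, hck⟩

end

end Cfsg.Agent.OddHalf.D4.KMax
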