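import Mathlib
import Cfsg.Agent.OddHalf.D4.KMax

/-!
# ODD, D4, (1B): relative lines

`IsLineR S D l`: a line modulo `D` (`D` the next term of the filtration): squares in `D`, at least a four-group
modulo `D`, and `C_l(y) ≤ D` or `C_l(y) = l` for `y ∈ S`. The barycentre lemma only uses the action of the line on
the hull, so it holds for relative lines if `D` centralizes the hull.
-/

set_option autoImplicit false

namespace Cfsg.Agent.OddHalf.D4.LineR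

open Cfsg Subgroup Cfsg.Agent.OddHalf.D4 Cfsg.Agent.OddHalf.D4.Basic Cfsg.Agent.OddHalf.D4.BaryEnd
open Cfsg.Agent.OddHalf.D4.Line Cfsg.Agent.OddHalf.D4.BaryGen Cfsg.Agent.OddHalf.D4.KMax
open Cfsg.Agent.OddHalf.D4.CommConj (Tight MaxE cj mem_cj mem_cj_mul exists_central_involution)

/-- A line of `S` relative to `D`. -/
structure IsLineR {G : Type*} [Group G] (S D l : Subgroup G) : Prop where
  sq : ∀ x ∈ l, x * x ∈ D
  pair : ∃ a ∈ l, ∃ b ∈ l, a ∉ D ∧ b ∉ D ∧ a⁻¹ * b ∉ D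
  star : ∀ y ∈ S, ∀ x ∈ l, x ∉ D → x * y = y * x → ∀ x' ∈ l, x' * y = y * x'

theorem IsLineR.of_isLine {G : Type*} [Group G] [Finite G] {S D l : Subgroup G} (h : IsLine S l)
    (hD : ∀ x ∈ l, x ∈ D → x = 1) : IsLineR S D l := by
  refine ⟨fun x hx => by rw [h.sq x hx]; exact one_mem _, ?_, fun y hy x hx hxD => h.star y hy x hx ?_⟩
  · obtain ⟨a, ha, b, hb, ha1, hb1, hne⟩ := h.exists_pair
    exact ⟨a, ha, b, hb, fun h' => ha1 (hD a ha h'), fun h' => hb1 (hD b hb h'),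
      fun h' => hne (inv_mul_eq_one.mp (hD _ (mul_mem (inv_mem ha) hb) h'))⟩
  · rintro rfl
    exact hxD (one_mem _)

theorem IsLineR.mono {G : Type*} [Group G] {S S' D l : Subgroup G} (h : IsLineR S D l) (hS : S' ≤ S) :
    IsLineR S' D l := ⟨h.sq, h.pair, fun y hy => h.star y (hS hy)⟩

/-- A central series generated by relative lines. -/
structure FiltR {G : Type*} [Group G] (S : Subgroup G) (U : ℕ → Subgroup G) : Prop where
  zero : U 0 = S
  bot : ∃ n, U n = ⊥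
  le : ∀ j, U (j + 1) ≤ U j
  comm : ∀ j, ∀ u ∈ U j, ∀ s ∈ S, s * u * s⁻¹ * u⁻¹ ∈ U (j + 1)
  gen : ∀ j, ∀ u ∈ U j,
    u ∈ closure ({x | ∃ l : Subgroup G, l ≤ U j ∧ IsLineR S (U (j + 1)) l ∧ x ∈ l} ∪ (U (j + 1) : Set G))

/-- The K-fact. -/
def LineFactsR (X : Type*) [Group X] : Prop := ∀ S : Sylow 2 X, ∃ U : ℕ → Subgroup X, FiltR (S : Subgroup X) U

/-! ### Barycentres -/

/-- **Barycentres**, the action of `T` on the hull only. -/
theorem hull_falseR {G : Type*} [Group G] [Finite G] {K M N V₀ T : Subgroup G}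
    (hVK : ∀ x ∈ V₀, ∀ k ∈ K, k * x = x * k)
    (hcen : ∀ x ∈ K, x ∈ centralizer (K : Set G) → x = 1)
    (hKM : ∀ m ∈ M, ∀ k ∈ K, m * k * m⁻¹ ∈ K)
    (hV2 : ∀ v ∈ hull N V₀, v * v = 1)
    (hab : ∀ x ∈ hull N V₀, ∀ y ∈ hull N V₀, x * y = y * x)
    (hCM : ∀ n ∈ N, (∀ v ∈ hull N V₀, n * v = v * n) → n ∈ M)
    (hVN : ∀ n ∈ N, n ∈ M → ∀ x ∈ V₀, n * x * n⁻¹ ∈ V₀)
    (hdec0 : ∀ n ∈ N, ∀ v ∈ V₀, ∃ c ∈ V₀, ∃ k ∈ K, n * v * n⁻¹ = c * k)
    (hend : ∃ n ∈ N, ∃ z ∈ V₀, n * z * n⁻¹ ∉ V₀)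
    (hTK : T ≤ K) (hTN : T ≤ N) (hTM : T ≤ M) (hT2 : IsPGroup 2 ↥T)
    (semi : ∀ n ∈ N, n ∉ M → ∀ s ∈ T, n⁻¹ * s * n ∈ M → ∀ v ∈ hull N V₀, s * v = v * s)
    (htr : ∀ v ∈ hull N V₀, ∃ a ∈ T, ∃ b ∈ T,
      (∀ w ∈ hull N V₀, a * a * w = w * (a * a)) ∧ (∀ w ∈ hull N V₀, b * b * w = w * (b * b)) ∧
      (∀ w ∈ hull N V₀, a * b * w * (a * b)⁻¹ = b * a * w * (b * a)⁻¹) ∧
      (∃ w ∈ hull N V₀, a * w ≠ w * a) ∧ (∃ w ∈ hull N V₀, b * w ≠ w * b) ∧
      (∃ w ∈ hull N V₀, a⁻¹ * b * w ≠ w * (a⁻¹ * b)) ∧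
      v * (a * v * a⁻¹) * (b * v * b⁻¹) * (a * b * v * (a * b)⁻¹) = 1) : False := by
  classical
  set V := hull N V₀ with hV
  have hcomm : ∀ k ∈ K, ∀ c ∈ V₀, k * c = c * k := fun k hk c hc => hVK c hc k hk
  have hV₀C : ∀ c ∈ V₀, c ∈ centralizer (K : Set G) := fun c hc => mem_centralizer_iff.mpr fun k hk => hcomm k hk c hc
  -- decompositions
  have huniq : ∀ c ∈ V₀, ∀ k ∈ K, ∀ c' ∈ V₀, ∀ k' ∈ K, c * k = c' * k' → c = c' := by
    intro c hc k hk c' hc' k' hk' h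
    have h1 : c'⁻¹ * c = k' * k⁻¹ := by
      calc c'⁻¹ * c = c'⁻¹ * (c * k) * k⁻¹ := by group
        _ = c'⁻¹ * (c' * k') * k⁻¹ := by rw [h]
        _ = k' * k⁻¹ := by group
    have h2 := hcen _ (by rw [h1]; exact mul_mem hk' (inv_mem hk)) (hV₀C _ (mul_mem (inv_mem hc') hc))
    exact (inv_mul_eq_one.mp h2).symm
  have hdec : ∀ v ∈ V, ∃ c ∈ V₀, ∃ k ∈ K, v = c * k := by
    intro v hv
    have hv' : v ∈ closure {y | ∃ n ∈ N, ∃ x ∈ V₀, y = n * x * n⁻¹} := hv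
    induction hv' using closure_induction with
    | mem x hx =>
      obtain ⟨n, hn, y, hy, rfl⟩ := hx
      exact hdec0 n hn y hy
    | one => exact ⟨1, one_mem _, 1, one_mem _, by simp⟩
    | mul x y hx hy hx' hy' =>
      obtain ⟨c, hc, k, hk, rfl⟩ := hx' hx
      obtain ⟨c', hc', k', hk', rfl⟩ := hy' hy
      refine ⟨c * c', mul_mem hc hc', k * k', mul_mem hk hk', ?_⟩
      calc c * k * (c' * k') = c * (k * c') * k' := by group
        _ = c * (c' * k) * k' := by rw [hcomm k hk c' hc']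
        _ = c * c' * (k * k') := by group
    | inv x hx hx' =>
      obtain ⟨c, hc, k, hk, rfl⟩ := hx' hx
      refine ⟨c⁻¹, inv_mem hc, k⁻¹, inv_mem hk, ?_⟩
      rw [mul_inv_rev, hcomm _ (inv_mem hk) _ (inv_mem hc)]
  have hV₀V : V₀ ≤ V := fun x hx => subset_closure ⟨1, one_mem _, x, hx, by group⟩
  -- the projection
  choose! pf hpf kf hkf hpk using hdec
  let hcg : CommGroup ↥V := { (inferInstance : Group ↥V) with mul_comm := fun x y => Subtype.ext (hab x x.2 y y.2) }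
  let p : ↥V →* ↥V :=
    { toFun := fun v => ⟨pf v, hV₀V (hpf v v.2)⟩
      map_one' := Subtype.ext (by
        show pf ((1 : ↥V) : G) = 1
        have h1 := hpk _ (1 : ↥V).2
        exact huniq _ (hpf _ (1 : ↥V).2) _ (hkf _ (1 : ↥V).2) 1 (one_mem _) 1 (one_mem _)
          (by rw [← h1]; simp))
      map_mul' := fun x y => Subtype.ext (by
        show pf ((x * y : ↥V) : G) = pf x * pf y
        have h1 := hpk _ (x * y).2
        have hx := hpk _ x.2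
        have hy := hpk _ y.2
        refine huniq _ (hpf _ (x * y).2) _ (hkf _ (x * y).2) _
          (mul_mem (hpf _ x.2) (hpf _ y.2)) (kf x * kf y) (mul_mem (hkf _ x.2) (hkf _ y.2)) ?_
        rw [← h1]
        show (x : G) * y = _
        conv_lhs => rw [hx, hy]
        calc pf x * kf x * (pf y * kf y) = pf x * (kf x * pf y) * kf y := by group
          _ = pf x * (pf y * kf x) * kf y := by rw [hcomm _ (hkf _ x.2) _ (hpf _ y.2)]
          _ = pf x * pf y * (kf x * kf y) := by group) }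
  let hact : MulDistribMulAction ↥N ↥V := conjAct N V (fun n hn v hv => hull_cj hn hv)
  have hsmul : ∀ (n : ↥N) (v : ↥V), ((n • v : ↥V) : G) = n * v * (n : G)⁻¹ := fun _ _ => rfl
  have hp : ∀ y ∈ M.subgroupOf N, ∀ a : ↥V, p (y • a) = y • p a := by
    intro y hy a
    have hyM : (y : G) ∈ M := mem_subgroupOf.mp hy
    apply Subtype.ext
    rw [hsmul]
    show pf ((y • a : ↥V) : G) = y * pf a * (y : G)⁻¹
    have h1 := hpk _ (y • a : ↥V).2
    have h2 := hpk _ a.2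
    refine huniq _ (hpf _ (y • a : ↥V).2) _ (hkf _ (y • a : ↥V).2) _
      (hVN _ y.2 hyM _ (hpf _ a.2)) ((y : G) * kf a * (y : G)⁻¹) (hKM _ hyM _ (hkf _ a.2)) ?_
    rw [← h1, hsmul]
    conv_lhs => rw [h2]
    group
  have hVp : IsPGroup 2 ↥V := by
    intro v
    exact ⟨1, Subtype.ext (by
      show (v : G) ^ 2 ^ 1 = 1
      rw [pow_one, pow_two]; exact hV2 _ v.2)⟩
  have hpV₀ : ∀ x (hx : x ∈ V₀), p ⟨x, hV₀V hx⟩ = ⟨x, hV₀V hx⟩ := by
    intro x hx
    apply Subtype.ext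
    show pf x = x
    have h1 := hpk x (hV₀V hx)
    exact huniq _ (hpf _ (hV₀V hx)) _ (hkf _ (hV₀V hx)) _ hx 1 (one_mem _) (by rw [← h1, mul_one])
  -- the group of automorphisms
  let φ : ↥N →* MulAut ↥V := MulDistribMulAction.toMulAut ↥N ↥V
  let ψ : ↥N →* ↥φ.range := φ.rangeRestrict
  have hψs : Function.Surjective ψ := φ.rangeRestrict_surjective
  have : Finite ↥φ.range := Finite.of_surjective ψ hψs
  have hψ : ∀ (n : ↥N) (v : ↥V), ψ n • v = n • v := fun _ _ => rfl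
  have hker : ∀ n : ↥N, ψ n = 1 ↔ ∀ v ∈ V, (n : G) * v = v * n := by
    intro n
    constructor
    · intro h1 v hv
      have h2 := hψ n ⟨v, hv⟩
      rw [h1, one_smul] at h2
      have h3 : v = (n : G) * v * (n : G)⁻¹ := congrArg Subtype.val h2
      calc (n : G) * v = (n : G) * v * (n : G)⁻¹ * n := by group
        _ = v * n := by rw [← h3]
    · intro h1
      apply Subtype.ext
      apply MulEquiv.ext
      intro v
      show n • v = v
      apply Subtype.ext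
      rw [hsmul, h1 v v.2]
      group
  have hψeq : ∀ a b : ↥N, ψ a = ψ b → ∀ v ∈ V, ((a : G)⁻¹ * b) * v = v * ((a : G)⁻¹ * b) := by
    intro a b h1
    have h2 : ψ (a⁻¹ * b) = 1 := by rw [map_mul, map_inv, h1, inv_mul_cancel]
    exact (hker _).mp h2
  let Y : Subgroup ↥φ.range := (M.subgroupOf N).map ψ
  let E : Subgroup ↥φ.range := (T.subgroupOf N).map ψ
  let hfE : Fintype ↥E := Fintype.ofFinite _
  have hEY : E ≤ Y := by
    rintro _ ⟨t, ht', rfl⟩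
    exact ⟨t, mem_subgroupOf.mpr (hTM (mem_subgroupOf.mp ht')), rfl⟩
  have hE2 : IsPGroup 2 ↥E := hT2.comap_subtype.map _
  have key := Bary.ker_eq_bot (Γ := ↥φ.range) (A := ↥V) (Y := Y) (E := E) hEY (p := p) (by
      rintro _ ⟨y, hy, rfl⟩ a
      exact hp y hy a) (by
      intro g hg s hs hgs
      obtain ⟨g, rfl⟩ := hψs g
      obtain ⟨s, hs, rfl⟩ := hs
      obtain ⟨y, hy, hyg⟩ := hgs
      have h1 : ψ y = ψ (g⁻¹ * s * g) := by rw [hyg, map_mul, map_mul, map_inv]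
      have h2 := hψeq _ _ h1
      have h3 : ((y : G))⁻¹ * ((g⁻¹ * s * g : ↥N) : G) ∈ M :=
        hCM _ (mul_mem (inv_mem y.2) (g⁻¹ * s * g : ↥N).2) h2
      have h4 : (g : G)⁻¹ * s * g ∈ M := by
        have h5 := mul_mem (mem_subgroupOf.mp hy) h3
        have e : (y : G) * ((y : G)⁻¹ * ((g⁻¹ * s * g : ↥N) : G)) = (g : G)⁻¹ * s * g := by push_cast; group
        rwa [e] at h5
      have h5 : (g : G) ∉ M := fun h => hg ⟨g, mem_subgroupOf.mpr h, rfl⟩
      exact (hker s).mpr (semi _ g.2 h5 _ (mem_subgroupOf.mp hs) h4)) (by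
      intro v
      obtain ⟨a, ha, b, hb, ha2, hb2, hab', ⟨w₁, hw₁, hne₁⟩, ⟨w₂, hw₂, hne₂⟩, ⟨w₃, hw₃, hne₃⟩, htr'⟩ :=
        htr v v.2
      have haN : a ∈ N := hTN ha
      have hbN : b ∈ N := hTN hb
      let a' : ↥E := ⟨ψ ⟨a, haN⟩, ⟨⟨a, haN⟩, mem_subgroupOf.mpr ha, rfl⟩⟩
      let b' : ↥E := ⟨ψ ⟨b, hbN⟩, ⟨⟨b, hbN⟩, mem_subgroupOf.mpr hb, rfl⟩⟩
      have ha3 : a' * a' = 1 := by
        apply Subtype.ext
        show ψ ⟨a, haN⟩ * ψ ⟨a, haN⟩ = 1
        rw [← map_mul]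
        exact (hker _).mpr ha2
      have hb3 : b' * b' = 1 := by
        apply Subtype.ext
        show ψ ⟨b, hbN⟩ * ψ ⟨b, hbN⟩ = 1
        rw [← map_mul]
        exact (hker _).mpr hb2
      have hab3 : a' * b' = b' * a' := by
        apply Subtype.ext
        show ψ ⟨a, haN⟩ * ψ ⟨b, hbN⟩ = ψ ⟨b, hbN⟩ * ψ ⟨a, haN⟩
        rw [← map_mul, ← map_mul]
        apply Subtype.ext
        apply MulEquiv.ext
        intro w
        exact Subtype.ext (hab' w w.2)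
      have htr3 : v * a' • v * b' • v * (a' * b') • v = 1 := by
        apply Subtype.ext
        show (v : G) * (a * v * a⁻¹) * (b * v * b⁻¹) * (a * (b * v * b⁻¹) * a⁻¹) = 1
        rw [← htr']
        group
      refine prod_smul_eq_one (Y := ↥E) (V := ↥V) (a := a') (b := b') ha3 hb3 hab3 ?_ ?_ ?_
        (v := v) htr3
      · intro h
        exact hne₁ ((hker ⟨a, haN⟩).mp (congrArg Subtype.val h) w₁ hw₁)
      · intro h
        exact hne₂ ((hker ⟨b, hbN⟩).mp (congrArg Subtype.val h) w₂ hw₂)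
      · intro h
        exact hne₃ (hψeq ⟨a, haN⟩ ⟨b, hbN⟩ (congrArg Subtype.val h) w₃ hw₃)) hVp hE2 (by
      intro a
      exact hpV₀ _ (hpf _ a.2)) (by
      rintro _ ⟨s, hs, rfl⟩ a
      apply Subtype.ext
      rw [hψ, hsmul]
      show (s : G) * pf a * (s : G)⁻¹ = pf a
      rw [hcomm _ (hTK (mem_subgroupOf.mp hs)) _ (hpf _ a.2)]
      group) (by
      intro H hH
      rw [Subgroup.eq_top_iff']
      have h1 : V ≤ H.map V.subtype := by
        refine (Subgroup.closure_le (H.map V.subtype)).mpr ?_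
        rintro _ ⟨n, hn, x, hx, rfl⟩
        refine ⟨ψ (⟨n, hn⟩ : ↥N) • p ⟨x, hV₀V hx⟩, hH _ _, ?_⟩
        rw [hpV₀ x hx]
        rfl
      intro v
      obtain ⟨w, hw, hwv⟩ := h1 v.2
      have : w = v := Subtype.ext hwv
      rwa [← this])
  -- conclusion
  obtain ⟨n, hn, z, hz, hnz⟩ := hend
  have hv : n * z * n⁻¹ ∈ V := hull_cj hn (hV₀V hz)
  have h1 : p (⟨n * z * n⁻¹, hv⟩ * (p ⟨n * z * n⁻¹, hv⟩)⁻¹) = 1 := by
    rw [map_mul, map_inv]
    have h2 : p (p ⟨n * z * n⁻¹, hv⟩) = p ⟨n * z * n⁻¹, hv⟩ := hpV₀ _ (hpf _ hv)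
    rw [h2, mul_inv_cancel]
  have h2 := key _ h1
  have h3 : n * z * n⁻¹ = pf (n * z * n⁻¹) := by
    have h4 := mul_inv_eq_one.mp h2
    exact congrArg Subtype.val h4
  exact hnz (by rw [h3]; exact hpf _ hv)

/-! ### Relative lines -/

variable {G : Type*} [Group G] [Finite G] {K F E₁ Q : Subgroup G}

/-- **a relative line normalizing `E₁`**. -/
theorem KMaxE.false_of_lineR (h : KMaxE K F) (ht : TightAt K)
    (hcen : ∀ x ∈ K, x ∈ centralizer (K : Set G) → x = 1) (hle : E₁ ≤ F) (hFK : F ⊓ K ≤ E₁)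
    (hend : ∃ n ∈ normalizer (E₁ : Set G), n ∉ normalizer (K : Set G))
    {V₀ : Subgroup G} (hV₀E : V₀ ≤ E₁) (hV₀C : V₀ ≤ centralizer (K : Set G)) (hV₀ : V₀ ≠ ⊥)
    (hV2 : ∀ v ∈ hull (normalizer (E₁ : Set G)) V₀, v * v = 1)
    (hab : ∀ x ∈ hull (normalizer (E₁ : Set G)) V₀, ∀ y ∈ hull (normalizer (E₁ : Set G)) V₀, x * y = y * x)
    (hVN : ∀ n ∈ normalizer (E₁ : Set G), n ∈ normalizer (K : Set G) → ∀ x ∈ V₀, n * x * n⁻¹ ∈ V₀)
    (hdec : ∀ n ∈ normalizer (E₁ : Set G), ∀ v ∈ V₀, ∃ c ∈ V₀, ∃ k ∈ K, n * v * n⁻¹ = c * k)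
    {D l : Subgroup G} (hl : IsLineR (E₁ ⊓ K) D l) (hl2 : IsPGroup 2 ↥l) (hlK : l ≤ K)
    (hlN : l ≤ normalizer (E₁ : Set G)) (hlE : ¬ l ≤ E₁)
    (hD : ∀ d ∈ D, ∀ v ∈ hull (normalizer (E₁ : Set G)) V₀, d * v = v * d)
    (hcent : ∀ t ∈ l, t ∈ E₁ → ∀ v ∈ hull (normalizer (E₁ : Set G)) V₀, t * v = v * t) : False := by
  set N := normalizer (E₁ : Set G) with hN
  set C := centralizer (K : Set G) with hC
  have hcomm : ∀ k ∈ K, ∀ c ∈ C, k * c = c * k := fun k hk c hc => mem_centralizer_iff.mp hc k hk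
  have hcjE : ∀ n ∈ N, ∀ x ∈ E₁, n * x * n⁻¹ ∈ E₁ := fun n hn x hx => (mem_normalizer_iff.mp hn x).mp hx
  have hVE : hull N V₀ ≤ E₁ := by
    unfold hull
    rw [closure_le]
    rintro _ ⟨n, hn, x, hx, rfl⟩
    exact hcjE n hn x (hV₀E hx)
  have hV₀V : V₀ ≤ hull N V₀ := fun x hx => subset_closure ⟨1, one_mem _, x, hx, by group⟩
  have hv2 : ∀ v ∈ V₀, v * v = 1 := fun v hv => hV2 v (hV₀V hv)
  have hKM : ∀ m ∈ normalizer (K : Set G), ∀ k ∈ K, m * k * m⁻¹ ∈ K :=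
    fun m hm k hk => (mem_normalizer_iff.mp hm k).mp hk
  have hl2' : ∀ x ∈ l, ∃ k : ℕ, x ^ 2 ^ k = 1 := by
    intro x hx
    obtain ⟨k, hk⟩ := hl2 ⟨x, hx⟩
    exact ⟨k, congrArg Subtype.val hk⟩
  have hbr : ∀ v ∈ hull N V₀, ∀ x ∈ l, v * x * v⁻¹ * x⁻¹ ∈ hull N V₀ ∧ v * x * v⁻¹ * x⁻¹ ∈ E₁ ⊓ K := by
    intro v hv x hx
    have h1 : v * x * v⁻¹ * x⁻¹ ∈ hull N V₀ := by
      have e : v * x * v⁻¹ * x⁻¹ = v * (x * v⁻¹ * x⁻¹) := by group
      rw [e]
      exact mul_mem hv (hull_cj (hlN hx) (inv_mem hv))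
    refine ⟨h1, hVE h1, ?_⟩
    exact K.mul_mem (hKM v (h.maxE.le (hle (hVE hv))) x (hlK hx)) (K.inv_mem (hlK hx))
  -- squares act trivially
  have hsq : ∀ x ∈ l, ∀ v ∈ hull N V₀, x * x * v = v * (x * x) := fun x hx v hv => hD _ (hl.sq x hx) v hv
  -- `[v, x]` commutes with `x`
  have hself : ∀ v ∈ hull N V₀, ∀ x ∈ l, x * (v * x * v⁻¹ * x⁻¹) = (v * x * v⁻¹ * x⁻¹) * x := by
    intro v hv x hx
    have hvv := hV2 v hv
    have e1 : v⁻¹ = v := inv_eq_of_mul_eq_one_right hvv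
    have h4 : x * v * x⁻¹ * v = v * (x * v * x⁻¹) := hab _ (hull_cj (hlN hx) hv) v hv
    have h5 := hsq x hx v hv
    have h6 : x * (x * v * x⁻¹) * x⁻¹ = v := by
      calc x * (x * v * x⁻¹) * x⁻¹ = x * x * v * (x * x)⁻¹ := by group
        _ = v := by rw [h5]; group
    rw [e1]
    calc x * (v * x * v * x⁻¹) = x * v * x⁻¹ * (x * (x * v * x⁻¹) * x⁻¹) * x := by group
      _ = x * v * x⁻¹ * v * x := by rw [h6]
      _ = v * (x * v * x⁻¹) * x := by rw [h4]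
      _ = v * x * v * x⁻¹ * x := by group
  have hquad : ∀ v ∈ hull N V₀, ∀ x ∈ l, ∀ x' ∈ l,
      x' * (v * x * v⁻¹ * x⁻¹) = (v * x * v⁻¹ * x⁻¹) * x' := by
    intro v hv x hx x' hx'
    by_cases hxD : x ∈ D
    · have h1 : v * x * v⁻¹ * x⁻¹ = 1 := by
        rw [← hD x hxD v hv]; group
      rw [h1]; simp
    · exact hl.star _ (hbr v hv x hx).2 x hx hxD (hself v hv x hx) x' hx'
  obtain ⟨z, hz, hz1⟩ := (Subgroup.bot_or_exists_ne_one V₀).resolve_left hV₀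
  have hz2 : orderOf z = 2 := orderOf_eq_prime (by rw [pow_two]; exact hv2 z hz) hz1
  have hinv : ∃ x ∈ E₁, x ∈ C ∧ orderOf x = 2 := ⟨z, hV₀E hz, hV₀C hz, hz2⟩
  -- elements outside `D` act nontrivially
  have hnt : ∀ t ∈ l, t ∉ D → ∃ v ∈ hull N V₀, t * v ≠ v * t := by
    intro t htl htD
    by_contra hcon
    push Not at hcon
    apply hlE
    intro x hx
    obtain ⟨n, hn, hnM⟩ := hend
    have hv : n * z * n⁻¹ ∈ hull N V₀ := hull_cj hn (hV₀V hz)
    obtain ⟨c, hc, k, hk, hck⟩ := hdec n hn z hz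
    have hkE : k ∈ E₁ ⊓ K := by
      refine mem_inf.mpr ⟨?_, hk⟩
      have h1 : k = c⁻¹ * (n * z * n⁻¹) := by rw [hck]; group
      rw [h1]
      exact mul_mem (inv_mem (hV₀E hc)) (hVE hv)
    have htk : t * k = k * t := by
      have h1 := hcon _ hv
      rw [hck] at h1
      have h2 : t * c = c * t := hcomm t (hlK htl) c (hV₀C hc)
      have h3 : c * (t * k) = c * (k * t) := by
        calc c * (t * k) = (c * t) * k := by group
          _ = t * c * k := by rw [h2]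
          _ = t * (c * k) := by group
          _ = c * k * t := h1
          _ = c * (k * t) := by group
      exact mul_left_cancel h3
    have hxk := hl.star k hkE t htl htD htk x hx
    have hxv : x * (n * z * n⁻¹) = n * z * n⁻¹ * x := by
      rw [hck]
      calc x * (c * k) = (x * c) * k := by group
        _ = (c * x) * k := by rw [hcomm x (hlK hx) c (hV₀C hc)]
        _ = c * (x * k) := by group
        _ = c * (k * x) := by rw [hxk]
        _ = c * k * x := by group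
    refine h.semi hle hFK hinv hn hnM (hlN hx) (hlK hx) (hl2' x hx) ?_
    have h1 : n⁻¹ * (n * z * n⁻¹) * n ∈ C := by
      have e : n⁻¹ * (n * z * n⁻¹) * n = z := by group
      rw [e]; exact hV₀C hz
    refine Tight.mem_of_comm ht h1 ?_ hxv
    rw [Basic.orderOf_conj]; exact hz2
  obtain ⟨a, ha, b, hb, haD, hbD, habD⟩ := hl.pair
  refine hull_falseR (K := K) (M := normalizer (K : Set G)) (N := N) (V₀ := V₀) (T := l)
    ?_ hcen ?_ hV2 hab ?_ hVN hdec ?_ hlK hlN (hlK.trans le_normalizer) hl2 ?_ ?_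
  · intro x hx k hk
    exact mem_centralizer_iff.mp (hV₀C hx) k hk
  · exact hKM
  · intro n _ hnc
    have h1 : (1 : G)⁻¹ * z * 1 ∈ C := by simpa using hV₀C hz
    have h2 := Tight.mem_of_comm ht h1 hz2 (hnc z (hV₀V hz))
    simpa using h2
  · obtain ⟨n, hn, hnM⟩ := hend
    refine ⟨n, hn, z, hz, ?_⟩
    intro h1
    exact hnM (ht.tight n z (hV₀C hz) hz2 (hV₀C h1))
  · intro n hn hnM s hs hns
    exact hcent s hs (h.semi hle hFK hinv hn hnM (hlN hs) (hlK hs) (hl2' s hs) hns)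
  · intro v hv
    refine ⟨a, ha, b, hb, hsq a ha, hsq b hb, ?_, hnt a ha haD, hnt b hb hbD,
      hnt _ (mul_mem (inv_mem ha) hb) habD, ?_⟩
    · -- `a b` and `b a` act in the same way
      intro w hw
      have h1 : a * b * (a * b) * w = w * (a * b * (a * b)) := hsq _ (mul_mem ha hb) w hw
      have h2 := hsq a ha
      have h3 := hsq b hb
      have hw' : (b * a) * w * (b * a)⁻¹ ∈ hull N V₀ := hull_cj (mul_mem (hlN hb) (hlN ha)) hw
      -- `a b · (b a) w` : `a b b a` acts trivially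
      have h4 : a * b * (b * a * w * (b * a)⁻¹) * (a * b)⁻¹ = w := by
        have h5 : a * w * a⁻¹ ∈ hull N V₀ := hull_cj (hlN ha) hw
        calc a * b * (b * a * w * (b * a)⁻¹) * (a * b)⁻¹ = a * (b * b * (a * w * a⁻¹) * (b * b)⁻¹) * a⁻¹ := by group
          _ = a * (a * w * a⁻¹) * a⁻¹ := by rw [h3 _ h5]; group
          _ = a * a * w * (a * a)⁻¹ := by group
          _ = w := by rw [h2 w hw]; group
      have h6 : a * b * (a * b * w * (a * b)⁻¹) * (a * b)⁻¹ = w := by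
        calc a * b * (a * b * w * (a * b)⁻¹) * (a * b)⁻¹ = a * b * (a * b) * w * (a * b * (a * b))⁻¹ := by group
          _ = w := by rw [h1]; group
      have h7 : a * b * (a * b * w * (a * b)⁻¹) * (a * b)⁻¹ = a * b * (b * a * w * (b * a)⁻¹) * (a * b)⁻¹ := by
        rw [h6, h4]
      exact mul_left_cancel (mul_right_cancel h7)
    · have hvv := hV2 v hv
      have e1 : v⁻¹ = v := inv_eq_of_mul_eq_one_right hvv
      have h5 : b * (v * a * v⁻¹ * a⁻¹) = v * a * v⁻¹ * a⁻¹ * b := hquad v hv a ha b hb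
      rw [e1] at h5
      have h6 : (v * a * v * a⁻¹) * (v * a * v * a⁻¹) = 1 := by
        have h7 := hV2 _ (hbr v hv a ha).1
        rwa [e1] at h7
      have hba : (b * v * b⁻¹) * (a * b * v * (a * b)⁻¹) = b * (v * (a * v * a⁻¹)) * b⁻¹ := by
        have h1 : a * b * (a * b) * v = v * (a * b * (a * b)) := hsq _ (mul_mem ha hb) v hv
        have h5 : a * v * a⁻¹ ∈ hull N V₀ := hull_cj (hlN ha) hv
        have h4 : a * b * (b * a * v * (b * a)⁻¹) * (a * b)⁻¹ = v := by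
          calc a * b * (b * a * v * (b * a)⁻¹) * (a * b)⁻¹
              = a * (b * b * (a * v * a⁻¹) * (b * b)⁻¹) * a⁻¹ := by group
            _ = a * (a * v * a⁻¹) * a⁻¹ := by rw [hsq b hb _ h5]; group
            _ = a * a * v * (a * a)⁻¹ := by group
            _ = v := by rw [hsq a ha v hv]; group
        have h6 : a * b * (a * b * v * (a * b)⁻¹) * (a * b)⁻¹ = v := by
          calc a * b * (a * b * v * (a * b)⁻¹) * (a * b)⁻¹ = a * b * (a * b) * v * (a * b * (a * b))⁻¹ := by group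
            _ = v := by rw [h1]; group
        have h7 : a * b * (a * b * v * (a * b)⁻¹) * (a * b)⁻¹ = a * b * (b * a * v * (b * a)⁻¹) * (a * b)⁻¹ := by
          rw [h6, h4]
        have h8 : a * b * v * (a * b)⁻¹ = b * a * v * (b * a)⁻¹ := mul_left_cancel (mul_right_cancel h7)
        rw [h8]; group
      rw [mul_assoc (v * (a * v * a⁻¹)), hba]
      calc v * (a * v * a⁻¹) * (b * (v * (a * v * a⁻¹)) * b⁻¹)
          = (v * a * v * a⁻¹) * (b * (v * a * v * a⁻¹)) * b⁻¹ := by group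
        _ = (v * a * v * a⁻¹) * (v * a * v * a⁻¹ * b) * b⁻¹ := by rw [h5]
        _ = (v * a * v * a⁻¹) * (v * a * v * a⁻¹) := by group
        _ = 1 := h6

/-- the case `V₀ = Ω₁(Z(E₁)) ∩ C(K)`, `Q ≤ E₁`, `D ≤ E₁` -/
theorem KMaxE.false_of_lineR_omegaZ (h : KMaxE K F) (ht : TightAt K)
    (hcen : ∀ x ∈ K, x ∈ centralizer (K : Set G) → x = 1)
    (hQ : IsSyl Q (centralizer (K : Set G))) (hQE : Q ≤ E₁) (hle : E₁ ≤ F) (hFK : F ⊓ K ≤ E₁)
    (hend : ∃ n ∈ normalizer (E₁ : Set G), n ∉ normalizer (K : Set G))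
    (hinn : ∀ n ∈ normalizer (E₁ : Set G), ∀ v ∈ omegaZ E₁ (centralizer (K : Set G)),
      ∃ c ∈ centralizer (K : Set G), ∃ k ∈ K, n * v * n⁻¹ = c * k)
    {D l : Subgroup G} (hl : IsLineR (E₁ ⊓ K) D l) (hl2 : IsPGroup 2 ↥l) (hlK : l ≤ K)
    (hlN : l ≤ normalizer (E₁ : Set G)) (hlE : ¬ l ≤ E₁) (hD : D ≤ E₁) : False := by
  have hE2 : IsPGroup 2 ↥E₁ := h.maxE.isPGroup.to_le hle
  have hEM : E₁ ≤ normalizer (K : Set G) := hle.trans h.maxE.le
  have hVZ := hull_omegaZ (C := centralizer (K : Set G)) (E := E₁)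
  have hV₀ : omegaZ E₁ (centralizer (K : Set G)) ≠ ⊥ := by
    obtain ⟨x, hx, hxC, hx2⟩ := h.maxE.exists_inv
    -- an involution of `Q`
    obtain ⟨m, hm, hmq⟩ := hQ.conj_into (Q := zpowers x) (by
      rw [IsPGroup.iff_card]; exact ⟨1, by rw [Nat.card_zpowers, hx2]; norm_num⟩) (zpowers_le.mpr hxC)
    have hy := hmq x (mem_zpowers x)
    have hy2 : orderOf (m * x * m⁻¹) = 2 := by rw [Basic.orderOf_conj]; exact hx2
    obtain ⟨z, hzE, hzC, hz2, hzc⟩ := exists_central_involution (S := E₁) (N := E₁ ⊓ centralizer (K : Set G))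
      hE2 (by
        intro s hs n hn
        exact mem_inf.mpr ⟨mul_mem (mul_mem hs hn.1) (inv_mem hs), ht.norm s (hEM hs) n hn.2⟩)
      ⟨_, hQE hy, ⟨hQE hy, hQ.le hy⟩, by
        intro h1
        rw [h1, orderOf_one] at hy2; exact absurd hy2 (by norm_num)⟩
    intro hbot
    have hz : z ∈ omegaZ E₁ (centralizer (K : Set G)) :=
      ⟨hzE, hzC.2, by rw [← pow_two, ← hz2]; exact pow_orderOf_eq_one z, hzc⟩
    rw [hbot, mem_bot] at hz
    rw [hz, orderOf_one] at hz2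
    exact absurd hz2 (by norm_num)
  refine KMaxE.false_of_lineR h ht hcen hle hFK hend (V₀ := omegaZ E₁ (centralizer (K : Set G)))
    (fun x hx => hx.1) (fun x hx => hx.2.1) hV₀ (fun v hv => (hVZ v hv).2.1)
    (fun x hx y hy => (hVZ y hy).2.2 x (hVZ x hx).1) ?_ ?_ hl hl2 hlK hlN hlE
    (fun d hd v hv => (hVZ v hv).2.2 d (hD hd)) (fun t _ htE v hv => (hVZ v hv).2.2 t htE)
  · intro n hn hnM x hx
    have h1 := hVZ _ (hull_cj (v := x) hn (subset_closure ⟨1, one_mem _, x, hx, by group⟩))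
    exact ⟨h1.1, ht.norm n hnM x hx.2.1, h1.2.1, h1.2.2⟩
  · intro n hn v hv
    obtain ⟨c, hc, k, hk, hck⟩ := hinn n hn v hv
    have h1 := hVZ _ (hull_cj (v := v) hn (subset_closure ⟨1, one_mem _, v, hv, by group⟩))
    rw [hck] at h1
    refine ⟨c, comp_omegaZ ht hcen hQ hQE hEM hc hk h1.1 h1.2.1 h1.2.2, k, hk, hck⟩

end Cfsg.Agent.OddHalf.D4.LineR
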