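import Mathlib
import Cfsg.Agent.OddHalf.D4.LineR

/-!
# ODD, D4, (1B): the maximal 2-subgroup induces no graph automorphism

`F` a maximal 2-subgroup with `N(F) ≰ N(K)` and maximal `K`-part, `U = S ∩ K` with a filtration generated by relative
lines with base points fixed by `F` modulo the next term. Then `F ∩ C(K)K` is normal in `N(F)`, and the barycentre lemma
gives a contradiction.
-/

set_option autoImplicit false

namespace Cfsg.Agent.OddHalf.D4.NoGraph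

open Cfsg Subgroup Cfsg.Agent.OddHalf.D4 Cfsg.Agent.OddHalf.D4.Basic Cfsg.Agent.OddHalf.D4.BaryEnd
open Cfsg.Agent.OddHalf.D4.Line Cfsg.Agent.OddHalf.D4.BaryGen Cfsg.Agent.OddHalf.D4.KMax
open Cfsg.Agent.OddHalf.D4.LineR
open Cfsg.Agent.OddHalf.D4.CommConj (Tight MaxE cj mem_cj mem_cj_mul)

/-! ### Gleason's lemma -/

/-- **Gleason.** The 2-element `b` of the normal subgroup `B` fixes exactly one point of `Γ ⧸ Y`: then `B` is
transitive. -/
theorem gleason {Γ : Type*} [Group Γ] [Finite Γ] {Y B : Subgroup Γ} (hBn : B.Normal) {b : Γ} (hbB : b ∈ B)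
    (hbY : b ∈ Y) (hb2 : ∃ k : ℕ, b ^ 2 ^ k = 1) (huniq : ∀ g : Γ, g ∉ Y → g⁻¹ * b * g ∉ Y) (g : Γ) :
    ∃ x ∈ B, x⁻¹ * g ∈ Y := by
  classical
  by_contra hcon
  push Not at hcon
  have hgY : g ∉ Y := fun h => hcon 1 (one_mem _) (by simpa using h)
  let O : Set (Γ ⧸ Y) := MulAction.orbit ↥B ((g : Γ) : Γ ⧸ Y)
  -- a cyclic 2-group acting on the orbit
  have key : ∀ c : Γ, (hc : c ∈ B) → (∃ k : ℕ, c ^ 2 ^ k = 1) →
      Nat.card ↥O ≡ Nat.card (MulAction.fixedPoints ↥(zpowers (⟨c, hc⟩ : ↥B)) ↥O) [MOD 2] := by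
    intro c hc hc2
    have hp : Fact (Nat.Prime 2) := ⟨Nat.prime_two⟩
    have h1 : IsPGroup 2 ↥(zpowers (⟨c, hc⟩ : ↥B)) := by
      obtain ⟨k, hk⟩ := hc2
      rw [IsPGroup.iff_card]
      have h2 : (⟨c, hc⟩ : ↥B) ^ 2 ^ k = 1 := Subtype.ext (by simpa using hk)
      obtain ⟨m, -, hm⟩ := (Nat.dvd_prime_pow Nat.prime_two).mp (orderOf_dvd_of_pow_eq_one h2)
      exact ⟨m, by rw [Nat.card_zpowers, hm]⟩
    exact h1.card_modEq_card_fixedPoints ↥O
  -- fixed points of `b`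
  have h1 := key b hbB hb2
  have h2 : MulAction.fixedPoints ↥(zpowers (⟨b, hbB⟩ : ↥B)) ↥O = ∅ := by
    rw [Set.eq_empty_iff_forall_notMem]
    rintro ⟨x, hx⟩ hfix
    have h3 := hfix ⟨⟨b, hbB⟩, mem_zpowers _⟩
    have h4 : b • x = x := congrArg Subtype.val h3
    obtain ⟨⟨β, hβ⟩, hβx⟩ := hx
    have h5 : x = ((β * g : Γ) : Γ ⧸ Y) := hβx.symm
    rw [h5] at h4
    have h6 : ((b * (β * g) : Γ) : Γ ⧸ Y) = ((β * g : Γ) : Γ ⧸ Y) := h4
    rw [eq_comm, QuotientGroup.eq] at h6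
    have h7 : β * g ∈ Y := by
      by_contra hne
      exact huniq _ hne (by simpa [mul_assoc] using h6)
    exact hcon β⁻¹ (inv_mem hβ) (by simpa using h7)
  -- fixed points of `g b g⁻¹`
  have hcB : g * b * g⁻¹ ∈ B := hBn.conj_mem b hbB g
  have h3 := key (g * b * g⁻¹) hcB (by
    obtain ⟨k, hk⟩ := hb2
    exact ⟨k, by rw [conj_pow, hk]; group⟩)
  have hgO : ((g : Γ) : Γ ⧸ Y) ∈ O := MulAction.mem_orbit_self _
  have h4 : MulAction.fixedPoints ↥(zpowers (⟨g * b * g⁻¹, hcB⟩ : ↥B)) ↥O = {⟨((g : Γ) : Γ ⧸ Y), hgO⟩} := by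
    apply Set.eq_singleton_iff_unique_mem.mpr
    constructor
    · have h5 : (g * b * g⁻¹) • ((g : Γ) : Γ ⧸ Y) = ((g : Γ) : Γ ⧸ Y) := by
        show ((g * b * g⁻¹ * g : Γ) : Γ ⧸ Y) = ((g : Γ) : Γ ⧸ Y)
        rw [eq_comm, QuotientGroup.eq]
        have : g⁻¹ * (g * b * g⁻¹ * g) = b := by group
        rw [this]; exact hbY
      rintro ⟨s, n, rfl⟩
      apply Subtype.ext
      show ((((⟨g * b * g⁻¹, hcB⟩ : ↥B) ^ n : ↥B)) : Γ) • ((g : Γ) : Γ ⧸ Y) = ((g : Γ) : Γ ⧸ Y)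
      have h6 : g * b * g⁻¹ ∈ MulAction.stabilizer Γ ((g : Γ) : Γ ⧸ Y) := h5
      have h7 := zpow_mem h6 n
      rw [SubgroupClass.coe_zpow]
      exact h7
    · rintro ⟨x, hx⟩ hfix
      have h5 := hfix ⟨⟨g * b * g⁻¹, hcB⟩, mem_zpowers _⟩
      have h6 : (g * b * g⁻¹) • x = x := congrArg Subtype.val h5
      apply Subtype.ext
      show x = ((g : Γ) : Γ ⧸ Y)
      induction x using QuotientGroup.induction_on with
      | H y =>
        have h7 : ((g * b * g⁻¹ * y : Γ) : Γ ⧸ Y) = ((y : Γ) : Γ ⧸ Y) := h6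
        rw [eq_comm, QuotientGroup.eq] at h7
        have h8 : g⁻¹ * y ∈ Y := by
          by_contra hne
          exact huniq _ hne (by
            have e : (g⁻¹ * y)⁻¹ * b * (g⁻¹ * y) = y⁻¹ * (g * b * g⁻¹ * y) := by group
            rw [e]; exact h7)
        rw [eq_comm, QuotientGroup.eq]
        exact h8
  rw [h2] at h1
  rw [h4] at h3
  have h5 : Nat.card ↥({⟨((g : Γ) : Γ ⧸ Y), hgO⟩} : Set ↥O) = 1 := by simp
  have h6 : Nat.card ↥(∅ : Set ↥O) = 0 := by simp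
  rw [h5] at h3
  rw [h6] at h1
  have h7 := h3.symm.trans h1
  exact absurd h7 (by decide)

/-! ### The setting -/

variable {G : Type*} [Group G]

/-- The inner part of `F`. -/
def inn (K F : Subgroup G) : Subgroup G where
  carrier := {e | e ∈ F ∧ ∃ c ∈ centralizer (K : Set G), ∃ k ∈ K, e = c * k}
  one_mem' := ⟨F.one_mem, 1, one_mem _, 1, one_mem _, by simp⟩
  mul_mem' := by
    rintro a b ⟨ha, c, hc, k, hk, rfl⟩ ⟨hb, c', hc', k', hk', rfl⟩
    refine ⟨F.mul_mem ha hb, c * c', mul_mem hc hc', k * k', mul_mem hk hk', ?_⟩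
    have h1 : k * c' = c' * k := mem_centralizer_iff.mp hc' k hk
    calc c * k * (c' * k') = c * (k * c') * k' := by group
      _ = c * (c' * k) * k' := by rw [h1]
      _ = c * c' * (k * k') := by group
  inv_mem' := by
    rintro a ⟨ha, c, hc, k, hk, rfl⟩
    refine ⟨F.inv_mem ha, c⁻¹, inv_mem hc, k⁻¹, inv_mem hk, ?_⟩
    have h1 : k⁻¹ * c⁻¹ = c⁻¹ * k⁻¹ := mem_centralizer_iff.mp (inv_mem hc) k⁻¹ (inv_mem hk)
    rw [mul_inv_rev, h1]

theorem inn_le (K F : Subgroup G) : inn K F ≤ F := fun _ h => h.1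

/-- The centre of `S ∩ K`. -/
def zc (K S : Subgroup G) : Subgroup G := (S ⊓ K) ⊓ centralizer ((S ⊓ K : Subgroup G) : Set G)

theorem mem_zc {K S : Subgroup G} {z : G} : z ∈ zc K S ↔ (z ∈ S ∧ z ∈ K) ∧ ∀ u ∈ S ⊓ K, u * z = z * u := by
  unfold zc
  rw [mem_inf, mem_inf, mem_centralizer_iff]
  rfl

/-- Filtration by lines with base points fixed by `F` modulo the next term. -/
structure Flt (K S F : Subgroup G) (U : ℕ → Subgroup G) (L : ℕ → Set (Subgroup G)) : Prop where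
  zero : U 0 = S ⊓ K
  bot : ∃ n, U n = ⊥
  le : ∀ j, U (j + 1) ≤ U j
  comm : ∀ j, ∀ u ∈ U j, ∀ s ∈ S ⊓ K, s * u * s⁻¹ * u⁻¹ ∈ U (j + 1)
  gen : ∀ j, ∀ u ∈ U j, u ∈ closure ({x | ∃ l ∈ L j, x ∈ l} ∪ (U (j + 1) : Set G))
  line_le : ∀ j, ∀ l ∈ L j, l ≤ U j
  line : ∀ j, ∀ l ∈ L j, IsLineR (S ⊓ K) (U (j + 1)) l
  base : ∀ j, ∀ l ∈ L j, ∃ b ∈ l, b ∉ U (j + 1) ∧ ∀ e ∈ F, e * b * e⁻¹ * b⁻¹ ∈ U (j + 1)

theorem Flt.le_zero {K S F : Subgroup G} {U : ℕ → Subgroup G} {L : ℕ → Set (Subgroup G)} (h : Flt K S F U L)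
    (i : ℕ) : U i ≤ S ⊓ K := by
  induction i with
  | zero => exact h.zero.le
  | succ i ih => exact (h.le i).trans ih

theorem Flt.anti {K S F : Subgroup G} {U : ℕ → Subgroup G} {L : ℕ → Set (Subgroup G)} (h : Flt K S F U L)
    {i j : ℕ} (hij : i ≤ j) : U j ≤ U i := by
  induction j, hij using Nat.le_induction with
  | base => exact le_rfl
  | succ j _ ih => exact (h.le j).trans ih

/-- A subgroup containing all lines of level `≥ i` contains `U i`. -/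
theorem Flt.le_of_lines {K S F : Subgroup G} {U : ℕ → Subgroup G} {L : ℕ → Set (Subgroup G)} (h : Flt K S F U L)
    {H : Subgroup G} {i : ℕ} (hl : ∀ j, i ≤ j → ∀ l ∈ L j, l ≤ H) : U i ≤ H := by
  obtain ⟨n, hn⟩ := h.bot
  have key : ∀ m, U (n - m) ≤ H ∨ n - m < i := by
    intro m
    induction m with
    | zero => left; rw [Nat.sub_zero, hn]; exact bot_le
    | succ m ih =>
      by_cases h1 : n - (m + 1) < i
      · exact Or.inr h1
      · left
        by_cases hm : n ≤ m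
        · have e : n - (m + 1) = n - m := by omega
          rw [e] at h1 ⊢
          exact ih.resolve_right h1
        · have e : n - m = n - (m + 1) + 1 := by omega
          rw [e] at ih
          have ih' := ih.resolve_right (by omega)
          intro u hu
          have h2 := h.gen _ u hu
          have h3 : closure ({x | ∃ l ∈ L (n - (m + 1)), x ∈ l} ∪ (U (n - (m + 1) + 1) : Set G)) ≤ H := by
            rw [closure_le]
            rintro x (⟨l, hl', hx⟩ | hx)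
            · exact hl _ (by omega) l hl' hx
            · exact ih' hx
          exact h3 h2
  by_cases hin : i ≤ n
  · have h1 := key (n - i)
    have e : n - (n - i) = i := by omega
    rw [e] at h1
    exact h1.resolve_right (lt_irrefl _)
  · have h1 : U i ≤ U n := h.anti (by omega)
    rw [hn] at h1
    exact h1.trans bot_le

section

variable [Finite G] {K F Q S : Subgroup G}

/-- the `C(K)`-component of an element of `F ∩ C(K)K` lies in `Q` -/
theorem comp_mem_Q (hcen : ∀ x ∈ K, x ∈ centralizer (K : Set G) → x = 1) (hF2 : IsPGroup 2 ↥F)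
    (hQ : IsSyl Q (centralizer (K : Set G))) (hQF : Q ≤ F) {c k : G} (hc : c ∈ centralizer (K : Set G))
    (hk : k ∈ K) (hck : c * k ∈ F) : c ∈ Q := by
  have hcomm : ∀ k ∈ K, ∀ c ∈ centralizer (K : Set G), k * c = c * k :=
    fun k hk c hc => mem_centralizer_iff.mp hc k hk
  have hFC : F ⊓ centralizer (K : Set G) = Q :=
    le_antisymm (hQ.max _ (hF2.to_le inf_le_left) (le_inf hQF hQ.le) inf_le_right) (le_inf hQF hQ.le)
  obtain ⟨j, hj⟩ := hF2 ⟨_, hck⟩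
  have hj' : (c * k) ^ 2 ^ j = 1 := congrArg Subtype.val hj
  have hkc : Commute c k := (hcomm k hk c hc).symm
  rw [hkc.mul_pow] at hj'
  have h1 : c ^ 2 ^ j = 1 := by
    have h3 : c ^ 2 ^ j = (k ^ 2 ^ j)⁻¹ := eq_inv_of_mul_eq_one_left hj'
    apply hcen
    · rw [h3]; exact inv_mem (pow_mem hk _)
    · exact pow_mem hc _
  apply BaryEnd.mem_of_syl hQ hc ⟨j, h1⟩
  intro q hq
  have h6 : c * q * c⁻¹ = c * k * q * (c * k)⁻¹ := by
    have h7 : k * q = q * k := hcomm k hk q (hQ.le hq)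
    calc c * q * c⁻¹ = c * (q * k) * k⁻¹ * c⁻¹ := by group
      _ = c * (k * q) * k⁻¹ * c⁻¹ := by rw [h7]
      _ = c * k * q * (c * k)⁻¹ := by group
  rw [← hFC]
  refine mem_inf.mpr ⟨?_, mul_mem (mul_mem hc (hQ.le hq)) (inv_mem hc)⟩
  rw [h6]
  exact mul_mem (mul_mem hck (hQF hq)) (inv_mem hck)

/-- `S ∩ N(K)^n = F` for `n ∈ N(F) ∖ N(K)` -/
theorem mem_of_conj {C M : Subgroup G} (h : MaxE C M F) (hS2 : IsPGroup 2 ↥S) (hSM : S ≤ M) (hFS : F ≤ S)
    {n s : G} (hn : n ∈ normalizer (F : Set G)) (hnM : n ∉ M) (hs : s ∈ S) (hns : n⁻¹ * s * n ∈ M) : s ∈ F := by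
  have h1 : F ≤ S ⊓ cj n M := by
    refine le_inf hFS ?_
    intro x hx
    rw [mem_cj]
    exact h.le ((mem_normalizer_iff''.mp hn x).mp hx)
  have h2 : normalizer (F : Set G) ⊓ (S ⊓ cj n M) ≤ F := by
    rintro y ⟨hyN, hyS, hyn⟩
    obtain ⟨k, hk⟩ := hS2 ⟨y, hyS⟩
    exact h.mem_of_conj hn hnM hyN (hSM hyS) ⟨k, congrArg Subtype.val hk⟩ (mem_cj.mp hyn)
  have h3 := Cfsg.Agent.Blocks.SylowIn.eq_of_normalizer_inf_le (hS2.to_le inf_le_left) h1 h2
  have h4 : s ∈ S ⊓ cj n M := ⟨hs, mem_cj.mpr hns⟩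
  rw [h3] at h4
  exact h4

/-- **(1B), no graph part.** -/
theorem core (ht : TightAt K) (hcen : ∀ x ∈ K, x ∈ centralizer (K : Set G) → x = 1) (h : KMaxE K F)
    (hQ : IsSyl Q (centralizer (K : Set G))) (hQF : Q ≤ F) (hS : IsPGroup 2 ↥S)
    (hSM : S ≤ normalizer (K : Set G)) (hFS : F ≤ S)
    {U : ℕ → Subgroup G} {L : ℕ → Set (Subgroup G)} (hU : Flt K S F U L)
    (hZ : ∀ e ∈ F, (∀ z ∈ zc K S, e * z = z * e) → ∃ c ∈ centralizer (K : Set G), ∃ k ∈ K, e = c * k)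
    (hinn : ∃ n ∈ normalizer (F : Set G), n ∉ normalizer (K : Set G) ∧ ∃ v ∈ F, orderOf v = 2 ∧
      n⁻¹ * v * n ∈ centralizer (K : Set G) ∧ (∀ e ∈ F, e * v = v * e) ∧
      ∃ c ∈ centralizer (K : Set G), ∃ k ∈ K, v = c * k)
    (hA : ∀ j, U (j + 1) ≤ F → zc K S ≤ F → ∀ n ∈ normalizer (F : Set G), n ∉ normalizer (K : Set G) →
      ∀ z ∈ zc K S, ∀ u ∈ U (j + 1), u * (n * z * n⁻¹) = n * z * n⁻¹ * u)
    (hUF : ¬ S ⊓ K ≤ F) : False := by
  classical
  set M := normalizer (K : Set G) with hM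
  set C := centralizer (K : Set G) with hC
  set N := normalizer (F : Set G) with hN
  have hF2 : IsPGroup 2 ↥F := h.maxE.isPGroup
  have hcomm : ∀ k ∈ K, ∀ c ∈ C, k * c = c * k := fun k hk c hc => mem_centralizer_iff.mp hc k hk
  have hKM : ∀ m ∈ M, ∀ k ∈ K, m * k * m⁻¹ ∈ K := fun m hm k hk => (mem_normalizer_iff.mp hm k).mp hk
  have hcjF : ∀ n ∈ N, ∀ x ∈ F, n⁻¹ * x * n ∈ F := fun n hn x hx => (mem_normalizer_iff''.mp hn x).mp hx
  have hcjF' : ∀ n ∈ N, ∀ x ∈ F, n * x * n⁻¹ ∈ F := fun n hn x hx => (mem_normalizer_iff.mp hn x).mp hx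
  obtain ⟨n₀, hn₀, hn₀M, v, hvF, hv2, hvC, hvc, c₀, hc₀, k₀, hk₀, hvck⟩ := hinn
  have hSF : ∀ n ∈ N, n ∉ M → ∀ s ∈ S, n⁻¹ * s * n ∈ M → s ∈ F := fun n hn hnM s hs hns =>
    mem_of_conj h.maxE hS hSM hFS hn hnM hs hns
  have hc₀Q : c₀ ∈ Q := comp_mem_Q hcen hF2 hQ hQF hc₀ hk₀ (by rw [← hvck]; exact hvF)
  have hk₀F : k₀ ∈ F := by
    have e : k₀ = c₀⁻¹ * v := by rw [hvck]; group
    rw [e]; exact mul_mem (inv_mem (hQF hc₀Q)) hvF
  have hk₀U : k₀ ∈ S ⊓ K := ⟨hFS hk₀F, hk₀⟩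
  -- commuting with `k₀` gives membership in `F`
  have hkF : ∀ x ∈ S, x ∈ K → x * k₀ = k₀ * x → x ∈ F := by
    intro x hxS hxK hx
    have h1 : x * v = v * x := by
      rw [hvck]
      calc x * (c₀ * k₀) = (x * c₀) * k₀ := by group
        _ = (c₀ * x) * k₀ := by rw [hcomm x hxK c₀ hc₀]
        _ = c₀ * (x * k₀) := by group
        _ = c₀ * (k₀ * x) := by rw [hx]
        _ = c₀ * k₀ * x := by group
    exact hSF n₀ hn₀ hn₀M x hxS (Tight.mem_of_comm ht hvC hv2 h1)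
  have hZF : zc K S ≤ F := by
    intro z hz
    rw [mem_zc] at hz
    exact hkF z hz.1.1 hz.1.2 (hz.2 k₀ hk₀U).symm
  -- the level
  have hex : ∃ j, U j ≤ F := by
    obtain ⟨n, hn⟩ := hU.bot
    exact ⟨n, by rw [hn]; exact bot_le⟩
  have h1 := Nat.find_spec hex
  have h2 : Nat.find hex ≠ 0 := by
    intro h0
    rw [h0, hU.zero] at h1
    exact hUF h1
  obtain ⟨i, hi⟩ := Nat.exists_eq_succ_of_ne_zero h2
  rw [hi] at h1
  have h3 : ¬ U i ≤ F := Nat.find_min hex (by omega)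
  obtain ⟨l, hlL, hlF⟩ : ∃ l ∈ L i, ¬ l ≤ F := by
    by_contra hcon
    push Not at hcon
    apply h3
    intro u hu
    have h5 := hU.gen i u hu
    have h6 : closure ({x | ∃ l ∈ L i, x ∈ l} ∪ (U (i + 1) : Set G)) ≤ F := by
      rw [closure_le]
      rintro x (⟨l, hl, hx⟩ | hx)
      · exact hcon l hl hx
      · exact h1 hx
    exact h6 h5
  have hlU : l ≤ U i := hU.line_le i l hlL
  have hlS : l ≤ S ⊓ K := hlU.trans (hU.le_zero i)
  have hline := hU.line i l hlL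
  obtain ⟨b, hbl, hb1, hbF⟩ := hU.base i l hlL
  have hbS : b ∈ S ⊓ K := hlS hbl
  have hbK : b ∈ K := hbS.2
  have hl2 : IsPGroup 2 ↥l := hS.to_le (hlS.trans inf_le_left)
  have hb2 : ∃ k : ℕ, b ^ 2 ^ k = 1 := by
    obtain ⟨k, hk⟩ := hl2 ⟨b, hbl⟩
    exact ⟨k, congrArg Subtype.val hk⟩
  have hbnF : b ∉ F := by
    intro hbF'
    apply hlF
    intro x hx
    have h5 : b * k₀ = k₀ * b := by
      have h6 := hvc b hbF'
      rw [hvck] at h6
      have h7 : c₀ * (b * k₀) = c₀ * (k₀ * b) := by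
        calc c₀ * (b * k₀) = (c₀ * b) * k₀ := by group
          _ = b * c₀ * k₀ := by rw [hcomm b hbK c₀ hc₀]
          _ = b * (c₀ * k₀) := by group
          _ = c₀ * k₀ * b := h6
          _ = c₀ * (k₀ * b) := by group
      exact mul_left_cancel h7
    exact hkF x (hlS hx).1 (hlS hx).2 (hline.star k₀ hk₀U b hbl hb1 h5 x hx)
  have hbN : b ∈ N := by
    apply mem_normalizer_fintype
    intro e he
    have h5 := h1 (hbF e he)
    have e1 : b * e * b⁻¹ = (e * b * e⁻¹ * b⁻¹)⁻¹ * e := by group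
    rw [e1]
    exact mul_mem (inv_mem h5) he
  have hbM : b ∈ M := le_normalizer hbK
  -- commutators with `b⁻¹`
  have hbF' : ∀ e ∈ F, e * b⁻¹ * e⁻¹ * b ∈ U (i + 1) := by
    intro e he
    have h5 := hbF e he
    have h6 := hU.comm (i + 1) _ h5 b⁻¹ (inv_mem hbS)
    have h7 := hU.le (i + 1) h6
    have h8 : b⁻¹ * (e * b * e⁻¹ * b⁻¹) * b ∈ U (i + 1) := by
      have h9 := mul_mem h7 h5
      have e1 : b⁻¹ * (e * b * e⁻¹ * b⁻¹) * b⁻¹⁻¹ * (e * b * e⁻¹ * b⁻¹)⁻¹ * (e * b * e⁻¹ * b⁻¹) =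
          b⁻¹ * (e * b * e⁻¹ * b⁻¹) * b := by group
      rwa [e1] at h9
    have h9 := inv_mem h8
    have e1 : (b⁻¹ * (e * b * e⁻¹ * b⁻¹) * b)⁻¹ = e * b⁻¹ * e⁻¹ * b := by group
    rwa [e1] at h9
  -- the predicate
  let P : G → G → Prop := fun n e => e ∈ F ∧ ∀ z ∈ zc K S, e * (n * z * n⁻¹) = n * z * n⁻¹ * e
  have hPmul : ∀ g ∈ N, ∀ n e, P (g * n) e ↔ P n (g⁻¹ * e * g) := by
    intro g hg n e
    constructor
    · rintro ⟨he, hz⟩
      refine ⟨hcjF g hg e he, fun z hz' => ?_⟩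
      have h5 := hz z hz'
      calc g⁻¹ * e * g * (n * z * n⁻¹) = g⁻¹ * (e * (g * n * z * (g * n)⁻¹)) * g := by group
        _ = g⁻¹ * (g * n * z * (g * n)⁻¹ * e) * g := by rw [h5]
        _ = n * z * n⁻¹ * (g⁻¹ * e * g) := by group
    · rintro ⟨he, hz⟩
      have he' : e ∈ F := by
        have h5 := hcjF' g hg _ he
        have e1 : g * (g⁻¹ * e * g) * g⁻¹ = e := by group
        rwa [e1] at h5
      refine ⟨he', fun z hz' => ?_⟩
      have h5 := hz z hz'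
      calc e * (g * n * z * (g * n)⁻¹) = g * (g⁻¹ * e * g * (n * z * n⁻¹)) * g⁻¹ := by group
        _ = g * (n * z * n⁻¹ * (g⁻¹ * e * g)) * g⁻¹ := by rw [h5]
        _ = g * n * z * (g * n)⁻¹ * e := by group
  have hP1 : ∀ e, P 1 e ↔ e ∈ inn K F := by
    intro e
    constructor
    · rintro ⟨he, hz⟩
      refine ⟨he, hZ e he fun z hz' => ?_⟩
      simpa using hz z hz'
    · rintro ⟨he, c, hc, k, hk, rfl⟩
      refine ⟨he, fun z hz' => ?_⟩
      have hcQ := comp_mem_Q hcen hF2 hQ hQF hc hk he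
      have hkF' : k ∈ F := by
        have e1 : k = c⁻¹ * (c * k) := by group
        rw [e1]; exact mul_mem (inv_mem (hQF hcQ)) he
      rw [mem_zc] at hz'
      have h5 := hz'.2 k ⟨hFS hkF', hk⟩
      have h6 : z * c = c * z := hcomm z hz'.1.2 c hc
      have h7 : c * k * z = z * (c * k) := by
        calc c * k * z = c * (k * z) := by group
          _ = c * (z * k) := by rw [h5]
          _ = (c * z) * k := by group
          _ = (z * c) * k := by rw [h6]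
          _ = z * (c * k) := by group
      simpa using h7
  have hinnM : ∀ m ∈ N, m ∈ M → ∀ e ∈ inn K F, m⁻¹ * e * m ∈ inn K F := by
    rintro m hm hmM e ⟨he, c, hc, k, hk, rfl⟩
    refine ⟨hcjF m hm _ he, m⁻¹ * c * m, ?_, m⁻¹ * k * m, ?_, by group⟩
    · have h5 := ht.norm m⁻¹ (inv_mem hmM) c hc
      rwa [inv_inv] at h5
    · have h5 := hKM m⁻¹ (inv_mem hmM) k hk
      rwa [inv_inv] at h5
  have hPM : ∀ m ∈ N, m ∈ M → ∀ e, P m e ↔ P 1 e := by
    intro m hm hmM e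
    have h5 := hPmul m hm 1 e
    rw [mul_one] at h5
    rw [h5, hP1, hP1]
    constructor
    · intro h6
      have h7 := hinnM m⁻¹ (inv_mem hm) (inv_mem hmM) _ h6
      have e1 : m⁻¹⁻¹ * (m⁻¹ * e * m) * m⁻¹ = e := by group
      rwa [e1] at h7
    · exact hinnM m hm hmM e
  have hPnm : ∀ n ∈ N, ∀ m ∈ N, m ∈ M → ∀ e, P (n * m) e ↔ P n e := by
    intro n hn m hm hmM e
    have h5 := hPmul n hn 1 e
    rw [mul_one] at h5
    rw [hPmul n hn m e, hPM m hm hmM, h5]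
  -- `b` preserves the predicate
  have hPb : ∀ n ∈ N, ∀ e, P (b * n) e ↔ P n e := by
    intro n hn e
    by_cases hnM : n ∈ M
    · rw [hPM _ (mul_mem hbN hn) (mul_mem hbM hnM), hPM n hn hnM]
    · rw [hPmul b hbN n e]
      have key : ∀ u ∈ U (i + 1), ∀ e ∈ F, (∀ z ∈ zc K S, e * (n * z * n⁻¹) = n * z * n⁻¹ * e) →
          ∀ z ∈ zc K S, e * u * (n * z * n⁻¹) = n * z * n⁻¹ * (e * u) := by
        intro u hu e _ hz z hz'
        have h6 := hA i h1 hZF n hn hnM z hz' _ hu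
        have h7 := hz z hz'
        calc e * u * (n * z * n⁻¹) = e * (u * (n * z * n⁻¹)) := by group
          _ = e * (n * z * n⁻¹ * u) := by rw [h6]
          _ = (e * (n * z * n⁻¹)) * u := by group
          _ = (n * z * n⁻¹ * e) * u := by rw [h7]
          _ = n * z * n⁻¹ * (e * u) := by group
      constructor
      · rintro ⟨he, hz⟩
        have he' : e ∈ F := by
          have h5 := hcjF' b hbN _ he
          have e1 : b * (b⁻¹ * e * b) * b⁻¹ = e := by group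
          rwa [e1] at h5
        refine ⟨he', fun z hz' => ?_⟩
        have h4 : b⁻¹ * e * b ∈ F := he
        have h5 := key _ (hbF (b⁻¹ * e * b)⁻¹ (inv_mem h4)) _ he hz z hz'
        have e1 : b⁻¹ * e * b * ((b⁻¹ * e * b)⁻¹ * b * (b⁻¹ * e * b)⁻¹⁻¹ * b⁻¹) = e := by group
        rwa [e1] at h5
      · rintro ⟨he, hz⟩
        refine ⟨hcjF b hbN e he, fun z hz' => ?_⟩
        have h5 := key _ (hbF' e⁻¹ (inv_mem he)) e he hz z hz'
        have e1 : e * (e⁻¹ * b⁻¹ * e⁻¹⁻¹ * b) = b⁻¹ * e * b := by group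
        rwa [e1] at h5
  -- the stabilizer of the predicate
  let H : Subgroup ↥N :=
    { carrier := {x | ∀ n ∈ N, ∀ e, P (x * n) e ↔ P n e}
      one_mem' := by
        intro n _ e
        simp
      mul_mem' := by
        intro x y hx hy n hn e
        have e1 : ((x * y : ↥N) : G) * n = x * (y * n) := by push_cast; group
        rw [e1, hx _ (mul_mem y.2 hn), hy n hn]
      inv_mem' := by
        intro x hx n hn e
        have h5 := hx ((x⁻¹ : ↥N) * n) (mul_mem (x⁻¹ : ↥N).2 hn) e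
        have e1 : (x : G) * (((x⁻¹ : ↥N) : G) * n) = n := by push_cast; group
        rw [e1] at h5
        exact h5.symm }
  have hHn : H.Normal := by
    refine ⟨?_⟩
    intro x hx g n hn e
    have e1 : ((g * x * g⁻¹ : ↥N) : G) * n = g * (x * ((g : G)⁻¹ * n)) := by push_cast; group
    rw [e1, hPmul g g.2, hx _ (mul_mem (inv_mem g.2) hn), ← hPmul g g.2]
    have e2 : (g : G) * ((g : G)⁻¹ * n) = n := by group
    rw [e2]
  have hbH : (⟨b, hbN⟩ : ↥N) ∈ H := fun n hn e => hPb n hn e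
  have htrans := fun g : ↥N => gleason (Y := M.subgroupOf N) (B := H) hHn hbH (mem_subgroupOf.mpr hbM)
    (by obtain ⟨k, hk⟩ := hb2; exact ⟨k, Subtype.ext hk⟩) (by
      intro g hg hgb
      apply hbnF
      exact h.maxE.mem_of_conj g.2 (fun h' => hg (mem_subgroupOf.mpr h')) hbN hbM hb2 (mem_subgroupOf.mp hgb)) g
  have hPall : ∀ g ∈ N, ∀ e, P g e ↔ P 1 e := by
    intro g hg e
    obtain ⟨x, hx, hxg⟩ := htrans ⟨g, hg⟩
    have h5 : (x : G)⁻¹ * g ∈ M := mem_subgroupOf.mp hxg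
    have h6 : (x : G)⁻¹ * g ∈ N := mul_mem (inv_mem x.2) hg
    have h7 := hx _ h6 e
    have e1 : (x : G) * ((x : G)⁻¹ * g) = g := by group
    rw [e1] at h7
    rw [h7]
    exact hPM _ h6 h5 e
  -- `N(F)` normalizes the inner part
  have hNE : N ≤ normalizer ((inn K F : Subgroup G) : Set G) := by
    intro g hg
    apply mem_normalizer_fintype
    intro e he
    have h5 := hPmul g⁻¹ (inv_mem hg) 1 e
    rw [mul_one, inv_inv] at h5
    exact (hP1 _).mp (h5.mp ((hPall _ (inv_mem hg) e).mpr ((hP1 e).mpr he)))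
  have hlK : l ≤ K := hlS.trans inf_le_right
  -- conclusion
  refine KMaxE.false_of_lineR_omegaZ h (E₁ := inn K F) (Q := Q) (l := l) (D := U (i + 1)) ht hcen hQ ?_
    (inn_le K F) ?_ ⟨n₀, hNE hn₀, hn₀M⟩ ?_ ?_ hl2 hlK ?_ ?_ ?_
  · intro q hq
    exact ⟨hQF hq, q, hQ.le hq, 1, one_mem _, by simp⟩
  · intro x hx
    exact ⟨hx.1, 1, one_mem _, x, hx.2, by simp⟩
  · intro n hn v hv
    have h5 : n * v * n⁻¹ ∈ inn K F := (mem_normalizer_iff.mp hn v).mp hv.1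
    exact h5.2
  · exact hline.mono fun y hy => ⟨hFS hy.1.1, hy.2⟩
  · intro x hx
    apply mem_normalizer_fintype
    rintro e ⟨he, c, hc, k, hk, rfl⟩
    have hcQ := comp_mem_Q hcen hF2 hQ hQF hc hk he
    have hkF' : k ∈ F := by
      have e1 : k = c⁻¹ * (c * k) := by group
      rw [e1]; exact mul_mem (inv_mem (hQF hcQ)) he
    have h5 : k * x * k⁻¹ * x⁻¹ ∈ U (i + 1) := hU.comm i x (hlU hx) k ⟨hFS hkF', hk⟩
    have h6 : k * x * k⁻¹ * x⁻¹ ∈ F := h1 h5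
    have h8 : k * x * k⁻¹ * x⁻¹ ∈ K := (hU.le_zero (i + 1) h5).2
    have h7 : x * c = c * x := hcomm x (hlK hx) c hc
    have h10 : x * (c * k) * x⁻¹ = c * ((k * x * k⁻¹ * x⁻¹)⁻¹ * k) := by
      calc x * (c * k) * x⁻¹ = (x * c) * k * x⁻¹ := by group
        _ = (c * x) * k * x⁻¹ := by rw [h7]
        _ = c * ((k * x * k⁻¹ * x⁻¹)⁻¹ * k) := by group
    rw [h10]
    exact ⟨mul_mem (hQF hcQ) (mul_mem (inv_mem h6) hkF'), c, hc, _, mul_mem (inv_mem h8) hk, rfl⟩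
  · intro hle
    exact hlF (hle.trans (inn_le K F))
  · intro x hx
    exact ⟨h1 hx, 1, one_mem _, x, (hU.le_zero _ hx).2, by simp⟩

end

end Cfsg.Agent.OddHalf.D4.NoGraph
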