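import Cfsg.Agent.OddHalf.D7.Cases
import Cfsg.Agent.OddHalf.D9.Cut
import Cfsg.Agent.OddHalf.Main

/-!
# ODD half, node D4: the rows

`d4_of_rows`: the node `Iface.D4` (standard component `K` with `m_2(C(K)) ≥ 2`) from the multiplier facts on the
quasisimple groups with even centre and one row for each family of groups `K`.

* `Row1 P`: no `K` with `Z(K) = 1` and `P K`; `Row0 P`: no `K` with `P K` (used for `Z(K) ≠ 1`, `K` without
  maximality).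
* the groups over `F_2` and over `F_q`, `q ≥ 4`, are in different rows.
-/

set_option autoImplicit false
set_option linter.style.haveILetI false

namespace Cfsg.Agent.OddHalf.D4.Cut

open Subgroup Cfsg Cfsg.Agent.OddHalf.Iface Cfsg.Agent.OddHalf.D7.Cases Cfsg.Agent.OddHalf.D9.Cut
  Cfsg.Agent.OddHalf.Iso5

universe u

/-- The row of a property of the simple group `K`: standard, of maximal order, `Z(K) = 1`, `m_2(C(K)) ≥ 2`. -/
def Row1 (P : (K : Type u) → [Group K] → Prop) : Prop :=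
  ∀ (G : Type u) [Group G], Ctx G → ∀ K : Subgroup G, Std G K → ¬ PRankLE 2 1 ↥(centralizer (K : Set G)) →
    center ↥K = ⊥ → P ↥K → False

/-- The row of a property of `K`: standard, `m_2(C(K)) ≥ 2`. -/
def Row0 (P : (K : Type u) → [Group K] → Prop) : Prop :=
  ∀ (G : Type u) [Group G], Ctx G → ∀ K : Subgroup G, Std0 G K → ¬ PRankLE 2 1 ↥(centralizer (K : Set G)) →
    P ↥K → False

theorem Row0.row1 {P : (K : Type u) → [Group K] → Prop} (h : Row0 P) : Row1 P :=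
  fun G _ C K S hr _ hP => h G C K S.toStd0 hr hP

theorem Row1.mono {P Q : (K : Type u) → [Group K] → Prop} (h : Row1 Q)
    (hPQ : ∀ (K : Type u) [Group K], P K → Q K) : Row1 P :=
  fun G _ C K S hr hz hP => h G C K S hr hz (hPQ _ hP)

/-! ### The families in characteristic 2 -/

section Types

variable (X : Type u) [Group X]

/-- `L_2(2^a)`, `a ≥ 3` -/
def L2e : Prop := ∃ (F : Type) (_ : Field F) (_ : Fintype F) (a : ℕ), 3 ≤ a ∧ Fintype.card F = 2 ^ a ∧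
  Nonempty (X ≃* Matrix.ProjectiveSpecialLinearGroup (Fin 2) F)
/-- `U_3(2^a)`, `a ≥ 2` -/
def U3e : Prop := ∃ (F : Type) (_ : Field F) (_ : Fintype F) (a : ℕ), 2 ≤ a ∧ Fintype.card F = 4 ^ a ∧
  Nonempty (X ≃* PSU 3 F (2 ^ a))
/-- `Sz(2^(2m+1))`, `m ≥ 2` -/
def Sze : Prop := ∃ (F : Type) (_ : Field F) (_ : Fintype F) (m : ℕ), 2 ≤ m ∧ Fintype.card F = 2 ^ (2 * m + 1) ∧
  Nonempty (X ≃* ↥(Lie.Sz F (2 ^ (m + 1))))
/-- `L_3(2^a)`, `a ≥ 3` -/
def L3e : Prop := ∃ (F : Type) (_ : Field F) (_ : Fintype F) (a : ℕ), 3 ≤ a ∧ Fintype.card F = 2 ^ a ∧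
  Nonempty (X ≃* Matrix.ProjectiveSpecialLinearGroup (Fin 3) F)
/-- `Sp_4(2^a)`, `a ≥ 2` -/
def Sp4e : Prop := ∃ (F : Type) (_ : Field F) (_ : Fintype F) (a : ℕ), 2 ≤ a ∧ Fintype.card F = 2 ^ a ∧
  Nonempty (X ≃* PSp 2 F)
/-- `G_2(2^a)`, `a ≥ 3` -/
def G2e : Prop := ∃ (F : Type) (_ : Field F) (_ : Fintype F) (a : ℕ), 3 ≤ a ∧ Fintype.card F = 2 ^ a ∧
  Nonempty (X ≃* ↥(Lie.chevG2.group F))
/-- `U_4(2^a)`, `a ≥ 2` -/
def U4e : Prop := ∃ (F : Type) (_ : Field F) (_ : Fintype F) (a : ℕ), 2 ≤ a ∧ Fintype.card F = 4 ^ a ∧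
  Nonempty (X ≃* PSU 4 F (2 ^ a))
/-- `U_5(2^a)`, `a ≥ 2` -/
def U5e : Prop := ∃ (F : Type) (_ : Field F) (_ : Fintype F) (a : ℕ), 2 ≤ a ∧ Fintype.card F = 4 ^ a ∧
  Nonempty (X ≃* PSU 5 F (2 ^ a))
/-- `U_5(2)` -/
def U52 : Prop := ∃ (F : Type) (_ : Field F) (_ : Fintype F), Fintype.card F = 4 ∧ Nonempty (X ≃* PSU 5 F 2)
/-- `³D_4(2)` -/
def D4t2 : Prop := ∃ (F : Type) (_ : Field F) (_ : Fintype F), Fintype.card F = 8 ∧
  Nonempty (X ≃* ↥(Lie.twistedD4 F 2))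
/-- `³D_4(2^a)`, `a ≥ 2` -/
def D4te : Prop := ∃ (F : Type) (_ : Field F) (_ : Fintype F) (a : ℕ), 2 ≤ a ∧ Fintype.card F = 8 ^ a ∧
  Nonempty (X ≃* ↥(Lie.twistedD4 F (2 ^ a)))

/-- `L_n(2)`, `n ≥ 5` -/
def Ln2 : Prop := ∃ (F : Type) (_ : Field F) (_ : Fintype F) (n : ℕ), Fintype.card F = 2 ∧ 5 ≤ n ∧
  Nonempty (X ≃* Matrix.ProjectiveSpecialLinearGroup (Fin n) F)
/-- `L_n(2^a)`, `n ≥ 4`, `a ≥ 2` -/
def Lne : Prop := ∃ (F : Type) (_ : Field F) (_ : Fintype F) (a n : ℕ), 2 ≤ a ∧ Fintype.card F = 2 ^ a ∧ 4 ≤ n ∧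
  Nonempty (X ≃* Matrix.ProjectiveSpecialLinearGroup (Fin n) F)
/-- `U_n(2)`, `n ≥ 6` -/
def Un2 : Prop := ∃ (F : Type) (_ : Field F) (_ : Fintype F) (n : ℕ), Fintype.card F = 4 ∧ 6 ≤ n ∧
  Nonempty (X ≃* PSU n F 2)
/-- `U_n(2^a)`, `n ≥ 6`, `a ≥ 2` -/
def Une : Prop := ∃ (F : Type) (_ : Field F) (_ : Fintype F) (a n : ℕ), 2 ≤ a ∧ Fintype.card F = 4 ^ a ∧ 6 ≤ n ∧
  Nonempty (X ≃* PSU n F (2 ^ a))
/-- `Sp_2m(2)`, `m ≥ 4` -/
def Sp2 : Prop := ∃ (F : Type) (_ : Field F) (_ : Fintype F) (m : ℕ), Fintype.card F = 2 ∧ 4 ≤ m ∧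
  Nonempty (X ≃* PSp m F)
/-- `Sp_2m(2^a)`, `m ≥ 3`, `a ≥ 2` -/
def Spe : Prop := ∃ (F : Type) (_ : Field F) (_ : Fintype F) (a m : ℕ), 2 ≤ a ∧ Fintype.card F = 2 ^ a ∧ 3 ≤ m ∧
  Nonempty (X ≃* PSp m F)
/-- `Ω⁺_2m(2)`, `m ≥ 5` -/
def Op2 : Prop := ∃ (F : Type) (_ : Field F) (_ : Fintype F) (m : ℕ), Fintype.card F = 2 ∧ 5 ≤ m ∧
  Nonempty (X ≃* POmega F (quadFormPlus m F))
/-- `Ω⁺_2m(2^a)`, `m ≥ 4`, `a ≥ 2` -/
def Ope : Prop := ∃ (F : Type) (_ : Field F) (_ : Fintype F) (a m : ℕ), 2 ≤ a ∧ Fintype.card F = 2 ^ a ∧ 4 ≤ m ∧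
  Nonempty (X ≃* POmega F (quadFormPlus m F))
/-- `Ω⁻_2m(2)`, `m ≥ 4` -/
def Om2 : Prop := ∃ (F : Type) (_ : Field F) (_ : Fintype F) (m : ℕ) (b c : F), Fintype.card F = 2 ∧ 4 ≤ m ∧
  (∀ z₁ z₂ : F, z₁ ^ 2 + b * z₁ * z₂ + c * z₂ ^ 2 = 0 → z₁ = 0 ∧ z₂ = 0) ∧
  Nonempty (X ≃* POmega F (quadFormMinus (m - 1) F b c))
/-- `Ω⁻_2m(2^a)`, `m ≥ 4`, `a ≥ 2` -/
def Ome : Prop := ∃ (F : Type) (_ : Field F) (_ : Fintype F) (a m : ℕ) (b c : F), 2 ≤ a ∧
  Fintype.card F = 2 ^ a ∧ 4 ≤ m ∧ (∀ z₁ z₂ : F, z₁ ^ 2 + b * z₁ * z₂ + c * z₂ ^ 2 = 0 → z₁ = 0 ∧ z₂ = 0) ∧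
  Nonempty (X ≃* POmega F (quadFormMinus (m - 1) F b c))
/-- `F_4(2^a)`, `a ≥ 2` -/
def F4e : Prop := ∃ (F : Type) (_ : Field F) (_ : Fintype F) (a : ℕ), 2 ≤ a ∧ Fintype.card F = 2 ^ a ∧
  Nonempty (X ≃* ↥(Lie.chevF4.group F))
/-- `E_6(2)` -/
def E62 : Prop := ∃ (F : Type) (_ : Field F) (_ : Fintype F), Fintype.card F = 2 ∧
  Nonempty (X ≃* ↥(Lie.chevE6.group F))
/-- `E_6(2^a)`, `a ≥ 2` -/
def E6e : Prop := ∃ (F : Type) (_ : Field F) (_ : Fintype F) (a : ℕ), 2 ≤ a ∧ Fintype.card F = 2 ^ a ∧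
  Nonempty (X ≃* ↥(Lie.chevE6.group F))
/-- `E_7(2)` -/
def E72 : Prop := ∃ (F : Type) (_ : Field F) (_ : Fintype F), Fintype.card F = 2 ∧
  Nonempty (X ≃* ↥(Lie.chevE7.group F))
/-- `E_7(2^a)`, `a ≥ 2` -/
def E7e : Prop := ∃ (F : Type) (_ : Field F) (_ : Fintype F) (a : ℕ), 2 ≤ a ∧ Fintype.card F = 2 ^ a ∧
  Nonempty (X ≃* ↥(Lie.chevE7.group F))
/-- `E_8(2)` -/
def E82 : Prop := ∃ (F : Type) (_ : Field F) (_ : Fintype F), Fintype.card F = 2 ∧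
  Nonempty (X ≃* ↥(Lie.chevE8.group F))
/-- `E_8(2^a)`, `a ≥ 2` -/
def E8e : Prop := ∃ (F : Type) (_ : Field F) (_ : Fintype F) (a : ℕ), 2 ≤ a ∧ Fintype.card F = 2 ^ a ∧
  Nonempty (X ≃* ↥(Lie.chevE8.group F))
/-- `²E_6(2)` -/
def E6t2 : Prop := ∃ (F : Type) (_ : Field F) (_ : Fintype F), Fintype.card F = 4 ∧
  Nonempty (X ≃* ↥(Lie.twistedE6 F 2))
/-- `²E_6(2^a)`, `a ≥ 2` -/
def E6te : Prop := ∃ (F : Type) (_ : Field F) (_ : Fintype F) (a : ℕ), 2 ≤ a ∧ Fintype.card F = 4 ^ a ∧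
  Nonempty (X ≃* ↥(Lie.twistedE6 F (2 ^ a)))

/-! ### The families in odd characteristic -/

/-- `L_2(7)` -/
def L27 : Prop := ∃ (F : Type) (_ : Field F) (_ : Fintype F), Fintype.card F = 7 ∧
  Nonempty (X ≃* Matrix.ProjectiveSpecialLinearGroup (Fin 2) F)
/-- `L_2(q)`, `q ≥ 11` odd -/
def L2o : Prop := ∃ (F : Type) (_ : Field F) (_ : Fintype F), Odd (Fintype.card F) ∧ 11 ≤ Fintype.card F ∧
  Nonempty (X ≃* Matrix.ProjectiveSpecialLinearGroup (Fin 2) F)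
/-- `²G_2(3^(2m+1))`, `m ≥ 1` -/
def Reeo : Prop := Lie.IsoRee X
/-- `L_n(q)`, `n ≥ 3`, `q` odd -/
def Lno : Prop := ∃ (F : Type) (_ : Field F) (_ : Fintype F) (n : ℕ), Odd (Fintype.card F) ∧ 3 ≤ n ∧
  Nonempty (X ≃* Matrix.ProjectiveSpecialLinearGroup (Fin n) F)
/-- `U_n(q)`, `n ≥ 3`, `q` odd -/
def Uno : Prop := ∃ (F : Type) (_ : Field F) (_ : Fintype F) (n q : ℕ), Odd q ∧ Fintype.card F = q ^ 2 ∧ 3 ≤ n ∧
  Nonempty (X ≃* PSU n F q)
/-- `PSp_2m(q)`, `m ≥ 2`, `q` odd -/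
def Spo : Prop := ∃ (F : Type) (_ : Field F) (_ : Fintype F) (m : ℕ), Odd (Fintype.card F) ∧ 2 ≤ m ∧
  Nonempty (X ≃* PSp m F)
/-- `Ω_(2m+1)(q)`, `m ≥ 3`, `q` odd -/
def Oo : Prop := ∃ (F : Type) (_ : Field F) (_ : Fintype F) (m : ℕ), Odd (Fintype.card F) ∧ 3 ≤ m ∧
  Nonempty (X ≃* POmega F (quadFormOdd m F))
/-- `PΩ⁺_2m(q)`, `m ≥ 4`, `q` odd -/
def Opo : Prop := ∃ (F : Type) (_ : Field F) (_ : Fintype F) (m : ℕ), Odd (Fintype.card F) ∧ 4 ≤ m ∧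
  Nonempty (X ≃* POmega F (quadFormPlus m F))
/-- `PΩ⁻_2m(q)`, `m ≥ 4`, `q` odd -/
def Omo : Prop := ∃ (F : Type) (_ : Field F) (_ : Fintype F) (m : ℕ) (b c : F), Odd (Fintype.card F) ∧ 4 ≤ m ∧
  (∀ z₁ z₂ : F, z₁ ^ 2 + b * z₁ * z₂ + c * z₂ ^ 2 = 0 → z₁ = 0 ∧ z₂ = 0) ∧
  Nonempty (X ≃* POmega F (quadFormMinus (m - 1) F b c))
/-- `G_2(q)`, `q` odd -/
def G2o : Prop := ∃ (F : Type) (_ : Field F) (_ : Fintype F), Odd (Fintype.card F) ∧
  Nonempty (X ≃* ↥(Lie.chevG2.group F))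
/-- `F_4(q)`, `E_6(q)`, `E_7(q)`, `E_8(q)`, `q` odd -/
def Exo : Prop := ∃ (F : Type) (_ : Field F) (_ : Fintype F), Odd (Fintype.card F) ∧
  (Nonempty (X ≃* ↥(Lie.chevF4.group F)) ∨ Nonempty (X ≃* ↥(Lie.chevE6.group F)) ∨
    Nonempty (X ≃* ↥(Lie.chevE7.group F)) ∨ Nonempty (X ≃* ↥(Lie.chevE8.group F)))
/-- `²E_6(q)`, `q` odd -/
def E6to : Prop := ∃ (F : Type) (_ : Field F) (_ : Fintype F) (q : ℕ), Odd q ∧ IsPrimePow q ∧
  Fintype.card F = q ^ 2 ∧ Nonempty (X ≃* ↥(Lie.twistedE6 F q))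
/-- `³D_4(q)`, `q` odd -/
def D4to : Prop := ∃ (F : Type) (_ : Field F) (_ : Fintype F) (q : ℕ), Odd q ∧ IsPrimePow q ∧
  Fintype.card F = q ^ 3 ∧ Nonempty (X ≃* ↥(Lie.twistedD4 F q))

/-- The groups of Lie type in odd characteristic which are not alternating. -/
def Odds : Prop :=
  L27 X ∨ L2o X ∨ Reeo X ∨ Lno X ∨ Uno X ∨ Spo X ∨ Oo X ∨ Opo X ∨ Omo X ∨ G2o X ∨ Exo X ∨ E6to X ∨ D4to X

end Types

section

variable {X : Type u} [Group X]

theorem card_odd {F : Type} [Field F] [Fintype F] {p : ℕ} [CharP F p] (hp : p.Prime) (hp2 : p ≠ 2) :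
    Odd (Fintype.card F) := by
  obtain ⟨n, hn, h⟩ := FiniteField.card F p
  rw [h]
  exact (hp.odd_of_ne_two hp2).pow

theorem card_ne_nine_of {F : Type} [Field F] [Fintype F] (ha : ¬ IsAlternating X)
    (e : X ≃* Matrix.ProjectiveSpecialLinearGroup (Fin 2) F) :
    Fintype.card F ≠ 5 ∧ Fintype.card F ≠ 9 :=
  ⟨fun h => ha (isAlternating_of_l25 h e), fun h => ha (isAlternating_of_l29 h e)⟩

/-- The cases of `LieOdd`. -/
theorem lieOdd_cases (h : LieOdd X) (ha : ¬ IsAlternating X) : Odds X := by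
  obtain ⟨p, hp, hp2, h⟩ := h
  rcases h with h | h | h | h | h | h | h | h | ⟨h2, -⟩ | ⟨h2, -⟩ | ⟨-, h⟩
  · obtain ⟨F, _, _, _, n, h1, h2, ⟨e⟩⟩ := h
    have ho := card_odd (F := F) hp hp2
    by_cases hn : n = 2
    · subst hn
      have h4 := h2 rfl
      obtain ⟨h5, h9⟩ := card_ne_nine_of ha e
      by_cases h7 : Fintype.card F = 7
      · exact Or.inl ⟨F, _, _, h7, ⟨e⟩⟩
      · refine Or.inr (Or.inl ⟨F, _, _, ho, ?_, ⟨e⟩⟩)
        obtain ⟨k, hk⟩ := ho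
        omega
    · exact Or.inr (Or.inr (Or.inr (Or.inl ⟨F, _, _, n, ho, by omega, ⟨e⟩⟩)))
  · obtain ⟨F, _, _, _, m, h1, h2, ⟨e⟩⟩ := h
    exact Or.inr (Or.inr (Or.inr (Or.inr (Or.inr (Or.inl ⟨F, _, _, m, card_odd hp hp2, h1, ⟨e⟩⟩)))))
  · obtain ⟨F, _, _, _, n, q, h1, h2, h3, ⟨e⟩⟩ := h
    have ho := card_odd (F := F) hp hp2
    have hq : Odd q := by
      rw [h1] at ho
      by_contra hq
      rw [Nat.not_odd_iff_even] at hq
      exact (Nat.not_even_iff_odd.mpr ho) ((Nat.even_pow' (by norm_num)).mpr hq)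
    exact Or.inr (Or.inr (Or.inr (Or.inr (Or.inl ⟨F, _, _, n, q, hq, h1, h2, ⟨e⟩⟩))))
  · obtain ⟨F, _, _, _, m, h1, h2, ⟨e⟩⟩ := h
    exact Or.inr (Or.inr (Or.inr (Or.inr (Or.inr (Or.inr (Or.inl ⟨F, _, _, m, h2, h1, ⟨e⟩⟩))))))
  · obtain ⟨F, _, _, _, m, h1, ⟨e⟩⟩ := h
    exact Or.inr (Or.inr (Or.inr (Or.inr (Or.inr (Or.inr (Or.inr (Or.inl
      ⟨F, _, _, m, card_odd hp hp2, h1, ⟨e⟩⟩)))))))
  · obtain ⟨F, _, _, _, m, b, c, h1, h2, ⟨e⟩⟩ := h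
    exact Or.inr (Or.inr (Or.inr (Or.inr (Or.inr (Or.inr (Or.inr (Or.inr (Or.inl
      ⟨F, _, _, m, b, c, card_odd hp hp2, h1, h2, ⟨e⟩⟩))))))))
  · obtain ⟨F, _, _, _, h⟩ := h
    have ho := card_odd (F := F) hp hp2
    rcases h with ⟨-, h⟩ | h | h | h | h
    · exact Or.inr (Or.inr (Or.inr (Or.inr (Or.inr (Or.inr (Or.inr (Or.inr (Or.inr (Or.inl
        ⟨F, _, _, ho, h⟩)))))))))
    · exact Or.inr (Or.inr (Or.inr (Or.inr (Or.inr (Or.inr (Or.inr (Or.inr (Or.inr (Or.inr (Or.inl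
        ⟨F, _, _, ho, Or.inl h⟩))))))))))
    · exact Or.inr (Or.inr (Or.inr (Or.inr (Or.inr (Or.inr (Or.inr (Or.inr (Or.inr (Or.inr (Or.inl
        ⟨F, _, _, ho, Or.inr (Or.inl h)⟩))))))))))
    · exact Or.inr (Or.inr (Or.inr (Or.inr (Or.inr (Or.inr (Or.inr (Or.inr (Or.inr (Or.inr (Or.inl
        ⟨F, _, _, ho, Or.inr (Or.inr (Or.inl h))⟩))))))))))
    · exact Or.inr (Or.inr (Or.inr (Or.inr (Or.inr (Or.inr (Or.inr (Or.inr (Or.inr (Or.inr (Or.inl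
        ⟨F, _, _, ho, Or.inr (Or.inr (Or.inr h))⟩))))))))))
  · obtain ⟨F, _, _, _, q, hq', h⟩ := h
    have ho := card_odd (F := F) hp hp2
    rcases h with ⟨h1, h⟩ | ⟨h1, h⟩
    · have hq : Odd q := by
        rw [h1] at ho
        by_contra hq
        rw [Nat.not_odd_iff_even] at hq
        exact (Nat.not_even_iff_odd.mpr ho) ((Nat.even_pow' (by norm_num)).mpr hq)
      exact Or.inr (Or.inr (Or.inr (Or.inr (Or.inr (Or.inr (Or.inr (Or.inr (Or.inr (Or.inr (Or.inr (Or.inl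
        ⟨F, _, _, q, hq, hq', h1, h⟩)))))))))))
    · have hq : Odd q := by
        rw [h1] at ho
        by_contra hq
        rw [Nat.not_odd_iff_even] at hq
        exact (Nat.not_even_iff_odd.mpr ho) ((Nat.even_pow' (by norm_num)).mpr hq)
      exact Or.inr (Or.inr (Or.inr (Or.inr (Or.inr (Or.inr (Or.inr (Or.inr (Or.inr (Or.inr (Or.inr (Or.inr
        ⟨F, _, _, q, hq, hq', h1, h⟩)))))))))))
  · exact absurd h2 hp2
  · exact absurd h2 hp2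
  · exact Or.inr (Or.inr (Or.inl h))

end

/-! ### The rows -/

/-- The rows of the simple groups in characteristic 2. -/
structure RowsTwo : Prop where
  l2e : Row1.{u} (fun K _ => L2e K)
  u3e : Row1.{u} (fun K _ => U3e K)
  sze : Row1.{u} (fun K _ => Sze K)
  l3e : Row1.{u} (fun K _ => L3e K)
  sp4e : Row1.{u} (fun K _ => Sp4e K)
  g2e : Row1.{u} (fun K _ => G2e K)
  u4e : Row1.{u} (fun K _ => U4e K)
  u5e : Row1.{u} (fun K _ => U5e K)
  u52 : Row1.{u} (fun K _ => U52 K)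
  d4t2 : Row1.{u} (fun K _ => D4t2 K)
  d4te : Row1.{u} (fun K _ => D4te K)
  ln2 : Row1.{u} (fun K _ => Ln2 K)
  lne : Row1.{u} (fun K _ => Lne K)
  un2 : Row1.{u} (fun K _ => Un2 K)
  une : Row1.{u} (fun K _ => Une K)
  sp2 : Row1.{u} (fun K _ => Sp2 K)
  spe : Row1.{u} (fun K _ => Spe K)
  op2 : Row1.{u} (fun K _ => Op2 K)
  ope : Row1.{u} (fun K _ => Ope K)
  om2 : Row1.{u} (fun K _ => Om2 K)
  ome : Row1.{u} (fun K _ => Ome K)
  f4e : Row1.{u} (fun K _ => F4e K)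
  f4t : Row1.{u} (fun K _ => Fam2F4 K)
  e62 : Row1.{u} (fun K _ => E62 K)
  e6e : Row1.{u} (fun K _ => E6e K)
  e72 : Row1.{u} (fun K _ => E72 K)
  e7e : Row1.{u} (fun K _ => E7e K)
  e82 : Row1.{u} (fun K _ => E82 K)
  e8e : Row1.{u} (fun K _ => E8e K)
  e6t2 : Row1.{u} (fun K _ => E6t2 K)
  e6te : Row1.{u} (fun K _ => E6te K)
  tits : Row1.{u} (fun K _ => Lie.IsoTits K)

/-- The rows of the simple groups of Lie type in odd characteristic. -/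
structure RowsOdd : Prop where
  l27 : Row1.{u} (fun K _ => L27 K)
  l2o : Row1.{u} (fun K _ => L2o K)
  ree : Row1.{u} (fun K _ => Reeo K)
  ln : Row1.{u} (fun K _ => Lno K)
  un : Row1.{u} (fun K _ => Uno K)
  sp : Row1.{u} (fun K _ => Spo K)
  oo : Row1.{u} (fun K _ => Oo K)
  op : Row1.{u} (fun K _ => Opo K)
  om : Row1.{u} (fun K _ => Omo K)
  g2 : Row1.{u} (fun K _ => G2o K)
  ex : Row1.{u} (fun K _ => Exo K)
  e6t : Row1.{u} (fun K _ => E6to K)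
  d4t : Row1.{u} (fun K _ => D4to K)

/-- The rows of the sporadic groups. -/
structure RowsSpor : Prop where
  m11 : Row1.{u} (fun K _ => Spor.IsoM11 K)
  m22 : Row1.{u} (fun K _ => Spor.IsoM22 K)
  m23 : Row1.{u} (fun K _ => Spor.IsoM23 K)
  m24 : Row1.{u} (fun K _ => Spor.IsoM24 K)
  j1 : Row1.{u} (fun K _ => Spor.IsoJ1 K)
  j2 : Row1.{u} (fun K _ => Spor.IsoJ2 K)
  j3 : Row1.{u} (fun K _ => Spor.IsoJ3 K)
  j4 : Row1.{u} (fun K _ => Spor.IsoJ4 K)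
  co1 : Row1.{u} (fun K _ => Spor.IsoCo1 K)
  co2 : Row1.{u} (fun K _ => Spor.IsoCo2 K)
  co3 : Row1.{u} (fun K _ => Spor.IsoCo3 K)
  hs : Row1.{u} (fun K _ => Spor.IsoHS K)
  suz : Row1.{u} (fun K _ => Spor.IsoSuz K)
  he : Row1.{u} (fun K _ => Spor.IsoHe K)
  ru : Row1.{u} (fun K _ => Spor.IsoRu K)
  on : Row1.{u} (fun K _ => Spor.IsoON K)
  fi22 : Row1.{u} (fun K _ => Spor.IsoFi22 K)
  fi23 : Row1.{u} (fun K _ => Spor.IsoFi23 K)
  fi24 : Row1.{u} (fun K _ => Spor.IsoFi24' K)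
  hn : Row1.{u} (fun K _ => Spor.IsoHN K)
  th : Row1.{u} (fun K _ => Spor.IsoTh K)
  b : Row1.{u} (fun K _ => Spor.IsoB K)
  m : Row1.{u} (fun K _ => Spor.IsoM K)

/-! ### `Z(K) ≠ 1` -/

/-- `K` quasisimple with centre `Z` a noncyclic 2-group. -/
def QsNon (K : Type u) [Group K] : Prop :=
  Finite K ∧ IsQuasisimple K ∧ IsPGroup 2 ↥(center K) ∧ ¬ IsCyclic ↥(center K)

/-- The quotients with a cover with centre `2 × 2`. -/
def ExcV (X : Type u) [Group X] : Prop :=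
  XU62 X ∨ XO82 X ∨ X2E62 X ∨ (∃ (F : Type) (_ : Field F) (_ : Fintype F), Fintype.card F = 8 ∧
    Nonempty (X ≃* ↥(Lie.Sz F 4)))

/-- `Sz(8)` -/
def XSz8 (X : Type u) [Group X] : Prop :=
  ∃ (F : Type) (_ : Field F) (_ : Fintype F), Fintype.card F = 8 ∧ Nonempty (X ≃* ↥(Lie.Sz F 4))

/-- The 2-parts of the multipliers which are needed for `D4` in addition to `D9.Cut.Mult`. -/
structure MultD4 : Prop where
  /-- `Sz(8)` is the only Suzuki group with an even cover -/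
  sz : ∀ (K : Type u) [Group K], QsCyc K → XSz (K ⧸ center K) → center K ≠ ⊥ →
    XSz8 (K ⧸ center K) ∧ Nat.card ↥(center K) = 2
  /-- noncyclic centre, even Lie type -/
  lie : ∀ (K : Type u) [Group K], QsNon K → LieTwo (K ⧸ center K) →
    ExcV (K ⧸ center K) ∨ XL34 (K ⧸ center K)
  /-- noncyclic centre, sporadic -/
  spor : ∀ (K : Type u) [Group K], QsNon K → ¬ IsSporadicGroup (K ⧸ center K)
  /-- the centre of a noncyclic cover of `U_6(2)`, `Ω_8^+(2)`, `²E_6(2)`, `Sz(8)` -/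
  four : ∀ (K : Type u) [Group K], QsNon K → ExcV (K ⧸ center K) → IsKleinFour ↥(center K)
  /-- the noncyclic covers of `L_3(4)` -/
  l34 : ∀ (K : Type u) [Group K], QsNon K → XL34 (K ⧸ center K) →
    (Nat.card ↥(center K) = 4 ∨ Nat.card ↥(center K) = 8 ∨ Nat.card ↥(center K) = 16) ∧
      Nat.card {z : ↥(center K) // z * z = 1} = 4

/-- `K = 2².X` -/
def Vier (P : (X : Type u) → [Group X] → Prop) (K : Type u) [Group K] : Prop :=
  IsKleinFour ↥(center K) ∧ P (K ⧸ center K)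

/-- The rows with `Z(K) ≠ 1`. -/
structure RowsCov : Prop where
  l34 : Row0.{u} (fun K _ => Two (fun X _ => XL34 X) K)
  o82 : Row0.{u} (fun K _ => Two (fun X _ => XO82 X) K)
  g24 : Row0.{u} (fun K _ => Two (fun X _ => XG24 X) K)
  f42 : Row0.{u} (fun K _ => Two (fun X _ => XF42 X) K)
  sz8 : Row0.{u} (fun K _ => Two (fun X _ => XSz8 X) K)
  m12 : Row0.{u} (fun K _ => Two (fun X _ => Spor.IsoM12 X) K)
  j2 : Row0.{u} (fun K _ => Two (fun X _ => Spor.IsoJ2 X) K)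
  suz : Row0.{u} (fun K _ => Two (fun X _ => Spor.IsoSuz X) K)
  ru : Row0.{u} (fun K _ => Two (fun X _ => Spor.IsoRu X) K)
  co1 : Row0.{u} (fun K _ => Two (fun X _ => Spor.IsoCo1 X) K)
  m22 : Row0.{u} (fun K _ => Two (fun X _ => Spor.IsoM22 X) K)
  m22four : Row0.{u} (fun K _ => Nat.card ↥(center K) = 4 ∧ IsCyclic ↥(center K) ∧ Spor.IsoM22 (K ⧸ center K))
  v_u62 : Row0.{u} (fun K _ => Vier (fun X _ => XU62 X) K)
  v_o82 : Row0.{u} (fun K _ => Vier (fun X _ => XO82 X) K)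
  v_2e62 : Row0.{u} (fun K _ => Vier (fun X _ => X2E62 X) K)
  v_sz8 : Row0.{u} (fun K _ => Vier (fun X _ => XSz8 X) K)
  /-- `(4 × 2).L_3(4)`, `(4 × 4).L_3(4)` -/
  non_l34 : Row0.{u} (fun K _ => ¬ IsCyclic ↥(center K) ∧ ¬ IsKleinFour ↥(center K) ∧
    (Nat.card ↥(center K) = 8 ∨ Nat.card ↥(center K) = 16) ∧
    Nat.card {z : ↥(center K) // z * z = 1} = 4 ∧ XL34 (K ⧸ center K))

/-- All the rows. -/
structure Rows : Prop where
  two : RowsTwo.{u}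
  odd : RowsOdd.{u}
  spor : RowsSpor.{u}
  cov : RowsCov.{u}

/-! ### The split -/

variable {G : Type u} [Group G] {K : Subgroup G}

theorem one_of_not_two_le {a : ℕ} (ha : 1 ≤ a) (h : ¬ 2 ≤ a) : a = 1 := by omega

/-- `Z(K) = 1`, characteristic 2 -/
theorem lieTwo_false (R : RowsTwo.{u}) (C : Ctx G) (S : Std G K)
    (hr : ¬ PRankLE 2 1 ↥(centralizer (K : Set G))) (hz : center ↥K = ⊥) (h : LieTwo ↥K) (hl : ¬ Listed K) :
    False := by
  by_cases hs : SmallRank ↥K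
  · rcases hs with ⟨F, _, _, a, ha, hF, ⟨e⟩⟩ | ⟨F, _, _, a, ha, hF, ⟨e⟩⟩ | ⟨F, _, _, m, hm, hF, ⟨e⟩⟩ |
      ⟨F, _, _, a, ha, hF, h3⟩ | ⟨F, _, _, a, ha, hF, h3⟩ | ⟨F, _, _, hF, ⟨e⟩⟩ | ⟨F, _, _, a, ha, hF, ⟨e⟩⟩
    · refine R.l2e G C K S hr hz ⟨F, _, _, a, ?_, hF, ⟨e⟩⟩
      by_contra hlt
      have : a = 2 := by omega
      subst this
      exact h.2.1 (isAlternating_of_l24 (by simpa using hF) e)
    · exact R.u3e G C K S hr hz ⟨F, _, _, a, ha, hF, ⟨e⟩⟩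
    · refine R.sze G C K S hr hz ⟨F, _, _, m, ?_, hF, ⟨e⟩⟩
      by_contra hlt
      have : m = 1 := by omega
      subst this
      exact hl (Or.inl ⟨F, _, _, by simpa using hF, ⟨e⟩⟩)
    · rcases h3 with ⟨⟨e⟩⟩ | ⟨⟨e⟩⟩ | ⟨⟨e⟩⟩
      · refine R.l3e G C K S hr hz ⟨F, _, _, a, ?_, hF, ⟨e⟩⟩
        by_contra hlt
        have : a = 2 := by omega
        subst this
        exact hl (Or.inr (Or.inr (Or.inr (Or.inr (Or.inr (Or.inr (Or.inr (Or.inr (Or.inr (Or.inl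
          ⟨F, _, _, by simpa using hF, ⟨e⟩⟩))))))))))
      · exact R.sp4e G C K S hr hz ⟨F, _, _, a, ha, hF, ⟨e⟩⟩
      · refine R.g2e G C K S hr hz ⟨F, _, _, a, ?_, hF, ⟨e⟩⟩
        by_contra hlt
        have : a = 2 := by omega
        subst this
        exact hl (Or.inr (Or.inr (Or.inr (Or.inr (Or.inr (Or.inr (Or.inr (Or.inr (Or.inr (Or.inr (Or.inr
          (Or.inr (Or.inl ⟨F, _, _, by simpa using hF, ⟨e⟩⟩)))))))))))))
    · rcases h3 with ⟨⟨e⟩⟩ | ⟨⟨e⟩⟩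
      · exact R.u4e G C K S hr hz ⟨F, _, _, a, ha, hF, ⟨e⟩⟩
      · exact R.u5e G C K S hr hz ⟨F, _, _, a, ha, hF, ⟨e⟩⟩
    · exact R.u52 G C K S hr hz ⟨F, _, _, hF, ⟨e⟩⟩
    · by_cases h2 : 2 ≤ a
      · exact R.d4te G C K S hr hz ⟨F, _, _, a, h2, hF, ⟨e⟩⟩
      · have := one_of_not_two_le ha h2
        subst this
        exact R.d4t2 G C K S hr hz ⟨F, _, _, by simpa using hF, ⟨e⟩⟩
  rcases d7_cases h hs hl with h | h | h | h | h | h | h | h | h | h | h | h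
  · obtain ⟨F, _, _, a, n, ha, hF, hn, hna, ⟨e⟩⟩ := h
    by_cases h2 : 2 ≤ a
    · exact R.lne G C K S hr hz ⟨F, _, _, a, n, h2, hF, hn, ⟨e⟩⟩
    · have := one_of_not_two_le ha h2
      subst this
      refine R.ln2 G C K S hr hz ⟨F, _, _, n, by simpa using hF, ?_, ⟨e⟩⟩
      by_contra hlt
      exact h2 (hna (by omega))
  · obtain ⟨F, _, _, a, n, ha, hF, hn, ⟨e⟩⟩ := h
    by_cases h2 : 2 ≤ a
    · exact R.une G C K S hr hz ⟨F, _, _, a, n, h2, hF, hn, ⟨e⟩⟩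
    · have := one_of_not_two_le ha h2
      subst this
      exact R.un2 G C K S hr hz ⟨F, _, _, n, by simpa using hF, hn, ⟨e⟩⟩
  · obtain ⟨F, _, _, a, m, ha, hF, hm, hma, ⟨e⟩⟩ := h
    by_cases h2 : 2 ≤ a
    · exact R.spe G C K S hr hz ⟨F, _, _, a, m, h2, hF, hm, ⟨e⟩⟩
    · have := one_of_not_two_le ha h2
      subst this
      refine R.sp2 G C K S hr hz ⟨F, _, _, m, by simpa using hF, ?_, ⟨e⟩⟩
      by_contra hlt
      exact h2 (hma (by omega))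
  · obtain ⟨F, _, _, a, m, ha, hF, hm, hma, ⟨e⟩⟩ := h
    by_cases h2 : 2 ≤ a
    · exact R.ope G C K S hr hz ⟨F, _, _, a, m, h2, hF, hm, ⟨e⟩⟩
    · have := one_of_not_two_le ha h2
      subst this
      refine R.op2 G C K S hr hz ⟨F, _, _, m, by simpa using hF, ?_, ⟨e⟩⟩
      by_contra hlt
      exact h2 (hma (by omega))
  · obtain ⟨F, _, _, a, m, b, c, ha, hF, hm, hbc, ⟨e⟩⟩ := h
    by_cases h2 : 2 ≤ a
    · exact R.ome G C K S hr hz ⟨F, _, _, a, m, b, c, h2, hF, hm, hbc, ⟨e⟩⟩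
    · have := one_of_not_two_le ha h2
      subst this
      exact R.om2 G C K S hr hz ⟨F, _, _, m, b, c, by simpa using hF, hm, hbc, ⟨e⟩⟩
  · obtain ⟨F, _, _, a, ha, hF, h⟩ := h
    exact R.f4e G C K S hr hz ⟨F, _, _, a, ha, hF, h⟩
  · obtain ⟨F, _, _, a, ha, hF, h⟩ := h
    by_cases h2 : 2 ≤ a
    · exact R.e6e G C K S hr hz ⟨F, _, _, a, h2, hF, h⟩
    · have := one_of_not_two_le ha h2
      subst this
      exact R.e62 G C K S hr hz ⟨F, _, _, by simpa using hF, h⟩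
  · obtain ⟨F, _, _, a, ha, hF, h⟩ := h
    by_cases h2 : 2 ≤ a
    · exact R.e7e G C K S hr hz ⟨F, _, _, a, h2, hF, h⟩
    · have := one_of_not_two_le ha h2
      subst this
      exact R.e72 G C K S hr hz ⟨F, _, _, by simpa using hF, h⟩
  · obtain ⟨F, _, _, a, ha, hF, h⟩ := h
    by_cases h2 : 2 ≤ a
    · exact R.e8e G C K S hr hz ⟨F, _, _, a, h2, hF, h⟩
    · have := one_of_not_two_le ha h2
      subst this
      exact R.e82 G C K S hr hz ⟨F, _, _, by simpa using hF, h⟩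
  · obtain ⟨F, _, _, a, ha, hF, h⟩ := h
    by_cases h2 : 2 ≤ a
    · exact R.e6te G C K S hr hz ⟨F, _, _, a, h2, hF, h⟩
    · have := one_of_not_two_le ha h2
      subst this
      exact R.e6t2 G C K S hr hz ⟨F, _, _, by simpa using hF, h⟩
  · exact R.f4t G C K S hr hz h
  · exact R.tits G C K S hr hz h

/-- `Z(K) = 1`, odd characteristic -/
theorem lieOdd_false (R : RowsOdd.{u}) (C : Ctx G) (S : Std G K)
    (hr : ¬ PRankLE 2 1 ↥(centralizer (K : Set G))) (hz : center ↥K = ⊥) (h : LieOdd ↥K)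
    (ha : ¬ IsAlternating ↥K) : False := by
  rcases lieOdd_cases h ha with h | h | h | h | h | h | h | h | h | h | h | h | h
  · exact R.l27 G C K S hr hz h
  · exact R.l2o G C K S hr hz h
  · exact R.ree G C K S hr hz h
  · exact R.ln G C K S hr hz h
  · exact R.un G C K S hr hz h
  · exact R.sp G C K S hr hz h
  · exact R.oo G C K S hr hz h
  · exact R.op G C K S hr hz h
  · exact R.om G C K S hr hz h
  · exact R.g2 G C K S hr hz h
  · exact R.ex G C K S hr hz h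
  · exact R.e6t G C K S hr hz h
  · exact R.d4t G C K S hr hz h

/-- `Z(K) = 1`, sporadic -/
theorem spor_false (h : RowsSpor.{u}) (hG : Ctx G) (hK : Std G K)
    (hr : ¬ PRankLE 2 1 ↥(centralizer (K : Set G))) (hz : center ↥K = ⊥) (hS : IsSporadicGroup ↥K)
    (hL : ¬ Listed K) : False := by
  have hm12 : ¬ Spor.IsoM12 ↥K := fun e => hL (by
    unfold Iface.Listed
    exact Or.inr (Or.inr (Or.inr (Or.inr (Or.inr (Or.inr (Or.inr (Or.inr (Or.inr (Or.inr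
      (Or.inr (Or.inl e))))))))))))
  have hmcl : ¬ Spor.IsoMcL ↥K := fun e => hL (by
    unfold Iface.Listed
    exact Or.inr (Or.inr (Or.inr (Or.inr (Or.inr (Or.inr (Or.inr (Or.inr (Or.inr (Or.inr
      (Or.inr (Or.inr (Or.inr (Or.inr (Or.inl e)))))))))))))))
  have hly : ¬ Spor.IsoLy ↥K := fun e => hL (by
    unfold Iface.Listed
    exact Or.inr (Or.inr (Or.inr (Or.inr (Or.inr (Or.inr (Or.inr (Or.inr (Or.inr (Or.inr
      (Or.inr (Or.inr (Or.inr (Or.inr (Or.inr e)))))))))))))))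
  rcases hS with e | e | e | e | e | e | e | e | e | e | e | e | e | e | e | e | e | e | e | e |
    e | e | e | e | e | e
  · exact h.m11 G hG K hK hr hz e
  · exact hm12 e
  · exact h.m22 G hG K hK hr hz e
  · exact h.m23 G hG K hK hr hz e
  · exact h.m24 G hG K hK hr hz e
  · exact h.j1 G hG K hK hr hz e
  · exact h.j2 G hG K hK hr hz e
  · exact h.j3 G hG K hK hr hz e
  · exact h.j4 G hG K hK hr hz e
  · exact h.co1 G hG K hK hr hz e
  · exact h.co2 G hG K hK hr hz e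
  · exact h.co3 G hG K hK hr hz e
  · exact hmcl e
  · exact h.hs G hG K hK hr hz e
  · exact h.suz G hG K hK hr hz e
  · exact h.he G hG K hK hr hz e
  · exact h.ru G hG K hK hr hz e
  · exact h.on G hG K hK hr hz e
  · exact hly e
  · exact h.fi22 G hG K hK hr hz e
  · exact h.fi23 G hG K hK hr hz e
  · exact h.fi24 G hG K hK hr hz e
  · exact h.hn G hG K hK hr hz e
  · exact h.th G hG K hK hr hz e
  · exact h.b G hG K hK hr hz e
  · exact h.m G hG K hK hr hz e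

/-- `K` is quasisimple. -/
theorem quasisimple (S : Std0 G K) : IsQuasisimple ↥K := by
  obtain ⟨t, -, hcomp⟩ := S.comp
  exact Soft.CompOf.quasisimple hcomp

/-- `Z(K) ≠ 1` cyclic -/
theorem cyclic_false (M : Mult.{u}) (M4 : MultD4.{u}) (R : RowsCov.{u}) (C : Ctx G) (S : Std0 G K)
    (hr : ¬ PRankLE 2 1 ↥(centralizer (K : Set G))) (hz : center ↥K ≠ ⊥) (hc : IsCyclic ↥(center ↥K))
    (ht : LieTwo (↥K ⧸ center ↥K) ∨ IsSporadicGroup (↥K ⧸ center ↥K)) (hl : ¬ Listed K) : False := by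
  haveI := C.fin
  have hQ : QsCyc ↥K := ⟨inferInstance, quasisimple S, S.z2, hc⟩
  have hone : Nat.card ↥(center ↥K) ≠ 1 := fun h => hz (Subgroup.card_eq_one.mp h)
  by_cases hsz : XSz (↥K ⧸ center ↥K)
  · obtain ⟨h8, h2⟩ := M4.sz _ hQ hsz hz
    exact R.sz8 G C K S hr ⟨h2, h8⟩
  by_cases h2 : Exc2 (↥K ⧸ center ↥K)
  · have hcard : Nat.card ↥(center ↥K) = 2 :=
      ((Nat.dvd_prime Nat.prime_two).mp (M.two _ hQ h2)).resolve_left hone
    rcases h2 with h | h | h | h | h | h | h | h | h | h | h | h | h | h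
    · obtain ⟨F, i1, i2, h3, h4⟩ := h
      exact hl (Or.inr (Or.inr (Or.inl ⟨F, i1, i2, h3, hcard, h4⟩)))
    · obtain ⟨F, i1, i2, h3, h4⟩ := h
      exact hl (Or.inr (Or.inl ⟨F, i1, i2, h3, hcard, h4⟩))
    · exact R.o82 G C K S hr ⟨hcard, h⟩
    · exact R.g24 G C K S hr ⟨hcard, h⟩
    · exact R.f42 G C K S hr ⟨hcard, h⟩
    · obtain ⟨F, i1, i2, h3, h4⟩ := h
      exact hl (Or.inr (Or.inr (Or.inr (Or.inr (Or.inr (Or.inl ⟨F, i1, i2, h3, hcard, h4⟩))))))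
    · exact R.m12 G C K S hr ⟨hcard, h⟩
    · exact R.j2 G C K S hr ⟨hcard, h⟩
    · exact hl (Or.inr (Or.inr (Or.inr (Or.inr (Or.inr (Or.inr (Or.inr (Or.inr (Or.inr (Or.inr (Or.inr
        (Or.inr (Or.inr (Or.inl ⟨hcard, h⟩))))))))))))))
    · exact R.suz G C K S hr ⟨hcard, h⟩
    · exact R.ru G C K S hr ⟨hcard, h⟩
    · exact hl (Or.inr (Or.inr (Or.inr (Or.inr (Or.inl ⟨hcard, h⟩)))))
    · exact R.co1 G C K S hr ⟨hcard, h⟩
    · exact hl (Or.inr (Or.inr (Or.inr (Or.inr (Or.inr (Or.inr (Or.inr (Or.inl ⟨hcard, h⟩))))))))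
  by_cases h4 : Exc4 (↥K ⧸ center ↥K)
  · have hdvd := M.four _ hQ h4
    have hcard : Nat.card ↥(center ↥K) = 2 ∨ Nat.card ↥(center ↥K) = 4 := by
      have hle := Nat.le_of_dvd (by norm_num) hdvd
      interval_cases h : Nat.card ↥(center ↥K)
      · simp at hdvd
      · exact absurd rfl hone
      · exact Or.inl rfl
      · exact absurd hdvd (by decide)
      · exact Or.inr rfl
    rcases h4 with h | h
    · rcases hcard with hcard | hcard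
      · exact R.l34 G C K S hr ⟨hcard, h⟩
      · obtain ⟨F, i1, i2, h3, h4⟩ := h
        exact hl (Or.inr (Or.inr (Or.inr (Or.inr (Or.inr (Or.inr (Or.inr (Or.inr (Or.inr (Or.inr (Or.inl
          ⟨F, i1, i2, h3, hQ.2.2.2, hcard, h4⟩)))))))))))
    · rcases hcard with hcard | hcard
      · exact R.m22 G C K S hr ⟨hcard, h⟩
      · exact R.m22four G C K S hr ⟨hcard, hc, h⟩
  rcases ht with ht | ht
  · exact hz (M.lie _ hQ ht h2 h4 hsz)
  · exact hz (M.spor _ hQ ht h2 h4)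

/-- `Z(K)` not cyclic -/
theorem noncyclic_false (M4 : MultD4.{u}) (R : RowsCov.{u}) (C : Ctx G) (S : Std0 G K)
    (hr : ¬ PRankLE 2 1 ↥(centralizer (K : Set G))) (hc : ¬ IsCyclic ↥(center ↥K))
    (ht : LieTwo (↥K ⧸ center ↥K) ∨ IsSporadicGroup (↥K ⧸ center ↥K)) (hl : ¬ Listed K) : False := by
  haveI := C.fin
  have hQ : QsNon ↥K := ⟨inferInstance, quasisimple S, S.z2, hc⟩
  rcases ht with ht | ht
  swap
  · exact M4.spor _ hQ ht
  rcases M4.lie _ hQ ht with h | h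
  · have h4 := M4.four _ hQ h
    rcases h with h | h | h | h
    · exact R.v_u62 G C K S hr ⟨h4, h⟩
    · exact R.v_o82 G C K S hr ⟨h4, h⟩
    · exact R.v_2e62 G C K S hr ⟨h4, h⟩
    · exact R.v_sz8 G C K S hr ⟨h4, h⟩
  · obtain ⟨hcard, homega⟩ := M4.l34 _ hQ h
    by_cases hk : IsKleinFour ↥(center ↥K)
    · obtain ⟨F, i1, i2, h3, h4⟩ := h
      exact hl (Or.inr (Or.inr (Or.inr (Or.inr (Or.inr (Or.inr (Or.inr (Or.inr (Or.inl
        ⟨F, i1, i2, h3, hk, h4⟩)))))))))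
    · refine R.non_l34 G C K S hr ⟨hc, hk, ?_, homega, h⟩
      rcases hcard with h4 | h4 | h4
      · exfalso
        apply hk
        refine ⟨h4, ?_⟩
        have h1 : Nat.card {z : ↥(center ↥K) // z * z = 1} = Nat.card ↥(center ↥K) := by rw [homega, h4]
        haveI : Finite ↥(center ↥K) := inferInstance
        have h2 : ∀ z : ↥(center ↥K), z * z = 1 := by
          intro z
          have h3 : Function.Bijective (Subtype.val : {z : ↥(center ↥K) // z * z = 1} → ↥(center ↥K)) :=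
            (Nat.bijective_iff_injective_and_card _).mpr ⟨Subtype.val_injective, h1⟩
          obtain ⟨w, hw⟩ := h3.2 z
          rw [← hw]
          exact w.2
        haveI : Nontrivial ↥(center ↥K) := by
          rw [← Finite.one_lt_card_iff_nontrivial, h4]
          norm_num
        apply Nat.dvd_antisymm
        · exact Monoid.exponent_dvd_of_forall_pow_eq_one (fun z => by rw [pow_two]; exact h2 z)
        · obtain ⟨z, hz⟩ := exists_ne (1 : ↥(center ↥K))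
          have h5 : orderOf z = 2 := orderOf_eq_prime (by rw [pow_two]; exact h2 z) hz
          rw [← h5]
          exact Monoid.order_dvd_exponent z
      · exact Or.inl h4
      · exact Or.inr h4

/-- **D4** from the multiplier facts and the rows. -/
theorem d4_of_rows (M : Mult.{u}) (M4 : MultD4.{u}) (R : Rows.{u}) : Iface.D4.{u} := by
  intro G _ C K S hr ha hi hl
  haveI := C.fin
  by_cases hz : center ↥K = ⊥
  · have e := Main.quoEquiv hz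
    have ha' : ¬ IsAlternating ↥K := fun h => ha (Known.isAlternating_congr e.symm h)
    by_cases ho : LieOdd ↥K
    · exact lieOdd_false R.odd C S hr hz ho ha'
    rcases Known.classify S.quo_na S.known with h | h | h | h
    · exact ha h
    · obtain ⟨p, hp, hp2, h⟩ := h
      exact ho ⟨p, hp, hp2, Known.isLieTypeChar_congr e h⟩
    · refine lieTwo_false R.two C S hr hz ⟨?_, ha', ho⟩ hl
      rcases h with h | h
      · exact Or.inl (Known.isLieTypeChar_congr e h)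
      · exact Or.inr (Known.isoTits_congr e h)
    · exact spor_false R.spor C S hr hz (Known.isSporadic_congr e h) hl
  · have ho : ¬ LieOdd (↥K ⧸ center ↥K) := fun h => hz (hi h)
    have ht : LieTwo (↥K ⧸ center ↥K) ∨ IsSporadicGroup (↥K ⧸ center ↥K) := by
      rcases Known.classify S.quo_na S.known with h | h | h | h
      · exact absurd h ha
      · exact absurd h ho
      · exact Or.inl ⟨h, ha, ho⟩
      · exact Or.inr h
    by_cases hc : IsCyclic ↥(center ↥K)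
    · exact cyclic_false M M4 R.cov C S.toStd0 hr hz hc ht hl
    · exact noncyclic_false M4 R.cov C S.toStd0 hr hc ht hl

end Cfsg.Agent.OddHalf.D4.Cut
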