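import Mathlib
import Cfsg.Agent.OddHalf.D4.NoGraph

/-!
# ODD, D4, (1B): the K-facts

`BFacts K S`: everything that the proof of case (b) uses of `K` (in characteristic 2, `|F_q| ≥ 4`, one central root
group), `S` a 2-subgroup of `N(K)` with `S ∩ K` a Sylow 2-subgroup of `K`; `Z(S ∩ K) = zc K S`.

* `OutTwo K`: `Out(K)` has an abelian quotient with kernel of odd order; `OutTwo.of_hom`, `OutTwo.of_aut` (from
  `MulAut X`, `X ≃* K`);
* `cyc`: `S / C_S(Z)` is cyclic; `two`: `|C_S(Z) : S ∩ C(K)K| ≤ 2`;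
* `flt`: for every `F ≤ S` a filtration by relative lines with base points fixed by `F`, lines centralised by `C_F(Z)`
  modulo the next term, and `Half` (`q ≥ 8`) or `Four` (`q = 4`).
-/

set_option autoImplicit false

namespace Cfsg.Agent.OddHalf.D4.CaseB

open Cfsg Subgroup Cfsg.Agent.OddHalf.D4 Cfsg.Agent.OddHalf.D4.Basic
open Cfsg.Agent.OddHalf.D4.LineR Cfsg.Agent.OddHalf.D4.NoGraph

universe u

section Defs

variable {G : Type u} [Group G]

/-- `e` centralises `Z(S ∩ K)` -/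
def CZ (K S : Subgroup G) (e : G) : Prop := ∀ z ∈ zc K S, e * z = z * e

/-- `x ∈ C(K) K` -/
def Inn (K : Subgroup G) (x : G) : Prop := ∃ c ∈ centralizer (K : Set G), ∃ k ∈ K, x = c * k

/-- `N(K) / C(K) K` has a normal subgroup of odd order with abelian quotient. -/
def OutTwo (K : Subgroup G) : Prop :=
  ∃ (B : Type u) (_ : CommGroup B) (χ : ↥(normalizer (K : Set G)) →* B),
    (∀ c (hc : c ∈ normalizer (K : Set G)), c ∈ centralizer (K : Set G) → χ ⟨c, hc⟩ = 1) ∧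
    ∀ v (hv : v ∈ normalizer (K : Set G)), (∃ k : ℕ, v ^ 2 ^ k = 1) → χ ⟨v, hv⟩ = 1 → Inn K v

/-- `|F_q| ≥ 8`: an involution `y ∈ F` centralising a subgroup of index `≤ 2` of a line (and the next term) centralises
the line. -/
def Half (F : Subgroup G) (U : ℕ → Subgroup G) (L : ℕ → Set (Subgroup G)) : Prop :=
  ∀ j, ∀ l ∈ L j, ∀ y ∈ F, y * y = 1 → (∀ d ∈ U (j + 1), d * y = y * d) →
    (∀ a ∈ l, ∀ b ∈ l, a * y = y * a ∨ b * y = y * b ∨ a * b * y = y * (a * b)) → ∀ a ∈ l, a * y = y * a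

/-- `|F_q| = 4` -/
structure Four (K S F : Subgroup G) (U : ℕ → Subgroup G) (L : ℕ → Set (Subgroup G)) : Prop where
  card : Nat.card ↥(zc K S) = 4
  /-- an involution `y ∈ C_F(Z)` centralising an element `x` of a line (and the next term) centralises the line -/
  star : ∀ j, ∀ l ∈ L j, ∀ y ∈ F, y * y = 1 → CZ K S y → (∀ d ∈ U (j + 1), d * y = y * d) →
    ∀ x ∈ l, x ∉ U (j + 1) → x * y = y * x → ∀ a ∈ l, a * y = y * a
  /-- (LR4) -/
  lr : ∀ x ∈ S ⊓ K, x * x = 1 → (∃ u ∈ S ⊓ K, u * x ≠ x * u) → ∀ y ∈ S, y * y = 1 → ¬ CZ K S y → x * y = y * x →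
    ∃ w ∈ S ⊓ K, w * x = x * w ∧ w * y * w⁻¹ * y⁻¹ ∉ zc K S

/-- **The K-facts of case (b).** -/
structure BFacts (K S : Subgroup G) : Prop where
  chi : OutTwo K
  sq : ∀ z ∈ zc K S, z * z = 1
  cyc : ∃ g ∈ S, ∀ s ∈ S, ∃ m : ℤ, CZ K S (g ^ m * s)
  two : ∀ s ∈ S, ∀ t ∈ S, CZ K S s → CZ K S t → Inn K s ∨ Inn K t ∨ Inn K (s * t)
  flt : ∀ F ≤ S, ∃ (U : ℕ → Subgroup G) (L : ℕ → Set (Subgroup G)), Flt K S F U L ∧
    (∀ j, ∀ l ∈ L j, ∀ x ∈ l, ∀ e ∈ F, CZ K S e → e * x * e⁻¹ * x⁻¹ ∈ U (j + 1)) ∧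
    (Half F U L ∨ Four K S F U L)

end Defs

/-! ### `OutTwo` -/

section Out

variable {G : Type u} [Group G]

/-- from a homomorphism of `N(K)` in any universe -/
theorem OutTwo.of_hom {K : Subgroup G} {B : Type*} [CommGroup B] (χ : ↥(normalizer (K : Set G)) →* B)
    (h1 : ∀ c (hc : c ∈ normalizer (K : Set G)), c ∈ centralizer (K : Set G) → χ ⟨c, hc⟩ = 1)
    (h2 : ∀ v (hv : v ∈ normalizer (K : Set G)), (∃ k : ℕ, v ^ 2 ^ k = 1) → χ ⟨v, hv⟩ = 1 → Inn K v) : OutTwo K := by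
  let i : CommGroup (↥(normalizer (K : Set G)) ⧸ χ.ker) :=
    { (inferInstance : Group (↥(normalizer (K : Set G)) ⧸ χ.ker)) with
      mul_comm := fun a b => QuotientGroup.kerLift_injective χ (by rw [map_mul, map_mul, mul_comm]) }
  refine ⟨_, i, QuotientGroup.mk' χ.ker, ?_, ?_⟩
  · intro c hc hcc
    exact (QuotientGroup.eq_one_iff _).mpr (MonoidHom.mem_ker.mpr (h1 c hc hcc))
  · intro v hv hk hχ
    exact h2 v hv hk (MonoidHom.mem_ker.mp ((QuotientGroup.eq_one_iff _).mp hχ))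

/-- **from the automorphism group**: `χ : Aut(X) → B`, `B` abelian, the 2-elements of the kernel are inner. -/
theorem OutTwo.of_aut {K : Subgroup G} {X : Type*} [Group X] (e : X ≃* ↥K) {B : Type*} [CommGroup B]
    (χ : MulAut X →* B) (h : ∀ α : MulAut X, (∃ k : ℕ, α ^ 2 ^ k = 1) → χ α = 1 → ∃ x, α = MulAut.conj x) :
    OutTwo K := by
  have happ : ∀ (v : ↥(normalizer (K : Set G))) (k : ↥K), ((K.normalizerMonoidHom v k : ↥K) : G) = v * k * (v : G)⁻¹ :=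
    fun _ _ => rfl
  refine OutTwo.of_hom (χ.comp ((MulAut.congr e.symm).toMonoidHom.comp K.normalizerMonoidHom)) ?_ ?_
  · intro c hc hcc
    have h1 : K.normalizerMonoidHom ⟨c, hc⟩ = 1 := by
      apply MulEquiv.ext
      intro k
      apply Subtype.ext
      rw [happ]
      show c * k * c⁻¹ = k
      rw [← mem_centralizer_iff.mp hcc k k.2]
      group
    show χ (MulAut.congr e.symm (K.normalizerMonoidHom ⟨c, hc⟩)) = 1
    rw [h1, map_one, map_one]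
  · rintro v hv ⟨n, hn⟩ hχ
    have h1 : (⟨v, hv⟩ : ↥(normalizer (K : Set G))) ^ 2 ^ n = 1 := Subtype.ext hn
    obtain ⟨x, hx⟩ := h (MulAut.congr e.symm (K.normalizerMonoidHom ⟨v, hv⟩))
      ⟨n, by rw [← map_pow, ← map_pow, h1, map_one, map_one]⟩ hχ
    refine ⟨v * ((e x : ↥K) : G)⁻¹, ?_, (e x : ↥K), (e x).2, by group⟩
    rw [mem_centralizer_iff]
    intro k hk
    have h2 := DFunLike.congr_fun hx (e.symm (((e x)⁻¹ * ⟨k, hk⟩ * e x)))
    have h3 : K.normalizerMonoidHom ⟨v, hv⟩ ((e x)⁻¹ * ⟨k, hk⟩ * e x) = ⟨k, hk⟩ := by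
      apply e.symm.injective
      have h4 : MulAut.congr e.symm (K.normalizerMonoidHom ⟨v, hv⟩) (e.symm ((e x)⁻¹ * ⟨k, hk⟩ * e x)) =
          e.symm (K.normalizerMonoidHom ⟨v, hv⟩ (e (e.symm ((e x)⁻¹ * ⟨k, hk⟩ * e x)))) := rfl
      rw [h4, e.apply_symm_apply] at h2
      rw [h2, MulAut.conj_apply, map_mul, map_mul, map_inv, e.symm_apply_apply]
      group
    have h5 := congrArg Subtype.val h3
    rw [happ] at h5
    have h6 : v * (((e x : ↥K) : G)⁻¹ * k * (e x : ↥K)) * v⁻¹ = k := h5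
    calc k * (v * ((e x : ↥K) : G)⁻¹) = v * (((e x : ↥K) : G)⁻¹ * k * (e x : ↥K)) * v⁻¹ * (v * ((e x : ↥K) : G)⁻¹) := by
          rw [h6]
      _ = v * ((e x : ↥K) : G)⁻¹ * k := by group

end Out

end Cfsg.Agent.OddHalf.D4.CaseB
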