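import Mathlib
import Cfsg.Agent.OddHalf.D4.EvenPair
import Cfsg.Agent.OddHalf.D4.FullPair

/-!
# ODD, D4: existence of a full pair

`exists_fullPair`: Theorem A together with (F1).
-/

set_option autoImplicit false

namespace Cfsg.Agent.OddHalf.D4.Exists

open Subgroup Cfsg.Agent.OddHalf.D4 Cfsg.Agent.OddHalf.D4.Basic Cfsg.Agent.OddHalf.D4.EvenPair
open Cfsg.Agent.OddHalf.D4.CommConj (Tight MaxE cj mem_cj mem_cj_mul exists_central_involution
  cj_eq_of_mem_normalizer)

variable {G : Type*} [Group G]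

/-- a maximal member of the family gives a full pair -/
theorem fullPair_of_maxE [Finite G] {K E : Subgroup G} (tight : TightAt K)
    (cen : ∀ x ∈ K, x ∈ centralizer (K : Set G) → x = 1)
    (inner : ∀ T : Subgroup G, IsSyl T (normalizer (K : Set G)) → ∀ y ∈ T,
      (∀ s ∈ T, s ∈ K → s * y = y * s) →
      ∃ k ∈ centralizer (K : Set G), ∃ s ∈ T, s ∈ K ∧ (∀ u ∈ T, u ∈ K → u * s = s * u) ∧ y = k * s)
    (h : MaxE (centralizer (K : Set G)) (normalizer (K : Set G)) E) :
    ∃ L Q U : Subgroup G, FullPair K L Q U ∧ Q ≤ E ∧ U ≤ E := by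
  have hcomm : ∀ k ∈ K, ∀ c ∈ centralizer (K : Set G), k * c = c * k :=
    fun k hk c hc => mem_centralizer_iff.mp hc k hk
  obtain ⟨S, hS, hES⟩ := exists_isSyl h.isPGroup h.le
  obtain ⟨a, ha, haM⟩ := h.exists_norm
  have hQ : IsSyl (S ⊓ centralizer (K : Set G)) (centralizer (K : Set G)) := by
    apply hS.inf tight.le
    intro s hs
    apply mem_normalizer_fintype
    intro c hc
    exact tight.norm s (hS.le hs) c hc
  by_cases hne : S ⊓ centralizer (K : Set G) ≤ E
  · refine ⟨cj a K, S ⊓ centralizer (K : Set G), cj a (S ⊓ centralizer (K : Set G)),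
      ⟨⟨a, haM, rfl⟩, hQ, ?_, ?_⟩, hne, ?_⟩
    · rw [centralizer_cj]
      exact hQ.cj a
    · intro q hq u hu
      have hu' := mem_cj.mp hu
      refine h.comm_of_mem tight ha haM (hne hq) hq.2 ?_ hu'.2
      have h1 := (mem_normalizer_iff.mp ha _).mp (hne hu')
      have h2 : a * (a⁻¹ * u * a) * a⁻¹ = u := by group
      rwa [h2] at h1
    · intro u hu
      have h1 := (mem_normalizer_iff.mp ha _).mp (hne (mem_cj.mp hu))
      have h2 : a * (a⁻¹ * u * a) * a⁻¹ = u := by group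
      rwa [h2] at h1
  · exfalso
    obtain ⟨h1, h2⟩ := h.main tight hS.two hS.le hES hne
      (fun m hm k hk => (mem_normalizer_iff.mp hm k).mp hk) hcomm
      (fun x hx hxc h2 => by
        rw [cen x hx hxc, orderOf_one] at h2
        exact absurd h2 (by norm_num))
    obtain ⟨x, hxE, hxC, hx2⟩ := h.exists_inv
    obtain ⟨r, hrE, hrC, hr2, hrc⟩ := exists_central_involution (S := E)
      (N := E ⊓ cj a (centralizer (K : Set G)))
      h.isPGroup (by
        intro s hs n hn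
        refine Subgroup.mem_inf.mpr ⟨mul_mem (mul_mem hs hn.1) (inv_mem hs), ?_⟩
        rw [mem_cj]
        have h1 : a⁻¹ * s * a ∈ E := (mem_normalizer_iff''.mp ha s).mp hs
        have h2 := tight.norm _ (h.le h1) _ (mem_cj.mp hn.2)
        have h3 : a⁻¹ * s * a * (a⁻¹ * n * a) * (a⁻¹ * s * a)⁻¹ = a⁻¹ * (s * n * s⁻¹) * a := by
          group
        rwa [h3] at h2)
      ⟨a * x * a⁻¹, (mem_normalizer_iff.mp ha x).mp hxE,
        ⟨(mem_normalizer_iff.mp ha x).mp hxE, mem_cj_mul hxC⟩, by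
          intro h1
          have h2 := Basic.orderOf_conj a x
          rw [h1, orderOf_one, hx2] at h2
          exact absurd h2 (by norm_num)⟩
    obtain ⟨k, hk, s, hsS, hsK, -, hrks⟩ := inner S hS r (hES hrE)
      (fun s hs hsK => hrc s (h1 ⟨hs, hsK⟩))
    have h3 : k = r * s⁻¹ := by rw [hrks]; group
    have h4 : k ∈ S := by
      rw [h3]
      exact S.mul_mem (hES hrE) (S.inv_mem hsS)
    exact h2 a ha haM r hrE hr2 (mem_cj.mp hrC.2) k ⟨h4, hk⟩ s ⟨hsS, hsK⟩ hrks

/-- **existence of full pairs** -/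
theorem exists_fullPair [Finite G] [IsSimpleGroup G] (h1173 : H1173 G) {K : Subgroup G} (h : Loc K)
    (hKne : K ≠ ⊥) (hKp : ⁅K, K⁆ = K) : ∃ L Q U : Subgroup G, FullPair K L Q U := by
  have hcomm : ∀ k ∈ K, ∀ c ∈ centralizer (K : Set G), k * c = c * k :=
    fun k hk c hc => mem_centralizer_iff.mp hc k hk
  obtain ⟨g, hg, r, hr, hr2, hrg⟩ := exists_even h1173 h.tight h.even hKne hKp hcomm
  obtain ⟨E, hE⟩ := h.tight.exists_maxE hg hr hr2 hrg
  obtain ⟨L, Q, U, hF, -, -⟩ := fullPair_of_maxE h.tight h.cen h.inner hE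
  exact ⟨L, Q, U, hF⟩

end Cfsg.Agent.OddHalf.D4.Exists
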