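import Mathlib
import Cfsg.Agent.OddHalf.D4.FullPair

/-!
# ODD, D4: full pairs with `K ∩ C(L)` and `L ∩ C(K)` of even order; projections (RT2)

`K`, `L` a full pair. If `K ∩ C(L)` and `L ∩ C(K)` have even order then `C(K)` and `C(L)` commute
(`FullPair.comm_cen`). `RT2`: elements of `C_K(w)`, `w` an involution of `K ∩ C(L)`, lie in `L`.
-/

set_option autoImplicit false

namespace Cfsg.Agent.OddHalf.D4

open Subgroup Basic
open Cfsg.Agent.OddHalf.D4.CommConj (Tight cj mem_cj cj_mul card_cj mem_cj_mul)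

variable {G : Type*} [Group G]

/-- `O(C(K)) = 1`: a normal subgroup of `C(K)` of odd order is trivial. -/
def NoCore (K : Subgroup G) : Prop :=
  ∀ X : Subgroup G, X ≤ centralizer (K : Set G) →
    (∀ m ∈ centralizer (K : Set G), ∀ x ∈ X, m * x * m⁻¹ ∈ X) → Odd (Nat.card ↥X) → X = ⊥

theorem NoCore.cj {K : Subgroup G} (h : NoCore K) (g : G) : NoCore (CommConj.cj g K) := by
  intro X hX hn hodd
  have h1 : CommConj.cj g⁻¹ X = ⊥ := by
    apply h
    · intro x hx
      rw [mem_cj, inv_inv] at hx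
      have h2 := hX hx
      rw [centralizer_cj, mem_cj] at h2
      have e : g⁻¹ * (g * x * g⁻¹) * g = x := by group
      rwa [e] at h2
    · intro m hm x hx
      rw [mem_cj, inv_inv] at hx ⊢
      have h2 := hn (g * m * g⁻¹) (by rw [centralizer_cj]; exact mem_cj_mul hm) _ hx
      have e : g * m * g⁻¹ * (g * x * g⁻¹) * (g * m * g⁻¹)⁻¹ = g * (m * x * m⁻¹) * g⁻¹ := by group
      rwa [e] at h2
    · rw [card_cj]; exact hodd
  rw [eq_bot_iff]
  intro x hx
  have h2 : g⁻¹ * x * g ∈ CommConj.cj g⁻¹ X := by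
    rw [mem_cj, inv_inv]
    have e : g * (g⁻¹ * x * g) * g⁻¹ = x := by group
    rwa [e]
  rw [h1, mem_bot] at h2
  rw [mem_bot]
  have e : x = g * (g⁻¹ * x * g) * g⁻¹ := by group
  rw [e, h2]; simp

theorem centralizer_le_normalizer_self (K : Subgroup G) :
    centralizer (K : Set G) ≤ normalizer (K : Set G) := by
  intro x hx
  rw [mem_normalizer_iff]
  intro k
  constructor
  · intro hk
    have h1 := mem_centralizer_iff.mp hx k hk
    have e : x * k * x⁻¹ = k := by rw [← h1]; group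
    rw [e]; exact hk
  · intro hk
    have h1 := mem_centralizer_iff.mp hx _ hk
    have e : k = x * k * x⁻¹ := by
      calc k = x⁻¹ * (x * k * x⁻¹ * x) := by group
        _ = x⁻¹ * (x * (x * k * x⁻¹)) := by rw [h1]
        _ = x * k * x⁻¹ := by group
    rw [e]; exact hk

theorem centralizer_conj_mem {K : Subgroup G} {n x : G} (hn : n ∈ normalizer (K : Set G))
    (hx : x ∈ centralizer (K : Set G)) : n * x * n⁻¹ ∈ centralizer (K : Set G) := by
  rw [mem_centralizer_iff] at hx ⊢
  intro k hk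
  have h1 := hx _ ((mem_normalizer_iff''.mp hn k).mp hk)
  calc k * (n * x * n⁻¹) = n * ((n⁻¹ * k * n) * x) * n⁻¹ := by group
    _ = n * (x * (n⁻¹ * k * n)) * n⁻¹ := by rw [h1]
    _ = n * x * n⁻¹ * k := by group

section Finite

variable [Finite G] {K L Q U : Subgroup G}

/-- **(iii)** `C(K) ≤ N(L)` if `K ∩ C(L)` has even order. -/
theorem FullPair.cenK_le (h : FullPair K L Q U) (hK : TightAt K)
    (hN : Even (Nat.card ↥(K ⊓ centralizer (L : Set G)))) :
    centralizer (K : Set G) ≤ normalizer (L : Set G) := by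
  obtain ⟨w, ⟨hwK, hwL⟩, hw2⟩ := exists_invol_of_even hN
  intro x hx
  exact (h.tightL hK).mem hwL hw2 (mem_centralizer_iff.mp hx w hwK).symm

/-- **(iii)** `C(L) ≤ N(K)` if `L ∩ C(K)` has even order. -/
theorem FullPair.cenL_le (h : FullPair K L Q U) (hK : TightAt K)
    (hN : Even (Nat.card ↥(L ⊓ centralizer (K : Set G)))) :
    centralizer (L : Set G) ≤ normalizer (K : Set G) :=
  h.symm.cenK_le (h.tightL hK) hN

/-- `C(K) ∩ C(L) = 1`. -/
theorem FullPair.disj (h : FullPair K L Q U) (hK : TightAt K) (hO : NoCore K)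
    (hN : Even (Nat.card ↥(K ⊓ centralizer (L : Set G)))) :
    centralizer (K : Set G) ⊓ centralizer (L : Set G) = ⊥ := by
  apply hO _ inf_le_left
  · rintro m hm x ⟨hx1, hx2⟩
    exact ⟨(centralizer (K : Set G)).mul_mem ((centralizer (K : Set G)).mul_mem hm hx1)
      ((centralizer (K : Set G)).inv_mem hm), centralizer_conj_mem (h.cenK_le hK hN hm) hx2⟩
  · apply odd_of_forall
    rintro u ⟨hu1, hu2⟩
    exact h.noInv hK hu1 hu2

/-- **(iii)** `C(K)` and `C(L)` commute. -/
theorem FullPair.comm_cen (h : FullPair K L Q U) (hK : TightAt K) (hO : NoCore K)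
    (hN : Even (Nat.card ↥(K ⊓ centralizer (L : Set G))))
    (hN' : Even (Nat.card ↥(L ⊓ centralizer (K : Set G)))) {x y : G} (hx : x ∈ centralizer (K : Set G))
    (hy : y ∈ centralizer (L : Set G)) : x * y = y * x := by
  have h1 : x * y * x⁻¹ * y⁻¹ ∈ centralizer (K : Set G) ⊓ centralizer (L : Set G) := by
    constructor
    · have e : x * y * x⁻¹ * y⁻¹ = x * (y * x⁻¹ * y⁻¹) := by group
      rw [e]
      exact (centralizer (K : Set G)).mul_mem hx (centralizer_conj_mem (h.cenL_le hK hN' hy)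
        ((centralizer (K : Set G)).inv_mem hx))
    · exact (centralizer (L : Set G)).mul_mem (centralizer_conj_mem (h.cenK_le hK hN hx) hy)
        ((centralizer (L : Set G)).inv_mem hy)
  rw [h.disj hK hO hN, mem_bot] at h1
  calc x * y = (x * y * x⁻¹ * y⁻¹) * y * x := by group
    _ = y * x := by rw [h1, one_mul]

end Finite

/-! ### Projections -/

/-- Decomposition of an element of `K C(K)`. -/
theorem exists_decomp {K : Subgroup G} {x : G} (hx : x ∈ K ⊔ centralizer (K : Set G)) :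
    ∃ k ∈ K, ∃ c ∈ centralizer (K : Set G), x = k * c := by
  have h1 : x ∈ ((K ⊔ centralizer (K : Set G) : Subgroup G) : Set G) := hx
  rw [coe_mul_of_right_le_normalizer_left _ _ (centralizer_le_normalizer_self K)] at h1
  obtain ⟨k, hk, c, hc, rfl⟩ := h1
  exact ⟨k, hk, c, hc, rfl⟩

theorem comm_of_cen {K : Subgroup G} {k c : G} (hk : k ∈ K) (hc : c ∈ centralizer (K : Set G)) :
    k * c = c * k := mem_centralizer_iff.mp hc k hk

theorem decomp_unique {K : Subgroup G} (hZ : ∀ x ∈ K, x ∈ centralizer (K : Set G) → x = 1) {k c k' c' : G}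
    (hk : k ∈ K) (hc : c ∈ centralizer (K : Set G)) (hk' : k' ∈ K) (hc' : c' ∈ centralizer (K : Set G))
    (h : k * c = k' * c') : k = k' ∧ c = c' := by
  have h1 : k'⁻¹ * k = c' * c⁻¹ := by
    calc k'⁻¹ * k = k'⁻¹ * (k * c) * c⁻¹ := by group
      _ = k'⁻¹ * (k' * c') * c⁻¹ := by rw [h]
      _ = c' * c⁻¹ := by group
  have h2 : k'⁻¹ * k = 1 := hZ _ (K.mul_mem (K.inv_mem hk') hk) (by
    rw [h1]; exact (centralizer (K : Set G)).mul_mem hc' ((centralizer (K : Set G)).inv_mem hc))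
  have h3 : k = k' := by
    calc k = k' * (k'⁻¹ * k) := by group
      _ = k' := by rw [h2, mul_one]
  subst h3
  exact ⟨rfl, mul_left_cancel h⟩

/-- The projection of `K C(K)` to `C(K)`. -/
theorem exists_proj {K : Subgroup G} (hZ : ∀ x ∈ K, x ∈ centralizer (K : Set G) → x = 1) :
    ∃ π : ↥(K ⊔ centralizer (K : Set G)) →* G, (∀ e, π e ∈ centralizer (K : Set G)) ∧
      (∀ e : ↥(K ⊔ centralizer (K : Set G)), ∃ k ∈ K, (e : G) = k * π e) := by
  classical
  have hex : ∀ e : ↥(K ⊔ centralizer (K : Set G)), ∃ c, c ∈ centralizer (K : Set G) ∧ ∃ k ∈ K, (e : G) = k * c := by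
    intro e
    obtain ⟨k, hk, c, hc, he⟩ := exists_decomp e.2
    exact ⟨c, hc, k, hk, he⟩
  choose π hπ k hk he using hex
  refine ⟨MonoidHom.mk' π ?_, hπ, fun e => ⟨k e, hk e, he e⟩⟩
  intro a b
  have h1 : k (a * b) * π (a * b) = (k a * k b) * (π a * π b) := by
    rw [← he (a * b), Subgroup.coe_mul, he a, he b]
    have h2 := comm_of_cen (hk b) (hπ a)
    calc k a * π a * (k b * π b) = k a * (π a * k b) * π b := by group
      _ = k a * (k b * π a) * π b := by rw [h2]
      _ = (k a * k b) * (π a * π b) := by group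
  exact (decomp_unique hZ (hk _) (hπ _) (K.mul_mem (hk a) (hk b))
    ((centralizer (K : Set G)).mul_mem (hπ a) (hπ b)) h1).2

/-- If `e = l c`, `l ∈ L`, `c ∈ C(L)` and `e` commutes with `w ∈ C(L)` then so does `c`. -/
theorem comm_of_decomp {L : Subgroup G} {e l c w : G} (hl : l ∈ L) (he : e = l * c)
    (hw : w ∈ centralizer (L : Set G)) (hew : e * w = w * e) : c * w = w * c := by
  have h1 := comm_of_cen hl hw
  have h2 : l * (c * w) = l * (w * c) := by
    calc l * (c * w) = (l * c) * w := by group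
      _ = w * (l * c) := by rw [← he]; exact hew
      _ = (w * l) * c := by group
      _ = (l * w) * c := by rw [h1]
      _ = l * (w * c) := by group
  exact mul_left_cancel h2

theorem pow_eq_one_of_decomp {L : Subgroup G} (hZ : ∀ x ∈ L, x ∈ centralizer (L : Set G) → x = 1)
    {e l c : G} (hl : l ∈ L) (hc : c ∈ centralizer (L : Set G)) (he : e = l * c) {m : ℕ} (hm : e ^ m = 1) :
    c ^ m = 1 := by
  have h1 : Commute l c := comm_of_cen hl hc
  have h2 : l ^ m * c ^ m = 1 * 1 := by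
    rw [← h1.mul_pow, ← he, hm, one_mul]
  exact (decomp_unique hZ (L.pow_mem hl m) ((centralizer (L : Set G)).pow_mem hc m) L.one_mem
    (centralizer (L : Set G)).one_mem h2).2

theorem odd_orderOf_of_pow {x : G} {m : ℕ} (hm : Odd m) (h : x ^ m = 1) : Odd (orderOf x) :=
  Odd.of_dvd_nat hm (orderOf_dvd_of_pow_eq_one h)

section Finite

variable [Finite G] {K L Q U : Subgroup G}

/-- An element of `C(L)` of odd order which acts on `K` as an inner automorphism lies in `K`. -/
theorem FullPair.mem_of_odd (h : FullPair K L Q U) (hK : TightAt K) (hO : NoCore K)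
    (hZ : ∀ x ∈ K, x ∈ centralizer (K : Set G) → x = 1)
    (hN : Even (Nat.card ↥(K ⊓ centralizer (L : Set G))))
    (hN' : Even (Nat.card ↥(L ⊓ centralizer (K : Set G)))) {c : G} (hc : c ∈ centralizer (L : Set G))
    (hodd : Odd (orderOf c)) (hin : c ∈ K ⊔ centralizer (K : Set G)) : c ∈ K := by
  obtain ⟨k, hk, x, hx, he⟩ := exists_decomp hin
  have hcx : ∀ y ∈ centralizer (K : Set G), x * y = y * x := by
    intro y hy
    exact comm_of_decomp hk he hy (h.comm_cen hK hO hN hN' hy hc).symm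
  have hxo : x ^ orderOf c = 1 := pow_eq_one_of_decomp hZ hk hx he (pow_orderOf_eq_one c)
  have h1 : zpowers x = ⊥ := by
    apply hO
    · rw [zpowers_le]; exact hx
    · intro m hm y hy
      obtain ⟨i, rfl⟩ := mem_zpowers_iff.mp hy
      have h2 : Commute m x := (hcx m hm).symm
      have h3 : m * x ^ i = x ^ i * m := (h2.zpow_right i)
      have e : m * x ^ i * m⁻¹ = x ^ i := by rw [h3]; group
      rw [e]; exact zpow_mem (mem_zpowers x) i
    · rw [Nat.card_zpowers]
      exact odd_orderOf_of_pow hodd hxo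
  rw [zpowers_eq_bot] at h1
  rw [he, h1, mul_one]; exact hk

/-- **(RT2)**, elements of odd order: let `w` be an involution of `K ∩ C(L)`, such that the centralizer of `w` in
`K ∩ C(L)` is a 2-group. Elements of odd order of `C_K(w)` acting as inner automorphisms on `L` (and the projection to
`C(L)` inner on `K`) lie in `L`. -/
theorem FullPair.rt_odd (h : FullPair K L Q U) (hK : TightAt K) (hO : NoCore K)
    (hZ : ∀ x ∈ K, x ∈ centralizer (K : Set G) → x = 1)
    (hinK : ∀ x ∈ normalizer (K : Set G), Odd (orderOf x) → x ∈ K ⊔ centralizer (K : Set G))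
    (hN : Even (Nat.card ↥(K ⊓ centralizer (L : Set G))))
    (hN' : Even (Nat.card ↥(L ⊓ centralizer (K : Set G)))) {w : G} (hwL : w ∈ centralizer (L : Set G))
    (hw2 : orderOf w = 2)
    (h2 : ∀ c ∈ K, c ∈ centralizer (L : Set G) → c * w = w * c → Odd (orderOf c) → c = 1)
    {e : G} (hew : e * w = w * e) (ho : Odd (orderOf e)) : e ∈ L := by
  have heL : e ∈ normalizer (L : Set G) := (h.tightL hK).mem hwL hw2 hew
  obtain ⟨g, hg, hLg⟩ := h.conj
  have hZL : ∀ x ∈ L, x ∈ centralizer (L : Set G) → x = 1 := by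
    intro x hx hxc
    rw [hLg] at hx hxc
    rw [centralizer_cj, mem_cj] at hxc
    rw [mem_cj] at hx
    have h3 := hZ _ hx hxc
    have e1 : x = g * (g⁻¹ * x * g) * g⁻¹ := by group
    rw [e1, h3]; simp
  have hinL : e ∈ L ⊔ centralizer (L : Set G) := by
    rw [hLg, normalizer_cj, mem_cj] at heL
    have h3 := hinK _ heL (by
      have h4 := Basic.orderOf_conj g⁻¹ e
      rw [inv_inv] at h4
      rw [h4]; exact ho)
    obtain ⟨k, hk, c, hc, hkc⟩ := exists_decomp h3
    have e1 : e = (g * k * g⁻¹) * (g * c * g⁻¹) := by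
      calc e = g * (g⁻¹ * e * g) * g⁻¹ := by group
        _ = g * (k * c) * g⁻¹ := by rw [hkc]
        _ = _ := by group
    rw [e1, hLg, centralizer_cj]
    exact mul_mem_sup (mem_cj_mul hk) (mem_cj_mul hc)
  obtain ⟨l, hl, c, hc, he⟩ := exists_decomp hinL
  have hco : Odd (orderOf c) := odd_orderOf_of_pow ho (pow_eq_one_of_decomp hZL hl hc he (pow_orderOf_eq_one e))
  have hcw : c * w = w * c := comm_of_decomp hl he hwL hew
  have hcK : c ∈ K := h.mem_of_odd hK hO hZ hN hN' hc hco (hinK c (h.cenL_le hK hN' hc) hco)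
  have hc1 := h2 c hcK hc hcw hco
  rw [he, hc1, mul_one]; exact hl

/-- **(RT2)**: `w` does not lie in the subgroup generated by the elements of odd order of `C_K(w)`. -/
theorem FullPair.rt_odd_notMem (h : FullPair K L Q U) (hK : TightAt K) (hO : NoCore K)
    (hZ : ∀ x ∈ K, x ∈ centralizer (K : Set G) → x = 1)
    (hinK : ∀ x ∈ normalizer (K : Set G), Odd (orderOf x) → x ∈ K ⊔ centralizer (K : Set G))
    (hN : Even (Nat.card ↥(K ⊓ centralizer (L : Set G))))
    (hN' : Even (Nat.card ↥(L ⊓ centralizer (K : Set G)))) {w : G} (hwL : w ∈ centralizer (L : Set G))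
    (hw2 : orderOf w = 2)
    (h2 : ∀ c ∈ K, c ∈ centralizer (L : Set G) → c * w = w * c → Odd (orderOf c) → c = 1) :
    w ∉ closure {e : G | e ∈ K ∧ e * w = w * e ∧ Odd (orderOf e)} := by
  intro hw
  have h3 : closure {e : G | e ∈ K ∧ e * w = w * e ∧ Odd (orderOf e)} ≤ L := by
    rw [closure_le]
    rintro e ⟨_, hew, ho⟩
    exact h.rt_odd hK hO hZ hinK hN hN' hwL hw2 h2 hew ho
  have hwL' : w ∈ L := h3 hw
  obtain ⟨g, hg, hLg⟩ := h.conj
  rw [hLg] at hwL' hwL
  rw [centralizer_cj, mem_cj] at hwL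
  rw [mem_cj] at hwL'
  have h4 := hZ _ hwL' hwL
  have h5 := Basic.orderOf_conj g⁻¹ w
  rw [inv_inv, h4, orderOf_one, hw2] at h5
  norm_num at h5

/-- A perfect subgroup of `C(L)` lies in `K` (if perfect subgroups of `N(K)` act as inner automorphisms on `K`). -/
theorem FullPair.le_of_perfect (h : FullPair K L Q U) (hK : TightAt K) (hO : NoCore K)
    (hZ : ∀ x ∈ K, x ∈ centralizer (K : Set G) → x = 1)
    (hsch : ∀ P ≤ normalizer (K : Set G), ⁅P, P⁆ = P → P ≤ K ⊔ centralizer (K : Set G))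
    (hN : Even (Nat.card ↥(K ⊓ centralizer (L : Set G))))
    (hN' : Even (Nat.card ↥(L ⊓ centralizer (K : Set G)))) {P : Subgroup G} (hP : P ≤ centralizer (L : Set G))
    (hPP : ⁅P, P⁆ = P) : P ≤ K := by
  have h1 := hsch P (hP.trans (h.cenL_le hK hN')) hPP
  obtain ⟨π, hπ, hπ'⟩ := exists_proj hZ
  let f : ↥P →* G := π.comp (inclusion h1)
  have hf : ∀ p q : ↥P, f p * f q = f q * f p := by
    intro p q
    obtain ⟨k, hk, he⟩ := hπ' (inclusion h1 p)
    exact comm_of_decomp hk he (hπ _) (h.comm_cen hK hO hN hN' (hπ (inclusion h1 q)) (hP p.2)).symm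
  have hcom : commutator ↥P = ⊤ := by
    rw [eq_top_iff, _root_.commutator_def]
    have h2 : (⁅(⊤ : Subgroup ↥P), (⊤ : Subgroup ↥P)⁆ : Subgroup ↥P).map P.subtype = P := by
      rw [Subgroup.map_commutator, ← MonoidHom.range_eq_map, Subgroup.range_subtype, hPP]
    intro p _
    have h3 : (p : G) ∈ (⁅(⊤ : Subgroup ↥P), (⊤ : Subgroup ↥P)⁆ : Subgroup ↥P).map P.subtype := by
      rw [h2]; exact p.2
    obtain ⟨q, hq, hqp⟩ := h3
    have h4 : q = p := Subtype.ext hqp
    rw [← h4]; exact hq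
  have hker : f.ker = ⊤ := by
    rw [eq_top_iff, ← hcom, _root_.commutator_def, commutator_le]
    intro p _ q _
    rw [MonoidHom.mem_ker, map_commutatorElement, commutatorElement_eq_one_iff_mul_comm]
    exact hf p q
  intro p hp
  obtain ⟨k, hk, he⟩ := hπ' (inclusion h1 ⟨p, hp⟩)
  have h3 : (⟨p, hp⟩ : ↥P) ∈ f.ker := by rw [hker]; trivial
  rw [MonoidHom.mem_ker] at h3
  have h4 : π (inclusion h1 ⟨p, hp⟩) = 1 := h3
  rw [h4, mul_one] at he
  have h5 : p = k := he
  rw [h5]; exact hk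

/-- **(RT2)**, perfect subgroups. -/
theorem FullPair.rt_perfect (h : FullPair K L Q U) (hK : TightAt K) (hO : NoCore K)
    (hZ : ∀ x ∈ K, x ∈ centralizer (K : Set G) → x = 1)
    (hsch : ∀ P ≤ normalizer (K : Set G), ⁅P, P⁆ = P → P ≤ K ⊔ centralizer (K : Set G))
    (hN : Even (Nat.card ↥(K ⊓ centralizer (L : Set G))))
    (hN' : Even (Nat.card ↥(L ⊓ centralizer (K : Set G)))) {w : G} (hwL : w ∈ centralizer (L : Set G))
    (hw2 : orderOf w = 2)
    (h2 : ∀ P ≤ K, P ≤ centralizer (L : Set G) → (∀ c ∈ P, c * w = w * c) → ⁅P, P⁆ = P → P = ⊥)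
    {E : Subgroup G} (hEw : ∀ e ∈ E, e * w = w * e) (hEE : ⁅E, E⁆ = E) : E ≤ L := by
  have heL : E ≤ normalizer (L : Set G) := fun e he => (h.tightL hK).mem hwL hw2 (hEw e he)
  obtain ⟨g, hg, hLg⟩ := h.conj
  have hZL : ∀ x ∈ L, x ∈ centralizer (L : Set G) → x = 1 := by
    intro x hx hxc
    rw [hLg] at hx hxc
    rw [centralizer_cj, mem_cj] at hxc
    rw [mem_cj] at hx
    have h3 := hZ _ hx hxc
    have e1 : x = g * (g⁻¹ * x * g) * g⁻¹ := by group
    rw [e1, h3]; simp
  have hinL : E ≤ L ⊔ centralizer (L : Set G) := by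
    have h3 : CommConj.cj g⁻¹ E ≤ K ⊔ centralizer (K : Set G) := by
      apply hsch
      · intro x hx
        rw [mem_cj, inv_inv] at hx
        have h4 := heL hx
        rw [hLg, normalizer_cj, mem_cj] at h4
        have e : g⁻¹ * (g * x * g⁻¹) * g = x := by group
        rwa [e] at h4
      · rw [← Subgroup.map_commutator, hEE]
    intro e he
    have h4 : g⁻¹ * e * g ∈ CommConj.cj g⁻¹ E := by
      rw [mem_cj, inv_inv]
      have e1 : g * (g⁻¹ * e * g) * g⁻¹ = e := by group
      rwa [e1]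
    obtain ⟨k, hk, c, hc, hkc⟩ := exists_decomp (h3 h4)
    have e1 : e = (g * k * g⁻¹) * (g * c * g⁻¹) := by
      calc e = g * (g⁻¹ * e * g) * g⁻¹ := by group
        _ = g * (k * c) * g⁻¹ := by rw [hkc]
        _ = _ := by group
    rw [e1, hLg, centralizer_cj]
    exact mul_mem_sup (mem_cj_mul hk) (mem_cj_mul hc)
  obtain ⟨π, hπ, hπ'⟩ := exists_proj hZL
  let P : Subgroup G := (E.subgroupOf (L ⊔ centralizer (L : Set G))).map π
  have hPP : ⁅P, P⁆ = P := by
    have h3 : ⁅E.subgroupOf (L ⊔ centralizer (L : Set G)), E.subgroupOf (L ⊔ centralizer (L : Set G))⁆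
        = E.subgroupOf (L ⊔ centralizer (L : Set G)) := by
      apply Subgroup.map_injective (Subgroup.subtype_injective _)
      rw [Subgroup.map_commutator, subgroupOf_map_subtype, inf_eq_left.mpr hinL, hEE]
    show ⁅(E.subgroupOf _).map π, (E.subgroupOf _).map π⁆ = _
    rw [← Subgroup.map_commutator, h3]
  have hPC : P ≤ centralizer (L : Set G) := by
    rintro _ ⟨e, _, rfl⟩
    exact hπ e
  have hPK := h.le_of_perfect hK hO hZ hsch hN hN' hPC hPP
  have hPw : ∀ c ∈ P, c * w = w * c := by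
    rintro _ ⟨e, he, rfl⟩
    obtain ⟨k, hk, hke⟩ := hπ' e
    exact comm_of_decomp hk hke hwL (hEw _ (mem_subgroupOf.mp he))
  have hP1 := h2 P hPK hPC hPw hPP
  intro e he
  obtain ⟨k, hk, hke⟩ := hπ' ⟨e, hinL he⟩
  have h3 : π ⟨e, hinL he⟩ ∈ P := ⟨⟨e, hinL he⟩, mem_subgroupOf.mpr he, rfl⟩
  rw [hP1, mem_bot] at h3
  rw [h3, mul_one] at hke
  have h5 : e = k := hke
  rw [h5]; exact hk

end Finite

end Cfsg.Agent.OddHalf.D4
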