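import Mathlib
import Cfsg.Agent.OddHalf.D4.Pair3

/-!
# ODD, D4: the K-fact `KP` and the end of `m_2(C(K)) ≥ 2`

`Conf M α β D N`: the traces in `M ≅ K` of a full pair `K`, `L`: a four-group `⟨α, β⟩` of automorphisms of `M` induced by
involutions of `C(L) ∩ N(K)`, `D = K ∩ N(L)`, `N = K ∩ C(L)`.
`KP M`: in such a configuration `N` contains an involution `w` which is a product of elements of odd order of `C_M(w)`,
such that `C_N(w)` has no elements of odd order.
`FullPair.false_of_KP`: `KP M` and "automorphisms of odd order of `M` are inner" exclude `m_2(C(K)) ≥ 2`.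
-/

set_option autoImplicit false

namespace Cfsg.Agent.OddHalf.D4

open Subgroup Basic
open Cfsg.Agent.OddHalf.D4.CommConj (Tight cj mem_cj cj_mul card_cj mem_cj_mul)

/-- The traces of a full pair in the component. -/
structure Conf {M : Type*} [Group M] (α β : MulAut M) (D N : Subgroup M) : Prop where
  aa : α * α = 1
  bb : β * β = 1
  ab : α * β = β * α
  a1 : α ≠ 1
  b1 : β ≠ 1
  ne : α ≠ β
  le : N ≤ D
  norm : ∀ d ∈ D, ∀ n ∈ N, d * n * d⁻¹ ∈ N
  cen : ∀ γ : MulAut M, (γ = α ∨ γ = β ∨ γ = α * β) → ∀ x, γ x = x → x ∈ D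
  comm : ∀ γ : MulAut M, (γ = α ∨ γ = β ∨ γ = α * β) → ∀ d ∈ D, γ d * d⁻¹ ∈ N
  cenN : ∀ n ∈ N, orderOf n = 2 → ∀ x, x * n = n * x → x ∈ D
  noCen : ∀ γ : MulAut M, (γ = α ∨ γ = β ∨ γ = α * β) → ∀ S : Sylow 2 M, ∃ s ∈ S, γ s ≠ s
  noCenN : ∀ n ∈ N, orderOf n = 2 → ∀ S : Sylow 2 M, ∃ s ∈ S, s * n ≠ n * s

/-- The conclusion of `KP`. -/
def KPc {M : Type*} [Group M] (N : Subgroup M) : Prop :=
  ∃ w ∈ N, orderOf w = 2 ∧ w ∈ closure {e : M | e * w = w * e ∧ Odd (orderOf e)} ∧
    ∀ c ∈ N, c * w = w * c → Odd (orderOf c) → c = 1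

/-- **The K-fact.** -/
def KP (M : Type*) [Group M] : Prop :=
  ∀ (α β : MulAut M) (D N : Subgroup M), Conf α β D N → KPc N

/-- The Sylow 2-subgroups of isomorphic groups correspond. -/
theorem exists_sylow_equiv' {M M' : Type*} [Group M] [Group M'] (e : M ≃* M') (S : Sylow 2 M') :
    ∃ S' : Sylow 2 M, ∀ s, s ∈ S' → e s ∈ S := by
  refine ⟨⟨(S : Subgroup M').comap e.toMonoidHom, S.2.comap_of_injective _ e.injective, ?_⟩, fun s hs => hs⟩
  intro Q hQ hle
  have h1 : IsPGroup 2 ↥(Q.map e.toMonoidHom) := hQ.map _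
  have h2 : (S : Subgroup M') ≤ Q.map e.toMonoidHom := by
    intro s hs
    refine ⟨e.symm s, hle ?_, e.apply_symm_apply s⟩
    show e (e.symm s) ∈ (S : Subgroup M')
    rw [e.apply_symm_apply]; exact hs
  have h3 := S.3 h1 h2
  apply le_antisymm _ hle
  intro q hq
  show e q ∈ (S : Subgroup M')
  rw [← h3]
  exact ⟨q, hq, rfl⟩

/-- Transport of a configuration. -/
theorem Conf.map {M M' : Type*} [Group M] [Group M'] {α β : MulAut M} {D N : Subgroup M} (h : Conf α β D N)
    (e : M ≃* M') : Conf (MulAut.congr e α) (MulAut.congr e β) (D.map e.toMonoidHom) (N.map e.toMonoidHom) := by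
  have hγ : ∀ γ : MulAut M', (γ = MulAut.congr e α ∨ γ = MulAut.congr e β ∨ γ = MulAut.congr e α * MulAut.congr e β) →
      ∃ δ : MulAut M, (δ = α ∨ δ = β ∨ δ = α * β) ∧ γ = MulAut.congr e δ := by
    rintro γ (rfl | rfl | rfl)
    · exact ⟨α, Or.inl rfl, rfl⟩
    · exact ⟨β, Or.inr (Or.inl rfl), rfl⟩
    · exact ⟨α * β, Or.inr (Or.inr rfl), (map_mul _ _ _).symm⟩
  have happ : ∀ (δ : MulAut M) (x : M'), MulAut.congr e δ x = e (δ (e.symm x)) := fun δ x => rfl
  have hmem : ∀ (H : Subgroup M) (x : M'), x ∈ H.map e.toMonoidHom ↔ e.symm x ∈ H := by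
    intro H x
    constructor
    · rintro ⟨y, hy, rfl⟩
      show e.symm (e y) ∈ H
      rw [e.symm_apply_apply]; exact hy
    · intro hx
      exact ⟨e.symm x, hx, e.apply_symm_apply x⟩
  refine ⟨?_, ?_, ?_, ?_, ?_, ?_, ?_, ?_, ?_, ?_, ?_, ?_, ?_⟩
  · rw [← map_mul, h.aa, map_one]
  · rw [← map_mul, h.bb, map_one]
  · rw [← map_mul, h.ab, map_mul]
  · intro h1
    exact h.a1 ((MulAut.congr e).injective (h1.trans (map_one _).symm))
  · intro h1
    exact h.b1 ((MulAut.congr e).injective (h1.trans (map_one _).symm))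
  · intro h1
    exact h.ne ((MulAut.congr e).injective h1)
  · exact map_mono h.le
  · intro d hd n hn
    rw [hmem] at hd hn ⊢
    rw [map_mul, map_mul, map_inv]
    exact h.norm _ hd _ hn
  · intro γ hc x hx
    obtain ⟨δ, hδ, rfl⟩ := hγ γ hc
    rw [hmem]
    apply h.cen δ hδ
    rw [happ] at hx
    apply e.injective
    rw [hx, e.apply_symm_apply]
  · intro γ hc d hd
    obtain ⟨δ, hδ, rfl⟩ := hγ γ hc
    rw [hmem] at hd ⊢
    rw [happ, map_mul, e.symm_apply_apply, map_inv]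
    exact h.comm δ hδ _ hd
  · intro n hn hn2 x hx
    rw [hmem] at hn ⊢
    apply h.cenN _ hn
    · rw [← hn2]
      exact orderOf_injective e.symm.toMonoidHom e.symm.injective n
    · rw [← map_mul, hx, map_mul]
  · intro γ hc S
    obtain ⟨δ, hδ, rfl⟩ := hγ γ hc
    obtain ⟨S', hS'⟩ := exists_sylow_equiv' e S
    obtain ⟨s, hs, hne⟩ := h.noCen δ hδ S'
    refine ⟨e s, hS' s hs, ?_⟩
    rw [happ, e.symm_apply_apply]
    exact fun h1 => hne (e.injective h1)
  · intro n hn hn2 S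
    rw [hmem] at hn
    obtain ⟨S', hS'⟩ := exists_sylow_equiv' e S
    obtain ⟨s, hs, hne⟩ := h.noCenN _ hn (by
      rw [← hn2]
      exact orderOf_injective e.symm.toMonoidHom e.symm.injective n) S'
    refine ⟨e s, hS' s hs, ?_⟩
    intro h1
    apply hne
    apply e.injective
    rw [map_mul, map_mul, e.apply_symm_apply, h1]

theorem KPc.map {M M' : Type*} [Group M] [Group M'] {N : Subgroup M} (e : M ≃* M')
    (h : KPc (N.map e.toMonoidHom)) : KPc N := by
  obtain ⟨w', ⟨w, hw, rfl⟩, hw2, hcl, hodd⟩ := h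
  have ho : ∀ x : M, orderOf (e x) = orderOf x := fun x => orderOf_injective e.toMonoidHom e.injective x
  refine ⟨w, hw, (ho w).symm.trans hw2, ?_, ?_⟩
  · have h1 : closure {e' : M' | e' * e w = e w * e' ∧ Odd (orderOf e')} ≤
        (closure {e' : M | e' * w = w * e' ∧ Odd (orderOf e')}).map e.toMonoidHom := by
      rw [closure_le]
      rintro x ⟨hx1, hx2⟩
      refine ⟨e.symm x, subset_closure ⟨?_, ?_⟩, e.apply_symm_apply x⟩
      · apply e.injective
        rw [map_mul, map_mul, e.apply_symm_apply, hx1]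
      · rw [← ho, e.apply_symm_apply]; exact hx2
    obtain ⟨y, hy, hye⟩ := h1 hcl
    have h3 : y = w := e.injective hye
    subst h3
    exact hy
  · intro c hc hcw hco
    apply e.injective
    rw [map_one]
    apply hodd (e c) ⟨c, hc, rfl⟩
    · show e c * e w = e w * e c
      rw [← map_mul, hcw, map_mul]
    · rw [ho]; exact hco

theorem KP.of_equiv {M M' : Type*} [Group M] [Group M'] (h : KP M') (e : M ≃* M') : KP M :=
  fun _ _ _ _ hc => KPc.map e (h _ _ _ _ (hc.map e))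

section Finite

variable {G : Type*} [Group G] [Finite G] {K L Q U : Subgroup G}

/-- `C(K)` contains two commuting involutions. -/
def Rk2 (K : Subgroup G) : Prop :=
  ∃ a b : G, a ∈ centralizer (K : Set G) ∧ b ∈ centralizer (K : Set G) ∧ orderOf a = 2 ∧ orderOf b = 2 ∧
    a * b = b * a ∧ a ≠ b

theorem Rk2.cj (h : Rk2 K) (g : G) : Rk2 (CommConj.cj g K) := by
  obtain ⟨a, b, ha, hb, ha2, hb2, hab, hne⟩ := h
  refine ⟨g * a * g⁻¹, g * b * g⁻¹, ?_, ?_, ?_, ?_, ?_, ?_⟩
  · rw [centralizer_cj]; exact mem_cj_mul ha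
  · rw [centralizer_cj]; exact mem_cj_mul hb
  · rw [Basic.orderOf_conj, ha2]
  · rw [Basic.orderOf_conj, hb2]
  · calc g * a * g⁻¹ * (g * b * g⁻¹) = g * (a * b) * g⁻¹ := by group
      _ = g * (b * a) * g⁻¹ := by rw [hab]
      _ = _ := by group
  · intro h1
    apply hne
    have h2 := mul_right_cancel h1
    exact mul_left_cancel h2

/-- A Sylow 2-subgroup of `C(K)` contains two commuting involutions. -/
theorem Rk2.exists_syl (h : Rk2 K) (hQ : IsSyl Q (centralizer (K : Set G))) :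
    ∃ a ∈ Q, ∃ b ∈ Q, orderOf a = 2 ∧ orderOf b = 2 ∧ a * b = b * a ∧ a ≠ b := by
  obtain ⟨a, b, ha, hb, ha2, hb2, hab, hne⟩ := h
  have hz : ∀ x : G, orderOf x = 2 → IsPGroup 2 ↥(zpowers x) := by
    intro x hx
    rw [IsPGroup.iff_card]; exact ⟨1, by rw [Nat.card_zpowers, hx]; norm_num⟩
  have h1 : IsPGroup 2 ↥(zpowers a ⊔ zpowers b) := by
    apply (hz a ha2).to_sup_of_normal_left' (hz b hb2)
    rw [zpowers_le, mem_normalizer_iff]
    have key : ∀ x, x ∈ zpowers a → b * x * b⁻¹ = x := by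
      intro x hx
      obtain ⟨i, rfl⟩ := mem_zpowers_iff.mp hx
      have h2 : Commute b a := hab.symm
      have h3 : b * a ^ i = a ^ i * b := h2.zpow_right i
      rw [h3]; group
    intro x
    constructor
    · intro hx
      rw [key x hx]; exact hx
    · intro hx
      have h4 := key _ hx
      have hbb : b * b = 1 := by rw [← pow_two, ← hb2]; exact pow_orderOf_eq_one b
      have h5 : b * (b * x * b⁻¹) * b⁻¹ = x := by
        calc b * (b * x * b⁻¹) * b⁻¹ = (b * b) * x * (b * b)⁻¹ := by group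
          _ = x := by rw [hbb]; simp
      rw [h5] at h4
      rw [h4]; exact hx
  obtain ⟨m, hm, hmQ⟩ := hQ.conj_into h1 (sup_le (by rw [zpowers_le]; exact ha) (by rw [zpowers_le]; exact hb))
  refine ⟨m * a * m⁻¹, hmQ a (mem_sup_left (mem_zpowers a)), m * b * m⁻¹, hmQ b (mem_sup_right (mem_zpowers b)),
    by rw [Basic.orderOf_conj, ha2], by rw [Basic.orderOf_conj, hb2], ?_, ?_⟩
  · calc m * a * m⁻¹ * (m * b * m⁻¹) = m * (a * b) * m⁻¹ := by group
      _ = m * (b * a) * m⁻¹ := by rw [hab]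
      _ = _ := by group
  · intro h2
    apply hne
    have h3 := mul_right_cancel h2
    exact mul_left_cancel h3

theorem coe_aut {y : G} (hy : y ∈ normalizer (K : Set G)) (x : ↥K) :
    ((K.normalizerMonoidHom ⟨y, hy⟩ x : ↥K) : G) = y * x * y⁻¹ := by
  rw [normalizerMonoidHom_apply_apply_coe]

/-- Two commuting involutions of `C(L) ∩ N(K)` give a configuration. -/
theorem FullPair.conf (h : FullPair K L Q U) (hK : Loc K) {y u : G} (hyK : y ∈ normalizer (K : Set G))
    (huK : u ∈ normalizer (K : Set G)) (hyL : y ∈ centralizer (L : Set G)) (huL : u ∈ centralizer (L : Set G))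
    (hy2 : orderOf y = 2) (hu2 : orderOf u = 2) (hyu : y * u = u * y) (hne : y ≠ u) :
    Conf (K.normalizerMonoidHom ⟨y, hyK⟩) (K.normalizerMonoidHom ⟨u, huK⟩)
      ((normalizer (L : Set G)).subgroupOf K) ((centralizer (L : Set G)).subgroupOf K) := by
  have hyy : y * y = 1 := by rw [← pow_two, ← hy2]; exact pow_orderOf_eq_one y
  have huu : u * u = 1 := by rw [← pow_two, ← hu2]; exact pow_orderOf_eq_one u
  have hyu2 : orderOf (y * u) = 2 := by
    apply orderOf_eq_prime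
    · rw [pow_two]
      calc y * u * (y * u) = y * (u * y) * u := by group
        _ = y * (y * u) * u := by rw [hyu]
        _ = (y * y) * (u * u) := by group
        _ = 1 := by rw [hyy, huu, one_mul]
    · intro h1
      apply hne
      have h2 : u = y⁻¹ := eq_inv_of_mul_eq_one_right h1
      rw [h2]; exact eq_inv_of_mul_eq_one_left hyy
  have hγ : ∀ γ : MulAut ↥K, (γ = K.normalizerMonoidHom ⟨y, hyK⟩ ∨ γ = K.normalizerMonoidHom ⟨u, huK⟩ ∨
      γ = K.normalizerMonoidHom ⟨y, hyK⟩ * K.normalizerMonoidHom ⟨u, huK⟩) →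
      ∃ v : G, ∃ hv : v ∈ normalizer (K : Set G), v ∈ centralizer (L : Set G) ∧ orderOf v = 2 ∧
        γ = K.normalizerMonoidHom ⟨v, hv⟩ := by
    rintro γ (rfl | rfl | rfl)
    · exact ⟨y, hyK, hyL, hy2, rfl⟩
    · exact ⟨u, huK, huL, hu2, rfl⟩
    · exact ⟨y * u, mul_mem hyK huK, mul_mem hyL huL, hyu2, (map_mul _ _ _).symm⟩
  have hone : ∀ (v : G) (hv : v ∈ normalizer (K : Set G)), K.normalizerMonoidHom ⟨v, hv⟩ = 1 →
      v ∈ centralizer (K : Set G) := by
    intro v hv h1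
    rw [mem_centralizer_iff]
    intro k hk
    have h2 := coe_aut hv ⟨k, hk⟩
    rw [h1] at h2
    have h3 : k = v * k * v⁻¹ := h2
    calc k * v = (v * k * v⁻¹) * v := by rw [← h3]
      _ = v * k := by group
  refine ⟨?_, ?_, ?_, ?_, ?_, ?_, ?_, ?_, ?_, ?_, ?_, ?_, ?_⟩
  · rw [← map_mul]
    have h1 : (⟨y, hyK⟩ * ⟨y, hyK⟩ : ↥(normalizer (K : Set G))) = 1 := Subtype.ext hyy
    rw [h1, map_one]
  · rw [← map_mul]
    have h1 : (⟨u, huK⟩ * ⟨u, huK⟩ : ↥(normalizer (K : Set G))) = 1 := Subtype.ext huu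
    rw [h1, map_one]
  · rw [← map_mul, ← map_mul]
    congr 1
    exact Subtype.ext hyu
  · intro h1
    exact h.noInv hK.tight (hone y hyK h1) hyL hy2
  · intro h1
    exact h.noInv hK.tight (hone u huK h1) huL hu2
  · intro h1
    apply h.noInv hK.tight (k := y * u) (hone (y * u) (mul_mem hyK huK) ?_) (mul_mem hyL huL) hyu2
    have h2 : (⟨y * u, mul_mem hyK huK⟩ : ↥(normalizer (K : Set G))) = ⟨y, hyK⟩ * ⟨u, huK⟩ := rfl
    rw [h2, map_mul, h1, ← map_mul]
    have h3 : (⟨u, huK⟩ * ⟨u, huK⟩ : ↥(normalizer (K : Set G))) = 1 := Subtype.ext huu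
    rw [h3, map_one]
  · intro x hx
    rw [mem_subgroupOf] at hx ⊢
    exact centralizer_le_normalizer_self L hx
  · intro d hd n hn
    rw [mem_subgroupOf] at hd hn ⊢
    exact centralizer_conj_mem hd hn
  · intro γ hc x hx
    obtain ⟨v, hv, hvL, hv2, rfl⟩ := hγ γ hc
    rw [mem_subgroupOf]
    apply (h.tightL hK.tight).mem hvL hv2
    have h1 := coe_aut hv x
    rw [hx] at h1
    calc (x : G) * v = (v * x * v⁻¹) * v := by rw [← h1]
      _ = v * x := by group
  · intro γ hc d hd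
    obtain ⟨v, hv, hvL, hv2, rfl⟩ := hγ γ hc
    rw [mem_subgroupOf] at hd ⊢
    rw [Subgroup.coe_mul, coe_aut hv, Subgroup.coe_inv]
    have h1 := (commutator_mem d.2 hd hvL hv).2
    have h2 := (centralizer (L : Set G)).inv_mem h1
    have e : ((d : G) * v * (d : G)⁻¹ * v⁻¹)⁻¹ = v * d * v⁻¹ * (d : G)⁻¹ := by group
    rw [e] at h2
    exact h2
  · intro n hn hn2 x hx
    rw [mem_subgroupOf] at hn ⊢
    apply (h.tightL hK.tight).mem hn (by rw [Subgroup.orderOf_coe]; exact hn2)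
    exact congrArg Subtype.val hx
  · intro γ hc S
    obtain ⟨v, hv, hvL, hv2, rfl⟩ := hγ γ hc
    by_contra hcon
    push Not at hcon
    apply h.noCentral hK hvL hv2 (isSyl_of_sylow S)
    rintro _ ⟨s, hs, rfl⟩
    have h1 := coe_aut hv s
    rw [hcon s hs] at h1
    show (s : G) * v = v * s
    calc (s : G) * v = (v * s * v⁻¹) * v := by rw [← h1]
      _ = v * s := by group
  · intro n hn hn2 S
    rw [mem_subgroupOf] at hn
    by_contra hcon
    push Not at hcon
    apply h.noCentral hK hn (by rw [Subgroup.orderOf_coe]; exact hn2) (isSyl_of_sylow S)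
    rintro _ ⟨s, hs, rfl⟩
    exact congrArg Subtype.val (hcon s hs)

/-- `KP` gives an involution in `K ∩ C(L)`. -/
theorem FullPair.exists_of_KP (h : FullPair K L Q U) (hK : Loc K) (hr : Rk2 L) (hKP : KP ↥K) :
    KPc ((centralizer (L : Set G)).subgroupOf K) := by
  obtain ⟨y, hy, u, hu, hy2, hu2, hyu, hne⟩ := hr.exists_syl h.sylU
  have hUK := h.leU hK.tight hK.even
  exact hKP _ _ _ _ (h.conf hK (hUK hy) (hUK hu) (h.sylU.le hy) (h.sylU.le hu) hy2 hu2 hyu hne)

/-- `Loc` is invariant under conjugation. -/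
theorem Loc.cj (hK : Loc K) (g : G) : Loc (CommConj.cj g K) := by
  have hmem : ∀ (X : Subgroup G) (x : G), x ∈ CommConj.cj g⁻¹ X ↔ g * x * g⁻¹ ∈ X := by
    intro X x
    rw [mem_cj, inv_inv]
  have hT : ∀ T : Subgroup G, IsSyl T (normalizer ((CommConj.cj g K : Subgroup G) : Set G)) →
      IsSyl (CommConj.cj g⁻¹ T) (normalizer (K : Set G)) := by
    intro T hT
    have h1 := hT.cj g⁻¹
    rwa [normalizer_cj, cj_inv_cj] at h1
  have e1 : ∀ x : G, g * (g⁻¹ * x * g) * g⁻¹ = x := by intro x; group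
  have e2 : ∀ x : G, g⁻¹ * (g * x * g⁻¹) * g = x := by intro x; group
  have hcomm : ∀ x y : G, x * y = y * x → g⁻¹ * x * g * (g⁻¹ * y * g) = g⁻¹ * y * g * (g⁻¹ * x * g) := by
    intro x y hxy
    calc g⁻¹ * x * g * (g⁻¹ * y * g) = g⁻¹ * (x * y) * g := by group
      _ = g⁻¹ * (y * x) * g := by rw [hxy]
      _ = _ := by group
  have hcomm' : ∀ x y : G, x * y = y * x → g * x * g⁻¹ * (g * y * g⁻¹) = g * y * g⁻¹ * (g * x * g⁻¹) := by
    intro x y hxy
    calc g * x * g⁻¹ * (g * y * g⁻¹) = g * (x * y) * g⁻¹ := by group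
      _ = g * (y * x) * g⁻¹ := by rw [hxy]
      _ = _ := by group
  have hcomm'' : ∀ x y : G, g * x * g⁻¹ * y = y * (g * x * g⁻¹) → x * (g⁻¹ * y * g) = g⁻¹ * y * g * x := by
    intro x y hxy
    calc x * (g⁻¹ * y * g) = g⁻¹ * (g * x * g⁻¹ * y) * g := by group
      _ = g⁻¹ * (y * (g * x * g⁻¹)) * g := by rw [hxy]
      _ = _ := by group
  have hord : ∀ x : G, orderOf (g⁻¹ * x * g) = orderOf x := by
    intro x
    have h1 := Basic.orderOf_conj g⁻¹ x
    rwa [inv_inv] at h1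
  refine ⟨TightAt.cj hK.tight g, ?_, ?_, ?_, ?_, ?_⟩
  · rw [centralizer_cj, card_cj]; exact hK.even
  · intro x hx hxc
    rw [centralizer_cj, mem_cj] at hxc
    rw [mem_cj] at hx
    have h1 := hK.cen _ hx hxc
    rw [← e1 x, h1]; simp
  · intro T hTs y hy hc
    obtain ⟨k, hk, s, hsT, hsK, hsc, hys⟩ := hK.inner _ (hT T hTs) (g⁻¹ * y * g)
      (by rw [hmem, e1]; exact hy) (by
        intro s hs hsK
        rw [hmem] at hs
        exact hcomm'' s y (hc _ hs (by rw [mem_cj, e2]; exact hsK)))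
    refine ⟨g * k * g⁻¹, by rw [centralizer_cj, mem_cj, e2]; exact hk, g * s * g⁻¹, (hmem _ _).mp hsT,
      by rw [mem_cj, e2]; exact hsK, ?_, ?_⟩
    · intro u hu huK
      have h1 := hcomm' _ _ (hsc (g⁻¹ * u * g) (by rw [hmem, e1]; exact hu) (mem_cj.mp huK))
      rwa [e1] at h1
    · calc y = g * (g⁻¹ * y * g) * g⁻¹ := (e1 y).symm
        _ = g * (k * s) * g⁻¹ := by rw [hys]
        _ = _ := by group
  · intro T hTs s hs hsK hs2 hsc s' hs' hsK' hs2' hsc'
    have h1 := hK.uniq _ (hT T hTs) (g⁻¹ * s * g) (by rw [hmem, e1]; exact hs) (mem_cj.mp hsK)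
      (by rw [hord, hs2]) (by
        intro u hu huK
        rw [hmem] at hu
        exact hcomm'' u s (hsc _ hu (by rw [mem_cj, e2]; exact huK))) (g⁻¹ * s' * g)
      (by rw [hmem, e1]; exact hs') (mem_cj.mp hsK') (by rw [hord, hs2']) (by
        intro u hu huK
        rw [hmem] at hu
        exact hcomm'' u s' (hsc' _ hu (by rw [mem_cj, e2]; exact huK)))
    rw [← e1 s, h1, e1]
  · intro T hTs x hx
    have h1 := hK.norm _ (hT T hTs)
    rw [normalizer_cj] at h1
    rw [normalizer_cj, mem_cj]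
    apply h1
    rw [mem_cj, inv_inv, e1]
    exact hx

/-- **The end of `m_2(C(K)) ≥ 2`**: no full pair if `KP K`, automorphisms of odd order inner and `O(C(K)) = 1`. -/
theorem FullPair.false_of_KP (h : FullPair K L Q U) (hK : Loc K) (hO : NoCore K) (hr : Rk2 K) (hKP : KP ↥K)
    (hin : ∀ α : MulAut ↥K, Odd (orderOf α) → ∃ k, α = MulAut.conj k) : False := by
  obtain ⟨g, hg, hLg⟩ := h.conj
  have hL : Loc L := by rw [hLg]; exact hK.cj g
  have hrL : Rk2 L := by rw [hLg]; exact hr.cj g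
  have eKL : ↥L ≃* ↥K := by
    rw [hLg]
    exact (K.equivMapOfInjective _ (MulAut.conj g).injective).symm
  have hKPL : KP ↥L := hKP.of_equiv eKL
  obtain ⟨w, hwL, hw2, hcl, hodd⟩ := h.exists_of_KP hK hrL hKP
  obtain ⟨w', hwK', hw2', _, _⟩ := h.symm.exists_of_KP hL hr hKPL
  rw [mem_subgroupOf] at hwL hwK'
  have hw2G : orderOf (w : G) = 2 := by rw [Subgroup.orderOf_coe]; exact hw2
  have hw2G' : orderOf (w' : G) = 2 := by rw [Subgroup.orderOf_coe]; exact hw2'
  have hN : Even (Nat.card ↥(K ⊓ centralizer (L : Set G))) := even_of_mem hw2G ⟨w.2, hwL⟩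
  have hN' : Even (Nat.card ↥(L ⊓ centralizer (K : Set G))) := even_of_mem hw2G' ⟨w'.2, hwK'⟩
  apply h.rt_odd_notMem hK.tight hO hK.cen ?_ hN hN' hwL hw2G
  · intro c hcK hcL hcw hco
    have h1 := hodd ⟨c, hcK⟩ (mem_subgroupOf.mpr hcL) (Subtype.ext hcw) (by
      rw [← Subgroup.orderOf_coe]; exact hco)
    exact congrArg Subtype.val h1
  · have h1 : closure {e : ↥K | e * w = w * e ∧ Odd (orderOf e)} ≤
        (closure {e : G | e ∈ K ∧ e * w = w * e ∧ Odd (orderOf e)}).comap K.subtype := by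
      rw [closure_le]
      rintro e ⟨he1, he2⟩
      exact subset_closure ⟨e.2, congrArg Subtype.val he1, by
        show Odd (orderOf (e : G))
        rw [Subgroup.orderOf_coe]; exact he2⟩
    exact h1 hcl
  · intro x hx hxo
    obtain ⟨k, hk⟩ := hin (K.normalizerMonoidHom ⟨x, hx⟩) (by
      apply Odd.of_dvd_nat hxo
      apply orderOf_dvd_of_pow_eq_one
      rw [← map_pow]
      have h2 : (⟨x, hx⟩ : ↥(normalizer (K : Set G))) ^ orderOf x = 1 := by
        apply Subtype.ext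
        rw [Subgroup.coe_pow]
        exact pow_orderOf_eq_one x
      rw [h2, map_one])
    have h3 : (k : G)⁻¹ * x ∈ centralizer (K : Set G) := by
      rw [mem_centralizer_iff]
      intro a ha
      have h4 := coe_aut hx ⟨a, ha⟩
      rw [hk] at h4
      have h5 : (k : G) * a * (k : G)⁻¹ = x * a * x⁻¹ := h4
      calc a * ((k : G)⁻¹ * x) = (k : G)⁻¹ * ((k : G) * a * (k : G)⁻¹) * x := by group
        _ = (k : G)⁻¹ * (x * a * x⁻¹) * x := by rw [h5]
        _ = (k : G)⁻¹ * x * a := by group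
    have h6 : x = (k : G) * ((k : G)⁻¹ * x) := by group
    rw [h6]
    exact mul_mem_sup k.2 h3

end Finite

end Cfsg.Agent.OddHalf.D4
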