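import Mathlib
import Cfsg.Agent.OddHalf.D4.Facts
import Cfsg.Agent.OddHalf.D4.Exists
import Cfsg.Agent.OddHalf.D4.KP
import Cfsg.Agent.OddHalf.D4.Cut

/-!
# ODD, D4: the start of every row with `K` simple

`Data K`: everything the K-free part gives for a standard component `K` with `Z(K) = 1`, `m_2(C(K)) ≥ 2` and
`AutFacts K`: `Loc K`, a full pair, `O(C(K)) = 1`, `O(C_G(t)) = 1`, two commuting involutions in `C(K)`.
`row_of_pair`, `row_of_KP`: rows of `Cut.lean`.
-/

set_option autoImplicit false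

namespace Cfsg.Agent.OddHalf.D4.Start

open Cfsg Subgroup Cfsg.Agent.OddHalf.D4 Cfsg.Agent.OddHalf.D4.Basic
open Cfsg.Agent.OddHalf.D4.CommConj (Tight cj mem_cj)

universe u

/-- `O(G) = 1` for a simple nonabelian group of even order -/
theorem oddCore_eq_bot {G : Type*} [Group G] [Finite G] [IsSimpleGroup G] {t : G} (ht : orderOf t = 2) :
    oddCore G = ⊥ := by
  have hn : (oddCore G).Normal := by
    unfold oddCore
    infer_instance
  rcases hn.eq_bot_or_eq_top with h | h
  · exact h
  · exfalso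
    have h1 : Nat.Coprime 2 (Nat.card ↥(oddCore G)) := by
      unfold oddCore
      exact (Cfsg.Agent.Lib.Cores.pPrimeCore_coprime (G := G) 2).symm
    rw [h, Subgroup.card_top] at h1
    have h2 : orderOf t ∣ Nat.card G := orderOf_dvd_natCard t
    rw [ht] at h2
    have h3 := Nat.dvd_gcd (dvd_refl 2) h2
    rw [h1] at h3
    norm_num at h3

theorem isSimple_of_center {K : Type*} [Group K] (hs : IsSimpleGroup (K ⧸ center K)) (hz : center K = ⊥) :
    IsSimpleGroup K := by
  have e : K ⧸ center K ≃* K := (QuotientGroup.quotientMulEquivOfEq hz).trans QuotientGroup.quotientBot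
  exact e.isSimpleGroup_congr.mp hs

/-- S1173 for all groups with `O(G) = 1` -/
def P1173 : Prop := ∀ (G : Type u) [Group G] [Finite G], oddCore G = ⊥ → EvenPair.H1173 G

/-- what the K-free part gives -/
structure Data {G : Type u} [Group G] (K : Subgroup G) : Prop where
  loc : Loc K
  core : NoCore K
  rk : Rk2 K
  bal : ∀ t : G, orderOf t = 2 → centralizerPPrimeCore 2 t = ⊥
  std : IsStandardSubgroup K
  simple : IsSimpleGroup ↥K
  perf : ⁅K, K⁆ = K
  ne : K ≠ ⊥
  pair : ∃ L Q U : Subgroup G, FullPair K L Q U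

theorem data_of_std {G : Type u} [Group G] [Finite G] [IsSimpleGroup G]
    (hbal : ∀ t : G, orderOf t = 2 → centralizerPPrimeCore 2 t = ⊥) {K : Subgroup G}
    (hstd : IsStandardSubgroup K) (hs : IsSimpleGroup ↥K)
    (hrk : ¬ PRankLE 2 1 ↥(centralizer (K : Set G))) (hF : AutFacts ↥K)
    (h1173 : oddCore G = ⊥ → EvenPair.H1173 G) : Data K := by
  have hloc : Loc K := loc_of_std hstd hbal hrk hF
  have hperf : ⁅K, K⁆ = K := by
    have h1 : ⁅(⊤ : Subgroup ↥K), (⊤ : Subgroup ↥K)⁆ = ⊤ := hstd.1.1.commutator_eq_top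
    have h2 := congrArg (Subgroup.map K.subtype) h1
    rw [Subgroup.map_commutator, ← MonoidHom.range_eq_map, Subgroup.range_subtype] at h2
    exact h2
  have hne : K ≠ ⊥ := by
    rintro rfl
    have := hs.toNontrivial
    exact not_subsingleton ↥(⊥ : Subgroup G) inferInstance
  obtain ⟨a, b, ha, hb, ha2, hb2, hab, hne2⟩ := EvenPair.exists_two_of_not_pRankLE hrk
  obtain ⟨L, Q, U, hp⟩ := Exists.exists_fullPair (h1173 (oddCore_eq_bot ha2)) hloc hne hperf
  obtain ⟨T, hT, -⟩ := exists_isSyl (G := G) (M := normalizer (K : Set G)) (Q := ⊥) IsPGroup.of_bot bot_le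
  exact ⟨hloc, (dat_of_std hstd hbal hrk hF hT).core, ⟨a, b, ha, hb, ha2, hb2, hab, hne2⟩, hbal, hstd, hs,
    hperf, hne, L, Q, U, hp⟩

theorem data {G : Type u} [Group G] (hG : Iface.Ctx G) {K : Subgroup G} (hK : Iface.Std G K)
    (hrk : ¬ PRankLE 2 1 ↥(centralizer (K : Set G))) (hz : center ↥K = ⊥) (hF : AutFacts ↥K)
    (h1173 : oddCore G = ⊥ → EvenPair.H1173 G) : Data K := by
  have := hG.fin
  have := hG.simple
  exact data_of_std hG.bal hK.std (isSimple_of_center hK.simple hz) hrk hF h1173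

/-- **a row of `Cut.lean` from a contradiction for full pairs** -/
theorem row_of_pair (h1173 : P1173.{u}) {P : (K : Type u) → [Group K] → Prop}
    (hF : ∀ (X : Type u) [Group X] [Finite X] [IsSimpleGroup X], P X → AutFacts X)
    (h : ∀ (G : Type u) [Group G], Iface.Ctx G → ∀ K L Q U : Subgroup G, Iface.Std G K → Data K →
      FullPair K L Q U → P ↥K → False) : Cut.Row1.{u} P := by
  intro G _ hG K hK hrk hz hP
  have := hG.fin
  have := isSimple_of_center hK.simple hz
  have hD := data hG hK hrk hz (hF ↥K hP) (h1173 G)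
  obtain ⟨L, Q, U, hp⟩ := hD.pair
  exact h G hG K L Q U hK hD hp hP

/-- **a row of `Cut.lean` from `AutFacts`, `KP` and "automorphisms of odd order are inner"** -/
theorem row_of_KP (h1173 : P1173.{u}) {P : (K : Type u) → [Group K] → Prop}
    (hF : ∀ (X : Type u) [Group X] [Finite X] [IsSimpleGroup X], P X → AutFacts X)
    (hKP : ∀ (X : Type u) [Group X] [Finite X] [IsSimpleGroup X], P X → KP X)
    (hodd : ∀ (X : Type u) [Group X] [Finite X] [IsSimpleGroup X], P X →
      ∀ α : MulAut X, Odd (orderOf α) → ∃ k, α = MulAut.conj k) : Cut.Row1.{u} P := by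
  apply row_of_pair h1173 hF
  intro G _ hG K L Q U _ hD hp hP
  have := hG.fin
  have := hD.simple
  exact hp.false_of_KP hD.loc hD.core hD.rk (hKP ↥K hP) (hodd ↥K hP)

end Cfsg.Agent.OddHalf.D4.Start
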