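import Cfsg.Agent.OddHalf.D9.EEight.Facts

/-!
# Sign vectors and the Hamming code: invariance under the involutions `(i j)(k l)` of `AGL₃(2)` (helper807)

* `autCode_dbl`: the double transposition `(i j)(k l)`, `l = i + j + k` in `𝔽₂³`, preserves the code.
* `comb`: if every `(i j)(k l)` fixing `ε` fixes `η`, and every `(i j)(k l)` fixing `ε η` fixes `η`, then one of `ε`, `η`,
  `ε η` is `± 1`.
* `exists_move`: `ε ≠ ± 1` is moved by some `(i j)(k l)`, not to `- ε`.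
-/

set_option autoImplicit false
set_option Elab.async false

namespace Cfsg.Agent.OddHalf.D4.EvenEComb

open Cfsg.Agent.OddHalf.D9.EEight Equiv

/-- `i + j + k` in `𝔽₂³` -/
def x3 (i j k : Fin 8) : Fin 8 := i ^^^ j ^^^ k

/-- the double transposition `(i j)(k l)` -/
def dbl (i j k : Fin 8) : Perm (Fin 8) := swap i j * swap k (x3 i j k)

/-- the sign of a Boolean -/
def sB (b : Bool) : ℤˣ := bif b then -1 else 1

theorem sB_inj : ∀ a b, sB a = sB b ↔ a = b := by decide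
theorem exists_sB : ∀ u : ℤˣ, ∃ b, u = sB b := by decide
theorem sB_mul : ∀ a b, sB a * sB b = sB (xor a b) := by decide
theorem sB_eq_one : ∀ a, sB a = 1 ↔ a = false := by decide

/-- a Boolean vector -/
def vec (e0 e1 e2 e3 e4 e5 e6 e7 : Bool) (i : Fin 8) : Bool :=
  match i with
  | 0 => e0 | 1 => e1 | 2 => e2 | 3 => e3 | 4 => e4 | 5 => e5 | 6 => e6 | 7 => e7

theorem code_bool : ∀ e0 e1 e2 e3 e4 e5 e6 e7 : Bool,
    xor (xor (xor e0 e1) (xor e2 e3)) (xor (xor e4 e5) (xor e6 e7)) = false →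
    xor (xor e1 e3) (xor e5 e7) = false → xor (xor e2 e3) (xor e6 e7) = false →
    xor (xor e4 e5) (xor e6 e7) = false →
    ∀ i j k : Fin 8, xor (xor (vec e0 e1 e2 e3 e4 e5 e6 e7 i) (vec e0 e1 e2 e3 e4 e5 e6 e7 j))
      (xor (vec e0 e1 e2 e3 e4 e5 e6 e7 k) (vec e0 e1 e2 e3 e4 e5 e6 e7 (x3 i j k))) = false := by
  decide +kernel

theorem code_x3 {ε : Sg} (h : IsCode ε) (i j k : Fin 8) : ε i * ε j * ε k * ε (x3 i j k) = 1 := by
  have he : ∀ i, ∃ b, ε i = sB b := fun i => exists_sB (ε i)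
  choose e he using he
  obtain ⟨h0, h1, h2, h3⟩ := h
  rw [prd_apply, Fin.prod_univ_eight] at h0
  simp only [he, sB_mul, sB_eq_one] at h0 h1 h2 h3 ⊢
  have key := code_bool (e 0) (e 1) (e 2) (e 3) (e 4) (e 5) (e 6) (e 7)
    (by rw [← h0]; simp only [Bool.xor_assoc]) (by rw [← h1]; simp only [Bool.xor_assoc])
    (by rw [← h2]; simp only [Bool.xor_assoc]) (by rw [← h3]; simp only [Bool.xor_assoc]) i j k
  have hv : ∀ i, vec (e 0) (e 1) (e 2) (e 3) (e 4) (e 5) (e 6) (e 7) i = e i := by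
    intro i; fin_cases i <;> rfl
  rw [hv, hv, hv, hv] at key
  rw [← key]
  simp only [Bool.xor_assoc]

theorem autCode_of {σ : Perm (Fin 8)} (h1 : x3 (σ 1) (σ 3) (σ 5) = σ 7) (h2 : x3 (σ 2) (σ 3) (σ 6) = σ 7)
    (h3 : x3 (σ 4) (σ 5) (σ 6) = σ 7) : AutCode σ := by
  intro ε hε
  refine ⟨?_, ?_, ?_, ?_⟩
  · rw [prd_pm]; exact hε.1
  · simp only [pm_apply]; rw [← h1]; exact code_x3 hε _ _ _
  · simp only [pm_apply]; rw [← h2]; exact code_x3 hε _ _ _
  · simp only [pm_apply]; rw [← h3]; exact code_x3 hε _ _ _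

theorem autCode_dbl {i j k : Fin 8} (hij : i ≠ j) (hki : k ≠ i) (hkj : k ≠ j) : AutCode (dbl i j k) := by
  have key : ∀ i j k : Fin 8, i ≠ j → k ≠ i → k ≠ j →
      x3 (dbl i j k 1) (dbl i j k 3) (dbl i j k 5) = dbl i j k 7 ∧
      x3 (dbl i j k 2) (dbl i j k 3) (dbl i j k 6) = dbl i j k 7 ∧
      x3 (dbl i j k 4) (dbl i j k 5) (dbl i j k 6) = dbl i j k 7 := by decide +kernel
  obtain ⟨h1, h2, h3⟩ := key i j k hij hki hkj
  exact autCode_of h1 h2 h3

theorem x3_ne {i j k : Fin 8} (hij : i ≠ j) (hki : k ≠ i) (hkj : k ≠ j) :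
    x3 i j k ≠ i ∧ x3 i j k ≠ j ∧ x3 i j k ≠ k := by
  revert i j k; decide +kernel

theorem dbl_left {i j k : Fin 8} (hij : i ≠ j) (hki : k ≠ i) (hkj : k ≠ j) : dbl i j k i = j := by
  obtain ⟨h1, h2, h3⟩ := x3_ne hij hki hkj
  unfold dbl
  rw [Perm.mul_apply, swap_apply_of_ne_of_ne hki.symm h1.symm, swap_apply_left]

/-- if `ε` is constant on `{i, j}` and on `{k, l}` it is fixed -/
theorem pm_dbl {i j k : Fin 8} {ε : Sg} (hij : i ≠ j) (hki : k ≠ i) (hkj : k ≠ j) (h1 : ε i = ε j)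
    (h2 : ε k = ε (x3 i j k)) : pm (dbl i j k) ε = ε := by
  obtain ⟨n1, n2, n3⟩ := x3_ne hij hki hkj
  funext x
  rw [pm_apply]
  unfold dbl
  rw [Perm.mul_apply]
  by_cases hk : x = k
  · subst hk
    rw [swap_apply_left, swap_apply_of_ne_of_ne n1 n2, h2]
  by_cases hl : x = x3 i j k
  · rw [hl, swap_apply_right, swap_apply_of_ne_of_ne hki hkj, h2]
  rw [swap_apply_of_ne_of_ne hk hl]
  by_cases hi : x = i
  · subst hi; rw [swap_apply_left, h1]
  by_cases hj : x = j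
  · subst hj; rw [swap_apply_right, h1]
  rw [swap_apply_of_ne_of_ne hi hj]

/-! ### The check -/

/-- equality of Booleans -/
def eqb (a b : Bool) : Bool := bif a then b else !b
/-- implication -/
def imp (a b : Bool) : Bool := bif a then b else true

/-- the rule in one direction -/
def dr (b0 b1 b2 b3 B0 B1 B2 B3 : Bool) : Bool :=
  (imp (b0 && b1) (B0 && B1)) && (imp (b0 && b2) (B0 && B2)) && (imp (b0 && b3) (B0 && B3)) &&
  (imp (b1 && b2) (B1 && B2)) && (imp (b1 && b3) (B1 && B3)) && (imp (b2 && b3) (B2 && B3))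

/-- the rule -/
def rule (e0 e1 e2 e3 e4 e5 e6 e7 h0 h1 h2 h3 h4 h5 h6 h7 : Bool) : Bool :=
  dr (eqb e0 e1) (eqb e2 e3) (eqb e4 e5) (eqb e6 e7) (eqb h0 h1) (eqb h2 h3) (eqb h4 h5) (eqb h6 h7) &&
  dr (eqb e0 e2) (eqb e1 e3) (eqb e4 e6) (eqb e5 e7) (eqb h0 h2) (eqb h1 h3) (eqb h4 h6) (eqb h5 h7) &&
  dr (eqb e0 e3) (eqb e1 e2) (eqb e4 e7) (eqb e5 e6) (eqb h0 h3) (eqb h1 h2) (eqb h4 h7) (eqb h5 h6) &&
  dr (eqb e0 e4) (eqb e1 e5) (eqb e2 e6) (eqb e3 e7) (eqb h0 h4) (eqb h1 h5) (eqb h2 h6) (eqb h3 h7) &&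
  dr (eqb e0 e5) (eqb e1 e4) (eqb e2 e7) (eqb e3 e6) (eqb h0 h5) (eqb h1 h4) (eqb h2 h7) (eqb h3 h6) &&
  dr (eqb e0 e6) (eqb e1 e7) (eqb e2 e4) (eqb e3 e5) (eqb h0 h6) (eqb h1 h7) (eqb h2 h4) (eqb h3 h5) &&
  dr (eqb e0 e7) (eqb e1 e6) (eqb e2 e5) (eqb e3 e4) (eqb h0 h7) (eqb h1 h6) (eqb h2 h5) (eqb h3 h4)

/-- all Booleans -/
def allB (f : Bool → Bool) : Bool := f false && f true

theorem allB_spec {f : Bool → Bool} (h : allB f = true) (b : Bool) : f b = true := by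
  unfold allB at h
  rw [Bool.and_eq_true] at h
  cases b
  · exact h.1
  · exact h.2

/-- all entries equal to zero -/
def zr (a1 a2 a3 a4 a5 a6 a7 : Bool) : Bool := !(a1 || a2 || a3 || a4 || a5 || a6 || a7)

/-- the statement to check -/
def chk (e1 e2 e3 e4 e5 e6 e7 h1 h2 h3 h4 h5 h6 h7 : Bool) : Bool :=
  imp (rule false e1 e2 e3 e4 e5 e6 e7 false h1 h2 h3 h4 h5 h6 h7)
    (imp (rule false (xor e1 h1) (xor e2 h2) (xor e3 h3) (xor e4 h4) (xor e5 h5) (xor e6 h6) (xor e7 h7)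
      false h1 h2 h3 h4 h5 h6 h7)
      (zr e1 e2 e3 e4 e5 e6 e7 || zr h1 h2 h3 h4 h5 h6 h7 ||
        zr (xor e1 h1) (xor e2 h2) (xor e3 h3) (xor e4 h4) (xor e5 h5) (xor e6 h6) (xor e7 h7)))

theorem check : (allB fun e1 => allB fun e2 => allB fun e3 => allB fun e4 => allB fun e5 => allB fun e6 =>
    allB fun e7 => allB fun h1 => allB fun h2 => allB fun h3 => allB fun h4 => allB fun h5 => allB fun h6 =>
    allB fun h7 => chk e1 e2 e3 e4 e5 e6 e7 h1 h2 h3 h4 h5 h6 h7) = true := by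
  decide +kernel

theorem check' (e1 e2 e3 e4 e5 e6 e7 h1 h2 h3 h4 h5 h6 h7 : Bool) :
    chk e1 e2 e3 e4 e5 e6 e7 h1 h2 h3 h4 h5 h6 h7 = true :=
  allB_spec (allB_spec (allB_spec (allB_spec (allB_spec (allB_spec (allB_spec (allB_spec (allB_spec (allB_spec
    (allB_spec (allB_spec (allB_spec (allB_spec check e1) e2) e3) e4) e5) e6) e7) h1) h2) h3) h4) h5) h6) h7

theorem eqb_true : ∀ a b, eqb a b = true ↔ a = b := by decide
theorem imp_true : ∀ a b, imp a b = true ↔ (a = true → b = true) := by decide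

/-- the rule for Boolean vectors -/
def Rl (e h : Fin 8 → Bool) : Prop :=
  ∀ i j k : Fin 8, i ≠ j → k ≠ i → k ≠ j → e i = e j → e k = e (x3 i j k) → h i = h j

theorem Rl.two {e h : Fin 8 → Bool} (H : Rl e h) {i j k l : Fin 8} (hij : i ≠ j) (hki : k ≠ i) (hkj : k ≠ j)
    (hl : x3 i j k = l) (hk : x3 k l i = j) (hkl : k ≠ l) (hil : i ≠ l) :
    imp (eqb (e i) (e j) && eqb (e k) (e l)) (eqb (h i) (h j) && eqb (h k) (h l)) = true := by
  rw [imp_true, Bool.and_eq_true, Bool.and_eq_true, eqb_true, eqb_true, eqb_true, eqb_true]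
  rintro ⟨h1, h2⟩
  exact ⟨H i j k hij hki hkj h1 (by rw [hl]; exact h2), H k l i hkl hki.symm hil h2 (by rw [hk]; exact h1)⟩

theorem Rl.rule {e h : Fin 8 → Bool} (H : Rl e h) :
    rule (e 0) (e 1) (e 2) (e 3) (e 4) (e 5) (e 6) (e 7) (h 0) (h 1) (h 2) (h 3) (h 4) (h 5) (h 6) (h 7) = true := by
  unfold EvenEComb.rule dr
  simp only [Bool.and_eq_true]
  refine ⟨⟨⟨⟨⟨⟨?_, ?_⟩, ?_⟩, ?_⟩, ?_⟩, ?_⟩, ?_⟩ <;>
    exact ⟨⟨⟨⟨⟨H.two (by decide) (by decide) (by decide) (by decide) (by decide) (by decide) (by decide),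
      H.two (by decide) (by decide) (by decide) (by decide) (by decide) (by decide) (by decide)⟩,
      H.two (by decide) (by decide) (by decide) (by decide) (by decide) (by decide) (by decide)⟩,
      H.two (by decide) (by decide) (by decide) (by decide) (by decide) (by decide) (by decide)⟩,
      H.two (by decide) (by decide) (by decide) (by decide) (by decide) (by decide) (by decide)⟩,
      H.two (by decide) (by decide) (by decide) (by decide) (by decide) (by decide) (by decide)⟩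

theorem zr_spec (a1 a2 a3 a4 a5 a6 a7 : Bool) (h : zr a1 a2 a3 a4 a5 a6 a7 = true) :
    a1 = false ∧ a2 = false ∧ a3 = false ∧ a4 = false ∧ a5 = false ∧ a6 = false ∧ a7 = false := by
  unfold zr at h
  simp only [Bool.not_eq_true', Bool.or_eq_false_iff] at h
  obtain ⟨⟨⟨⟨⟨⟨h1, h2⟩, h3⟩, h4⟩, h5⟩, h6⟩, h7⟩ := h
  exact ⟨h1, h2, h3, h4, h5, h6, h7⟩

theorem xor_const : ∀ a b c : Bool, xor a c = xor b c ↔ a = b := by decide

theorem const_of {e : Fin 8 → Bool} (h : e 1 = e 0 ∧ e 2 = e 0 ∧ e 3 = e 0 ∧ e 4 = e 0 ∧ e 5 = e 0 ∧ e 6 = e 0 ∧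
    e 7 = e 0) (i : Fin 8) : e i = e 0 := by
  obtain ⟨h1, h2, h3, h4, h5, h6, h7⟩ := h
  fin_cases i
  exacts [rfl, h1, h2, h3, h4, h5, h6, h7]

theorem comb_bool {e h : Fin 8 → Bool} (H1 : Rl e h) (H2 : Rl (fun i => xor (e i) (h i)) h) :
    (∀ i, e i = e 0) ∨ (∀ i, h i = h 0) ∨ (∀ i, xor (e i) (h i) = xor (e 0) (h 0)) := by
  have N : ∀ {e h : Fin 8 → Bool} (c d : Bool), Rl e h → Rl (fun i => xor (e i) c) (fun i => xor (h i) d) := by
    intro e h c d H i j k hij hki hkj h1 h2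
    simp only [xor_const] at h1 h2 ⊢
    exact H i j k hij hki hkj h1 h2
  have r1 := (N (e 0) (h 0) H1).rule
  have r2 := (N (xor (e 0) (h 0)) (h 0) H2).rule
  have hx : ∀ i, xor (xor (e i) (h i)) (xor (e 0) (h 0)) = xor (xor (e i) (e 0)) (xor (h i) (h 0)) := by
    intro i
    generalize e i = a
    generalize h i = b
    generalize e 0 = c
    generalize h 0 = d
    revert a b c d; decide
  simp only [hx, Bool.xor_self] at r1 r2
  have := check' (xor (e 1) (e 0)) (xor (e 2) (e 0)) (xor (e 3) (e 0)) (xor (e 4) (e 0)) (xor (e 5) (e 0))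
    (xor (e 6) (e 0)) (xor (e 7) (e 0)) (xor (h 1) (h 0)) (xor (h 2) (h 0)) (xor (h 3) (h 0)) (xor (h 4) (h 0))
    (xor (h 5) (h 0)) (xor (h 6) (h 0)) (xor (h 7) (h 0))
  unfold chk at this
  rw [imp_true, imp_true] at this
  have h3 := this r1 r2
  rw [Bool.or_eq_true, Bool.or_eq_true] at h3
  have hxf : ∀ a b : Bool, xor a b = false ↔ a = b := by decide
  rcases h3 with (h3 | h3) | h3
  · left
    have := zr_spec _ _ _ _ _ _ _ h3
    simp only [hxf] at this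
    exact const_of this
  · right; left
    have := zr_spec _ _ _ _ _ _ _ h3
    simp only [hxf] at this
    exact const_of this
  · right; right
    have := zr_spec _ _ _ _ _ _ _ h3
    simp only [← hx] at this
    simp only [hxf] at this
    exact const_of (e := fun i => xor (e i) (h i)) this

theorem const_cases {ε : Sg} (h : ∀ i, ε i = ε 0) : ε = 1 ∨ ε = -1 := by
  rcases Int.units_eq_one_or (ε 0) with h0 | h0
  · left; funext i; rw [h i, h0]; rfl
  · right; funext i; rw [h i, h0]; rfl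

/-- **The combinatorial statement.** -/
theorem comb {ε η : Sg}
    (H1 : ∀ i j k : Fin 8, i ≠ j → k ≠ i → k ≠ j → pm (dbl i j k) ε = ε → pm (dbl i j k) η = η)
    (H2 : ∀ i j k : Fin 8, i ≠ j → k ≠ i → k ≠ j → pm (dbl i j k) (ε * η) = ε * η → pm (dbl i j k) η = η) :
    (ε = 1 ∨ ε = -1) ∨ (η = 1 ∨ η = -1) ∨ (ε * η = 1 ∨ ε * η = -1) := by
  have he : ∀ i, ∃ b, ε i = sB b := fun i => exists_sB (ε i)
  have hh : ∀ i, ∃ b, η i = sB b := fun i => exists_sB (η i)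
  choose e he using he
  choose h hh using hh
  have key : ∀ {ζ : Sg} {z : Fin 8 → Bool}, (∀ i, ζ i = sB (z i)) →
      (∀ i j k : Fin 8, i ≠ j → k ≠ i → k ≠ j → pm (dbl i j k) ζ = ζ → pm (dbl i j k) η = η) → Rl z h := by
    intro ζ z hz H i j k hij hki hkj h1 h2
    have h3 := H i j k hij hki hkj (pm_dbl hij hki hkj (by rw [hz, hz, h1]) (by rw [hz, hz, h2]))
    have h4 := congrFun h3 i
    rw [pm_apply, dbl_left hij hki hkj, hh, hh, sB_inj] at h4
    exact h4.symm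
  have r1 := key he H1
  have r2 := key (ζ := ε * η) (z := fun i => xor (e i) (h i)) (fun i => by
    rw [Pi.mul_apply, he, hh, sB_mul]) H2
  rcases comb_bool r1 r2 with h1 | h1 | h1
  · exact Or.inl (const_cases fun i => by rw [he, he, h1])
  · exact Or.inr (Or.inl (const_cases fun i => by rw [hh, hh, h1]))
  · refine Or.inr (Or.inr (const_cases fun i => ?_))
    rw [Pi.mul_apply, Pi.mul_apply, he, hh, he, hh, sB_mul, sB_mul, h1]

/-- a sign vector other than `± 1` is moved -/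
theorem exists_move {ε : Sg} (h1 : ε ≠ 1) (h2 : ε ≠ -1) :
    ∃ σ, AutCode σ ∧ pm σ ε ≠ ε ∧ pm σ ε ≠ -ε := by
  have h3 : ∃ i, ε i ≠ ε 0 := by
    by_contra hcon
    push Not at hcon
    rcases const_cases hcon with h | h
    · exact h1 h
    · exact h2 h
  obtain ⟨i, hi⟩ := h3
  have hi0 : i ≠ 0 := fun h => hi (by rw [h])
  obtain ⟨k, hki, hk0, x, hx⟩ : ∃ k : Fin 8, k ≠ i ∧ k ≠ 0 ∧ ∃ x, dbl i 0 k x = x := by
    revert hi0
    clear hi
    revert i
    decide +kernel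
  refine ⟨dbl i 0 k, autCode_dbl hi0 hki hk0, ?_, ?_⟩
  · intro h
    have := congrFun h i
    rw [pm_apply, dbl_left hi0 hki hk0] at this
    exact hi this.symm
  · intro h
    have := congrFun h x
    rw [pm_apply, hx, Pi.neg_apply] at this
    rcases Int.units_eq_one_or (ε x) with h4 | h4 <;> rw [h4] at this <;> revert this <;> decide

end Cfsg.Agent.OddHalf.D4.EvenEComb
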