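import Cfsg.Agent.OddHalf.D9.EEight.Fields
import Cfsg.Agent.OddHalf.D9.EEight.FrameHom
import Cfsg.Agent.OddHalf.D4.EvenEComb

/-!
# Involutory automorphisms of `K₀ = 2.Ω₈⁺(2) ≤ W(E₈)` (helper807)

Hypotheses: `AutConj` (every automorphism of `K₀` is induced by `W`) and `InvFrame` (every involution of `W` is a
sign change along a labelled frame, (W1)).

* `c1`: `u² = -1` and `C_{K₀}(u) ≤ C(v)` imply `v = ± 1` or `v = ± u`.
* `pair_free` = (P1), `sq_diff` = (P2) of `OddHalf/D4/EvenCyc.lean`, for `K₀`.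
-/

set_option autoImplicit false
set_option Elab.async false

namespace Cfsg.Agent.OddHalf.D4.EvenEFacts

open Cfsg.Agent.OddHalf.D9.EEight Coord Move Fields EvenEComb
open Subgroup

/-- the lattice -/
local notation "L8" => Cfsg.Agent.OddHalf.D9.EEight.Lat
/-- the reflection -/
local notation "ρ" => Cfsg.Agent.OddHalf.D9.EEight.refl

/-- Every automorphism of `K₀` is induced by an element of `W`. -/
def AutConj : Prop := ∀ α : MulAut ↥K₀, ∃ w : W, ∀ x : ↥K₀, ((α x : ↥K₀) : W) = w * (x : W) * w⁻¹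

/-- (W1) -/
def InvFrame : Prop := ∀ w : W, w * w = 1 → ∃ d : Sg →* W, IsFr det neg IsRefl d ∧ w ∈ d.range

theorem det_two {a b : L8} (ha : IsRoot a) (hb : IsRoot b) : det (ρ ha * ρ hb) = 1 := by
  rw [map_mul, rf_det', rf_det']; rfl

/-! ### `u² = -1` -/

section Cx

variable {u v : W}

theorem ap_sq (hu : u * u = neg) (x : L8) : ap u (ap u x) = -x := by
  rw [← ap_mul, hu, ap_neg_one]

theorem orth_sq (hu : u * u = neg) (x : L8) : form x (ap u x) = 0 := by
  have h := form_ap u x (ap u x)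
  rw [ap_sq hu, form_neg_right, form_comm (ap u x) x] at h
  omega

theorem refl_comm {a b : L8} (ha : IsRoot a) (hb : IsRoot b) (h : form a b = 0) :
    ρ ha * ρ hb = ρ hb * ρ ha := by
  apply ext_ap
  intro x
  simp only [ap_mul, ap_refl, form_sub_left, form_smul_left, h, form_comm b a, mul_zero, sub_zero]
  abel

theorem comm_sq (hu : u * u = neg) {a : L8} (ha : IsRoot a) :
    ρ ha * ρ (isRoot_ap ha u) * u = u * (ρ ha * ρ (isRoot_ap ha u)) := by
  have h1 : u * ρ ha * u⁻¹ = ρ (isRoot_ap ha u) := conj_refl u ha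
  have h2 : u * ρ (isRoot_ap ha u) * u⁻¹ = ρ ha := by
    rw [conj_refl, ← refl_neg ha]
    exact refl_congr _ _ (ap_sq hu a)
  have h3 : u * (ρ ha * ρ (isRoot_ap ha u)) * u⁻¹ = ρ ha * ρ (isRoot_ap ha u) := by
    calc u * (ρ ha * ρ (isRoot_ap ha u)) * u⁻¹
        = (u * ρ ha * u⁻¹) * (u * ρ (isRoot_ap ha u) * u⁻¹) := by group
      _ = ρ ha * ρ (isRoot_ap ha u) := by rw [h1, h2, refl_comm _ _ (by rw [form_comm]; exact orth_sq hu a)]
  calc ρ ha * ρ (isRoot_ap ha u) * u = (u * (ρ ha * ρ (isRoot_ap ha u)) * u⁻¹) * u := by rw [h3]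
    _ = u * (ρ ha * ρ (isRoot_ap ha u)) := by group

/-- the image of a root under `v` -/
theorem image (hu : u * u = neg) (h : ∀ k : W, det k = 1 → k * u = u * k → k * v = v * k) {a : L8} (ha : IsRoot a) :
    ap v a = a ∨ ap v a = -a ∨ ap v a = ap u a ∨ ap v a = -ap u a := by
  apply plane ha (isRoot_ap ha u) (orth_sq hu a) (isRoot_ap ha v)
  rw [← ap_mul, h _ (det_two _ _) (comm_sq hu ha), ap_mul, ap_mul,
    ap_refl_orth (isRoot_ap ha u) (orth_sq hu a), ap_refl_self, ap_neg]

/-- the four possibilities as group elements -/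
def sel (u : W) (n : Fin 4) : W := match n with
  | 0 => 1
  | 1 => neg
  | 2 => u
  | 3 => neg * u

theorem image' (hu : u * u = neg) (h : ∀ k : W, det k = 1 → k * u = u * k → k * v = v * k) {a : L8}
    (ha : IsRoot a) : ∃ n : Fin 4, ap v a = ap (sel u n) a := by
  rcases image hu h ha with h1 | h1 | h1 | h1
  · exact ⟨0, by rw [h1]; exact (ap_one a).symm⟩
  · exact ⟨1, by rw [h1]; exact (ap_neg_one a).symm⟩
  · exact ⟨2, h1⟩
  · exact ⟨3, by rw [h1]; show _ = ap (neg * u) a; rw [ap_mul, ap_neg_one]⟩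

theorem adj (hu : u * u = neg) (h : ∀ k : W, det k = 1 → k * u = u * k → k * v = v * k) {a b : L8}
    (ha : IsRoot a) (hb : IsRoot b) (hab : form a b = -1) {n : Fin 4} (hn : ap v a = ap (sel u n) a) :
    ap v b = ap (sel u n) b := by
  have hc := isRoot_add ha hb hab
  obtain ⟨m, hm⟩ := image' hu h hb
  obtain ⟨l, hl⟩ := image' hu h hc
  by_cases hmn : m = n
  · rw [hm, hmn]
  exfalso
  have ha' : form a a = 2 := ha
  have hb' : form b b = 2 := hb
  have e1 := form_ap v a b
  have e2 := congrArg (fun x => form x (a + b)) (ap_add v a b)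
  have e3 := congrArg (fun x => form x (ap u a + ap u b)) (ap_add v a b)
  simp only [hl] at e2 e3
  rw [hn, hm] at e1 e2 e3
  have o1 := orth_sq hu a
  have o2 := orth_sq hu b
  have o3 : form a (ap u b) + form b (ap u a) = 0 := by
    have := orth_sq hu (a + b)
    rw [ap_add, form_add_left, form_add_right, form_add_right] at this
    omega
  have q1 : form (ap u a) (ap u a) = 2 := by rw [form_ap, ha']
  have q2 : form (ap u b) (ap u b) = 2 := by rw [form_ap, hb']
  have q3 : form (ap u a) (ap u b) = -1 := by rw [form_ap, hab]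
  have q3' : form (ap u b) (ap u a) = -1 := by rw [form_comm, q3]
  have hba : form b a = -1 := by rw [form_comm, hab]
  have s1 := form_comm (ap u a) a
  have s2 := form_comm (ap u b) b
  have s3 := form_comm (ap u a) b
  have s4 := form_comm (ap u b) a
  fin_cases n <;> fin_cases m <;> first | exact hmn rfl | skip
  all_goals
    fin_cases l <;>
    · simp only [sel, ap_one, ap_mul, ap_neg_one, ap_add,
        form_add_left, form_add_right, form_neg_left, form_neg_right] at e1 e2 e3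
      omega

/-- **`u² = -1`** -/
theorem c1 (hu : u * u = neg) (h : ∀ k : W, det k = 1 → k * u = u * k → k * v = v * k) : ∃ n : Fin 4, v = sel u n := by
  obtain ⟨n, h0⟩ := image' hu h (isRoot_single 0)
  have A : ∀ i j : Fin 8, form (Pi.single i 1) (Pi.single j 1) = -1 →
      ap v (Pi.single i 1) = ap (sel u n) (Pi.single i 1) → ap v (Pi.single j 1) = ap (sel u n) (Pi.single j 1) :=
    fun i j hij hi => adj hu h (isRoot_single i) (isRoot_single j) hij hi
  have h2 := A 0 2 (by decide +kernel) h0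
  have h3 := A 2 3 (by decide +kernel) h2
  have h1 := A 3 1 (by decide +kernel) h3
  have h4 := A 3 4 (by decide +kernel) h3
  have h5 := A 4 5 (by decide +kernel) h4
  have h6 := A 5 6 (by decide +kernel) h5
  have h7 := A 6 7 (by decide +kernel) h6
  refine ⟨n, ext_single fun i => ?_⟩
  fin_cases i
  exacts [h0, h1, h2, h3, h4, h5, h6, h7]

end Cx

/-! ### Automorphisms -/

section Aut

variable {α β : MulAut ↥K₀} {u v : W}

/-- `α` is induced by `u` -/
def Ind (α : MulAut ↥K₀) (u : W) : Prop := ∀ x : ↥K₀, ((α x : ↥K₀) : W) = u * (x : W) * u⁻¹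

theorem Ind.mul (hu : Ind α u) (hv : Ind β v) : Ind (α * β) (u * v) := by
  intro x
  rw [MulAut.mul_apply, hu, hv]
  group

theorem Ind.fix (hu : Ind α u) (x : ↥K₀) : α x = x ↔ (x : W) * u = u * x := by
  rw [← Subtype.coe_inj, hu, mul_inv_eq_iff_eq_mul]
  exact eq_comm

theorem Ind.eq_one (hu : Ind α u) : α = 1 ↔ u = 1 ∨ u = neg := by
  constructor
  · intro h
    apply cenK
    intro k hk
    have := (hu.fix ⟨k, hk⟩).1 (by rw [h]; rfl)
    exact this.symm
  · intro h
    refine MulEquiv.ext fun x => Subtype.ext ?_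
    rw [hu]
    show u * (x : W) * u⁻¹ = x
    rw [mul_inv_eq_iff_eq_mul]
    rcases h with rfl | rfl
    · rw [one_mul, mul_one]
    · exact c_comm _

theorem comm_neg (w : W) : w * neg = neg * w := (c_comm w).symm

/-- **(P1) for `K₀`.** -/
theorem pair_free (hA : AutConj) (hI : InvFrame) : ∀ α β : MulAut ↥K₀, α * α = 1 → β * β = 1 → α * β = β * α → α ≠ 1 →
    β ≠ 1 → α ≠ β → (∀ x, α x = x → β x = x) → ¬ ∀ x, α (β x) = x → β x = x := by
  intro α β hα hβ hc hα1 hβ1 hne H1 H2
  obtain ⟨u, hu⟩ := hA α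
  obtain ⟨v, hv⟩ := hA β
  have hu : Ind α u := hu
  have hv : Ind β v := hv
  have huv : Ind (α * β) (u * v) := hu.mul hv
  have hαβ1 : α * β ≠ 1 := by
    intro h
    apply hne
    calc α = α * (β * β) := by rw [hβ, mul_one]
      _ = (α * β) * β := by rw [mul_assoc]
      _ = β := by rw [h, one_mul]
  have hαβ : (α * β) * (α * β) = 1 := by
    calc (α * β) * (α * β) = α * (β * α) * β := by simp only [mul_assoc]
      _ = (α * α) * (β * β) := by rw [← hc]; simp only [mul_assoc]
      _ = 1 := by rw [hα, hβ, one_mul]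
  rw [Ne, hu.eq_one] at hα1
  rw [Ne, hv.eq_one] at hβ1
  rw [Ne, huv.eq_one] at hαβ1
  rw [(hu.mul hu).eq_one] at hα
  rw [(huv.mul huv).eq_one] at hαβ
  have K1 : ∀ k : W, det k = 1 → k * u = u * k → k * v = v * k := by
    intro k hk h
    exact (hv.fix ⟨k, hk⟩).1 (H1 _ ((hu.fix ⟨k, hk⟩).2 h))
  have K2 : ∀ k : W, det k = 1 → k * (u * v) = (u * v) * k → k * v = v * k := by
    intro k hk h
    exact (hv.fix ⟨k, hk⟩).1 (H2 _ ((huv.fix ⟨k, hk⟩).2 h))
  push Not at hα1 hβ1 hαβ1
  -- `u² = 1`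
  have hu2 : u * u = 1 := by
    rcases hα with h | h
    · exact h
    exfalso
    obtain ⟨n, hn⟩ := c1 h K1
    fin_cases n
    · exact hβ1.1 hn
    · exact hβ1.2 hn
    · refine hαβ1.2 ?_
      have hn : v = u := hn
      rw [hn, h]
    · refine hαβ1.1 ?_
      have hn : v = neg * u := hn
      rw [hn, ← mul_assoc, comm_neg, mul_assoc, h, c_sq]
  -- `(u v)² = 1`
  have huv2 : (u * v) * (u * v) = 1 := by
    rcases hαβ with h | h
    · exact h
    exfalso
    obtain ⟨n, hn⟩ := c1 h K2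
    fin_cases n
    · exact hβ1.1 hn
    · exact hβ1.2 hn
    · refine hα1.1 ?_
      have hn : v = u * v := hn
      exact mul_eq_right.1 hn.symm
    · refine hα1.2 ?_
      have hn : v = neg * (u * v) := hn
      have h3 : neg * u = 1 := by
        have h4 : (neg * u) * v = v := by rw [mul_assoc]; exact hn.symm
        exact mul_eq_right.1 h4
      calc u = (neg * neg) * u := by rw [c_sq, one_mul]
        _ = neg := by rw [mul_assoc, h3, mul_one]
  -- the frame
  obtain ⟨d, F, ε, hε⟩ := hI u hu2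
  obtain ⟨η, hη⟩ : v ∈ d.range := by
    apply F.cen
    intro ζ hζ
    refine (K1 (d ζ) (by rw [F.det]; exact mem_Ev.1 hζ) ?_).symm
    rw [← hε, ← map_mul, ← map_mul, mul_comm]
  have S : ∀ ζ : Sg, (∀ k : W, det k = 1 → k * d ζ = d ζ * k → k * v = v * k) → ∀ i j k : Fin 8, i ≠ j → k ≠ i →
      k ≠ j → pm (dbl i j k) ζ = ζ → pm (dbl i j k) η = η := by
    intro ζ hζ i j k hij hki hkj h
    obtain ⟨g, hg, hg'⟩ := F.sym _ (autCode_dbl hij hki hkj)
    have h1 := hζ g hg (by
      have := hg' ζ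
      rw [h, mul_inv_eq_iff_eq_mul] at this
      exact this)
    have h2 := hg' η
    rw [hη, h1, mul_inv_cancel_right, ← hη] at h2
    exact (F.inj h2).symm
  have hεη : d (ε * η) = u * v := by rw [map_mul, hε, hη]
  have e1 : d 1 = 1 := map_one d
  rcases comb (S ε (by rw [hε]; exact K1)) (S (ε * η) (by rw [hεη]; exact K2)) with (h | h) | (h | h) | (h | h)
  · exact hα1.1 (by rw [← hε, h, e1])
  · exact hα1.2 (by rw [← hε, h, F.neg])
  · exact hβ1.1 (by rw [← hη, h, e1])
  · exact hβ1.2 (by rw [← hη, h, F.neg])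
  · exact hαβ1.1 (by rw [← hεη, h, e1])
  · exact hαβ1.2 (by rw [← hεη, h, F.neg])

theorem sg_inv (ε : Sg) : ε⁻¹ = ε := by
  funext i
  exact Int.units_inv_eq_self _

theorem sg_mul_self (ε : Sg) : ε * ε = 1 := by
  rw [mul_eq_one_iff_inv_eq, sg_inv]

/-- four roots: `a`, `a' ⟂ a` given; `b, c ⟂ a, a'` with `(b, c) = 1` -/
theorem exists_bc {a a' : L8} (ha : IsRoot a) (ha' : IsRoot a') (h : form a a' = 0) :
    ∃ b c : L8, IsRoot b ∧ IsRoot c ∧ form a b = 0 ∧ form a c = 0 ∧ form a' b = 0 ∧ form a' c = 0 ∧ form b c = 1 := by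
  obtain ⟨w, hw1, hw2⟩ := trans2 ha ha' h
  have h2 : ([0, 0, 2, 2, 0, 0, 0, 0] : List ℤ) ∈ RL := by decide +kernel
  have h3 : ([0, 0, 2, 0, 2, 0, 0, 0] : List ℤ) ∈ RL := by decide +kernel
  have f12 := form_unL t1_mem h2
  have f13 := form_unL t1_mem h3
  have f22 := form_unL t2_mem h2
  have f23 := form_unL t2_mem h3
  have f := form_unL h2 h3
  have e12 : dotL t1 [0, 0, 2, 2, 0, 0, 0, 0] = 0 := by decide
  have e13 : dotL t1 [0, 0, 2, 0, 2, 0, 0, 0] = 0 := by decide
  have e22 : dotL t2 [0, 0, 2, 2, 0, 0, 0, 0] = 0 := by decide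
  have e23 : dotL t2 [0, 0, 2, 0, 2, 0, 0, 0] = 0 := by decide
  have e : dotL [0, 0, 2, 2, 0, 0, 0, 0] [0, 0, 2, 0, 2, 0, 0, 0] = 4 := by decide
  refine ⟨ap w⁻¹ (unL [0, 0, 2, 2, 0, 0, 0, 0]), ap w⁻¹ (unL [0, 0, 2, 0, 2, 0, 0, 0]),
    isRoot_ap (isRoot_unL h2) _, isRoot_ap (isRoot_unL h3) _, ?_, ?_, ?_, ?_, ?_⟩
  · rw [← form_ap_left, hw1]; omega
  · rw [← form_ap_left, hw1]; omega
  · rw [← form_ap_left, hw2]; omega
  · rw [← form_ap_left, hw2]; omega
  · rw [form_ap]; omega


/-- four pairwise orthogonal roots: the product `y` of the reflections -/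
theorem four_ap {p q r s : L8} (hp : IsRoot p) (hq : IsRoot q) (hr : IsRoot r) (hs : IsRoot s) (pq : form p q = 0)
    (pr : form p r = 0) (ps : form p s = 0) (qr : form q r = 0) (qs : form q s = 0) (rs : form r s = 0) (x : L8) :
    ap (ρ hs * ρ hr * ρ hq * ρ hp) x =
      x - form x p • p - form x q • q - form x r • r - form x s • s := by
  simp only [ap_mul, ap_refl, form_sub_left, form_smul_left, pq, pr, ps, qr, qs, rs, mul_zero, sub_zero]

theorem four_sq {p q r s : L8} (hp : IsRoot p) (hq : IsRoot q) (hr : IsRoot r) (hs : IsRoot s) (pq : form p q = 0)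
    (pr : form p r = 0) (ps : form p s = 0) (qr : form q r = 0) (qs : form q s = 0) (rs : form r s = 0) :
    (ρ hs * ρ hr * ρ hq * ρ hp) * (ρ hs * ρ hr * ρ hq * ρ hp) = 1 := by
  have p2 : form p p = 2 := hp
  have q2 : form q q = 2 := hq
  have r2 : form r r = 2 := hr
  have s2 : form s s = 2 := hs
  have qp : form q p = 0 := by rw [form_comm, pq]
  have rp : form r p = 0 := by rw [form_comm, pr]
  have sp : form s p = 0 := by rw [form_comm, ps]
  have rq : form r q = 0 := by rw [form_comm, qr]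
  have sq : form s q = 0 := by rw [form_comm, qs]
  have sr : form s r = 0 := by rw [form_comm, rs]
  apply ext_ap
  intro x
  rw [ap_mul, ap_one, four_ap hp hq hr hs pq pr ps qr qs rs (ap _ x), four_ap hp hq hr hs pq pr ps qr qs rs x]
  simp only [form_sub_left, form_smul_left, pq, pr, ps, qr, qs, rs, qp, rp, sp, rq, sq, sr, p2, q2, r2, s2,
    mul_zero, sub_zero]
  module

/-- **(P2) for `K₀`.** -/
theorem sq_diff (hA : AutConj) (hI : InvFrame) : ∀ α : MulAut ↥K₀, α * α = 1 → α ≠ 1 →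
    ∃ x : ↥K₀, (α x)⁻¹ * x ∉ center ↥K₀ ∧ ((α x)⁻¹ * x) * ((α x)⁻¹ * x) = 1 := by
  intro α hα hα1
  obtain ⟨u, hu⟩ := hA α
  have hu : Ind α u := hu
  rw [Ne, hu.eq_one] at hα1
  rw [(hu.mul hu).eq_one] at hα
  push Not at hα1
  -- reduction to elements of `W`
  have red : ∀ k : W, det k = 1 → u * k⁻¹ * u⁻¹ * k ≠ 1 → u * k⁻¹ * u⁻¹ * k ≠ neg →
      (u * k⁻¹ * u⁻¹ * k) * (u * k⁻¹ * u⁻¹ * k) = 1 →
      ∃ x : ↥K₀, (α x)⁻¹ * x ∉ center ↥K₀ ∧ ((α x)⁻¹ * x) * ((α x)⁻¹ * x) = 1 := by
    intro k hk h1 h2 h3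
    have e : (((α ⟨k, hk⟩)⁻¹ * ⟨k, hk⟩ : ↥K₀) : W) = u * k⁻¹ * u⁻¹ * k := by
      rw [coe_mul, coe_inv, hu]
      group
    refine ⟨⟨k, hk⟩, ?_, ?_⟩
    · intro hc
      rw [mem_center_iff] at hc
      have := cenK (u * k⁻¹ * u⁻¹ * k) (by
        intro g hg
        have h4 : g * (((α ⟨k, hk⟩)⁻¹ * ⟨k, hk⟩ : ↥K₀) : W) = (((α ⟨k, hk⟩)⁻¹ * ⟨k, hk⟩ : ↥K₀) : W) * g :=
          congrArg Subtype.val (hc ⟨g, hg⟩)
        rw [e] at h4
        exact h4.symm)
      rcases this with h | h
      · exact h1 h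
      · exact h2 h
    · apply Subtype.ext
      rw [coe_mul, e, h3]
      rfl
  rcases hα with h | h
  · -- `u² = 1`
    obtain ⟨d, F, ε, hε⟩ := hI u h
    have hε1 : ε ≠ 1 := fun h1 => hα1.1 (by rw [← hε, h1, map_one])
    have hε2 : ε ≠ -1 := fun h1 => hα1.2 (by rw [← hε, h1, F.neg])
    obtain ⟨σ, hσ, hm1, hm2⟩ := exists_move hε1 hε2
    obtain ⟨k, hk, hk'⟩ := F.sym σ hσ
    have e : u * (k⁻¹)⁻¹ * u⁻¹ * k⁻¹ = d (ε * pm σ ε) := by
      calc u * (k⁻¹)⁻¹ * u⁻¹ * k⁻¹ = u * (k * u⁻¹ * k⁻¹) := by group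
        _ = d ε * d (pm σ ε⁻¹) := by rw [← hk', map_inv, hε]
        _ = d (ε * pm σ ε) := by rw [sg_inv, map_mul]
    refine red k⁻¹ (by rw [map_inv, hk, inv_one]) ?_ ?_ ?_
    · rw [e]
      intro h1
      rw [← map_one d] at h1
      have h2 := F.inj h1
      apply hm1
      calc pm σ ε = (ε * ε) * pm σ ε := by rw [sg_mul_self, one_mul]
        _ = ε := by rw [mul_assoc, h2, mul_one]
    · rw [e, ← F.neg]
      intro h1
      have h2 := F.inj h1
      apply hm2
      calc pm σ ε = (ε * ε) * pm σ ε := by rw [sg_mul_self, one_mul]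
        _ = -ε := by rw [mul_assoc, h2, mul_neg, mul_one]
    · rw [e, ← map_mul, sg_mul_self, map_one]
  · -- `u² = -1`
    have ha := isRoot_single 0
    have ha' := isRoot_ap ha u
    obtain ⟨b, c, hb, hc, ab, ac, a'b, a'c, bc⟩ := exists_bc ha ha' (orth_sq h _)
    have hb' := isRoot_ap hb u
    set a : L8 := Pi.single 0 1
    have aa' : form a (ap u a) = 0 := orth_sq h a
    have bb' : form b (ap u b) = 0 := orth_sq h b
    have ab' : form a (ap u b) = 0 := by
      have := form_ap u a (ap u b)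
      rw [ap_sq h, form_neg_right, a'b] at this
      omega
    have a'b' : form (ap u a) (ap u b) = 0 := by rw [form_ap, ab]
    have ba : form b a = 0 := by rw [form_comm, ab]
    have ba' : form b (ap u a) = 0 := by rw [form_comm, a'b]
    have ca : form c a = 0 := by rw [form_comm, ac]
    have ca' : form c (ap u a) = 0 := by rw [form_comm, a'c]
    have cb : form c b = 1 := by rw [form_comm, bc]
    have e : u * (ρ ha * ρ hb)⁻¹ * u⁻¹ * (ρ ha * ρ hb) =
        ρ hb' * ρ ha' * ρ ha * ρ hb := by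
      have h1 : u * (ρ ha)⁻¹ * u⁻¹ = ρ ha' := by
        rw [← conj_refl u ha]
        have : (ρ ha)⁻¹ = ρ ha := by
          rw [inv_eq_iff_mul_eq_one]
          apply ext_ap
          intro x
          have h2 : form a a = 2 := ha
          rw [ap_mul, ap_refl, ap_refl, form_sub_left, form_smul_left, h2, ap_one]
          module
        rw [this]
      have h1' : u * (ρ hb)⁻¹ * u⁻¹ = ρ hb' := by
        rw [← conj_refl u hb]
        have : (ρ hb)⁻¹ = ρ hb := by
          rw [inv_eq_iff_mul_eq_one]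
          apply ext_ap
          intro x
          have h2 : form b b = 2 := hb
          rw [ap_mul, ap_refl, ap_refl, form_sub_left, form_smul_left, h2, ap_one]
          module
        rw [this]
      rw [← h1, ← h1']
      group
    have hap := four_ap hb ha ha' hb' ba ba' bb' aa' ab' a'b' c
    have hcc : form (ap (ρ hb' * ρ ha' * ρ ha * ρ hb) c) c = 1 - form c (ap u b) * form c (ap u b) := by
      have c2 : form c c = 2 := hc
      rw [hap]
      simp only [form_sub_left, form_smul_left, ca, ca', cb, zero_mul, sub_zero, c2, bc, form_comm (ap u b) c]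
      ring
    have hbd := root_bound hc hb'
    refine red (ρ ha * ρ hb) (det_two _ _) ?_ ?_ ?_
    · rw [e]
      intro h1
      rw [h1, ap_one, show form c c = 2 from hc] at hcc
      nlinarith
    · rw [e]
      intro h1
      rw [h1, ap_neg_one, form_neg_left, show form c c = 2 from hc] at hcc
      have : form c (ap u b) * form c (ap u b) = 3 := by omega
      generalize form c (ap u b) = t at this hbd
      have ht : t = -2 ∨ t = -1 ∨ t = 0 ∨ t = 1 ∨ t = 2 := by omega
      rcases ht with rfl | rfl | rfl | rfl | rfl <;> omega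
    · rw [e]
      exact four_sq hb ha ha' hb' ba ba' bb' aa' ab' a'b'

end Aut

end Cfsg.Agent.OddHalf.D4.EvenEFacts
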