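import Cfsg.Agent.OddHalf.D4.EvenCyc
import Cfsg.Agent.OddHalf.D4.EvenEFacts
import Cfsg.Agent.OddHalf.D9.EEight.Extend

/-!
# (P1), (P2) for `K ≃* K₀ = 2.Ω₈⁺(2)` (helper807)

`pairFree`, `sqDiff`: `PairFree K` and `SqDiff K` for every group `K` isomorphic to `K₀`, from
`EvenEFacts.AutConj` (every automorphism of `K₀` is induced by `W = W(E₈)`).
-/

set_option autoImplicit false

namespace Cfsg.Agent.OddHalf.D4.EvenEEight

open Cfsg.Agent.OddHalf.D9.EEight EvenCyc EvenEFacts

theorem invFrame : InvFrame := Extend.inv_frame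

theorem pairFree_model (hA : AutConj) : PairFree ↥K₀ := pair_free hA invFrame

theorem sqDiff_model (hA : AutConj) : SqDiff ↥K₀ := sq_diff hA invFrame

/-- **(P1)** -/
theorem pairFree {K : Type*} [Group K] (e : K ≃* ↥K₀) (hA : AutConj) : PairFree K :=
  PairFree.map e.symm (pairFree_model hA)

/-- **(P2)** -/
theorem sqDiff {K : Type*} [Group K] (e : K ≃* ↥K₀) (hA : AutConj) : SqDiff K :=
  SqDiff.map e.symm (sqDiff_model hA)

end Cfsg.Agent.OddHalf.D4.EvenEEight
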