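import Cfsg.Agent.FourTwo.LiftInv
import Cfsg.Agent.OddHalf.D9.FFour.SysOf
import Cfsg.Agent.OddHalf.D9.FFour.Out
import Cfsg.Agent.OddHalf.D9.FFour.Inv
import Cfsg.Agent.OddHalf.D4.EvenCyc

/-!
# (P1), (P2) (`PairFree`, `SqDiff` of `EvenCyc`) for `K = 2.F₄(2)`
-/

set_option autoImplicit false

namespace Cfsg.Agent.OddHalf.D4.EvenF42

open Subgroup
open Cfsg.Agent.FourTwo.Base (LL x bar bar_lt bar_bar x_mul_self wd_cons wd_nil wd_one x_inv)
open Cfsg.Agent.FourTwo.Comm Cfsg.Agent.FourTwo.Lift Cfsg.Agent.FourTwo.LiftInv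
open Cfsg.Agent.FourTwo.CentP (cent45 cent90m')
open Cfsg.Agent.OddHalf.D9.FFour.Sys Cfsg.Agent.OddHalf.D9.FFour.Inv Cfsg.Agent.OddHalf.D9.FFour.Words
open Cfsg.Agent.OddHalf.D9.FFour.SysOf Cfsg.Agent.OddHalf.D9.FFour.Out Cfsg.Agent.OddHalf.D9.FFour.AutLL
open Cfsg.Agent.OddHalf.D9.FFour.HOne
open Cfsg.Agent.OddHalf.D4.EvenCyc

universe u

variable {K : Type u} [Group K] {π : K →* LL}

/-! ### `x 44` and `x 47` are not conjugate -/

theorem not_conj {y : LL} : y * x 44 ≠ x 47 * y := by
  intro h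
  have h1 := Cfsg.Agent.FourTwo.ClassSep.rk2_conj y (x 44)
  rw [h, mul_inv_cancel_right, Cfsg.Agent.FourTwo.ClassSep.rk2_44, Cfsg.Agent.FourTwo.ClassSep.rk2_47] at h1
  exact absurd h1 (by decide)

/-! ### representatives -/

/-- the lists of the representatives -/
def reps : List (List ℕ) := [[44], [47], [44, 47], [44, 32]]

theorem wd_two (r s : ℕ) : Cfsg.Agent.FourTwo.Base.wd [r, s] = x r * x s := by rw [wd_cons, wd_one]

/-- `A r` commutes with the representative -/
theorem comm_rep (S : Sys K) {E : List ℕ} (hE : ∀ e ∈ E, e < 48) {r : ℕ} (hr : r < 48)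
    (h : ∀ e ∈ E, comB r e = true) (b : Bool) : S.f r * (fw S.f E * sg S b) = (fw S.f E * sg S b) * S.f r := by
  have h1 : S.f r * fw S.f E = fw S.f E * S.f r := by
    induction E with
    | nil => rw [fw_nil, mul_one, one_mul]
    | cons e E ih =>
      have h2 := ih (fun e he => hE e (List.mem_cons_of_mem _ he)) (fun e he => h e (List.mem_cons_of_mem _ he))
      have he := hE e List.mem_cons_self
      have h3 : S.f r * S.f e = S.f e * S.f r := by
        refine S.fc he ?_
        rw [S.fx r hr]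
        exact comm_of_comB hr he (h e List.mem_cons_self)
      rw [fw_cons, ← mul_assoc, h3, mul_assoc, h2, mul_assoc]
  rw [← mul_assoc, h1, mul_assoc, mul_assoc, sg_comm]

/-- conjugation of a commutation -/
theorem comm_conj {G : Type*} [Group G] {h a u : G} (he : u * (h * a * h⁻¹) = (h * a * h⁻¹) * u) :
    (h⁻¹ * u * h) * a = a * (h⁻¹ * u * h) := by
  calc (h⁻¹ * u * h) * a = h⁻¹ * (u * (h * a * h⁻¹)) * h := by group
    _ = h⁻¹ * ((h * a * h⁻¹) * u) * h := by rw [he]
    _ = _ := by group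

theorem comm_conj' {G : Type*} [Group G] {h a u : G} (he : (h⁻¹ * u * h) * a = a * (h⁻¹ * u * h)) :
    u * (h * a * h⁻¹) = (h * a * h⁻¹) * u := by
  calc u * (h * a * h⁻¹) = h * ((h⁻¹ * u * h) * a) * h⁻¹ := by group
    _ = h * (a * (h⁻¹ * u * h)) * h⁻¹ := by rw [he]
    _ = _ := by group

/-- The involutions: a root element commuting with the representative. -/
theorem exists_root {E : List ℕ} (hE : E ∈ reps) : (∀ e ∈ E, e < 48) ∧
    ∃ r, (r = 44 ∨ r = 47) ∧ ∀ e ∈ E, comB r e = true := by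
  unfold reps at hE
  simp only [List.mem_cons, List.not_mem_nil, or_false] at hE
  rcases hE with rfl | rfl | rfl | rfl
  · exact ⟨by decide, 44, Or.inl rfl, by decide⟩
  · exact ⟨by decide, 47, Or.inr rfl, by decide⟩
  · exact ⟨by decide, 44, Or.inl rfl, by decide⟩
  · exact ⟨by decide, 44, Or.inl rfl, by decide⟩

/-- **`α` inner, `β` outer.** -/
theorem inner_of_cent (E : Ext π) (hp : commutator K = ⊤) (hn : E.m₀ ≠ 1) {a : K} (h1 : π a ≠ 1)
    (h2 : π a * π a = 1) {β : MulAut K} (hβ : β * β = 1) (hc : ∀ y, a * y = y * a → β y = y) :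
    ∃ k, β = MulAut.conj k := by
  by_contra hout
  push Not at hout
  have hK : ⁅(⊤ : Subgroup K), (⊤ : Subgroup K)⁆ = ⊤ := by rw [← commutator_def, hp]
  obtain ⟨k, -, hk⟩ := exists_std E hK hβ hout
  let S := sysOf E hp hn
  obtain ⟨h, L, b, hL, he⟩ := exists_rep S (e := a) h2 h1
  obtain ⟨hlt, r, hr, hcom⟩ := exists_root hL
  have hr48 : r < 48 := by omega
  have h3 := comm_rep S hlt hr48 hcom b
  rw [← he] at h3
  have h4 := hc _ (comm_conj h3).symm
  -- `β` maps `A r` to a conjugate of `A (bar r)`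
  have h5 := hk r hr48
  rw [conj_aut] at h5
  have hfr : S.f r = E.A r := rfl
  rw [hfr] at h4
  have h6 : β (h⁻¹ * E.A r * h) = (β (h⁻¹ * k)) * (k⁻¹ * E.A (bar r) * k) * (β (h⁻¹ * k))⁻¹ := by
    have e : h⁻¹ * E.A r * h = (h⁻¹ * k) * (k⁻¹ * E.A r * k) * (h⁻¹ * k)⁻¹ := by group
    rw [e, map_mul, map_mul, map_inv, ← h5]
    group
  rw [h4] at h6
  have h7 := congrArg π h6
  have hb48 := bar_lt hr48
  simp only [map_mul, map_inv, E.map_A hr48, E.map_A hb48] at h7
  have h8 : ∃ y : LL, y * x r = x (bar r) * y := by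
    refine ⟨π k * ((π (β h))⁻¹ * π (β k))⁻¹ * (π h)⁻¹, ?_⟩
    have h9 : x r = π h * ((π h)⁻¹ * x r * π h) * (π h)⁻¹ := by group
    rw [h9, h7]; group
  obtain ⟨y, hy⟩ := h8
  rcases hr with rfl | rfl
  · exact not_conj hy
  · have e : bar 47 = 44 := by decide
    rw [e] at hy
    have h9 : y⁻¹ * x 44 = x 47 * y⁻¹ := by
      rw [inv_mul_eq_iff_eq_mul, ← mul_assoc, hy, mul_inv_cancel_right]
    exact not_conj h9

/-- the centralisers of the representatives -/
theorem cent_rep {L : List ℕ} (hL : L ∈ reps) {g : LL} (h : ∀ r < 48, (∀ e ∈ L, comB r e = true) → Commute g (x r)) :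
    (L = [44] ∧ (g = 1 ∨ g = x 44)) ∨ (L = [47] ∧ (g = 1 ∨ g = x 47)) ∨
    (L = [44, 47] ∧ (g = 1 ∨ g = x 44 ∨ g = x 47 ∨ g = x 44 * x 47)) ∨
    (L = [44, 32] ∧ (g = 1 ∨ g = x 32 ∨ g = x 44 ∨ g = x 44 * x 32)) := by
  unfold reps at hL
  simp only [List.mem_cons, List.not_mem_nil, or_false] at hL
  rcases hL with rfl | rfl | rfl | rfl
  · left
    refine ⟨rfl, ?_⟩
    obtain ⟨a, b, ha, hb, e⟩ := cent45 (g := g) fun q hq => h q (by
      simp only [List.mem_cons, List.not_mem_nil, or_false] at hq; omega) (by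
      revert q; decide +kernel)
    have h23 : x 44 * x 23 = x 23 * x 44 := comm_of_comB (by omega) (by omega) (by decide)
    have h2 := (h 23 (by omega) (by decide)).eq
    rcases hb with rfl | rfl
    · rw [mul_one] at e
      rcases ha with rfl | rfl
      · exact Or.inl e
      · exact Or.inr e
    · exfalso
      have h3 : x 47 * x 23 = x 23 * x 47 := by
        rcases ha with rfl | rfl
        · rw [e, one_mul] at h2
          exact h2
        · rw [e, eq_comm] at h2
          rw [eq_comm] at h23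
          have h3 := g_cancel (G := LL) h2 h23
          rw [eq_comm] at h3
          exact h3
      exact absurd (comB_of_comm (by omega) (by omega) h3 : comB 47 23 = true) (by decide)
  · right; left
    refine ⟨rfl, ?_⟩
    obtain ⟨a, b, ha, hb, e⟩ := cent45 (g := g) fun q hq => h q (by
      simp only [List.mem_cons, List.not_mem_nil, or_false] at hq; omega) (by
      revert q; decide +kernel)
    have h23 : x 6 * x 47 = x 47 * x 6 := comm_of_comB (by omega) (by omega) (by decide)
    have h2 := (h 6 (by omega) (by decide)).eq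
    rcases ha with rfl | rfl
    · rw [one_mul] at e
      rcases hb with rfl | rfl
      · exact Or.inl e
      · exact Or.inr e
    · exfalso
      have h3 : x 6 * x 44 = x 44 * x 6 := by
        rcases hb with rfl | rfl
        · rw [e, mul_one, eq_comm] at h2
          exact h2
        · have h4 : x 47 * x 44 = x 44 * x 47 := comm_of_comB (by omega) (by omega) (by decide)
          rw [e, ← h4, eq_comm] at h2
          exact g_cancel (G := LL) h2 h23
      exact absurd (comB_of_comm (by omega) (by omega) h3 : comB 6 44 = true) (by decide)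
  · right; right; left
    refine ⟨rfl, ?_⟩
    obtain ⟨a, b, ha, hb, e⟩ := cent45 (g := g) fun q hq => h q (by
      simp only [List.mem_cons, List.not_mem_nil, or_false] at hq; omega) (by
      revert q; decide +kernel)
    rcases ha with rfl | rfl <;> rcases hb with rfl | rfl
    · left; rw [e, one_mul]
    · right; right; left; rw [e, one_mul]
    · right; left; rw [e, mul_one]
    · right; right; right; exact e
  · right; right; right
    refine ⟨rfl, ?_⟩
    obtain ⟨a, b, ha, hb, e⟩ := cent90m' (g := g) fun q hq => h q (by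
      simp only [List.mem_cons, List.not_mem_nil, or_false] at hq; omega) (by
      revert q; decide +kernel)
    rcases ha with rfl | rfl <;> rcases hb with rfl | rfl
    · left; rw [e, one_mul]
    · right; right; left; rw [e, one_mul]
    · right; left; rw [e, mul_one]
    · right; right; right
      rw [e]
      exact comm_of_comB (by omega) (by omega) (by decide)

/-- **`α`, `β` inner.** -/
theorem inner_inner (E : Ext π) (hp : commutator K = ⊤) (hn : E.m₀ ≠ 1) {a b : K} (ha1 : π a ≠ 1)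
    (ha2 : π a * π a = 1) (hb1 : π b ≠ 1) (hab : π a ≠ π b) (h1 : ∀ y, a * y = y * a → b * y = y * b)
    (h2 : ∀ y, (a * b) * y = y * (a * b) → b * y = y * b) : False := by
  let S := sysOf E hp hn
  obtain ⟨h, L, b0, hL, he⟩ := exists_rep S (e := a) ha2 ha1
  obtain ⟨hlt, -⟩ := exists_root hL
  have hpi : π (h * a * h⁻¹) = Cfsg.Agent.FourTwo.Base.wd L := by
    rw [he, ← S.π_fw hlt]
    show S.π (fw S.f L * sg S b0) = S.π (fw S.f L)
    rw [map_mul]
    cases b0
    · rw [sg_false, map_one, mul_one]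
    · rw [sg_true, S.π_z, mul_one]
  -- `g = π (h b h⁻¹)` commutes with the root elements commuting with `L`
  have hg : ∀ r < 48, (∀ e ∈ L, comB r e = true) → Commute (π (h * b * h⁻¹)) (x r) := by
    intro r hr hcom
    have h3 := comm_rep S hlt hr hcom b0
    rw [← he] at h3
    have h4 := h1 _ (comm_conj h3).symm
    have h5 := comm_conj' h4.symm
    have h6 := congrArg π h5
    rw [map_mul, map_mul π (h * b * h⁻¹)] at h6
    have hfr : π (S.f r) = x r := S.fx r hr
    rw [hfr] at h6
    exact h6.symm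
  -- `π (h b h⁻¹) = x t`, `π (h (a b) h⁻¹) = x s`
  have key : ∀ s < 48, ∀ t < 48, ∀ r < 48, π (h * (a * b) * h⁻¹) = x s → π (h * b * h⁻¹) = x t → comB r s = true →
      comB r t = true := by
    intro s hs t ht r hr e1 e2 hcom
    have h3 : (h * (a * b) * h⁻¹) * E.A r = E.A r * (h * (a * b) * h⁻¹) := by
      refine E.comm_of_cent hs e1 ?_
      rw [E.map_A hr]
      exact comm_of_comB hr hs hcom
    have h4 := h2 _ (comm_conj h3.symm).symm
    have h5 := comm_conj' h4.symm
    have h6 := congrArg π h5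
    rw [map_mul, map_mul π (h * b * h⁻¹), E.map_A hr, e2] at h6
    exact comB_of_comm hr ht h6
  have hne1 : π (h * b * h⁻¹) ≠ 1 := by
    intro h3
    apply hb1
    rw [map_mul, map_mul, map_inv, mul_inv_eq_one, mul_eq_left] at h3
    exact h3
  have hne2 : π (h * b * h⁻¹) ≠ Cfsg.Agent.FourTwo.Base.wd L := by
    intro h3
    rw [← hpi, map_mul, map_mul, map_mul, map_mul] at h3
    exact hab (mul_left_cancel (mul_right_cancel h3)).symm
  have hprod : π (h * (a * b) * h⁻¹) = Cfsg.Agent.FourTwo.Base.wd L * π (h * b * h⁻¹) := by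
    rw [← hpi, ← map_mul]
    congr 1
    group
  rcases cent_rep hL hg with ⟨rfl, h3⟩ | ⟨rfl, h3⟩ | ⟨rfl, h3⟩ | ⟨rfl, h3⟩
  · rcases h3 with h3 | h3
    · exact hne1 h3
    · rw [wd_one] at hne2
      exact hne2 h3
  · rcases h3 with h3 | h3
    · exact hne1 h3
    · rw [wd_one] at hne2
      exact hne2 h3
  · rw [wd_two] at hne2 hprod
    have h44 : x 44 * x 47 = x 47 * x 44 := comm_of_comB (by omega) (by omega) (by decide)
    rcases h3 with h3 | h3 | h3 | h3
    · exact hne1 h3
    · rw [h3, h44, mul_assoc (x 47), x_mul_self, mul_one] at hprod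
      exact absurd (key 47 (by omega) 44 (by omega) 6 (by omega) hprod h3 (by decide)) (by decide)
    · rw [h3, mul_assoc (x 44), x_mul_self, mul_one] at hprod
      exact absurd (key 44 (by omega) 47 (by omega) 23 (by omega) hprod h3 (by decide)) (by decide)
    · exact hne2 h3
  · rw [wd_two] at hne2 hprod
    have h44 : x 44 * x 32 = x 32 * x 44 := comm_of_comB (by omega) (by omega) (by decide)
    rcases h3 with h3 | h3 | h3 | h3
    · exact hne1 h3
    · rw [h3, mul_assoc (x 44), x_mul_self, mul_one] at hprod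
      exact absurd (key 44 (by omega) 32 (by omega) 16 (by omega) hprod h3 (by decide)) (by decide)
    · rw [h3, h44, mul_assoc (x 32), x_mul_self, mul_one] at hprod
      exact absurd (key 32 (by omega) 44 (by omega) 2 (by omega) hprod h3 (by decide)) (by decide)
    · exact hne2 h3

/-- inner involutory automorphisms -/
theorem inner_facts (E : Ext π) {a : K} (h2 : MulAut.conj a * MulAut.conj a = 1) (h1 : MulAut.conj a ≠ 1) :
    π a ≠ 1 ∧ π a * π a = 1 := by
  constructor
  · intro h
    apply h1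
    ext1 y
    rw [MulAut.conj_apply, E.cen a h y, mul_inv_cancel_right]
    rfl
  · rw [← map_mul, ker_iff E]
    intro y
    have h3 := congrArg (fun f : MulAut K => f y) h2
    simp only [MulAut.mul_apply, MulAut.conj_apply, MulAut.one_apply] at h3
    calc a * a * y = (a * (a * y * a⁻¹) * a⁻¹) * (a * a) := by group
      _ = _ := by rw [h3]

/-- **`α` outer, `β` inner.** -/
theorem outer_inner (E : Ext π) (hp : commutator K = ⊤) {α : MulAut K} (hα : α * α = 1)
    (hout : ∀ k, α ≠ MulAut.conj k) {b : K} (h1 : ∀ y, α y = y → b * y = y * b) : π b = 1 := by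
  have hK : ⁅(⊤ : Subgroup K), (⊤ : Subgroup K)⁆ = ⊤ := by rw [← commutator_def, hp]
  obtain ⟨k, -, hk⟩ := exists_std E hK hα hout
  have h3 : π (k * b * k⁻¹) = 1 := by
    refine eq_one_of_45 fun r hr => ?_
    have t1 := tab45
    rw [List.all_eq_true] at t1
    have t2 := t1 r hr
    simp only [Bool.and_eq_true, Nat.blt_eq, Bool.not_eq_true'] at t2
    obtain ⟨⟨⟨⟨⟨a1, a2⟩, -⟩, -⟩, -⟩, a6⟩ := t2
    have h4 : (MulAut.conj k * α * (MulAut.conj k)⁻¹) (E.A r * E.A (bar r)) = E.A r * E.A (bar r) := by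
      rw [map_mul, hk r a1, hk (bar r) a2, bar_bar a1]
      exact (E.A_comm a1 a2 a6).symm
    rw [conj_aut] at h4
    have h5 : α (k⁻¹ * (E.A r * E.A (bar r)) * k) = k⁻¹ * (E.A r * E.A (bar r)) * k := by
      have h6 : k⁻¹ * (k * α (k⁻¹ * (E.A r * E.A (bar r)) * k) * k⁻¹) * k = k⁻¹ * (E.A r * E.A (bar r)) * k := by rw [h4]
      have h7 : k⁻¹ * (k * α (k⁻¹ * (E.A r * E.A (bar r)) * k) * k⁻¹) * k = α (k⁻¹ * (E.A r * E.A (bar r)) * k) := by
        group
      rw [← h7, h6]
    have h6 := h1 _ h5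
    have h7 := comm_conj' h6.symm
    have h8 := congrArg π h7
    rw [map_mul, map_mul π (k * b * k⁻¹), map_mul π (E.A r), E.map_A a1, E.map_A a2] at h8
    exact h8.symm
  rw [map_mul, map_mul, map_inv, mul_inv_eq_one, mul_eq_left] at h3
  exact h3

/-- the product of two outer automorphisms is inner -/
theorem mul_outer (E : Ext π) (hp : commutator K = ⊤) {α β : MulAut K} (h1 : ∀ k, α ≠ MulAut.conj k)
    (h2 : ∀ k, β ≠ MulAut.conj k) : ∃ k, α * β = MulAut.conj k := by
  have hK : ⁅(⊤ : Subgroup K), (⊤ : Subgroup K)⁆ = ⊤ := by rw [← commutator_def, hp]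
  have key : ∀ α : MulAut K, (∀ k, α ≠ MulAut.conj k) → ∃ g : LL, ∀ k, π (α k) = g * gr (π k) * g⁻¹ := by
    intro α h
    obtain ⟨α', hα'⟩ := exists_ind E α
    obtain ⟨g, hg | hg⟩ := exists_aut α'
    · obtain ⟨k, hk⟩ := exists_inner E hK (α := α) (g := g) fun k => by rw [hα', hg, MulAut.conj_apply]
      exact absurd hk (h k)
    · exact ⟨g, fun k => by rw [hα', hg, MulAut.mul_apply, MulAut.conj_apply]⟩
  obtain ⟨g, hg⟩ := key α h1
  obtain ⟨g', hg'⟩ := key β h2
  refine exists_inner E hK (α := α * β) (g := g * gr g') fun k => ?_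
  rw [MulAut.mul_apply, hg, hg', map_mul, map_mul, map_inv, gr_gr_apply, mul_inv_rev]
  simp only [mul_assoc]

/-- **(P1) for `2.F₄(2)`.** -/
theorem pairFree (E : Ext π) (hp : commutator K = ⊤) (hn : E.m₀ ≠ 1) : PairFree K := by
  intro α β hα hβ hαβ hα1 hβ1 hne h1 h2
  by_cases hi : ∃ a, α = MulAut.conj a
  · obtain ⟨a, rfl⟩ := hi
    obtain ⟨ha1, ha2⟩ := inner_facts E hα hα1
    have hc : ∀ y, a * y = y * a → β y = y := fun y hy => h1 y (by
      rw [MulAut.conj_apply, hy, mul_inv_cancel_right])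
    obtain ⟨b, rfl⟩ := inner_of_cent E hp hn ha1 ha2 hβ hc
    obtain ⟨hb1, -⟩ := inner_facts E hβ hβ1
    refine inner_inner E hp hn ha1 ha2 hb1 ?_ (fun y hy => ?_) (fun y hy => ?_)
    · intro h
      apply hne
      ext1 y
      rw [MulAut.conj_apply, MulAut.conj_apply]
      exact E.conj_eq h y
    · have h3 := hc y hy
      rw [MulAut.conj_apply, mul_inv_eq_iff_eq_mul] at h3
      exact h3
    · have h3 := h2 y (by
        rw [MulAut.conj_apply, MulAut.conj_apply]
        calc a * (b * y * b⁻¹) * a⁻¹ = ((a * b) * y) * (a * b)⁻¹ := by group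
          _ = y := by rw [hy, mul_inv_cancel_right])
      rw [MulAut.conj_apply, mul_inv_eq_iff_eq_mul] at h3
      exact h3
  · push Not at hi
    by_cases hj : ∃ b, β = MulAut.conj b
    · obtain ⟨b, rfl⟩ := hj
      obtain ⟨hb1, -⟩ := inner_facts E hβ hβ1
      refine hb1 (outer_inner E hp hα hi fun y hy => ?_)
      have h3 := h1 y hy
      rw [MulAut.conj_apply, mul_inv_eq_iff_eq_mul] at h3
      exact h3
    · push Not at hj
      obtain ⟨k, hk⟩ := mul_outer E hp hi hj
      have h3 : MulAut.conj k * MulAut.conj k = 1 := by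
        rw [← hk]
        calc α * β * (α * β) = α * (β * α) * β := by group
          _ = (α * α) * (β * β) := by rw [← hαβ]; group
          _ = 1 := by rw [hα, hβ, one_mul]
      have h4 : MulAut.conj k ≠ 1 := by
        rw [← hk]
        intro h5
        apply hne
        calc α = α * (β * β) := by rw [hβ, mul_one]
          _ = α * β * β := by group
          _ = β := by rw [h5, one_mul]
      obtain ⟨hk1, hk2⟩ := inner_facts E h3 h4
      obtain ⟨b, hb⟩ := inner_of_cent E hp hn hk1 hk2 hβ fun y hy => h2 y (by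
        have h5 := congrArg (fun f : MulAut K => f y) hk
        simp only [MulAut.mul_apply, MulAut.conj_apply] at h5
        rw [h5, hy, mul_inv_cancel_right])
      exact hj b hb

/-! ### (P2) -/

/-- the roots used for (P2) -/
theorem exists_move {L : List ℕ} (hL : L ∈ reps) (S : Sys K) (b : Bool) : ∃ s < 48, ∃ t < 48,
    (fw S.f L * sg S b) * S.f s = S.f t * S.f s * (fw S.f L * sg S b) ∧ S.f t * S.f s = S.f s * S.f t := by
  have gen : ∀ (E : List ℕ) (e s t : ℕ), (∀ e ∈ E, e < 48) → e < 48 → s < 48 → t < 48 → cmg e s = [t] →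
      e ≠ s → e + s ≠ 47 → (∀ e ∈ E, comB s e = true) → (∀ e ∈ E, comB t e = true) → comB t s = true →
      ∃ s < 48, ∃ t < 48, (fw S.f (E ++ [e]) * sg S b) * S.f s = S.f t * S.f s * (fw S.f (E ++ [e]) * sg S b) ∧
        S.f t * S.f s = S.f s * S.f t := by
    intro E e s t hE he hs ht hc hne hsum c1 c2 c3
    refine ⟨s, hs, t, ht, ?_, ?_⟩
    · have h1 := S.cm1 e s he hs hne hsum (by rw [hc]; exact le_rfl)
      rw [hc, fw_one] at h1
      have h2 := comm_rep S hE hs c1 false
      have h3 := comm_rep S hE ht c2 false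
      rw [sg_false, mul_one] at h2 h3
      have h4 : S.f t * S.f s = S.f s * S.f t := by
        refine S.fc hs ?_
        rw [S.fx t ht]
        exact comm_of_comB ht hs c3
      rw [fw_append, fw_one]
      calc fw S.f E * S.f e * sg S b * S.f s = fw S.f E * S.f e * (S.f s * sg S b) := by
            rw [mul_assoc (fw S.f E * S.f e), sg_comm]
        _ = fw S.f E * (S.f e * S.f s) * sg S b := by simp only [mul_assoc]
        _ = (fw S.f E * (S.f s * S.f t)) * S.f e * sg S b := by rw [h1]; simp only [mul_assoc]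
        _ = (fw S.f E * S.f t) * S.f s * S.f e * sg S b := by rw [← h4]; simp only [mul_assoc]
        _ = S.f t * (fw S.f E * S.f s) * S.f e * sg S b := by rw [← h3]; simp only [mul_assoc]
        _ = _ := by rw [← h2]; simp only [mul_assoc]
    · refine S.fc hs ?_
      rw [S.fx t ht]
      exact comm_of_comB ht hs c3
  unfold reps at hL
  simp only [List.mem_cons, List.not_mem_nil, or_false] at hL
  rcases hL with rfl | rfl | rfl | rfl
  · exact gen [] 44 7 33 (by decide) (by omega) (by omega) (by omega) (by decide) (by omega) (by omega)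
      (by decide) (by decide) (by decide)
  · exact gen [] 47 1 24 (by decide) (by omega) (by omega) (by omega) (by decide) (by omega) (by omega)
      (by decide) (by decide) (by decide)
  · exact gen [44] 47 15 42 (by decide) (by omega) (by omega) (by omega) (by decide) (by omega) (by omega)
      (by decide) (by decide) (by decide)
  · exact gen [44] 32 16 25 (by decide) (by omega) (by omega) (by omega) (by decide) (by omega) (by omega)
      (by decide) (by decide) (by decide)

/-- **(P2) for `2.F₄(2)`.** -/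
theorem sqDiff (E : Ext π) (hp : commutator K = ⊤) (hn : E.m₀ ≠ 1) : SqDiff K := by
  intro α hα hα1
  have hK : ⁅(⊤ : Subgroup K), (⊤ : Subgroup K)⁆ = ⊤ := by rw [← commutator_def, hp]
  have hcen : ∀ {y : K}, π y ≠ 1 → y ∉ center K := fun {y} hy h => hy ((ker_iff E).2 fun w =>
    (mem_center_iff.1 h w).symm)
  let S := sysOf E hp hn
  by_cases hi : ∃ a, α = MulAut.conj a
  · obtain ⟨a, rfl⟩ := hi
    obtain ⟨ha1, ha2⟩ := inner_facts E hα hα1
    obtain ⟨h, L, b, hL, he⟩ := exists_rep S (e := a) ha2 ha1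
    obtain ⟨s, hs, t, ht, e1, e2⟩ := exists_move hL S b
    rw [← he] at e1
    have hss : S.f s * S.f s = 1 := S.ff s hs
    have htt : S.f t * S.f t = 1 := S.ff t ht
    have e3 : (MulAut.conj a (h⁻¹ * S.f s * h))⁻¹ * (h⁻¹ * S.f s * h) = h⁻¹ * S.f t * h := by
      rw [MulAut.conj_apply]
      have e4 : (h * a * h⁻¹) * S.f s * (h * a * h⁻¹)⁻¹ = S.f t * S.f s := by rw [e1, mul_inv_cancel_right]
      have e5 : a * (h⁻¹ * S.f s * h) * a⁻¹ = h⁻¹ * (S.f t * S.f s) * h := by rw [← e4]; group
      have e6 : (S.f s)⁻¹ = S.f s := S.f_inv hs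
      have e7 : (S.f t)⁻¹ = S.f t := S.f_inv ht
      rw [e5]
      calc (h⁻¹ * (S.f t * S.f s) * h)⁻¹ * (h⁻¹ * S.f s * h) = h⁻¹ * ((S.f s)⁻¹ * (S.f t)⁻¹ * S.f s) * h := by group
        _ = h⁻¹ * (S.f s * (S.f t * S.f s)) * h := by rw [e6, e7, mul_assoc (S.f s)]
        _ = h⁻¹ * ((S.f s * S.f s) * S.f t) * h := by rw [e2, ← mul_assoc (S.f s)]
        _ = h⁻¹ * S.f t * h := by rw [hss, one_mul]
    refine ⟨h⁻¹ * S.f s * h, ?_, ?_⟩
    · rw [e3]
      apply hcen
      rw [map_mul, map_mul, map_inv]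
      have hft : π (S.f t) = x t := S.fx t ht
      rw [hft]
      intro h3
      have h4 : x t = π h * ((π h)⁻¹ * x t * π h) * (π h)⁻¹ := by group
      rw [h3, mul_one, mul_inv_cancel] at h4
      exact Cfsg.Agent.FourTwo.BN.x_ne_one ht h4
    · rw [e3]
      calc (h⁻¹ * S.f t * h) * (h⁻¹ * S.f t * h) = h⁻¹ * (S.f t * S.f t) * h := by group
        _ = 1 := by rw [htt]; group
  · push Not at hi
    obtain ⟨k, -, hk⟩ := exists_std E hK hα hi
    have h47 := hk 47 (by omega)
    have e : bar 47 = 44 := by decide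
    rw [conj_aut, e] at h47
    have h3 : α (k⁻¹ * E.A 47 * k) = k⁻¹ * E.A 44 * k := by rw [← h47]; group
    have e44 := E.A_inv (show 44 < 48 by omega)
    have c : E.A 44 * E.A 47 = E.A 47 * E.A 44 := E.A_comm (by omega) (by omega) (by decide)
    have e3 : (α (k⁻¹ * E.A 47 * k))⁻¹ * (k⁻¹ * E.A 47 * k) = k⁻¹ * (E.A 44 * E.A 47) * k := by
      rw [h3]
      calc (k⁻¹ * E.A 44 * k)⁻¹ * (k⁻¹ * E.A 47 * k) = k⁻¹ * ((E.A 44)⁻¹ * E.A 47) * k := by group
        _ = _ := by rw [e44]
    refine ⟨k⁻¹ * E.A 47 * k, ?_, ?_⟩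
    · rw [e3]
      apply hcen
      rw [map_mul, map_mul, map_inv, map_mul, E.map_A (by omega), E.map_A (by omega)]
      intro h4
      have h5 : x 44 * x 47 = π k * ((π k)⁻¹ * (x 44 * x 47) * π k) * (π k)⁻¹ := by group
      rw [h4, mul_one, mul_inv_cancel, mul_eq_one_iff_eq_inv, x_inv] at h5
      exact absurd (Cfsg.Agent.FourTwo.BN.x_inj (by omega) (by omega) h5) (by decide)
    · rw [e3]
      calc (k⁻¹ * (E.A 44 * E.A 47) * k) * (k⁻¹ * (E.A 44 * E.A 47) * k)
          = k⁻¹ * ((E.A 44 * E.A 47) * (E.A 44 * E.A 47)) * k := by group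
        _ = k⁻¹ * ((E.A 44 * E.A 47) * (E.A 47 * E.A 44)) * k := by nth_rw 2 [c]
        _ = k⁻¹ * (E.A 44 * (E.A 47 * E.A 47) * E.A 44) * k := by group
        _ = 1 := by rw [E.A_sq (by omega), mul_one, E.A_sq (by omega)]; group

/-- **(P1) and (P2)** for a perfect `K` with `K / Z(K) ≃ F₄(2)` and `Z(K) ≠ 1`. -/
theorem main (hp : commutator K = ⊤) (h : D9.Cut.XF42 (K ⧸ center K)) (hc : center K ≠ ⊥) : PairFree K ∧ SqDiff K := by
  obtain ⟨e⟩ := D9.FFour.MultTwo.exists_equiv h
  have E := Cfsg.Agent.FourTwo.Mult.ext_center e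
  have hn : E.m₀ ≠ 1 := by
    intro h1
    apply hc
    rw [eq_bot_iff]
    intro k hk
    rcases Cfsg.Agent.FourTwo.Mult.ker_two E hp ((Cfsg.Agent.FourTwo.Mult.mem_center_iff_map e).2 hk) with h2 | h2
    · exact mem_bot.2 h2
    · exact mem_bot.2 (h2.trans h1)
  exact ⟨pairFree E hp hn, sqDiff E hp hn⟩

end Cfsg.Agent.OddHalf.D4.EvenF42
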