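import Cfsg.Agent.OddHalf.D4.EvenSz
import Cfsg.Agent.OddHalf.D4.EvenCyc
import Cfsg.Agent.OddHalf.D9.Cut
import Cfsg.Agent.OddHalf.D4.Cut

/-!
# ODD half, node D4: the covers of the Suzuki groups with cyclic centre

`facts`: `PairFree` (P1) and `SqDiff` (P2) for every finite perfect `K` with `Z(K) ≠ 1` a cyclic 2-group and `K / Z(K)` a
Suzuki group; `row`: so `m₂(C(K)) ≤ 1` for a standard subgroup of this type.
-/

set_option autoImplicit false

namespace Cfsg.Agent.OddHalf.D4.EvenSzRow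

open Cfsg Subgroup Cfsg.Agent.OddHalf Cfsg.Agent.OddHalf.D4

universe u

variable {K : Type u} [Group K] [Finite K]

/-- (P1), (P2), the centre with exactly one involution `t`. -/
theorem facts_of_uniq (hp : commutator K = ⊤) {t : K} (ht1 : t ≠ 1) (ht : t * t = 1)
    (htc : t ∈ center K) (hu : ∀ z ∈ center K, z * z = 1 → z = 1 ∨ z = t)
    (hX : D9.Cut.XSz (K ⧸ center K)) : EvenCyc.PairFree K ∧ EvenCyc.SqDiff K := by
  obtain ⟨F, i1, i2, m, hm, hF, ⟨e⟩⟩ := hX
  constructor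
  · intro α β hα hβ hαβ hα1 hβ1 hne hle _
    exact hne (EvenSz.p1 hp hm hF e ht1 ht htc hu hα hα1 hβ hβ1 hle)
  · intro α hα hα1
    obtain ⟨x, h1, h2⟩ := EvenSz.p2 hp hm hF e ht1 ht htc hu hα hα1
    exact ⟨x, h2, h1⟩

/-- (P1), (P2), `Z(K) ≠ 1` a cyclic 2-group. -/
theorem facts (hp : commutator K = ⊤) (h2 : IsPGroup 2 ↥(center K)) (hc : IsCyclic ↥(center K))
    (hne : center K ≠ ⊥) (hX : D9.Cut.XSz (K ⧸ center K)) :
    EvenCyc.PairFree K ∧ EvenCyc.SqDiff K := by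
  haveI : Fact (Nat.Prime 2) := ⟨Nat.prime_two⟩
  haveI := hc
  have hdvd : 2 ∣ Nat.card ↥(center K) := by
    obtain ⟨k, hk⟩ := IsPGroup.iff_card.mp h2
    rcases Nat.eq_zero_or_pos k with rfl | h
    · exfalso
      rw [pow_zero, card_eq_one] at hk
      exact hne hk
    · rw [hk]
      exact dvd_pow_self 2 h.ne'
  obtain ⟨t, ht⟩ := exists_prime_orderOf_dvd_card' 2 hdvd
  have htt : (t : K) * t = 1 := by
    have h3 : t * t = 1 := EvenCyc.mul_self_of_order ht
    exact congrArg Subtype.val h3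
  refine facts_of_uniq hp (t := (t : K)) ?_ htt t.2 ?_ hX
  · intro h3
    have h4 : t = 1 := Subtype.ext h3
    rw [h4, orderOf_one] at ht
    omega
  · intro z hz hzz
    by_cases h1 : z = 1
    · exact Or.inl h1
    · right
      have h3 : orderOf (⟨z, hz⟩ : ↥(center K)) = 2 := by
        apply EvenCyc.order_of_mul_self (Subtype.ext hzz)
        intro h
        exact h1 (congrArg Subtype.val h)
      exact congrArg Subtype.val (EvenCyc.eq_of_cyclic h3 ht)

/-- (P1), (P2) for `|Z(K)| = 2`. -/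
theorem facts_two (hp : commutator K = ⊤) (hX : D9.Cut.Two (fun X _ => D9.Cut.XSz X) K) :
    EvenCyc.PairFree K ∧ EvenCyc.SqDiff K := by
  haveI : Fact (Nat.Prime 2) := ⟨Nat.prime_two⟩
  refine facts hp (IsPGroup.of_card (n := 1) (by rw [hX.1, pow_one])) (isCyclic_of_prime_card hX.1)
    ?_ hX.2
  intro h
  have h1 := hX.1
  rw [h, card_bot] at h1
  omega

/-- The row of D4: `Z(K)` cyclic and nontrivial, `K / Z(K)` a Suzuki group. -/
theorem row {G : Type u} [Group G] {K : Subgroup G} (C : Iface.Ctx G) (S : Iface.Std0 G K)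
    (hcyc : IsCyclic ↥(center ↥K)) (hne : center ↥K ≠ ⊥)
    (hX : D9.Cut.XSz (↥K ⧸ center ↥K)) : PRankLE 2 1 ↥(centralizer (K : Set G)) := by
  haveI := C.fin
  have h := facts (K := ↥K) S.std.1.1.commutator_eq_top S.z2 hcyc hne hX
  exact EvenCyc.row C S hcyc hne h.1 h.2

/-- The literal row `sz8` of `D4.Cut.RowsCov`. -/
theorem sz8 : D4.Cut.Row0.{u} (fun K _ => D9.Cut.Two (fun X _ => D4.Cut.XSz8 X) K) := by
  intro G _ C K S hr hP
  haveI := C.fin
  have hX : D9.Cut.XSz (↥K ⧸ center ↥K) := by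
    obtain ⟨F, i1, i2, hF, h⟩ := hP.2
    exact ⟨F, i1, i2, 1, le_rfl, hF.trans (by norm_num), h⟩
  have hne : center ↥K ≠ ⊥ := by
    intro h
    have h1 := hP.1
    rw [h, card_bot] at h1
    omega
  haveI : Fact (Nat.Prime 2) := ⟨Nat.prime_two⟩
  exact hr (row C S (isCyclic_of_prime_card hP.1) hne hX)

end Cfsg.Agent.OddHalf.D4.EvenSzRow
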