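import Mathlib
import Cfsg.Agent.OddHalf.D4.Start
import Cfsg.Agent.GH.L2AutF
import Cfsg.Agent.GH.L2AutD

/-!
# ODD, D4: `K ≅ L_3(2) ≅ L_2(7)`, `m_2(C(K)) ≥ 2` (helper218)

* `false_of_fourSyl`: a K-free kill: `AutFacts K` and every four-group of automorphisms of `K` contains an
  involution centralising a Sylow 2-subgroup of `K` (`FourSyl`);
* the facts on `PSL(2,7)`;
* `row`: the row `L27` of `Cut.lean`.
-/

set_option autoImplicit false

namespace Cfsg.Agent.OddHalf.D4.LThreeTwo

open Cfsg Subgroup Cfsg.Agent.OddHalf.D4 Cfsg.Agent.OddHalf.D4.Basic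
open Cfsg.Agent.OddHalf.D4.CommConj (Tight cj mem_cj)

universe u

/-- Every four-group of automorphisms contains an involution centralising a Sylow 2-subgroup. -/
def FourSyl (X : Type*) [Group X] : Prop :=
  ∀ α β : MulAut X, α * α = 1 → β * β = 1 → α * β = β * α → α ≠ 1 → β ≠ 1 → α ≠ β →
    ∃ γ : MulAut X, (γ = α ∨ γ = β ∨ γ = α * β) ∧ ∃ S : Sylow 2 X, ∀ s ∈ S, γ s = s

section Kill

variable {G : Type*} [Group G] [Finite G] {K L Q U : Subgroup G}

/-- an involution of `C(L) ∩ N(K)` does not act on `K` as the identity on a Sylow 2-subgroup -/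
theorem noFix (h : FullPair K L Q U) (hK : Loc K) {y : G} (hyK : y ∈ normalizer (K : Set G))
    (hy : y ∈ centralizer (L : Set G)) (hy2 : orderOf y = 2) {S : Sylow 2 ↥K}
    (hc : ∀ s ∈ S, K.normalizerMonoidHom ⟨y, hyK⟩ s = s) : False := by
  refine h.noCentral hK hy hy2 (isSyl_of_sylow S) ?_
  rintro _ ⟨s, hs, rfl⟩
  have h1 := congrArg Subtype.val (hc s hs)
  have h2 : y * (s : G) * y⁻¹ = s := h1
  show (s : G) * y = y * s
  calc (s : G) * y = (y * (s : G) * y⁻¹) * y := by rw [h2]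
    _ = y * s := by group

/-- **The kill.** -/
theorem false_of_fourSyl (h : FullPair K L Q U) (hK : Loc K) (hr : Rk2 K) (hF : FourSyl ↥K) : False := by
  have hrL : Rk2 L := by
    obtain ⟨g, _, rfl⟩ := h.conj
    exact hr.cj g
  obtain ⟨a, ha, b, hb, ha2, hb2, hab, hne⟩ := hrL.exists_syl h.sylU
  have hUK := h.leU hK.tight hK.even
  have haK := hUK ha
  have hbK := hUK hb
  have haL := h.sylU.le ha
  have hbL := h.sylU.le hb
  have sq : ∀ {x : G}, orderOf x = 2 → x * x = 1 := fun {x} hx => by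
    rw [← pow_two, ← hx]; exact pow_orderOf_eq_one x
  have n1 : ∀ {x : G}, orderOf x = 2 → x ≠ 1 := by
    rintro x hx rfl
    rw [orderOf_one] at hx
    exact absurd hx (by norm_num)
  have act_sq : ∀ (x : G) (hx : x ∈ normalizer (K : Set G)), x * x = 1 →
      K.normalizerMonoidHom ⟨x, hx⟩ * K.normalizerMonoidHom ⟨x, hx⟩ = 1 := by
    intro x hx hxx
    rw [← map_mul]
    have h2 : (⟨x, hx⟩ * ⟨x, hx⟩ : ↥(normalizer (K : Set G))) = 1 := Subtype.ext hxx
    rw [h2, map_one]
  -- the kernel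
  have ker : ∀ (x : G) (hx : x ∈ normalizer (K : Set G)), x ∈ centralizer (L : Set G) → x * x = 1 →
      K.normalizerMonoidHom ⟨x, hx⟩ = 1 → x = 1 := by
    intro x hx hxL hxx h1
    by_contra hx1
    refine h.noInv hK.tight (k := x) ?_ hxL (orderOf_eq_prime (by rw [pow_two]; exact hxx) hx1)
    rw [mem_centralizer_iff]
    intro k hk
    have h2 : x * k * x⁻¹ = k := by
      have h3 := congrArg (fun f : MulAut ↥K => ((f ⟨k, hk⟩ : ↥K) : G)) h1
      exact h3
    calc k * x = (x * k * x⁻¹) * x := by rw [h2]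
      _ = x * k := by group
  have hab2 : a * b * (a * b) = 1 := by
    calc a * b * (a * b) = a * (b * a) * b := by group
      _ = a * (a * b) * b := by rw [hab]
      _ = (a * a) * (b * b) := by group
      _ = 1 := by rw [sq ha2, sq hb2, one_mul]
  have hab1 : a * b ≠ 1 := by
    intro h1
    apply hne
    have h2 : b = a * (a * b) := by rw [← mul_assoc, sq ha2, one_mul]
    rw [h2, h1, mul_one]
  have habK : a * b ∈ normalizer (K : Set G) := mul_mem haK hbK
  have habo : orderOf (a * b) = 2 := orderOf_eq_prime (by rw [pow_two]; exact hab2) hab1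
  have hmul : K.normalizerMonoidHom ⟨a, haK⟩ * K.normalizerMonoidHom ⟨b, hbK⟩ =
      K.normalizerMonoidHom ⟨a * b, habK⟩ := by
    rw [← map_mul]; rfl
  obtain ⟨γ, hγ, S, hS⟩ := hF (K.normalizerMonoidHom ⟨a, haK⟩) (K.normalizerMonoidHom ⟨b, hbK⟩)
    (act_sq a haK (sq ha2)) (act_sq b hbK (sq hb2))
    (by rw [← map_mul, ← map_mul]; congr 1; exact Subtype.ext hab)
    (fun h1 => n1 ha2 (ker a haK haL (sq ha2) h1)) (fun h1 => n1 hb2 (ker b hbK hbL (sq hb2) h1))
    (fun h1 => hab1 (ker (a * b) habK (mul_mem haL hbL) hab2 (by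
      rw [← hmul, h1]; exact act_sq b hbK (sq hb2))))
  rcases hγ with rfl | rfl | rfl
  · exact noFix h hK haK haL ha2 hS
  · exact noFix h hK hbK hbL hb2 hS
  · rw [hmul] at hS
    exact noFix h hK habK (mul_mem haL hbL) habo hS

end Kill

/-- **A row of `Cut.lean` from `AutFacts` and `FourSyl`.** -/
theorem row_of_fourSyl (h1173 : Start.P1173.{u}) {P : (K : Type u) → [Group K] → Prop}
    (hF : ∀ (X : Type u) [Group X] [Finite X] [IsSimpleGroup X], P X → AutFacts X)
    (hF' : ∀ (X : Type u) [Group X] [Finite X] [IsSimpleGroup X], P X → FourSyl X) : Cut.Row1.{u} P := by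
  apply Start.row_of_pair h1173 hF
  intro G _ hG K L Q U _ hD hp hP
  have := hG.fin
  have := hD.simple
  exact false_of_fourSyl hp hD.loc hD.rk (hF' ↥K hP)

/-! ### The facts on `PSL(2,7)` -/

open Cfsg.Agent.GH.L2Aut

section Seven

variable {F : Type*} [Field F] [Finite F] {L : Type*} [Group L] (R : GH.L2Aut.Rep F L) (hF : Nat.card F = 7)

local notation "SL2" => Matrix.SpecialLinearGroup (Fin 2) F
local notation "M2" => Matrix (Fin 2) (Fin 2) F

include hF in
theorem ringEquiv_eq_one (σ : F ≃+* F) : σ = 1 := by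
  have := Fintype.ofFinite F
  have e := ZMod.ringEquivOfPrime F (p := 7) (by norm_num) (by rw [← Nat.card_eq_fintype_card]; exact hF)
  have h1 : σ.toRingHom.comp e.toRingHom = e.toRingHom := Subsingleton.elim _ _
  ext x
  obtain ⟨y, rfl⟩ := e.surjective x
  exact congrArg (fun f : ZMod 7 →+* F => f y) h1

include hF in
theorem mem_PGL (α : MulAut L) : α ∈ R.PGL := R.mem_PGL_iff_fld.2 (ringEquiv_eq_one hF _)

include R hF in
theorem card_L : Nat.card L = 168 := by
  have h := R.card_mul_two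
  rw [hF] at h
  omega

include R hF in
theorem card_syl (S : Sylow 2 L) : Nat.card ↥(S : Subgroup L) = 8 := by
  have := R.finite
  have h1 := card_L R hF
  have h2 := (S : Subgroup L).card_mul_index
  have h3 := S.not_dvd_index
  obtain ⟨k, hk⟩ := IsPGroup.iff_card.1 S.isPGroup'
  rw [h1, hk] at h2
  rw [hk]
  have h4 : k < 8 := by
    by_contra h5
    push Not at h5
    have h6 : 2 ^ 8 ∣ 168 := (pow_dvd_pow 2 h5).trans (Dvd.intro _ h2)
    norm_num at h6
  interval_cases k <;> omega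

include R hF in
/-- Sylow 2-subgroups are dihedral of order 8 -/
theorem exists_dih4 (S : Sylow 2 L) : ∃ d r, Dih (S : Subgroup L) d r ∧ orderOf d = 4 := by
  have := R.finite
  obtain ⟨d, r, h⟩ := R.exists_dih S
  refine ⟨d, r, h, ?_⟩
  have h1 := h.card
  rw [card_syl R hF S] at h1
  omega

end Seven

/-! ### Dihedral groups of order 8 -/

section Dihed

variable {G : Type*} [Group G] {S : Subgroup G} {d r : G}

theorem d4 (ho : orderOf d = 4) : d * d * (d * d) = 1 := by
  have h1 : d ^ 4 = 1 := by rw [← ho]; exact pow_orderOf_eq_one d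
  calc d * d * (d * d) = d ^ 4 := by simp only [pow_succ, pow_zero, one_mul, mul_assoc]
    _ = 1 := h1

theorem dd_ne (ho : orderOf d = 4) : d * d ≠ 1 := by
  intro h
  have h1 : orderOf d ∣ 2 := orderOf_dvd_of_pow_eq_one (by rw [pow_two, h])
  rw [ho] at h1
  norm_num at h1

theorem dd_comm (h : Dih S d r) (ho : orderOf d = 4) : ∀ s ∈ S, s * (d * d) = (d * d) * s := by
  have hrd : r * (d * d) = (d * d) * r := by
    have h1 : r * (d * d) * r⁻¹ = d * d := by
      calc r * (d * d) * r⁻¹ = (r * d * r⁻¹) * (r * d * r⁻¹) := by group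
        _ = d⁻¹ * d⁻¹ := by rw [h.rd]
        _ = d * d := by
          rw [← mul_inv_rev, inv_eq_iff_mul_eq_one]; exact d4 ho
    rwa [mul_inv_eq_iff_eq_mul] at h1
  intro s hs
  have hk : ∀ k : ℤ, d ^ k * (d * d) = (d * d) * d ^ k := by
    intro k
    have h1 : d * d = d ^ (2 : ℤ) := (zpow_two d).symm
    rw [h1, ← zpow_add, ← zpow_add, add_comm]
  rcases h.cov s hs with h1 | ⟨k, rfl⟩
  · obtain ⟨k, rfl⟩ := mem_zpowers_iff.1 h1
    exact hk k
  · rw [mul_assoc, hrd, ← mul_assoc, hk, mul_assoc]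

/-- the only central involution -/
theorem eq_dd (h : Dih S d r) (ho : orderOf d = 4) {s : G} (hs : s ∈ S) (hs2 : s * s = 1) (hs1 : s ≠ 1)
    (hc : d * s = s * d) : s = d * d := by
  rcases h.cov s hs with h1 | ⟨k, rfl⟩
  · obtain ⟨k, rfl⟩ := mem_zpowers_iff.1 h1
    have h2 : d ^ (k + k) = 1 := by rw [zpow_add]; exact hs2
    have h3 : (4 : ℤ) ∣ k + k := by
      have := orderOf_dvd_iff_zpow_eq_one.2 h2
      rwa [ho] at this
    obtain ⟨m, hm⟩ := h3
    have h4 : k = 2 * m := by omega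
    have hd4 : d ^ (4 : ℤ) = 1 := by
      rw [show (4 : ℤ) = 2 + 2 by norm_num, zpow_add, zpow_two]
      exact d4 ho
    rcases Int.even_or_odd' m with ⟨n, hn | hn⟩
    · exfalso
      apply hs1
      rw [h4, hn, show 2 * (2 * n) = 4 * n by ring, zpow_mul, hd4, one_zpow]
    · rw [h4, hn, show 2 * (2 * n + 1) = 4 * n + 2 by ring, zpow_add, zpow_mul, hd4, one_zpow, one_mul,
        zpow_two]
  · exfalso
    apply dd_ne ho
    have h1 : d * r = r * d := by
      have h2 : d ^ k * (d * r) = d ^ k * (r * d) := by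
        calc d ^ k * (d * r) = d * (d ^ k * r) := by
              rw [← mul_assoc, ← mul_assoc, (Commute.refl d).zpow_left k]
          _ = d ^ k * r * d := hc
          _ = d ^ k * (r * d) := by rw [mul_assoc]
      exact mul_left_cancel h2
    have h2 := h.rd
    rw [← h1, mul_inv_cancel_right] at h2
    calc d * d = d * d⁻¹ := by rw [← h2]
      _ = 1 := mul_inv_cancel d

end Dihed

section Seven2

variable {F : Type*} [Field F] [Finite F] {L : Type*} [Group L] (R : GH.L2Aut.Rep F L) (hF : Nat.card F = 7)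

local notation "SL2" => Matrix.SpecialLinearGroup (Fin 2) F
local notation "M2" => Matrix (Fin 2) (Fin 2) F

include hF in
/-- `(a + b X)^8 = a² + b²`-type identity: `M^8 = 1` -/
theorem pow_eight {X M : M2} (hX : X * X = -1) {a b : F} (hM : M = a • (1 : M2) + b • X)
    (hab : a * a + b * b = 1) : M ^ 8 = 1 := by
  have := Fintype.ofFinite F
  have hc : Fintype.card F = 7 := by rw [← Nat.card_eq_fintype_card]; exact hF
  have : Fact (Nat.Prime 7) := ⟨by norm_num⟩
  have : CharP F 7 := charP_of_card_eq_prime hc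
  have : CharP M2 7 := Matrix.charP 7
  have h7 : ∀ c : F, c ^ 7 = c := fun c => by
    have := FiniteField.pow_card c
    rwa [hc] at this
  have hX7 : X ^ 7 = -X := by
    have h1 : X ^ 7 = (X * X) * (X * X) * (X * X) * X := by noncomm_ring
    rw [h1, hX]
    noncomm_ring
  have h1 : Commute (a • (1 : M2)) (b • X) := by
    show a • (1 : M2) * (b • X) = b • X * (a • (1 : M2))
    rw [Matrix.smul_mul, Matrix.one_mul, Matrix.mul_smul, Matrix.mul_one]
  have h2 : M ^ 7 = a • (1 : M2) - b • X := by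
    rw [hM, add_pow_char_of_commute _ h1, smul_pow, smul_pow, one_pow, h7, h7, hX7, smul_neg, sub_eq_add_neg]
  calc M ^ 8 = M ^ 7 * M := pow_succ M 7
    _ = (a • (1 : M2) - b • X) * (a • (1 : M2) + b • X) := by rw [h2, ← hM]
    _ = 1 := by
      have h3 : (a • (1 : M2) - b • X) * (a • (1 : M2) + b • X) = (a * a) • (1 : M2) - (b * b) • (X * X) := by
        rw [sub_mul, mul_add, mul_add]
        simp only [Matrix.smul_mul, Matrix.mul_smul, Matrix.one_mul, Matrix.mul_one, smul_smul]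
        rw [mul_comm b a]
        abel
      rw [h3, hX, smul_neg, sub_neg_eq_add, ← add_smul, hab, one_smul]

include R hF in
/-- the elements of `C(t)`, `t` an involution, are 2-elements -/
theorem cent_pow {t x : L} (ht : t * t = 1) (ht1 : t ≠ 1) (hx : x * t = t * x) : x ^ 8 = 1 := by
  obtain ⟨i, rfl, hi⟩ := R.exists_inv_lift ht ht1
  obtain ⟨g, rfl⟩ := R.surj x
  have hns : ∀ c : F, i.1 ≠ c • (1 : M2) := by
    intro c hc
    apply ht1
    rw [R.ker]
    apply (mem_center_iff R.two i).1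
    rw [Subgroup.mem_center_iff]
    intro y
    apply Subtype.ext
    change y.1 * i.1 = i.1 * y.1
    rw [hc, Matrix.mul_smul, Matrix.smul_mul, Matrix.mul_one, Matrix.one_mul]
  have htr := tr_zero_of_sq hi
  rw [← map_mul, ← map_mul, R.π_eq_iff] at hx
  rcases hx with hx | hx
  · have h1 : i.1 * g.1 = g.1 * i.1 := (congrArg Subtype.val hx).symm
    obtain ⟨a, b, hab⟩ := exists_ab hns h1
    have hdet : a * a + b * b = 1 := by
      have h2 : (a • (1 : M2) + b • i.1).det = 1 := by rw [← hab]; exact g.2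
      have hdi : i.1 0 0 * i.1 1 1 - i.1 0 1 * i.1 1 0 = 1 := by
        have := i.2
        rwa [Matrix.det_fin_two] at this
      have htr' : i.1 1 1 = -i.1 0 0 := by
        rw [Matrix.trace_fin_two] at htr
        linear_combination htr
      rw [Matrix.det_fin_two] at h2
      simp at h2
      rw [htr'] at hdi h2
      linear_combination h2 - b ^ 2 * hdi
    have h3 := pow_eight hF hi hab hdet
    have h4 : g ^ 8 = 1 := Subtype.ext h3
    rw [← map_pow, h4, map_one]
  · -- anticommuting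
    have h1 : g.1 * i.1 = -(i.1 * g.1) := congrArg Subtype.val hx
    have h2 : g.1.trace = 0 := by
      have h3 := tr_of_anticomm (F := F) R.two (g := Matrix.SpecialLinearGroup.toGL i)
        (h := Matrix.SpecialLinearGroup.toGL g) h1
      exact h3
    have h3 : g.1 * g.1 = -1 := by
      rw [cayley, h2, g.2, zero_smul, one_smul, zero_sub]
    have h4 : g * g = -1 := Subtype.ext h3
    have h5 : R.π g * R.π g = 1 := by
      rw [← map_mul, h4, R.ker]
      exact Or.inr rfl
    calc R.π g ^ 8 = (R.π g * R.π g) ^ 4 := by rw [← pow_two, ← pow_mul]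
      _ = 1 := by rw [h5, one_pow]


include R hF in
/-- **(F0)** `O(C(a)) = 1` -/
theorem bal {a : L} (ha : orderOf a = 2) : centralizerPPrimeCore 2 a = ⊥ := by
  have := R.finite
  have ha2 : a * a = 1 := by rw [← pow_two, ← ha]; exact pow_orderOf_eq_one a
  have ha1 : a ≠ 1 := by
    rintro rfl
    rw [orderOf_one] at ha
    exact absurd ha (by norm_num)
  have hC : IsPGroup 2 ↥(centralizer ({a} : Set L)) := by
    rintro ⟨x, hx⟩
    refine ⟨3, Subtype.ext ?_⟩
    have h1 := cent_pow R hF ha2 ha1 (mem_centralizer_singleton_iff.mp hx)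
    show x ^ 2 ^ 3 = 1
    norm_num
    exact h1
  have : Fact (Nat.Prime 2) := ⟨Nat.prime_two⟩
  obtain ⟨k, hk⟩ := IsPGroup.iff_card.1 (hC.to_subgroup (pPrimeCore 2 ↥(centralizer ({a} : Set L))))
  have h2 := Cfsg.Agent.Lib.Cores.pPrimeCore_coprime (G := ↥(centralizer ({a} : Set L))) 2
  have h3 : pPrimeCore 2 ↥(centralizer ({a} : Set L)) = ⊥ := by
    apply card_eq_one.1
    rw [hk] at h2 ⊢
    rcases Nat.eq_zero_or_pos k with h4 | h4
    · rw [h4, pow_zero]
    · exfalso
      rw [Nat.coprime_pow_left_iff h4] at h2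
      exact absurd h2 (by norm_num)
  rw [centralizerPPrimeCore, h3, Subgroup.map_bot]

include R hF in
/-- **(F1)** -/
theorem inner (S : Sylow 2 L) (φ : MulAut L) (hφ : ∀ s ∈ S, φ s = s) : ∃ s ∈ S, φ = MulAut.conj s := by
  obtain ⟨a, b, ha, hb, hab⟩ := R.exists_four_mem S
  rcases R.fix_four hab (mem_PGL R hF φ) (hφ a ha) (hφ b hb) with h | h | h | h
  · exact ⟨1, one_mem S, by rw [h, map_one]⟩
  · exact ⟨a, ha, h⟩
  · exact ⟨b, hb, h⟩
  · exact ⟨a * b, mul_mem ha hb, h⟩

include R hF in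
/-- **(F5)** -/
theorem uniq (S : Sylow 2 L) {s s' : L} (hs : s ∈ S) (hs2 : orderOf s = 2) (hc : ∀ u ∈ S, u * s = s * u)
    (hs' : s' ∈ S) (hs2' : orderOf s' = 2) (hc' : ∀ u ∈ S, u * s' = s' * u) : s = s' := by
  obtain ⟨d, r, h, ho⟩ := exists_dih4 R hF S
  have key : ∀ x : L, x ∈ S → orderOf x = 2 → (∀ u ∈ S, u * x = x * u) → x = d * d := by
    intro x hx hx2 hxc
    refine eq_dd h ho hx (by rw [← pow_two, ← hx2]; exact pow_orderOf_eq_one x) ?_ (hxc d h.d_mem)
    rintro rfl
    rw [orderOf_one] at hx2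
    exact absurd hx2 (by norm_num)
  rw [key s hs hs2 hc, key s' hs' hs2' hc']

include R hF in
/-- every involution centralises a Sylow 2-subgroup -/
theorem exists_syl {t : L} (ht : t * t = 1) (ht1 : t ≠ 1) : ∃ S : Sylow 2 L, ∀ s ∈ S, MulAut.conj t s = s := by
  have := R.finite
  obtain ⟨S₀⟩ : Nonempty (Sylow 2 L) := inferInstance
  obtain ⟨d, r, h, ho⟩ := exists_dih4 R hF S₀
  obtain ⟨g, hg⟩ := R.inv_conj (d4 ho) (dd_ne ho) ht ht1
  refine ⟨g • S₀, ?_⟩
  intro s hs
  have h1 : g⁻¹ * s * g ∈ S₀ := by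
    have h2 : s ∈ ((g • S₀ : Sylow 2 L) : Subgroup L) := hs
    rw [Sylow.coe_subgroup_smul] at h2
    obtain ⟨y, hy, rfl⟩ := h2
    have h3 : g⁻¹ * (MulAut.conj g y) * g = y := by rw [MulAut.conj_apply]; group
    show g⁻¹ * (MulAut.conj g y) * g ∈ S₀
    rw [h3]; exact hy
  have h2 := dd_comm h ho _ h1
  rw [MulAut.conj_apply, mul_inv_eq_iff_eq_mul, ← hg]
  calc g * (d * d) * g⁻¹ * s = g * ((d * d) * (g⁻¹ * s * g)) * g⁻¹ := by group
    _ = g * ((g⁻¹ * s * g) * (d * d)) * g⁻¹ := by rw [h2]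
    _ = s * (g * (d * d) * g⁻¹) := by group

include R hF in
theorem fourSyl : FourSyl L := by
  intro α β hα hβ hαβ hα1 hβ1 hne
  have key : ∀ γ : MulAut L, γ * γ = 1 → γ ≠ 1 → γ ∈ Inn L → ∃ S : Sylow 2 L, ∀ s ∈ S, γ s = s := by
    intro γ hγ hγ1 hγI
    obtain ⟨t, ht, rfl⟩ := R.inn_inv hγI hγ
    exact exists_syl R hF ht (by rintro rfl; exact hγ1 (map_one _))
  by_cases h1 : α ∈ Inn L
  · exact ⟨α, Or.inl rfl, key α hα hα1 h1⟩
  by_cases h2 : β ∈ Inn L
  · exact ⟨β, Or.inr (Or.inl rfl), key β hβ hβ1 h2⟩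
  refine ⟨α * β, Or.inr (Or.inr rfl), key _ ?_ ?_ (R.mul_mem_inn (mem_PGL R hF α) h1 (mem_PGL R hF β) h2)⟩
  · calc α * β * (α * β) = α * (β * α) * β := by group
      _ = α * (α * β) * β := by rw [hαβ]
      _ = (α * α) * (β * β) := by group
      _ = 1 := by rw [hα, hβ, one_mul]
  · intro h3
    apply hne
    have h4 : β = α * (α * β) := by rw [← mul_assoc, hα, one_mul]
    rw [h4, h3, mul_one]

/-! #### no strongly embedded subgroup -/

theorem four_of_dih {G : Type*} [Group G] {S : Subgroup G} {d r : G} (h : Dih S d r) (ho : orderOf d = 4) :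
    Four (d * d) r where
  aa := d4 ho
  bb := h.rr
  a1 := dd_ne ho
  b1 := fun h1 => h.r_not (by rw [h1]; exact one_mem _)
  ne := fun h1 => h.r_not (by rw [← h1]; exact mul_mem (mem_zpowers d) (mem_zpowers d))
  comm := (dd_comm h ho r h.r_mem).symm

include R hF in
/-- a proper subgroup containing `S` and closed as a strongly embedded subgroup normalises `⟨d², r⟩` -/
theorem le_norm {S : Sylow 2 L} {d r : L} (h : Dih (S : Subgroup L) d r) (ho : orderOf d = 4) {H : Subgroup L}
    (hH : IsStronglyEmbedded H) (hSH : (S : Subgroup L) ≤ H) :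
    H ≤ normalizer ((four_of_dih h ho).sub : Set L) ∧
      ∃ y ∈ H, y * (d * d) * y⁻¹ = r ∧ y * r * y⁻¹ = (d * d) * r := by
  have := R.finite
  have : Fact (Nat.Prime 3) := ⟨Nat.prime_three⟩
  have hdH : d ∈ H := hSH h.d_mem
  have hrH : r ∈ H := hSH h.r_mem
  set E := (four_of_dih h ho).sub with hE
  have memE : ∀ x, x ∈ E ↔ x = 1 ∨ x = d * d ∨ x = r ∨ x = (d * d) * r := fun x => Iff.rfl
  obtain ⟨Φ, y, δ, -, -, -, -, hy3, hy1, hya, hyb, -⟩ := R.exists_frame (four_of_dih h ho)
  have hddo : orderOf (d * d) = 2 := orderOf_eq_prime (by rw [pow_two]; exact d4 ho) (dd_ne ho)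
  have hyH : y ∈ H := TwoFusion.StronglyEmbeddedBasic.mem_of_conj_mem hH (mul_mem hdH hdH) hddo (by rw [hya]; exact hrH)
  -- normalizer
  have hfin : ∀ g : L, (∀ x ∈ E, g * x * g⁻¹ ∈ E) → g ∈ normalizer (E : Set L) := by
    intro g hg
    apply mem_normalizer_fintype
    exact hg
  have hN : ∀ g : L, g * (d * d) * g⁻¹ ∈ E → g * r * g⁻¹ ∈ E → g ∈ normalizer (E : Set L) := by
    intro g h1 h2
    apply hfin
    intro x hx
    rcases (memE x).1 hx with rfl | rfl | rfl | rfl
    · rw [mul_one, mul_inv_cancel]; exact one_mem _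
    · exact h1
    · exact h2
    · have h3 : g * (d * d * r) * g⁻¹ = (g * (d * d) * g⁻¹) * (g * r * g⁻¹) := by group
      rw [h3]
      exact mul_mem h1 h2
  have hyN : y ∈ normalizer (E : Set L) := by
    apply hN
    · rw [hya, memE]; exact Or.inr (Or.inr (Or.inl rfl))
    · rw [hyb, memE]; exact Or.inr (Or.inr (Or.inr rfl))
  have hSN : (S : Subgroup L) ≤ normalizer (E : Set L) := by
    intro s hs
    have h1 := dd_comm h ho
    have hdN : d ∈ normalizer (E : Set L) := by
      apply hN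
      · rw [h1 d h.d_mem, mul_inv_cancel_right, memE]; exact Or.inr (Or.inl rfl)
      · have h2 : d * r * d⁻¹ = (d * d) * r := by
          have h3 : r * d⁻¹ = d * r := by
            have h4 := h.r_pow' (-1)
            rw [zpow_neg, zpow_one, neg_neg, zpow_one] at h4
            exact h4
          rw [mul_assoc, h3, mul_assoc]
        rw [h2, memE]; exact Or.inr (Or.inr (Or.inr rfl))
    have hrN : r ∈ normalizer (E : Set L) := by
      apply hN
      · rw [h1 r h.r_mem, mul_inv_cancel_right, memE]; exact Or.inr (Or.inl rfl)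
      · rw [mul_inv_cancel_right, memE]; exact Or.inr (Or.inr (Or.inl rfl))
    rcases h.cov s hs with h2 | ⟨k, rfl⟩
    · obtain ⟨k, rfl⟩ := mem_zpowers_iff.1 h2
      exact zpow_mem hdN k
    · exact mul_mem (zpow_mem hdN k) hrN
  refine ⟨?_, y, hyH, hya, hyb⟩
  -- orders
  have h8 : ∀ P : Subgroup L, (S : Subgroup L) ≤ P → 8 ∣ Nat.card P := by
    intro P hP
    have := card_dvd_of_le hP
    rwa [card_syl R hF S] at this
  have h3 : ∀ P : Subgroup L, y ∈ P → 3 ∣ Nat.card P := by
    intro P hP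
    have h1 : orderOf y = 3 := orderOf_eq_prime (by
      calc y ^ 3 = y * y * y := by simp only [pow_succ, pow_zero, one_mul]
        _ = 1 := hy3) hy1
    rw [← h1]
    exact P.orderOf_dvd_natCard hP
  have h24 : ∀ P : Subgroup L, (S : Subgroup L) ≤ P → y ∈ P → 24 ∣ Nat.card P := by
    intro P h1 h2
    exact (Nat.Coprime.mul_dvd_of_dvd_of_dvd (by norm_num) (h8 P h1) (h3 P h2) : 8 * 3 ∣ Nat.card P)
  have hcL := card_L R hF
  have hHc : Nat.card H = 24 := by
    obtain ⟨m, hm⟩ := h24 H hSH hyH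
    have h1 := H.card_mul_index
    rw [hcL, hm] at h1
    have h2 : m * H.index = 7 := by
      have : 24 * (m * H.index) = 24 * 7 := by rw [← mul_assoc]; exact h1
      omega
    have h5 : m ∣ 7 := Dvd.intro _ h2
    rcases (Nat.dvd_prime (by norm_num)).1 h5 with h6 | h6
    · rw [hm, h6]
    · exfalso
      rw [h6] at h2
      have h7 : H.index = 1 := by omega
      exact hH.1 (index_eq_one.1 h7)
  have h1 : H ⊓ normalizer (E : Set L) = H := by
    apply eq_of_le_of_card_ge inf_le_left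
    rw [hHc]
    exact Nat.le_of_dvd Nat.card_pos (h24 _ (le_inf hSH hSN) ⟨hyH, hyN⟩)
  rw [← h1]
  exact inf_le_right

include R hF in
theorem se (H : Subgroup L) : ¬ IsStronglyEmbedded H := by
  intro hH
  have := R.finite
  have : Fact (Nat.Prime 2) := ⟨Nat.prime_two⟩
  -- a Sylow subgroup in `H`
  obtain ⟨t, ht, ht2⟩ := TwoFusion.StronglyEmbeddedBasic.exists_involution hH
  have hp : IsPGroup 2 ↥(zpowers t) := by
    rw [IsPGroup.iff_card]
    exact ⟨1, by rw [Nat.card_zpowers, ht2, pow_one]⟩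
  obtain ⟨S, hS⟩ := hp.exists_le_sylow
  have htS : t ∈ (S : Subgroup L) := hS (mem_zpowers t)
  obtain ⟨d, r, h, ho⟩ := exists_dih4 R hF S
  have hddo : orderOf (d * d) = 2 := orderOf_eq_prime (by rw [pow_two]; exact d4 ho) (dd_ne ho)
  have h1 : d * d ∈ H := TwoFusion.StronglyEmbeddedBasic.mem_of_commute hH ht ht2 (dd_comm h ho t htS).symm
  have hSH : (S : Subgroup L) ≤ H := fun s hs =>
    TwoFusion.StronglyEmbeddedBasic.mem_of_commute hH h1 hddo (dd_comm h ho s hs)
  obtain ⟨hle1, y, hyH, hya, hyb⟩ := le_norm R hF h ho hH hSH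
  have h' : Dih (S : Subgroup L) d (d * r) := by
    have := h.change 1
    rwa [zpow_one] at this
  obtain ⟨hle2, -⟩ := le_norm R hF h' ho hH hSH
  -- `y` moves `d²` to `r`, which is not in the second four-group
  have h2 : r ∈ (four_of_dih h' ho).sub := by
    have h3 : y * (d * d) * y⁻¹ ∈ (four_of_dih h' ho).sub :=
      (mem_normalizer_iff.1 (hle2 hyH) _).1 (Or.inr (Or.inl rfl))
    exact hya ▸ h3
  have hd4 := d4 ho
  rcases h2 with h3 | h3 | h3 | h3
  · exact h.r_not (by rw [h3]; exact one_mem _)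
  · exact h.r_not (by rw [h3]; exact mul_mem (mem_zpowers d) (mem_zpowers d))
  · exact h.d1 (mul_eq_right.1 h3.symm)
  · -- `r = d² d r`
    have h4 : d * d * d = 1 := by
      have h5 : (d * d * d) * r = r := by
        rw [mul_assoc (d * d)]; exact h3.symm
      exact mul_eq_right.1 h5
    apply h.d1
    calc d = (d * d * d)⁻¹ * (d * d * (d * d)) := by group
      _ = 1 := by rw [h4, hd4, inv_one, one_mul]

include R hF in
/-- The facts of D4 for `PSL(2,7)`. -/
theorem autFacts : AutFacts L where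
  inner S φ _ hφ := inner R hF S φ hφ
  uniq S _ hs hs2 hc _ hs' hs2' hc' := uniq R hF S hs hs2 hc hs' hs2' hc'
  bal _ ha := bal R hF ha
  se H := se R hF H

end Seven2

/-- **The row `L_2(7) ≅ L_3(2)`.** -/
theorem row (h1173 : Start.P1173.{u}) : Cut.Row1.{u} (fun K _ => Cut.L27 K) := by
  refine row_of_fourSyl h1173 ?_ ?_
  · rintro X _ _ _ ⟨F, _, _, hF, ⟨e⟩⟩
    have h2 : (2 : F) ≠ 0 := two_ne_zero_of_odd (by rw [hF]; decide)
    exact autFacts (GH.L2Aut.Rep.ofEquiv h2 e) (by rw [Nat.card_eq_fintype_card]; exact hF)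
  · rintro X _ _ _ ⟨F, _, _, hF, ⟨e⟩⟩
    have h2 : (2 : F) ≠ 0 := two_ne_zero_of_odd (by rw [hF]; decide)
    exact fourSyl (GH.L2Aut.Rep.ofEquiv h2 e) (by rw [Nat.card_eq_fintype_card]; exact hF)

end Cfsg.Agent.OddHalf.D4.LThreeTwo

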