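import Cfsg.Agent.OddHalf.Iface
import Cfsg.Agent.OddHalf.D4.EvenPair
import Cfsg.Agent.UGT.SLEnd

/-!
# ODD, D4: the row of all simple `K` with (Gam), in particular `K ≅ PSL₂(q)`, `q ≥ 11` odd

THEOREM SL (`UGT/SLCore`, `UGT/SLEnd`).
-/

set_option autoImplicit false

open Cfsg Subgroup
open Cfsg.Agent.OddHalf.Iface

namespace Cfsg.Agent.OddHalf.D4.RowGam

universe u

open Cfsg.Agent.UGT.SL in
/-- **D4 for all simple `K` with (Gam).** -/
theorem row_gam (h1173 : P1173.{u}) {G : Type u} [Group G] (C : Ctx G) {K : Subgroup G} (S : Std G K)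
    (hrk : ¬ PRankLE 2 1 ↥(centralizer (K : Set G))) (hZ : center ↥K = ⊥) (hgam : GamAut ↥K) : False := by
  have := C.fin
  have hG := C.simple
  -- `K` is simple
  let e : ↥K ≃* ↥K ⧸ center ↥K :=
    (QuotientGroup.quotientBot (G := ↥K)).symm.trans (QuotientGroup.quotientMulEquivOfEq hZ.symm)
  have hs : IsSimpleGroup ↥K := by
    have := S.simple
    exact e.isSimpleGroup
  have hna : ¬ ∀ x y : ↥K, x * y = y * x := by
    intro h
    apply S.quo_na
    refine ⟨⟨fun a b => ?_⟩⟩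
    obtain ⟨x, rfl⟩ := e.surjective a
    obtain ⟨y, rfl⟩ := e.surjective b
    rw [← map_mul, ← map_mul, h]
  have hev : 2 ∣ Nat.card ↥K := by
    obtain ⟨a, b, ha, hb, ha2, -⟩ := EvenPair.exists_two_of_not_pRankLE (C := (⊤ : Subgroup ↥K)) (by
      intro h
      apply S.rk2
      intro A hA hA2
      have h1 := h (A.comap (topEquiv (G := ↥K)).toMonoidHom) (by
        refine ⟨⟨fun a b => ?_⟩⟩
        apply Subtype.ext
        apply (topEquiv (G := ↥K)).injective
        exact congrArg Subtype.val (hA.is_comm.comm ⟨_, a.2⟩ ⟨_, b.2⟩))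
        (by
          intro a ha
          apply (topEquiv (G := ↥K)).injective
          rw [map_pow, map_one]
          exact hA2 _ ha)
      have h2 : Nat.card ↥(A.comap (topEquiv (G := ↥K)).toMonoidHom) = Nat.card A :=
        Nat.card_congr ((topEquiv (G := ↥K)).toEquiv.subtypeEquiv (fun a => Iff.rfl))
      rwa [h2] at h1)
    rw [← ha2]
    exact orderOf_dvd_natCard a
  obtain ⟨a, b, ha, hb, ha2, hb2, hab, hne⟩ := EvenPair.exists_two_of_not_pRankLE hrk
  have hO : oddCore G = ⊥ := by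
    have hn : (oddCore G).Normal := inferInstance
    rcases IsSimpleGroup.eq_bot_or_eq_top_of_normal _ hn with h | h
    · exact h
    · exfalso
      have h1 := Cfsg.Agent.Lib.Cores.pPrimeCore_coprime (G := G) 2
      have h2 : pPrimeCore 2 G = ⊤ := h
      rw [h2, Nat.card_congr (topEquiv (G := G)).toEquiv] at h1
      have h3 : 2 ∣ Nat.card G := by
        rw [← ha2]
        exact orderOf_dvd_natCard a
      have h4 : Nat.gcd 2 (Nat.card G) = 2 := Nat.gcd_eq_left h3
      rw [Nat.Coprime] at h1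
      rw [Nat.gcd_comm, h4] at h1
      exact absurd h1 (by norm_num)
  refine standard_false h1173 hO hG S.std hs hna hev hgam ⟨a, ha, b, hb, ?_, ?_, hab, ?_, ?_, hne⟩
  · rw [← pow_two, ← ha2, pow_orderOf_eq_one]
  · rw [← pow_two, ← hb2, pow_orderOf_eq_one]
  · rintro rfl
    rw [orderOf_one] at ha2
    exact absurd ha2 (by norm_num)
  · rintro rfl
    rw [orderOf_one] at hb2
    exact absurd hb2 (by norm_num)

/-- **D4 for `K ≅ PSL₂(q)`, `q ≥ 11` odd.** -/
theorem row_l2 (h1173 : Cfsg.Agent.UGT.SL.P1173.{u}) {G : Type u} [Group G] (C : Ctx G) {K : Subgroup G}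
    (S : Std G K) (hrk : ¬ PRankLE 2 1 ↥(centralizer (K : Set G))) {F : Type*} [Field F] [Finite F]
    (hodd : Odd (Nat.card F)) (hq : 11 ≤ Nat.card F)
    (e : ↥K ≃* Matrix.ProjectiveSpecialLinearGroup (Fin 2) F) : False := by
  have h2 : (2 : F) ≠ 0 := by
    let _ := Fintype.ofFinite F
    exact Cfsg.Agent.GH.L2Aut.two_ne_zero_of_odd (by rwa [← Nat.card_eq_fintype_card])
  let R : Cfsg.Agent.GH.L2Aut.Rep F ↥K := Cfsg.Agent.GH.L2Aut.Rep.ofEquiv h2 e
  exact row_gam h1173 C S hrk R.center_eq_bot (Cfsg.Agent.UGT.SL.gamAut_rep R hq)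

end Cfsg.Agent.OddHalf.D4.RowGam
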