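import Cfsg.Agent.OddHalf.D4.Cut
import Cfsg.Agent.OddHalf.D4.RowGam

/-!
# ODD, D4: the row `K ≅ PSL₂(q)`, `q ≥ 11` odd
-/

set_option autoImplicit false

open Cfsg Subgroup

namespace Cfsg.Agent.OddHalf.D4.RowL2o

universe u

/-- the row of all simple groups with (Gam) -/
def HasGam (X : Type u) [Group X] : Prop := Cfsg.Agent.UGT.SL.GamAut X

theorem row_gam (h1173 : Cfsg.Agent.UGT.SL.P1173.{u}) : Cut.Row1.{u} (fun K _ => HasGam K) :=
  fun _ _ C _ S hrk hZ h => RowGam.row_gam h1173 C S hrk hZ h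

theorem row (h1173 : Cfsg.Agent.UGT.SL.P1173.{u}) : Cut.Row1.{u} (fun K _ => Cut.L2o K) := by
  intro G _ C K S hrk hZ hK
  obtain ⟨F, _, _, hodd, hq, ⟨e⟩⟩ := hK
  exact RowGam.row_l2 h1173 C S hrk (by rwa [Nat.card_eq_fintype_card]) (by rwa [Nat.card_eq_fintype_card]) e

end Cfsg.Agent.OddHalf.D4.RowL2o
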