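import Mathlib
import Cfsg.Agent.Lib.InvolutionKernel

/-!
# ODD, D4: a full pair seen inside `K`

`KP D N R`: `D = K ∩ N(L)`, `N = K ∩ C(L)`, `R` = the group of automorphisms of `K` induced by a Sylow 2-subgroup of
`C(L)`. Consequences which do not depend on `K`.
-/

set_option autoImplicit false

namespace Cfsg.Agent.OddHalf.D4.KPair

open Subgroup

variable {K : Type*} [Group K]

/-- The data of a full pair seen in `K`. -/
structure Pair (D N : Subgroup K) (R : Subgroup (MulAut K)) : Prop where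
  ne : D ≠ ⊤
  le : N ≤ D
  norm : ∀ d ∈ D, ∀ n ∈ N, d * n * d⁻¹ ∈ N
  centN : ∀ n ∈ N, n * n = 1 → n ≠ 1 → ∀ k, k * n = n * k → k ∈ D
  centR : ∀ r ∈ R, r * r = 1 → r ≠ 1 → ∀ k : K, r k = k → k ∈ D
  mapD : ∀ r ∈ R, ∀ d ∈ D, r d ∈ D
  mapN : ∀ r ∈ R, ∀ n ∈ N, r n ∈ N
  comm : ∀ r ∈ R, ∀ d ∈ D, d * (r d)⁻¹ ∈ N
  two : IsPGroup 2 ↥R
  four : ∃ a ∈ R, ∃ b ∈ R, a * a = 1 ∧ b * b = 1 ∧ a * b = b * a ∧ a ≠ 1 ∧ b ≠ 1 ∧ a ≠ b
  big : IsPGroup 2 ↥N → ∀ n ∈ N, MulAut.conj n ∈ R

/-- Additional property when all automorphisms of `K` are inner. -/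
def Inn (D N : Subgroup K) (R : Subgroup (MulAut K)) : Prop :=
  IsPGroup 2 ↥N → (∀ m ∈ N, ∀ n ∈ N, m * n = n * m) → (∀ r ∈ R, ∃ n ∈ N, r = MulAut.conj n) →
    ∀ d ∈ D, d * d = 1 → ∀ n ∈ N, d * n = n * d

/-- an automorphism group of order four (two commuting involutions) acts on an odd group: some involution has a
nontrivial fixed point -/
theorem eq_bot_of_four [Finite K] {Y : Subgroup K} {a b : MulAut K}
    (ha : a * a = 1) (hb : b * b = 1)
    (haY : ∀ y ∈ Y, a y ∈ Y) (hbY : ∀ y ∈ Y, b y ∈ Y)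
    (h1 : ∀ y ∈ Y, a y = y → y = 1) (h2 : ∀ y ∈ Y, b y = y → y = 1) (h3 : ∀ y ∈ Y, a (b y) = y → y = 1) :
    Y = ⊥ := by
  -- a fixed-point-free involution inverts
  have inv : ∀ c : MulAut K, c * c = 1 → (∀ y ∈ Y, c y ∈ Y) → (∀ y ∈ Y, c y = y → y = 1) →
      ∀ y ∈ Y, c y = y⁻¹ := by
    intro c hc hcY hfix
    have hcc : ∀ y : K, c (c y) = y := fun y => by
      have := congrArg (fun f : MulAut K => f y) hc
      exact this
    let f : ↥Y → ↥Y := fun y => ⟨(y : K)⁻¹ * c y, Y.mul_mem (Y.inv_mem y.2) (hcY _ y.2)⟩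
    have hf : Function.Injective f := by
      intro x y hxy
      have h4 : (x : K)⁻¹ * c x = (y : K)⁻¹ * c y := congrArg Subtype.val hxy
      have h5 : c ((x : K) * (y : K)⁻¹) = x * (y : K)⁻¹ := by
        rw [map_mul, map_inv]
        have h6 : c (x : K) = x * ((y : K)⁻¹ * c y) := by rw [← h4]; group
        rw [h6]
        group
      have h6 := hfix _ (Y.mul_mem x.2 (Y.inv_mem y.2)) h5
      exact Subtype.ext (mul_inv_eq_one.mp h6)
    have hs : Function.Surjective f := Finite.injective_iff_surjective.mp hf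
    intro y hy
    obtain ⟨x, hx⟩ := hs ⟨y, hy⟩
    have hx' : (x : K)⁻¹ * c x = y := congrArg Subtype.val hx
    rw [← hx', map_mul, map_inv, hcc]
    group
  have ia := inv a ha haY h1
  have ib := inv b hb hbY h2
  rw [eq_bot_iff]
  intro y hy
  rw [mem_bot]
  apply h3 y hy
  rw [ib y hy, map_inv, ia y hy, inv_inv]

/-- the condition on `K`: no odd normal subgroup in the centralizer of an automorphism of order 2 from the family
`F` -/
def NoCore (R : Subgroup (MulAut K)) : Prop :=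
  ∀ r ∈ R, r * r = 1 → r ≠ 1 → ∀ Y : Subgroup K, (∀ y ∈ Y, r y = y) →
    (∀ k, r k = k → ∀ y ∈ Y, k * y * k⁻¹ ∈ Y) → Odd (Nat.card ↥Y) → Y = ⊥

variable {D N : Subgroup K} {R : Subgroup (MulAut K)}

theorem conj_mul_self {y : K} (h : y * y = 1) : MulAut.conj y * MulAut.conj y = 1 := by
  rw [← map_mul, h, map_one]

theorem Pair.core [Finite K] (h : Pair D N R) (hR : NoCore R) {Y : Subgroup K}
    (hY : ∀ d ∈ D, ∀ y ∈ Y, d * y * d⁻¹ ∈ Y) (hRY : ∀ r ∈ R, ∀ y ∈ Y, r y ∈ Y) (ho : Odd (Nat.card ↥Y)) :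
    Y = ⊥ := by
  obtain ⟨a, haR, b, hbR, ha, hb, hab, ha1, hb1, hne⟩ := h.four
  have key : ∀ r ∈ R, r * r = 1 → r ≠ 1 → ∀ y ∈ Y, r y = y → y = 1 := by
    intro r hr hrr hr1 y hy hry
    let Z : Subgroup K :=
      { carrier := {y | y ∈ Y ∧ r y = y}
        one_mem' := ⟨Y.one_mem, map_one _⟩
        mul_mem' := by
          rintro x y ⟨hx, hx'⟩ ⟨hy, hy'⟩
          exact ⟨Y.mul_mem hx hy, by rw [map_mul, hx', hy']⟩
        inv_mem' := by
          rintro x ⟨hx, hx'⟩
          exact ⟨Y.inv_mem hx, by rw [map_inv, hx']⟩ }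
    have hZ : Z = ⊥ := by
      apply hR r hr hrr hr1 Z (fun y hy => hy.2)
      · rintro k hk y ⟨hy, hy'⟩
        exact ⟨hY k (h.centR r hr hrr hr1 k hk) y hy, by rw [map_mul, map_mul, map_inv, hk, hy']⟩
      · have hle : Z ≤ Y := fun y hy => hy.1
        exact Odd.of_dvd_nat ho (card_dvd_of_le hle)
    have : y ∈ Z := ⟨hy, hry⟩
    rw [hZ, mem_bot] at this
    exact this
  have hab1 : a * b ≠ 1 := by
    intro h1
    apply hne
    calc a = a * (b * b) := by rw [hb, mul_one]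
      _ = (a * b) * b := by rw [mul_assoc]
      _ = b := by rw [h1, one_mul]
  have habab : (a * b) * (a * b) = 1 := by
    calc (a * b) * (a * b) = (a * b) * (b * a) := by rw [hab]
      _ = a * (b * b) * a := by simp only [mul_assoc]
      _ = 1 := by rw [hb, mul_one, ha]
  exact eq_bot_of_four ha hb (hRY a haR) (hRY b hbR) (key a haR ha ha1) (key b hbR hb hb1)
    (key (a * b) (R.mul_mem haR hbR) habab hab1)

/-- if the involution `w` of `N` has centralizer `{1, w}` in `N` then `N = {1, w}` -/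
theorem Pair.eq_pair [Finite K] (h : Pair D N R) (hR : NoCore R) {w : K} (hw : w ∈ N) (hww : w * w = 1)
    (hw1 : w ≠ 1) (hc : ∀ x ∈ N, x * w = w * x → x = 1 ∨ x = w) : ∀ x ∈ N, x = 1 ∨ x = w := by
  classical
  have h4 : ¬ 4 ∣ Nat.card (centralizer ({(⟨w, hw⟩ : ↥N)} : Set ↥N)) := by
    intro h4
    have h5 : Nat.card (centralizer ({(⟨w, hw⟩ : ↥N)} : Set ↥N)) ≤ Nat.card Bool := by
      apply Nat.card_le_card_of_injective
        (fun e : ↥(centralizer ({(⟨w, hw⟩ : ↥N)} : Set ↥N)) => decide (((e : ↥N) : K) = 1))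
      intro a b hab
      have hab' : ((a : ↥N) : K) = 1 ↔ ((b : ↥N) : K) = 1 := decide_eq_decide.1 hab
      have mem : ∀ a : ↥(centralizer ({(⟨w, hw⟩ : ↥N)} : Set ↥N)), ((a : ↥N) : K) = 1 ∨ ((a : ↥N) : K) = w := by
        intro a
        apply hc _ a.1.2
        have := mem_centralizer_singleton_iff.mp a.2
        have := congrArg Subtype.val this
        exact this
      apply Subtype.ext
      apply Subtype.ext
      by_cases ha : ((a : ↥N) : K) = 1
      · rw [ha, hab'.1 ha]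
      · rw [(mem a).resolve_left ha, (mem b).resolve_left (fun e => ha (hab'.2 e))]
    have h6 : Nat.card Bool = 2 := by simp
    rw [h6] at h5
    have h7 : 0 < Nat.card (centralizer ({(⟨w, hw⟩ : ↥N)} : Set ↥N)) := Nat.card_pos
    obtain ⟨m, hm⟩ := h4
    omega
  obtain ⟨Y, hYn, hYo, hYi, hY⟩ := Cfsg.Agent.Lib.InvolutionKernel.exists_odd_index_two
    (t := (⟨w, hw⟩ : ↥N)) (Subtype.ext hww) (fun e => hw1 (congrArg Subtype.val e)) h4
  let Z : Subgroup K := Y.map N.subtype
  have memZ : ∀ {g : K}, g ∈ Z ↔ g ∈ N ∧ Odd (orderOf g) := by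
    intro g
    constructor
    · rintro ⟨x, hx, rfl⟩
      refine ⟨x.2, ?_⟩
      have := (hY x).1 hx
      rwa [← Subgroup.orderOf_coe] at this
    · rintro ⟨h5, h6⟩
      refine ⟨⟨g, h5⟩, (hY _).2 ?_, rfl⟩
      rwa [← Subgroup.orderOf_coe]
  have hZc : Nat.card Z = Nat.card Y :=
    Nat.card_congr (Y.equivMapOfInjective N.subtype N.subtype_injective).symm.toEquiv
  have oconj : ∀ (f : MulAut K) (g : K), orderOf (f g) = orderOf g := fun f g =>
    orderOf_injective f.toMonoidHom f.injective g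
  have hZ : Z = ⊥ := by
    apply h.core hR
    · intro d hd y hy
      rw [memZ] at hy ⊢
      refine ⟨h.norm d hd y hy.1, ?_⟩
      have := oconj (MulAut.conj d) y
      rw [MulAut.conj_apply] at this
      rw [this]; exact hy.2
    · intro r hr y hy
      rw [memZ] at hy ⊢
      exact ⟨h.mapN r hr y hy.1, by rw [oconj]; exact hy.2⟩
    · rw [hZc]; exact hYo
  have hYb : Nat.card Y = 1 := by rw [← hZc, hZ, card_bot]
  have hN : Nat.card ↥N = 2 := by
    have := Y.card_mul_index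
    rw [hYb, hYi, one_mul] at this
    exact this.symm
  intro x hx
  by_contra hcon
  push Not at hcon
  let f : Fin 3 → ↥N := ![1, ⟨w, hw⟩, ⟨x, hx⟩]
  have hf : Function.Injective f := by
    intro i j hij
    have hij' : ((f i : ↥N) : K) = f j := by rw [hij]
    fin_cases i <;> fin_cases j <;> simp [f] at hij' ⊢
    · exact absurd hij'.symm hw1
    · exact absurd hij'.symm hcon.1
    · exact absurd hij' hw1
    · exact absurd hij'.symm hcon.2
    · exact absurd hij' hcon.1
    · exact absurd hij' hcon.2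
  have := Nat.card_le_card_of_injective f hf
  rw [hN] at this
  simp at this

/-- if `N` has no involution then `N = 1` -/
theorem Pair.eq_bot [Finite K] (h : Pair D N R) (hR : NoCore R) (hN : ∀ n ∈ N, n * n = 1 → n = 1) : N = ⊥ := by
  apply h.core hR h.norm h.mapN
  rw [← Nat.not_even_iff_odd]
  intro he
  have : Fact (Nat.Prime 2) := ⟨Nat.prime_two⟩
  obtain ⟨u, hu⟩ := exists_prime_orderOf_dvd_card' (G := ↥N) 2 (even_iff_two_dvd.mp he)
  have h1 : (u : K) * u = 1 := by
    have : u * u = 1 := by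
      rw [← pow_two, ← hu]
      exact pow_orderOf_eq_one u
    exact congrArg Subtype.val this
  have h2 := hN u u.2 h1
  have h3 : u = 1 := Subtype.ext h2
  rw [h3, orderOf_one] at hu
  exact absurd hu (by norm_num)

/-- a subgroup `W` of `N` which is its own normalizer in `N`, abelian and a 2-group: then `N = W` -/
theorem Pair.eq_of_self_normalizing [Finite K] (h : Pair D N R) (hR : NoCore R) {W : Subgroup K} (hW : W ≤ N)
    (hW2 : IsPGroup 2 ↥W) (hWc : ∀ a ∈ W, ∀ b ∈ W, a * b = b * a)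
    (hself : ∀ x ∈ N, (∀ y ∈ W, x * y * x⁻¹ ∈ W) → x ∈ W) : N = W := by
  classical
  have : Fact (Nat.Prime 2) := ⟨Nat.prime_two⟩
  -- `W` is a Sylow subgroup of `N`
  have hp : IsPGroup 2 ↥(W.subgroupOf N) := hW2.comap_subtype
  obtain ⟨S, hS⟩ := hp.exists_le_sylow
  have hSW : (S : Subgroup ↥N) ≤ W.subgroupOf N := by
    by_contra hcon
    -- normalizers grow
    have hlt : (W.subgroupOf N).subgroupOf (S : Subgroup ↥N) < ⊤ := by
      rw [lt_top_iff_ne_top]
      intro htop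
      apply hcon
      rwa [subgroupOf_eq_top] at htop
    have : Group.IsNilpotent ↥(S : Subgroup ↥N) := S.isPGroup'.isNilpotent
    have hnc := Group.normalizerCondition_of_isNilpotent (G := ↥(S : Subgroup ↥N)) _ hlt
    obtain ⟨x, hx, hxW⟩ := SetLike.exists_of_lt hnc
    apply hxW
    rw [mem_subgroupOf, mem_subgroupOf]
    apply hself _ x.1.2
    intro y hy
    have hyS : (⟨y, hW hy⟩ : ↥N) ∈ (S : Subgroup ↥N) := hS (mem_subgroupOf.mpr hy)
    have h1 : (⟨⟨y, hW hy⟩, hyS⟩ : ↥(S : Subgroup ↥N)) ∈ (W.subgroupOf N).subgroupOf (S : Subgroup ↥N) := by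
      rw [mem_subgroupOf, mem_subgroupOf]; exact hy
    have h2 := (mem_normalizer_iff.mp hx _).mp h1
    rw [mem_subgroupOf, mem_subgroupOf] at h2
    exact h2
  have hSeq : (S : Subgroup ↥N) = W.subgroupOf N := le_antisymm hSW hS
  -- Burnside
  have hcen : normalizer ((S : Subgroup ↥N) : Set ↥N) ≤ centralizer ((S : Subgroup ↥N) : Set ↥N) := by
    intro x hx
    rw [hSeq] at hx ⊢
    have hxW : (x : K) ∈ W := by
      apply hself _ x.2
      intro y hy
      have h2 := (mem_normalizer_iff.mp hx ⟨y, hW hy⟩).mp (mem_subgroupOf.mpr hy)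
      rw [mem_subgroupOf] at h2
      exact h2
    rw [mem_centralizer_iff]
    intro y hy
    exact Subtype.ext (hWc _ (mem_subgroupOf.mp hy) _ hxW)
  have hcompl := MonoidHom.ker_transferSylow_isComplement' S hcen
  have hnot := MonoidHom.not_dvd_card_ker_transferSylow S hcen
  set T := MonoidHom.transferSylow S hcen with hT
  -- the kernel consists of the elements of odd order
  have mem1 : ∀ x : ↥N, x ∈ T.ker ↔ Odd (orderOf x) := by
    intro x
    constructor
    · intro hx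
      have h1 : orderOf (⟨x, hx⟩ : ↥T.ker) ∣ Nat.card ↥T.ker := orderOf_dvd_natCard _
      rw [Subgroup.orderOf_mk] at h1
      rw [← Nat.not_even_iff_odd, even_iff_two_dvd]
      exact fun h2 => hnot (h2.trans h1)
    · intro hx
      rw [MonoidHom.mem_ker]
      have h1 : orderOf (T x) ∣ orderOf x := orderOf_map_dvd T x
      obtain ⟨k, hk⟩ := S.isPGroup' (T x)
      have h2 : orderOf (T x) ∣ 2 ^ k := orderOf_dvd_of_pow_eq_one hk
      have h3 : Odd (orderOf (T x)) := Odd.of_dvd_nat hx h1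
      have h4 : Nat.Coprime (orderOf (T x)) (2 ^ k) := Nat.Coprime.pow_right _ h3.coprime_two_right
      exact orderOf_eq_one_iff.mp (Nat.eq_one_of_dvd_coprimes h4 dvd_rfl h2)
  let Z : Subgroup K := T.ker.map N.subtype
  have memZ : ∀ {g : K}, g ∈ Z ↔ g ∈ N ∧ Odd (orderOf g) := by
    intro g
    constructor
    · rintro ⟨x, hx, rfl⟩
      refine ⟨x.2, ?_⟩
      have := (mem1 x).1 hx
      rwa [← Subgroup.orderOf_coe] at this
    · rintro ⟨h5, h6⟩
      refine ⟨⟨g, h5⟩, (mem1 _).2 ?_, rfl⟩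
      rwa [← Subgroup.orderOf_coe]
  have hZc : Nat.card Z = Nat.card T.ker :=
    Nat.card_congr (T.ker.equivMapOfInjective N.subtype N.subtype_injective).symm.toEquiv
  have oconj : ∀ (f : MulAut K) (g : K), orderOf (f g) = orderOf g := fun f g =>
    orderOf_injective f.toMonoidHom f.injective g
  have hZ : Z = ⊥ := by
    apply h.core hR
    · intro d hd y hy
      rw [memZ] at hy ⊢
      refine ⟨h.norm d hd y hy.1, ?_⟩
      have := oconj (MulAut.conj d) y
      rw [MulAut.conj_apply] at this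
      rw [this]; exact hy.2
    · intro r hr y hy
      rw [memZ] at hy ⊢
      exact ⟨h.mapN r hr y hy.1, by rw [oconj]; exact hy.2⟩
    · rw [hZc, ← Nat.not_even_iff_odd, even_iff_two_dvd]; exact hnot
  have hker : T.ker = ⊥ := by
    rw [eq_bot_iff]
    intro x hx
    have h1 : (x : K) ∈ Z := ⟨x, hx, rfl⟩
    rw [hZ, mem_bot] at h1
    exact Subtype.ext h1
  have hS' : (S : Subgroup ↥N) = ⊤ := by
    rw [hker] at hcompl
    exact (isComplement'_bot_left).mp hcompl
  apply le_antisymm _ hW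
  intro x hx
  have h1 : (⟨x, hx⟩ : ↥N) ∈ (S : Subgroup ↥N) := by rw [hS']; trivial
  rw [hSeq, mem_subgroupOf] at h1
  exact h1

end Cfsg.Agent.OddHalf.D4.KPair
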