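import Mathlib
import Cfsg.Agent.OddHalf.D4.Exists
import Cfsg.Agent.OddHalf.D4.KP
import Cfsg.Agent.OddHalf.D4.KPair

/-!
# ODD, D4: from `G` to the pair inside `K`

`row_of_pair`: `K` standard and simple with `m_2(C(K)) ≥ 2` gives a pair (`KPair.Pair`); no hypothesis on the centre of
the Sylow 2-subgroup of `K`. `InnSyl` is (F1).
-/

set_option autoImplicit false

namespace Cfsg.Agent.OddHalf.D4.KPairG

open Cfsg Subgroup Cfsg.Agent.OddHalf.D4 Cfsg.Agent.OddHalf.D4.Basic Cfsg.Agent.OddHalf.D4.EvenPair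
open Cfsg.Agent.OddHalf.D4.CommConj (Tight MaxE cj mem_cj mem_cj_mul)

/-- (F1): automorphisms of 2-power order centralizing a Sylow 2-subgroup are inner. -/
def InnSyl (X : Type*) [Group X] : Prop :=
  ∀ (S : Sylow 2 X) (φ : MulAut X), (∃ k : ℕ, φ ^ 2 ^ k = 1) → (∀ s ∈ S, φ s = s) → ∃ s ∈ S, φ = MulAut.conj s

/-- (F1) holds if all automorphisms are inner. -/
theorem innSyl_of_inner {X : Type*} [Group X] [Finite X] (hZ : ∀ z : X, (∀ x, x * z = z * x) → z = 1)
    (h : ∀ α : MulAut X, ∃ k, α = MulAut.conj k) : InnSyl X := by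
  rintro S φ ⟨n, hn⟩ hφ
  obtain ⟨k, rfl⟩ := h φ
  refine ⟨k, ?_, rfl⟩
  -- `k` is a 2-element centralizing `S`
  have hk : k ^ 2 ^ n = 1 := by
    apply hZ
    intro x
    rw [← map_pow] at hn
    have h1 : MulAut.conj (k ^ 2 ^ n) x = x := by rw [hn]; rfl
    rw [MulAut.conj_apply, mul_inv_eq_iff_eq_mul] at h1
    exact h1.symm
  have hkp : IsPGroup 2 ↥(zpowers k) := by
    have : Fact (Nat.Prime 2) := ⟨Nat.prime_two⟩
    rw [IsPGroup.iff_card]
    obtain ⟨m, -, hm⟩ := (Nat.dvd_prime_pow Nat.prime_two).mp (orderOf_dvd_of_pow_eq_one hk)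
    exact ⟨m, by rw [Nat.card_zpowers, hm]⟩
  have hnorm : zpowers k ≤ normalizer ((S : Subgroup X) : Set X) := by
    rw [zpowers_le, mem_normalizer_iff]
    have h1 : ∀ s ∈ S, k * s * k⁻¹ = s := fun s hs => hφ s hs
    intro x
    constructor
    · intro hx
      rw [h1 x hx]; exact hx
    · intro hx
      have h2 := h1 _ hx
      have h3 : k * x * k⁻¹ = x := mul_left_cancel (mul_right_cancel h2)
      rw [h3] at hx; exact hx
  have h2 : IsPGroup 2 ↥((S : Subgroup X) ⊔ zpowers k) := S.2.to_sup_of_normal_left' hkp hnorm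
  have h3 := S.3 h2 le_sup_left
  have h4 : k ∈ (S : Subgroup X) := by
    rw [← h3]
    exact mem_sup_right (mem_zpowers k)
  exact h4

variable {G : Type*} [Group G]

/-- The action on `K` of an element of `N(K)`. -/
theorem act_coe {K : Subgroup G} (y : ↥(normalizer (K : Set G))) (x : ↥K) :
    ((K.normalizerMonoidHom y x : ↥K) : G) = (y : G) * x * (y : G)⁻¹ := rfl

theorem innerIn [Finite G] {K : Subgroup G} (h : InnSyl ↥K) {T : Subgroup G}
    (hT : IsSyl T (normalizer (K : Set G))) {y : G} (hy : y ∈ T) (hc : ∀ s ∈ T, s ∈ K → s * y = y * s) :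
    ∃ k ∈ centralizer (K : Set G), ∃ s ∈ T, s ∈ K ∧ (∀ u ∈ T, u ∈ K → u * s = s * u) ∧ y = k * s := by
  obtain ⟨S, hS⟩ : ∃ S : Sylow 2 ↥K, ∀ x : ↥K, x ∈ S ↔ (x : G) ∈ T := by
    have h1 : IsSyl (T ⊓ K) K := hT.inf le_normalizer hT.le
    obtain ⟨S, hS⟩ := h1.toSylow
    refine ⟨S, ?_⟩
    intro x
    have : x ∈ S ↔ x ∈ (S : Subgroup ↥K) := Iff.rfl
    rw [this, hS, mem_subgroupOf, mem_inf]
    exact ⟨fun h => h.1, fun h => ⟨h, x.2⟩⟩
  obtain ⟨n, hn⟩ := hT.two ⟨y, hy⟩
  have hn' : y ^ 2 ^ n = 1 := congrArg Subtype.val hn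
  let y' : ↥(normalizer (K : Set G)) := ⟨y, hT.le hy⟩
  have hy' : y' ^ 2 ^ n = 1 := Subtype.ext hn'
  obtain ⟨s, hs, hφ⟩ := h S (K.normalizerMonoidHom y') ⟨n, by rw [← map_pow, hy', map_one]⟩ (by
    intro s hs
    apply Subtype.ext
    rw [act_coe]
    have h1 := hc s ((hS s).mp hs) s.2
    show y * (s : G) * y⁻¹ = s
    rw [← h1]; group)
  have hact : ∀ x ∈ K, y * x * y⁻¹ = (s : G) * x * (s : G)⁻¹ := by
    intro x hx
    have h1 := congrArg (fun f : MulAut ↥K => ((f ⟨x, hx⟩ : ↥K) : G)) hφ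
    simpa [act_coe] using h1
  have hsT : (s : G) ∈ T := (hS s).mp hs
  refine ⟨y * (s : G)⁻¹, ?_, s, hsT, s.2, ?_, by group⟩
  · rw [mem_centralizer_iff]
    intro x hx
    have h1 := hact ((s : G)⁻¹ * x * s) (K.mul_mem (K.mul_mem (K.inv_mem s.2) hx) s.2)
    have h2 : y * ((s : G)⁻¹ * x * s) * y⁻¹ = x := by rw [h1]; group
    calc x * (y * (s : G)⁻¹) = (y * ((s : G)⁻¹ * x * s) * y⁻¹) * (y * (s : G)⁻¹) := by rw [h2]
      _ = y * (s : G)⁻¹ * x := by group
  · intro u hu huK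
    have h1 := hact u huK
    have h2 := hc u hu huK
    have h3 : y * u * y⁻¹ = u := by rw [← h2]; group
    rw [h3] at h1
    calc u * (s : G) = ((s : G) * u * (s : G)⁻¹) * s := by rw [← h1]
      _ = (s : G) * u := by group

/-- Existence of a full pair. -/
theorem exists_fullPair [Finite G] [IsSimpleGroup G] (h1173 : H1173 G) {K : Subgroup G}
    (tight : TightAt K) (even : Even (Nat.card ↥(centralizer (K : Set G))))
    (cen : ∀ x ∈ K, x ∈ centralizer (K : Set G) → x = 1) (hF : InnSyl ↥K)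
    (hKne : K ≠ ⊥) (hKp : ⁅K, K⁆ = K) : ∃ L Q U : Subgroup G, FullPair K L Q U := by
  have hcomm : ∀ k ∈ K, ∀ c ∈ centralizer (K : Set G), k * c = c * k :=
    fun k hk c hc => mem_centralizer_iff.mp hc k hk
  obtain ⟨g, hg, r, hr, hr2, hrg⟩ := exists_even h1173 tight even hKne hKp hcomm
  obtain ⟨E, hE⟩ := tight.exists_maxE hg hr hr2 hrg
  obtain ⟨L, Q, U, hF, -, -⟩ := Exists.fullPair_of_maxE tight cen
    (fun T hT y hy hc => innerIn hF hT hy hc) hE
  exact ⟨L, Q, U, hF⟩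

variable [Finite G] {K L Q U : Subgroup G}

/-- the automorphisms of `K` induced by `U` -/
def RR (K U : Subgroup G) : Subgroup (MulAut ↥K) :=
  (U.subgroupOf (normalizer (K : Set G))).map K.normalizerMonoidHom

omit [Finite G] in
theorem mem_RR {r : MulAut ↥K} : r ∈ RR K U ↔ ∃ u : G, ∃ hu : u ∈ normalizer (K : Set G), u ∈ U ∧
    K.normalizerMonoidHom ⟨u, hu⟩ = r := by
  constructor
  · rintro ⟨⟨u, hu⟩, hu', rfl⟩
    exact ⟨u, hu, hu', rfl⟩
  · rintro ⟨u, hu, hu', rfl⟩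
    exact ⟨⟨u, hu⟩, hu', rfl⟩

omit [Finite G] in
theorem mem_cent_of_act {u : G} {hu : u ∈ normalizer (K : Set G)}
    (h : K.normalizerMonoidHom ⟨u, hu⟩ = 1) : u ∈ centralizer (K : Set G) := by
  rw [mem_centralizer_iff]
  intro k hk
  have h2 := act_coe ⟨u, hu⟩ ⟨k, hk⟩
  rw [h] at h2
  have h3 : k = u * k * u⁻¹ := h2
  calc k * u = (u * k * u⁻¹) * u := by rw [← h3]
    _ = u * k := by group

/-- a 2-element in `C(K) ∩ C(L)` is trivial -/
theorem FullPair.two_trivial (h : FullPair K L Q U) (ht : TightAt K) {u : G} (hu : u ∈ centralizer (K : Set G))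
    (huL : u ∈ centralizer (L : Set G)) (h2 : ∃ k : ℕ, u ^ 2 ^ k = 1) : u = 1 := by
  by_contra hu1
  obtain ⟨k, hk⟩ := h2
  have hp : IsPGroup 2 ↥(zpowers u) := by
    have : Fact (Nat.Prime 2) := ⟨Nat.prime_two⟩
    rw [IsPGroup.iff_card]
    obtain ⟨m, -, hm⟩ := (Nat.dvd_prime_pow Nat.prime_two).mp (orderOf_dvd_of_pow_eq_one hk)
    exact ⟨m, by rw [Nat.card_zpowers, hm]⟩
  obtain ⟨v, hv, hv2⟩ := exists_invol_of_two hp (by
    intro h1
    apply hu1
    have h2 : u ∈ zpowers u := mem_zpowers u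
    rw [h1, mem_bot] at h2
    exact h2)
  have h1 : zpowers u ≤ centralizer (K : Set G) := by rw [zpowers_le]; exact hu
  have h2 : zpowers u ≤ centralizer (L : Set G) := by rw [zpowers_le]; exact huL
  exact h.noInv ht (h1 hv) (h2 hv) hv2

/-- injectivity of the action of `U` on `K` -/
theorem FullPair.act_inj (h : FullPair K L Q U) (ht : TightAt K) {u v : G} (hu : u ∈ normalizer (K : Set G))
    (hv : v ∈ normalizer (K : Set G)) (huU : u ∈ U) (hvU : v ∈ U)
    (he : K.normalizerMonoidHom ⟨u, hu⟩ = K.normalizerMonoidHom ⟨v, hv⟩) : u = v := by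
  have h1 : v⁻¹ * u ∈ centralizer (K : Set G) := by
    apply mem_cent_of_act (hu := mul_mem (inv_mem hv) hu)
    have h2 : (⟨v⁻¹ * u, mul_mem (inv_mem hv) hu⟩ : ↥(normalizer (K : Set G))) = ⟨v, hv⟩⁻¹ * ⟨u, hu⟩ := rfl
    rw [h2, map_mul, map_inv, he, inv_mul_cancel]
  have h2 := FullPair.two_trivial h ht h1 (h.sylU.le (mul_mem (inv_mem hvU) huU)) (by
    obtain ⟨k, hk⟩ := h.sylU.two ⟨v⁻¹ * u, mul_mem (inv_mem hvU) huU⟩
    exact ⟨k, congrArg Subtype.val hk⟩)
  exact (inv_mul_eq_one.mp h2).symm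

/-- **the pair inside `K`** -/
theorem FullPair.pair (h : FullPair K L Q U) (ht : TightAt K) (he : Even (Nat.card ↥(centralizer (K : Set G))))
    (hr : Rk2 L) (hne : ¬ K ≤ normalizer (L : Set G)) :
    KPair.Pair ((normalizer (L : Set G)).subgroupOf K) ((centralizer (L : Set G)).subgroupOf K) (RR K U) := by
  have hUK := h.leU ht he
  refine ⟨?_, ?_, ?_, ?_, ?_, ?_, ?_, ?_, ?_, ?_, ?_⟩
  · intro h1
    apply hne
    rwa [subgroupOf_eq_top] at h1
  · intro x hx
    rw [mem_subgroupOf] at hx ⊢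
    exact centralizer_le_normalizer_self L hx
  · intro d hd n hn
    rw [mem_subgroupOf] at hd hn ⊢
    exact centralizer_conj_mem hd hn
  · intro n hn hnn hn1 k hk
    rw [mem_subgroupOf] at hn ⊢
    apply (h.tightL ht).mem hn
    · exact orderOf_eq_prime (by rw [pow_two]; exact congrArg Subtype.val hnn)
        (fun h1 => hn1 (Subtype.ext h1))
    · exact congrArg Subtype.val hk
  · rintro r hr hrr hr1 k hk
    obtain ⟨u, huK, huU, rfl⟩ := mem_RR.mp hr
    rw [mem_subgroupOf]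
    have huu : u * u = 1 := by
      apply FullPair.two_trivial h ht (mem_cent_of_act (u := u * u) (hu := mul_mem huK huK) ?_)
        (h.sylU.le (mul_mem huU huU)) ?_
      · have h2 : (⟨u * u, mul_mem huK huK⟩ : ↥(normalizer (K : Set G))) = ⟨u, huK⟩ * ⟨u, huK⟩ := rfl
        rw [h2, map_mul, hrr]
      · obtain ⟨k, hk⟩ := h.sylU.two ⟨u * u, mul_mem huU huU⟩
        exact ⟨k, congrArg Subtype.val hk⟩
    have hu1 : u ≠ 1 := by
      rintro rfl
      apply hr1
      have h2 : (⟨1, huK⟩ : ↥(normalizer (K : Set G))) = 1 := rfl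
      rw [h2, map_one]
    apply (h.tightL ht).mem (h.sylU.le huU) (orderOf_eq_prime (by rw [pow_two]; exact huu) hu1)
    have h3 := act_coe ⟨u, huK⟩ k
    rw [hk] at h3
    calc (k : G) * u = (u * k * u⁻¹) * u := by rw [← h3]
      _ = u * k := by group
  · rintro r hr d hd
    obtain ⟨u, huK, huU, rfl⟩ := mem_RR.mp hr
    rw [mem_subgroupOf] at hd ⊢
    rw [act_coe]
    have h3 := centralizer_le_normalizer_self L (h.sylU.le huU)
    exact mul_mem (mul_mem h3 hd) (inv_mem h3)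
  · rintro r hr n hn
    obtain ⟨u, huK, huU, rfl⟩ := mem_RR.mp hr
    rw [mem_subgroupOf] at hn ⊢
    rw [act_coe]
    have h3 := h.sylU.le huU
    exact mul_mem (mul_mem h3 hn) (inv_mem h3)
  · rintro r hr d hd
    obtain ⟨u, huK, huU, rfl⟩ := mem_RR.mp hr
    rw [mem_subgroupOf] at hd ⊢
    rw [Subgroup.coe_mul, Subgroup.coe_inv, act_coe]
    have h1 := (commutator_mem d.2 hd (h.sylU.le huU) huK).2
    have e : (d : G) * (u * d * u⁻¹)⁻¹ = (d : G) * u * (d : G)⁻¹ * u⁻¹ := by group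
    show (d : G) * (u * d * u⁻¹)⁻¹ ∈ centralizer (L : Set G)
    rw [e]; exact h1
  · have h1 : IsPGroup 2 ↥(U.subgroupOf (normalizer (K : Set G))) := h.sylU.two.comap_subtype
    exact h1.map _
  · obtain ⟨a, ha, b, hb, ha2, hb2, hab, hne⟩ := hr.exists_syl h.sylU
    have sq : ∀ x : G, orderOf x = 2 → x * x = 1 := fun x hx => by
      rw [← pow_two, ← hx]; exact pow_orderOf_eq_one x
    have n1 : ∀ x : G, orderOf x = 2 → x ≠ 1 := by
      rintro x hx rfl
      rw [orderOf_one] at hx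
      exact absurd hx (by norm_num)
    have act_sq : ∀ x (hx : x ∈ normalizer (K : Set G)), x * x = 1 →
        K.normalizerMonoidHom ⟨x, hx⟩ * K.normalizerMonoidHom ⟨x, hx⟩ = 1 := by
      intro x hx hxx
      rw [← map_mul]
      have h2 : (⟨x, hx⟩ * ⟨x, hx⟩ : ↥(normalizer (K : Set G))) = 1 := Subtype.ext hxx
      rw [h2, map_one]
    have act_ne : ∀ x (hx : x ∈ normalizer (K : Set G)), x ∈ U → x ≠ 1 → K.normalizerMonoidHom ⟨x, hx⟩ ≠ 1 := by
      intro x hx hxU hx1 h1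
      apply hx1
      apply FullPair.act_inj h ht hx (one_mem _) hxU (one_mem _)
      rw [h1]
      exact (map_one K.normalizerMonoidHom).symm
    refine ⟨_, mem_RR.mpr ⟨a, hUK ha, ha, rfl⟩, _, mem_RR.mpr ⟨b, hUK hb, hb, rfl⟩, act_sq _ _ (sq a ha2),
      act_sq _ _ (sq b hb2), ?_, act_ne _ _ ha (n1 a ha2), act_ne _ _ hb (n1 b hb2), ?_⟩
    · rw [← map_mul, ← map_mul]
      congr 1
      exact Subtype.ext hab
    · intro h1
      exact hne (FullPair.act_inj h ht _ _ ha hb h1)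
  · intro hN n hn
    rw [mem_subgroupOf] at hn
    -- `N U` is a 2-group
    let N' : Subgroup G := ((centralizer (L : Set G)).subgroupOf K).map K.subtype
    have hN' : IsPGroup 2 ↥N' := hN.map _
    have memN' : ∀ x, x ∈ N' ↔ x ∈ K ∧ x ∈ centralizer (L : Set G) := by
      intro x
      constructor
      · rintro ⟨y, hy, rfl⟩
        exact ⟨y.2, mem_subgroupOf.mp hy⟩
      · rintro ⟨h1, h2⟩
        exact ⟨⟨x, h1⟩, mem_subgroupOf.mpr h2, rfl⟩
    have hU : U ≤ normalizer (N' : Set G) := by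
      intro u hu
      apply mem_normalizer_fintype
      intro x hx
      rw [SetLike.mem_coe, memN'] at hx ⊢
      have h1 := h.sylU.le hu
      exact ⟨(mem_normalizer_iff.mp (hUK hu) x).mp hx.1, mul_mem (mul_mem h1 hx.2) (inv_mem h1)⟩
    have h2 : IsPGroup 2 ↥(N' ⊔ U) := hN'.to_sup_of_normal_left' h.sylU.two hU
    have h3 : N' ⊔ U ≤ U := h.sylU.max _ h2 le_sup_right
      (sup_le (fun x hx => ((memN' x).mp hx).2) h.sylU.le)
    have hnU : (n : G) ∈ U := h3 (mem_sup_left ((memN' _).mpr ⟨n.2, hn⟩))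
    rw [mem_RR]
    refine ⟨n, le_normalizer n.2, hnU, ?_⟩
    ext x
    rw [act_coe]
    rfl

/-- the additional property when all automorphisms of `K` are inner -/
theorem FullPair.inn (h : FullPair K L Q U) (ht : TightAt K) (he : Even (Nat.card ↥(centralizer (K : Set G))))
    (cen : ∀ x ∈ K, x ∈ centralizer (K : Set G) → x = 1)
    (hout : ∀ α : MulAut ↥K, ∃ k, α = MulAut.conj k) :
    KPair.Inn ((normalizer (L : Set G)).subgroupOf K) ((centralizer (L : Set G)).subgroupOf K) (RR K U) := by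
  intro hN2 hNc hRN d hd hdd n hn
  have hUK := h.leU ht he
  rw [mem_subgroupOf] at hd hn
  -- `N ≤ U`, hence `U = N`
  have hNU : ∀ x : ↥K, (x : G) ∈ centralizer (L : Set G) → (x : G) ∈ U := by
    intro x hx
    let N' : Subgroup G := ((centralizer (L : Set G)).subgroupOf K).map K.subtype
    have hN' : IsPGroup 2 ↥N' := hN2.map _
    have memN' : ∀ x, x ∈ N' ↔ x ∈ K ∧ x ∈ centralizer (L : Set G) := by
      intro x
      constructor
      · rintro ⟨y, hy, rfl⟩
        exact ⟨y.2, mem_subgroupOf.mp hy⟩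
      · rintro ⟨h1, h2⟩
        exact ⟨⟨x, h1⟩, mem_subgroupOf.mpr h2, rfl⟩
    have hU : U ≤ normalizer (N' : Set G) := by
      intro u hu
      apply mem_normalizer_fintype
      intro x hx
      rw [SetLike.mem_coe, memN'] at hx ⊢
      have h1 := h.sylU.le hu
      exact ⟨(mem_normalizer_iff.mp (hUK hu) x).mp hx.1, mul_mem (mul_mem h1 hx.2) (inv_mem h1)⟩
    have h2 : IsPGroup 2 ↥(N' ⊔ U) := hN'.to_sup_of_normal_left' h.sylU.two hU
    have h3 : N' ⊔ U ≤ U := h.sylU.max _ h2 le_sup_right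
      (sup_le (fun x hx => ((memN' x).mp hx).2) h.sylU.le)
    exact h3 (mem_sup_left ((memN' _).mpr ⟨x.2, hx⟩))
  have hUN : ∀ u ∈ U, u ∈ K := by
    intro u hu
    obtain ⟨m, hm, hmr⟩ := hRN _ (mem_RR.mpr ⟨u, hUK hu, hu, rfl⟩)
    have h1 := FullPair.act_inj h ht (hUK hu) (le_normalizer m.2) hu (hNU m (mem_subgroupOf.mp hm)) (by
      rw [hmr]
      ext x
      rw [act_coe]
      rfl)
    rw [h1]; exact m.2
  have hUab : ∀ u ∈ U, ∀ v ∈ U, u * v = v * u := by
    intro u hu v hv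
    have h1 := hNc ⟨u, hUN u hu⟩ (mem_subgroupOf.mpr (h.sylU.le hu)) ⟨v, hUN v hv⟩
      (mem_subgroupOf.mpr (h.sylU.le hv))
    exact congrArg Subtype.val h1
  -- `d = j l`
  obtain ⟨g, hg, hL⟩ := h.conj
  have hdL : ∃ l ∈ L, (d : G) * l⁻¹ ∈ centralizer (L : Set G) := by
    -- transport to `K`
    have h1 : g⁻¹ * (d : G) * g ∈ normalizer (K : Set G) := by
      rw [hL, normalizer_cj, mem_cj] at hd
      exact hd
    obtain ⟨k, hk⟩ := hout (K.normalizerMonoidHom ⟨_, h1⟩)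
    refine ⟨g * k * g⁻¹, by rw [hL]; exact mem_cj_mul k.2, ?_⟩
    have h2 : g⁻¹ * (d : G) * g * (k : G)⁻¹ ∈ centralizer (K : Set G) := by
      apply mem_cent_of_act (hu := mul_mem h1 (inv_mem (le_normalizer k.2)))
      have h3 : (⟨g⁻¹ * (d : G) * g * (k : G)⁻¹, mul_mem h1 (inv_mem (le_normalizer k.2))⟩ :
          ↥(normalizer (K : Set G))) = ⟨_, h1⟩ * ⟨(k : G), le_normalizer k.2⟩⁻¹ := rfl
      have h4 : K.normalizerMonoidHom ⟨(k : G), le_normalizer k.2⟩ = MulAut.conj k := by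
        ext x
        rw [act_coe]
        rfl
      rw [h3, map_mul, map_inv, hk, h4, mul_inv_cancel]
    rw [hL, centralizer_cj, mem_cj]
    have e : g⁻¹ * ((d : G) * (g * (k : G) * g⁻¹)⁻¹) * g = g⁻¹ * (d : G) * g * (k : G)⁻¹ := by group
    rw [e]; exact h2
  obtain ⟨l, hl, hj⟩ := hdL
  set j := (d : G) * l⁻¹ with hjdef
  have hd' : (d : G) = j * l := by rw [hjdef]; group
  have hjl : j * l = l * j := (mem_centralizer_iff.mp hj l hl).symm
  have cenL : ∀ x ∈ L, x ∈ centralizer (L : Set G) → x = 1 := by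
    intro x hx hxc
    rw [hL, mem_cj] at hx
    rw [hL, centralizer_cj, mem_cj] at hxc
    have h1 := cen _ hx hxc
    calc x = g * (g⁻¹ * x * g) * g⁻¹ := by group
      _ = 1 := by rw [h1]; group
  have hjj : j * j = 1 := by
    have h1 : (d : G) * d = 1 := congrArg Subtype.val hdd
    rw [hd'] at h1
    have h2 : j * j = (l * l)⁻¹ := by
      apply eq_inv_of_mul_eq_one_left
      calc j * j * (l * l) = j * (j * l) * l := by group
        _ = j * (l * j) * l := by rw [hjl]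
        _ = j * l * (j * l) := by group
        _ = 1 := h1
    have h3 : (l * l)⁻¹ = 1 := by
      apply cenL _ (L.inv_mem (L.mul_mem hl hl))
      rw [← h2]
      exact mul_mem hj hj
    rw [h2, h3]
  -- `j` normalizes `U`
  have hjU : ∀ u ∈ U, j * u * j⁻¹ ∈ U := by
    intro u hu
    have h1 : j * u * j⁻¹ = (d : G) * u * (d : G)⁻¹ := by
      have h2 : j = (d : G) * l⁻¹ := hjdef
      have h3 : l⁻¹ * u = u * l⁻¹ := by
        have h4 := mem_centralizer_iff.mp (h.sylU.le hu) l⁻¹ (L.inv_mem hl)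
        exact h4
      rw [h2]
      calc (d : G) * l⁻¹ * u * ((d : G) * l⁻¹)⁻¹ = (d : G) * (l⁻¹ * u) * l * (d : G)⁻¹ := by group
        _ = (d : G) * (u * l⁻¹) * l * (d : G)⁻¹ := by rw [h3]
        _ = _ := by group
    rw [h1]
    have h2 : (d : G) * u * (d : G)⁻¹ ∈ K := K.mul_mem (K.mul_mem d.2 (hUN u hu)) (K.inv_mem d.2)
    exact hNU ⟨_, h2⟩ (centralizer_conj_mem hd (h.sylU.le hu))
  have hjmem : j ∈ U := by
    have hjp : IsPGroup 2 ↥(zpowers j) := by
      have : Fact (Nat.Prime 2) := ⟨Nat.prime_two⟩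
      rw [IsPGroup.iff_card]
      obtain ⟨m, -, hm⟩ := (Nat.dvd_prime_pow Nat.prime_two).mp
        (orderOf_dvd_of_pow_eq_one (x := j) (n := 2 ^ 1) (by rw [pow_one, pow_two]; exact hjj))
      exact ⟨m, by rw [Nat.card_zpowers, hm]⟩
    have hnor : zpowers j ≤ normalizer (U : Set G) := by
      rw [zpowers_le]
      apply mem_normalizer_fintype
      intro x hx
      exact hjU x hx
    have h2 : IsPGroup 2 ↥(U ⊔ zpowers j) := h.sylU.two.to_sup_of_normal_left' hjp hnor
    have h3 := h.sylU.max _ h2 le_sup_left (sup_le h.sylU.le (by rw [zpowers_le]; exact hj))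
    exact h3 (mem_sup_right (mem_zpowers j))
  apply Subtype.ext
  show (d : G) * n = n * d
  have hnU := hNU n hn
  have h1 := hUab j hjmem n hnU
  have h2 : (l : G) * n = n * l := mem_centralizer_iff.mp hn l hl
  rw [hd']
  calc j * l * n = j * (l * n) := by group
    _ = j * (n * l) := by rw [h2]
    _ = (j * n) * l := by group
    _ = (n * j) * l := by rw [h1]
    _ = n * (j * l) := by group

/-- **The kill.** `K` standard and simple, `m_2(C(K)) ≥ 2`: it is enough to exclude pairs inside `K`. -/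
theorem false_of_pair [IsSimpleGroup G] (h1173 : H1173 G) (hK : IsStandardSubgroup K) (hs : IsSimpleGroup ↥K)
    (cen : ∀ x ∈ K, x ∈ centralizer (K : Set G) → x = 1) (hrk : ¬ PRankLE 2 1 ↥(centralizer (K : Set G)))
    (hF : InnSyl ↥K)
    (kill : ∀ (D N : Subgroup ↥K) (R : Subgroup (MulAut ↥K)), KPair.Pair D N R →
      ((∀ α : MulAut ↥K, ∃ k, α = MulAut.conj k) → KPair.Inn D N R) → False) : False := by
  have ht := tight_of_standard hK
  have he : Even (Nat.card ↥(centralizer (K : Set G))) := hK.2.1.1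
  have hKne : K ≠ ⊥ := by
    rintro rfl
    exact absurd (inferInstance : Subsingleton (↥(⊥ : Subgroup G))) (not_subsingleton_iff_nontrivial.mpr
      hs.toNontrivial)
  have hKp : ⁅K, K⁆ = K := by
    have := hK.1.1
    exact Subgroup.commutator_eq_self (H := K)
  obtain ⟨L, Q, U, hFP⟩ := exists_fullPair h1173 ht he cen hF hKne hKp
  have hr : Rk2 K := by
    obtain ⟨a, b, ha, hb, ha2, hb2, hab, hne⟩ := exists_two_of_not_pRankLE hrk
    exact ⟨a, b, ha, hb, ha2, hb2, hab, hne⟩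
  have hrL : Rk2 L := by
    obtain ⟨g, _, rfl⟩ := hFP.conj
    exact hr.cj g
  have hne : ¬ K ≤ normalizer (L : Set G) := by
    intro hKL
    -- `K ∩ C(L)` is normal in `K`
    have hn : ((centralizer (L : Set G)).subgroupOf K).Normal := by
      refine ⟨?_⟩
      intro n hn g
      rw [mem_subgroupOf] at hn ⊢
      exact centralizer_conj_mem (hKL g.2) hn
    rcases hn.eq_bot_or_eq_top with h1 | h1
    · -- `U ≤ C(K)`
      obtain ⟨y, hy, _, _, hy2, _, _, _⟩ := hrL.exists_syl hFP.sylU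
      have hyK := hFP.leU ht he hy
      apply hFP.noInv ht (k := y) _ (hFP.sylU.le hy) hy2
      rw [mem_centralizer_iff]
      intro k hk
      have h2 := commutator_mem hk (hKL hk) (hFP.sylU.le hy) hyK
      have h3 : (⟨k * y * k⁻¹ * y⁻¹, h2.1⟩ : ↥K) ∈ (centralizer (L : Set G)).subgroupOf K :=
        mem_subgroupOf.mpr h2.2
      rw [h1, mem_bot] at h3
      have h4 : k * y * k⁻¹ * y⁻¹ = 1 := congrArg Subtype.val h3
      calc k * y = (k * y * k⁻¹ * y⁻¹) * (y * k) := by group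
        _ = y * k := by rw [h4, one_mul]
    · -- `K` commutes with `L`
      rw [subgroupOf_eq_top] at h1
      obtain ⟨g, hg, hL⟩ := hFP.conj
      apply hK.2.2.1 g
      · intro h2
        exact hFP.ne (hL.trans h2)
      · rw [commutator_eq_bot_iff_le_centralizer]
        have h2 : K ≤ centralizer ((cj g K : Subgroup G) : Set G) := by rw [← hL]; exact h1
        exact h2
  exact kill _ _ _ (FullPair.pair hFP ht he hrL hne) (FullPair.inn hFP ht he cen)

end Cfsg.Agent.OddHalf.D4.KPairG
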