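import Cfsg.Agent.OddHalf.D4.SpFourSwapQ

/-!
# ODD D4, `Sp₄(q)`, `|Q| ≥ 4`: both layers cannot exist (bb ODD #8684 (B6)-(B9), final form #10764).

`q' s = na q(s) na⁻¹`, `p' u = nb p(u) nb⁻¹`.

* `half`: with `S`, `L` and the ratio property of `S`: `b t + e' √(b t) = k a t`, `k ≠ 0`, `S.c = 0`, `L.c = S.e k`.
* `core`: `half` for `B` and for `swap B` gives `e = e' = 0`, so `a t = k k'` for all `t ≠ 1`, a contradiction.
-/

set_option autoImplicit false

namespace Cfsg.Agent.OddHalf.D4.SpFourCore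

open Cfsg.Agent.StdSpFour Cfsg.Agent.StdSpFour.Comm Cfsg.Agent.StdSpFour.Swap Subgroup
open Cfsg.Agent.OddHalf.D4.SpFourDefs Cfsg.Agent.OddHalf.D4.SpFourSwapQ

variable {F G : Type*} [Field F] [Group G]

/-! ### congruence modulo `Z` -/

section cong

variable (B : Base F G)

/-- commutes with `Z` -/
def CZ (g : G) : Prop := ∀ z ∈ Z B, Commute g z

variable {B}

theorem CZ.mk {g : G} (h1 : ∀ u, Commute g (B.zs u)) (h2 : ∀ u, Commute g (B.zl u)) : CZ B g := by
  rintro _ ⟨m, r, rfl⟩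
  exact (h1 m).mul_right (h2 r)

theorem CZ.mul {g h : G} (hg : CZ B g) (hh : CZ B h) : CZ B (g * h) := fun z hz => (hg z hz).mul_left (hh z hz)
theorem CZ.inv {g : G} (hg : CZ B g) : CZ B g⁻¹ := fun z hz => (hg z hz).inv_left
theorem CZ.of_mem {g : G} (hg : g ∈ Z B) : CZ B g := by
  obtain ⟨m, r, rfl⟩ := hg
  exact CZ.mk (fun u => (comm_of_add B.zs_add m u).mul_left ((B.zs_zl u r).symm))
    (fun u => (B.zs_zl m u).mul_left (comm_of_add B.zl_add r u))

/-- `x ≡ y` modulo `Z` -/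
def E (B : Base F G) (x y : G) : Prop := y⁻¹ * x ∈ Z B

theorem E.refl (x : G) : E B x x := by
  show x⁻¹ * x ∈ Z B
  rw [inv_mul_cancel]; exact one_mem _
theorem E.of_eq {x y : G} (h : x = y) : E B x y := h ▸ E.refl x
theorem E.symm {x y : G} (h : E B x y) : E B y x := by
  have := inv_mem h
  rwa [mul_inv_rev, inv_inv] at this
theorem E.trans {x y z : G} (h : E B x y) (h' : E B y z) : E B x z := by
  have h1 := mul_mem h' h
  have h2 : z⁻¹ * y * (y⁻¹ * x) = z⁻¹ * x := by group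
  rw [h2] at h1
  exact h1
theorem E.left {x y : G} (c : G) (h : E B x y) : E B (c * x) (c * y) := by
  show (c * y)⁻¹ * (c * x) ∈ Z B
  have : (c * y)⁻¹ * (c * x) = y⁻¹ * x := by group
  rw [this]; exact h
theorem E.right {x y c : G} (hc : CZ B c) (h : E B x y) : E B (x * c) (y * c) := by
  show (y * c)⁻¹ * (x * c) ∈ Z B
  have : (y * c)⁻¹ * (x * c) = y⁻¹ * x := by
    have h1 := (hc _ h).eq
    calc (y * c)⁻¹ * (x * c) = c⁻¹ * (y⁻¹ * x * c) := by group
      _ = y⁻¹ * x := by rw [← h1]; group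
  rw [this]; exact h
theorem E.mk {x y z : G} (hz : z ∈ Z B) (h : x = y * z) : E B x y := by
  show y⁻¹ * x ∈ Z B
  rw [h, inv_mul_cancel_left]; exact hz
theorem E.cancel_left {x y c : G} (h : E B (c * x) (c * y)) : E B x y := by
  have := h.left c⁻¹
  rwa [inv_mul_cancel_left, inv_mul_cancel_left] at this
theorem E.cancel_right {x y c : G} (hc : CZ B c) (h : E B (x * c) (y * c)) : E B x y := by
  have := h.right hc.inv
  rwa [mul_inv_cancel_right, mul_inv_cancel_right] at this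

/-- `h` and `x` commute modulo `Z` -/
def Cm (B : Base F G) (h x : G) : Prop := E B (h * x) (x * h)

theorem Cm.of_comm {h x : G} (hc : Commute h x) : Cm B h x := E.of_eq hc.eq
theorem Cm.symm {h x : G} (hc : Cm B h x) : Cm B x h := E.symm hc
theorem Cm.mul_right {h x y : G} (hy : CZ B y) (h1 : Cm B h x) (h2 : Cm B h y) : Cm B h (x * y) := by
  have e1 : E B (h * x * y) (x * h * y) := h1.right hy
  have e2 : E B (x * (h * y)) (x * (y * h)) := h2.left x
  have := e1.trans ((E.of_eq (mul_assoc x h y)).trans e2)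
  show E B (h * (x * y)) (x * y * h)
  rwa [← mul_assoc, mul_assoc x y h]
theorem Cm.mul_left {h x y : G} (hy : CZ B y) (h1 : Cm B x h) (h2 : Cm B y h) :
    Cm B (x * y) h := (Cm.mul_right hy h1.symm h2.symm).symm
theorem Cm.of_cj {h x z : G} (hz : z ∈ Z B) (e : cj h x = x * z) : Cm B x h := by
  refine E.mk hz ?_
  have h1 : x * h = h * cj h x := by simp [cj, mul_assoc]
  rw [h1, e, mul_assoc]

end cong

section base

variable {B : Base F G}

theorem CZxa (u : F) : CZ B (B.xa u) := CZ.mk (B.xa_zs u) (B.xa_zl u)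
theorem CZxb (u : F) : CZ B (B.xb u) := CZ.mk (B.xb_zs u) (B.xb_zl u)

theorem cj_xa_xb [CharP F 2] (u s : F) : cj (B.xa u) (B.xb s) = B.xb s * (B.zs (u * s) * B.zl (u ^ 2 * s)) := by
  apply cj_of_eq
  have h1 := B.xa_xb u s
  have h2 : B.zs (u * s) * B.zl (u ^ 2 * s) * (B.zs (u * s) * B.zl (u ^ 2 * s)) = 1 := by
    have h3 := (B.zs_zl (u * s) (u ^ 2 * s)).eq
    calc B.zs (u * s) * B.zl (u ^ 2 * s) * (B.zs (u * s) * B.zl (u ^ 2 * s))
        = (B.zs (u * s) * B.zl (u ^ 2 * s)) * B.zs (u * s) * B.zl (u ^ 2 * s) := by group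
      _ = B.zl (u ^ 2 * s) * (B.zs (u * s) * B.zs (u * s)) * B.zl (u ^ 2 * s) := by rw [h3]; group
      _ = 1 := by rw [sq_of_add B.zs_add, mul_one, sq_of_add B.zl_add]
  calc B.xb s * B.xa u = B.xb s * B.xa u * (B.zs (u * s) * B.zl (u ^ 2 * s) *
        (B.zs (u * s) * B.zl (u ^ 2 * s))) := by rw [h2, mul_one]
    _ = (B.xb s * B.xa u * B.zs (u * s) * B.zl (u ^ 2 * s)) * (B.zs (u * s) * B.zl (u ^ 2 * s)) := by group
    _ = _ := by rw [← h1]; group

theorem Cm_xa_xb (u s : F) : Cm B (B.xa u) (B.xb s) :=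
  E.mk (mul_mem (zs_mem B (u * s)) (zl_mem B (u ^ 2 * s))) (by rw [B.xa_xb]; group)

end base

/-! ### the layers -/

section layers

variable {B : Base F G} {Q : Subgroup G} (hB : QB B Q) (S : ShortQ B Q) (L : LongQ B Q)

include hB in
theorem CZt {t : G} (ht : t ∈ Q) : CZ B t := CZ.mk (hB.zs t ht) (hB.zl t ht)
theorem CZp (m : F) : CZ B (S.p m) := CZ.mk (S.p_zs m) (S.p_zl m)
theorem CZq (m : F) : CZ B (L.q m) := CZ.mk (L.q_zs m) (L.q_zl m)

theorem cp_t (m : F) {t : G} (ht : t ∈ Q) : cj (S.p m) t = t * B.zs (S.a t * m) :=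
  cj_of_eq (by rw [S.t_p t ht, mul_assoc])
theorem cp_xa (m u : F) : cj (S.p m) (B.xa u) = B.xa u * B.zl (S.e * u * m) :=
  cj_of_eq (by rw [S.xa_p, mul_assoc])
theorem cp_xb (m u : F) : cj (S.p m) (B.xb u) = B.xb u := cj_of_comm (S.p_xb m u).symm
theorem cp_zs (m u : F) : cj (S.p m) (B.zs u) = B.zs u := cj_of_comm (S.p_zs m u).symm
theorem cp_zl (m u : F) : cj (S.p m) (B.zl u) = B.zl u := cj_of_comm (S.p_zl m u).symm

theorem cq_t (r : F) {t : G} (ht : t ∈ Q) : cj (L.q r) t = t * B.zl (L.b t * r) :=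
  cj_of_eq (by rw [L.t_q t ht, mul_assoc])
theorem cq_xa (r u : F) : cj (L.q r) (B.xa u) = B.xa u := cj_of_comm (L.q_xa r u).symm
theorem cq_zs (r u : F) : cj (L.q r) (B.zs u) = B.zs u := cj_of_comm (L.q_zs r u).symm
theorem cq_zl (r u : F) : cj (L.q r) (B.zl u) = B.zl u := cj_of_comm (L.q_zl r u).symm
theorem cq_xb (r s : F) : cj (L.q (r ^ 2)) (B.xb (s ^ 2)) = B.xb (s ^ 2) * B.zs (L.e * (s * r)) :=
  cj_of_eq (by rw [L.xb_q, mul_assoc])

theorem cj_h_p (α β : Fˣ) (m : F) : MulAut.conj (B.h α β) (S.p m) = S.p (α * β * m) := by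
  rw [MulAut.conj_apply, S.h_p, mul_inv_cancel_right]
theorem cj_h_q (α β : Fˣ) (r : F) : MulAut.conj (B.h α β) (L.q r) = L.q (α ^ 2 * β * r) := by
  rw [MulAut.conj_apply, L.h_q, mul_inv_cancel_right]

include hB in
theorem cj_h_tt (α β : Fˣ) {t : G} (ht : t ∈ Q) : MulAut.conj (B.h α β) t = t := by
  rw [MulAut.conj_apply, ← (hB.h t ht α β).eq, mul_inv_cancel_right]

variable [CharP F 2] [Finite F]

theorem cq_xb1 (r s : F) : cj (L.q (r ^ 2)) (B.xb s) = B.xb s * B.zs (L.e * (rt s * r)) := by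
  have := cq_xb L r (rt s)
  rwa [sq_rt] at this

omit [CharP F 2] [Finite F] in
include hB in
/-- `a` is additive on `Q` -/
theorem a_mul {t t' : G} (ht : t ∈ Q) (ht' : t' ∈ Q) : S.a (t * t') = S.a t + S.a t' := by
  have h1 := cp_t S 1 (mul_mem ht ht')
  rw [cj_mul, cp_t S 1 ht, cp_t S 1 ht', mul_one, mul_one, mul_one] at h1
  have h2 := (hB.zs t' ht' (S.a t)).eq
  have h3 : t * B.zs (S.a t) * (t' * B.zs (S.a t')) = t * t' * B.zs (S.a t + S.a t') := by
    rw [B.zs_add]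
    calc t * B.zs (S.a t) * (t' * B.zs (S.a t')) = t * (B.zs (S.a t) * t') * B.zs (S.a t') := by group
      _ = _ := by rw [← h2]; group
  rw [h3] at h1
  exact (zs_inj B (mul_left_cancel h1)).symm

include hB in
/-- `b` is additive on `Q` -/
theorem b_mul {t t' : G} (ht : t ∈ Q) (ht' : t' ∈ Q) : L.b (t * t') = L.b t + L.b t' :=
  a_mul (swapQB hB) (swapS L) ht ht'

/-! ### the elements `q' s` -/

/-- the elements over `xb` -/
def q' (s : F) : G := MulAut.conj B.na (L.q s)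

omit [CharP F 2] [Finite F] in
theorem cj_na_h (α β : Fˣ) : MulAut.conj B.na (B.h α β) = B.h α⁻¹ (α ^ 2 * β) := by
  rw [MulAut.conj_apply, B.na_h, mul_inv_cancel_right]
omit [CharP F 2] [Finite F] in
theorem cj_na_xb (u : F) : MulAut.conj B.na (B.xb u) = B.zl u := by
  rw [MulAut.conj_apply, B.na_xb, mul_inv_cancel_right]
omit [CharP F 2] [Finite F] in
theorem cj_na_zl (u : F) : MulAut.conj B.na (B.zl u) = B.xb u := by
  rw [MulAut.conj_apply, B.na_zl, mul_inv_cancel_right]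
omit [CharP F 2] [Finite F] in
theorem cj_na_zs (u : F) : MulAut.conj B.na (B.zs u) = B.zs u := by
  rw [MulAut.conj_apply, B.na_zs, mul_inv_cancel_right]
omit [CharP F 2] [Finite F] in
include hB in
theorem cj_na_t {t : G} (ht : t ∈ Q) : MulAut.conj B.na t = t := by
  rw [MulAut.conj_apply, ← (hB.na t ht).eq, mul_inv_cancel_right]

omit [CharP F 2] [Finite F] in
theorem q'_fold (u : F) : MulAut.conj B.na (L.q u) = q' L u := rfl

omit [CharP F 2] [Finite F] in
include hB in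
theorem cq'_t (r : F) {t : G} (ht : t ∈ Q) : cj (q' L r) t = t * B.xb (L.b t * r) := by
  apply cj_of_eq
  have := congrArg (MulAut.conj B.na) (L.t_q t ht r)
  simp only [map_mul, cj_na_t hB ht, cj_na_zl, q'_fold] at this
  rw [this, mul_assoc]
omit [CharP F 2] [Finite F] in
theorem q'_xb (m s : F) : Commute (q' L m) (B.xb s) := by
  have := (L.q_zl m s).map (MulAut.conj B.na)
  simpa only [cj_na_zl, q'_fold] using this
omit [CharP F 2] [Finite F] in
theorem q'_zs (m s : F) : Commute (q' L m) (B.zs s) := by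
  have := (L.q_zs m s).map (MulAut.conj B.na)
  simpa only [cj_na_zs, q'_fold] using this
omit [CharP F 2] [Finite F] in
theorem cq'_zl (r s : F) : cj (q' L (r ^ 2)) (B.zl (s ^ 2)) = B.zl (s ^ 2) * B.zs (L.e * (s * r)) := by
  apply cj_of_eq
  have := congrArg (MulAut.conj B.na) (L.xb_q s r)
  simp only [map_mul, cj_na_xb, cj_na_zs, q'_fold] at this
  rw [this, mul_assoc]
omit [CharP F 2] [Finite F] in
theorem cj_h_q' (α β : Fˣ) (r : F) : MulAut.conj (B.h α β) (q' L r) = q' L (β * r) := by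
  have e1 : B.h α β * B.na = B.na * B.h α⁻¹ (α ^ 2 * β) := by
    have := B.na_h α⁻¹ (α ^ 2 * β)
    rw [inv_inv] at this
    have e2 : (α⁻¹ ^ 2 * (α ^ 2 * β) : Fˣ) = β := by group
    rw [e2] at this
    exact this.symm
  have e2 : MulAut.conj (B.h α β) (q' L r) = MulAut.conj B.na (MulAut.conj (B.h α⁻¹ (α ^ 2 * β)) (L.q r)) := by
    rw [q', ← MulAut.mul_apply, ← MulAut.mul_apply, ← map_mul, ← map_mul, e1]
  rw [e2, cj_h_q, q'_fold]
  congr 2
  simp

theorem cj_cj (g x y : G) : cj (cj g x) y = cj g (cj x (cj g⁻¹ y)) := by simp [cj, mul_assoc]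

omit [Finite F] in
include hB in
theorem cq'i_t (r : F) {t : G} (ht : t ∈ Q) : cj (q' L r)⁻¹ t = t * B.xb (L.b t * r) := by
  apply cj_inv
  rw [cj_mul, cq'_t hB L r ht, cj_of_comm (q'_xb L r _).symm, mul_assoc, sq_of_add B.xb_add, mul_one]

theorem cq'1_zl (x : F) : cj (q' L 1) (B.zl x) = B.zl x * B.zs (L.e * rt x) := by
  have := cq'_zl L 1 (rt x)
  rwa [sq_rt, one_pow, mul_one] at this

include hB in
/-- (i) -/
theorem cu_t (u : F) {t : G} (ht : t ∈ Q) : cj (cj (q' L 1) (B.xa u)) t =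
    t * (B.zs (u * (L.b t + L.e * rt (L.b t))) * B.zl (u ^ 2 * L.b t)) := by
  rw [cj_cj, cq'i_t hB L 1 ht, mul_one, cj_mul, cj_of_comm (hB.xa t ht u), cj_xa_xb, cj_mul, cj_mul, cj_mul,
    cq'_t hB L 1 ht, mul_one, cj_of_comm (q'_xb L 1 _).symm, cj_of_comm (q'_zs L 1 _).symm, cq'1_zl, rt_mul,
    rt_sq, mul_add, B.zs_add]
  have h1 := sq_of_add B.xb_add (L.b t)
  have h2 := (B.zs_zl (L.e * (u * rt (L.b t))) (u ^ 2 * L.b t)).eq
  have h3 : u * (L.e * rt (L.b t)) = L.e * (u * rt (L.b t)) := by ring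
  rw [h3]
  calc t * B.xb (L.b t) * (B.xb (L.b t) * (B.zs (u * L.b t) * (B.zl (u ^ 2 * L.b t) * B.zs (L.e * (u * rt (L.b t))))))
      = t * (B.xb (L.b t) * B.xb (L.b t)) * (B.zs (u * L.b t) * (B.zl (u ^ 2 * L.b t) *
          B.zs (L.e * (u * rt (L.b t))))) := by group
    _ = _ := by rw [h1, ← h2]; group

end layers

/-! ### `p` and `q` commute -/

section comm

variable {B : Base F G} {Q : Subgroup G}

/-- elements of `Q V₂` commuting with `xb 1` -/
theorem formZ (hB : QB B Q) {g : G} (h1 : ∀ t ∈ Q, Commute g t) (h2 : ∀ u, Commute g (B.xa u))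
    (h3 : ∀ u, Commute g (B.zs u)) (h4 : ∀ u, Commute g (B.zl u)) (h5 : Commute g (B.xb 1)) :
    ∃ t ∈ Q, ∃ m r, g = t * (B.zs m * B.zl r) := by
  obtain ⟨t, ht, u, m, r, rfl⟩ := hB.cent2 g h1 h2 h3 h4
  have h6 : Commute t (B.xb 1) := hB.xb t ht 1
  have h7 : Commute (B.xa u * B.zs m * B.zl r) (B.xb 1) := by
    have := (h6.inv_left).mul_left h5
    rwa [inv_mul_cancel_left] at this
  have h8 : Commute (B.xa u) (B.xb 1) := by
    have h9 : Commute (B.zs m * B.zl r) (B.xb 1) := ((B.xb_zs 1 m).symm).mul_left ((B.xb_zl 1 r).symm)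
    have := h7.mul_left h9.inv_left
    rw [mul_assoc (B.xa u), mul_assoc, mul_inv_cancel, mul_one] at this
    exact this
  have h9 := B.xa_xb u 1
  rw [h8.eq] at h9
  have h10 : B.zs (u * 1) * B.zl (u ^ 2 * 1) = 1 := by
    have : B.xb 1 * B.xa u * (B.zs (u * 1) * B.zl (u ^ 2 * 1)) = B.xb 1 * B.xa u := by
      rw [← mul_assoc]; exact h9.symm
    exact mul_eq_left.1 this
  have h11 := B.inj 0 0 (u * 1) (u ^ 2 * 1) (by rw [xa_zero, xb_zero, one_mul, one_mul]; exact h10)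
  have hu : u = 0 := by simpa using h11.2.2.1
  subst hu
  exact ⟨t, ht, m, r, by rw [xa_zero, one_mul]⟩

variable [CharP F 2] [Finite F]

/-- (iii) -/
theorem comm_p_q (hF : 4 ≤ Nat.card F) (hB : QB B Q) (S : ShortQ B Q) (L : LongQ B Q) (m r : F) :
    S.p m * L.q r = L.q r * S.p m := by
  have hl := exists_units hF
  let K : F → F → G := fun m r => S.p m * L.q r * (L.q r * S.p m)⁻¹
  have hK : ∀ m r, ∃ t ∈ Q, ∃ x y, K m r = t * (B.zs x * B.zl y) := by
    intro m r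
    apply formZ hB
    · intro t ht
      apply comm_of_cj_eq
      rw [cj_mul_left, cj_mul_left, cp_t S m ht, cq_t L r ht, cj_mul, cj_mul, cq_t L r ht, cq_zs, cp_t S m ht,
        cp_zl, mul_assoc, mul_assoc, (B.zs_zl _ _).eq]
    · intro u
      apply comm_of_cj_eq
      rw [cj_mul_left, cj_mul_left, cp_xa, cq_xa, cj_mul, cq_xa, cq_zl, cp_xa]
    · intro u
      apply comm_of_cj_eq
      rw [cj_mul_left, cj_mul_left, cp_zs, cq_zs, cp_zs]
    · intro u
      apply comm_of_cj_eq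
      rw [cj_mul_left, cj_mul_left, cp_zl, cq_zl, cp_zl]
    · apply comm_of_cj_eq
      have hk := cq_xb1 L (rt r) 1
      rw [sq_rt] at hk
      rw [cj_mul_left, cj_mul_left, cp_xb, hk, cj_mul, cp_xb, cp_zs]
  have hh : ∀ (α β : Fˣ) m r, MulAut.conj (B.h α β) (K m r) = K (α * β * m) (α ^ 2 * β * r) := by
    intro α β m r
    simp only [K, map_mul, map_inv, cj_h_p, cj_h_q]
  -- the `Q`-part
  have h0 : ∀ m r, K m r ∈ Z B := by
    intro m r
    by_cases hm : m = 0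
    · have : K m r = 1 := by
        simp only [K, hm, S.p_zero]; group
      rw [this]; exact one_mem _
    obtain ⟨t, ht, x, y, e⟩ := hK m r
    have e1 : S.p m * K m r * (S.p m)⁻¹ * K m r = 1 := by
      have e2 : Commute (S.p m * S.p m) (L.q r) := by
        rw [S.p_sq]; exact (L.q_zs r _).symm
      have e3 : (S.p m * S.p m) * L.q r * (S.p m * S.p m)⁻¹ = L.q r := by rw [e2.eq]; group
      calc S.p m * K m r * (S.p m)⁻¹ * K m r
          = (S.p m * S.p m) * L.q r * (S.p m * S.p m)⁻¹ * (S.p m * (L.q r)⁻¹ * (S.p m)⁻¹) *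
              (S.p m * L.q r * (L.q r * S.p m)⁻¹) := by simp only [K]; group
        _ = 1 := by rw [e3]; group
    have e4 : S.p m * t * (S.p m)⁻¹ = t * B.zs (S.a t * m) := by
      apply conj_of_cj
      apply cj_inv
      rw [cj_mul, cp_t S m ht, cp_zs, mul_assoc, sq_of_add B.zs_add, mul_one]
    have e5 : S.p m * (B.zs x * B.zl y) * (S.p m)⁻¹ = B.zs x * B.zl y := by
      rw [(CZp S m _ (mul_mem (zs_mem B x) (zl_mem B y))).eq]; group
    have e6 : (B.zs x * B.zl y) * (B.zs x * B.zl y) = 1 := by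
      have h3 := (B.zs_zl x y).eq
      calc (B.zs x * B.zl y) * (B.zs x * B.zl y) = (B.zs x * B.zl y) * B.zs x * B.zl y := by group
        _ = B.zl y * (B.zs x * B.zs x) * B.zl y := by rw [h3]; group
        _ = 1 := by rw [sq_of_add B.zs_add, mul_one, sq_of_add B.zl_add]
    rw [e] at e1
    have e7 : B.zs (S.a t * m) = 1 := by
      have c1 : Commute t (B.zs (S.a t * m)) := hB.zs t ht _
      have c2 : Commute t (B.zs x * B.zl y) := (hB.zs t ht x).mul_right (hB.zl t ht y)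
      calc B.zs (S.a t * m) = t * t * B.zs (S.a t * m) * ((B.zs x * B.zl y) * (B.zs x * B.zl y)) := by
            rw [hB.sq t ht, e6]; group
        _ = t * (t * B.zs (S.a t * m)) * (B.zs x * B.zl y) * (B.zs x * B.zl y) := by group
        _ = t * (B.zs (S.a t * m) * t) * (B.zs x * B.zl y) * (B.zs x * B.zl y) := by rw [c1.eq]
        _ = t * B.zs (S.a t * m) * (t * (B.zs x * B.zl y)) * (B.zs x * B.zl y) := by group
        _ = t * B.zs (S.a t * m) * (B.zs x * B.zl y * t) * (B.zs x * B.zl y) := by rw [c2.eq]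
        _ = (t * B.zs (S.a t * m)) * (B.zs x * B.zl y) * (t * (B.zs x * B.zl y)) := by group
        _ = (S.p m * t * (S.p m)⁻¹) * (S.p m * (B.zs x * B.zl y) * (S.p m)⁻¹) * (t * (B.zs x * B.zl y)) := by
            rw [e4, e5]
        _ = S.p m * (t * (B.zs x * B.zl y)) * (S.p m)⁻¹ * (t * (B.zs x * B.zl y)) := by group
        _ = 1 := e1
    have e8 : S.a t * m = 0 := zs_inj B (by rw [e7, zs_zero])
    have e9 : t = 1 := by
      by_contra hne
      rcases mul_eq_zero.1 e8 with h | h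
      · exact S.a_ne t ht hne h
      · exact hm h
    rw [e, e9, one_mul]
    exact mul_mem (zs_mem B x) (zl_mem B y)
  -- first step
  have h1 : ∀ m r, K m r ∈ Zl B := by
    intro m r
    refine kill (W := Zl B) (K := fun r => K m r) hl ?_ ?_ r
    · intro l x
      obtain ⟨a, b, e⟩ := h0 m x
      have h2 := hh l l⁻¹ m x
      rw [wt3, wt4] at h2
      show (K m x)⁻¹ * K m (l * x) ∈ Zl B
      have h3 := diffZ (B := B) 1 a b a (l * b)
      rw [one_mul, one_mul, sub_self, zs_zero, one_mul] at h3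
      rw [← h2, e, map_mul, cj_h_zs, cj_h_zl, wt3, wt4, h3]
      exact ⟨_, rfl⟩
    · intro x y
      obtain ⟨k, hk⟩ := L.q_add x y
      show (K m x * K m y)⁻¹ * K m (x + y) ∈ Zl B
      have e1 : K m (x + y) = K m x * K m y := by
        show S.p m * L.q (x + y) * (L.q (x + y) * S.p m)⁻¹ = _
        rw [← absorb_right (S.p_zl m k), ← hk, comm_right]
        show K m x * (L.q x * K m y * (L.q x)⁻¹) = _
        rw [(CZq L x _ (h0 m y)).eq]; group
      rw [e1, inv_mul_cancel]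
      exact one_mem _
  -- second step
  have h2 : K m r ∈ (⊥ : Subgroup G) := by
    refine kill (W := ⊥) (K := fun m => K m r) hl ?_ ?_ m
    · intro l x
      obtain ⟨a, e⟩ := h1 x r
      have h3 := hh l⁻¹ (l ^ 2) x r
      rw [wt1, wt2] at h3
      show (K x r)⁻¹ * K (l * x) r ∈ (⊥ : Subgroup G)
      rw [← h3, e, cj_h_zl, wt2, inv_mul_cancel]
      exact one_mem _
    · intro x y
      obtain ⟨k, hk⟩ := S.p_add x y
      show (K x r * K y r)⁻¹ * K (x + y) r ∈ (⊥ : Subgroup G)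
      have e1 : K (x + y) r = K y r * K x r := by
        show S.p (x + y) * L.q r * (L.q r * S.p (x + y))⁻¹ = _
        rw [← absorb_left ((L.q_zs r k).symm), ← hk, comm_left]
        show S.p x * K y r * (S.p x)⁻¹ * K x r = _
        rw [(CZp S x _ (h0 y r)).eq]; group
      rw [e1, (CZ.of_mem (h0 y r) _ (h0 x r)).eq, inv_mul_cancel]
      exact one_mem _
  rw [mem_bot] at h2
  exact mul_inv_eq_one.1 h2

end comm

/-! ### `x_a(u)^{q'(1)}` modulo `x_a(u) p(ku) q(u²)` -/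

section half

variable {B : Base F G} {Q : Subgroup G} (hB : QB B Q) (S : ShortQ B Q) (L : LongQ B Q) (k : F)

/-- `p (k u) q (u²)` -/
def P (u : F) : G := S.p (k * u) * L.q (u ^ 2)

/-- `x_a(u)^{q'(1)}` -/
def U0 (u : F) : G := cj (q' L 1) (B.xa u)

/-- the difference -/
def D (u : F) : G := (B.xa u)⁻¹ * U0 L u * (P S L k u)⁻¹

theorem CZP (u : F) : CZ B (P S L k u) := (CZp S _).mul (CZq L _)

theorem eq_D (u : F) : U0 L u = B.xa u * D S L k u * P S L k u := by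
  simp only [D]; group

theorem U0_add (u v : F) : U0 L (u + v) = U0 L u * U0 L v := by
  rw [U0, B.xa_add, cj_mul, U0, U0]

variable [CharP F 2] [Finite F]

theorem cq'1i_zl (x : F) : cj (q' L 1)⁻¹ (B.zl x) = B.zl x * B.zs (L.e * rt x) := by
  apply cj_inv
  rw [cj_mul, cq'1_zl, cj_of_comm (q'_zs L 1 _).symm, mul_assoc, sq_of_add B.zs_add, mul_one]

theorem cq'1i_Z {z : G} (hz : z ∈ Z B) : cj (q' L 1)⁻¹ z ∈ Z B := by
  obtain ⟨m, r, rfl⟩ := hz
  rw [cj_mul, cq'1i_zl, cj_of_comm (q'_zs L 1 m).symm.inv_right]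
  exact mul_mem (zs_mem B m) (mul_mem (zl_mem B r) (zs_mem B _))

theorem CZU0 (u : F) : CZ B (U0 L u) := by
  intro z hz
  apply comm_of_cj
  rw [U0, cj_cj, cj_of_comm (x := cj (q' L 1)⁻¹ z) ((CZxa u _ (cq'1i_Z L hz)).symm), ← cj_mul_left,
    inv_mul_cancel]
  simp [cj]

theorem cu_xb (u v : F) : cj (U0 L u) (B.xb v) =
    B.xb v * (B.zs (u * v) * (B.zl (u ^ 2 * v) * B.zs (L.e * (u * rt v)))) := by
  rw [U0, cj_cj, cj_of_comm (x := B.xb v) (q'_xb L 1 v).symm.inv_right, cj_xa_xb, cj_mul, cj_mul, cq'1_zl,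
    cj_of_comm (q'_xb L 1 v).symm, cj_of_comm (q'_zs L 1 _).symm, rt_mul, rt_sq]

theorem CZD (u : F) : CZ B (D S L k u) := ((CZxa u).inv.mul (CZU0 L u)).mul (CZP S L k u).inv

include hB in
/-- the form of `D u` -/
theorem formD (hk : ∀ t ∈ Q, L.b t + L.e * rt (L.b t) = S.a t * k) (u : F) :
    ∃ t ∈ Q, ∃ s m r, D S L k u = t * (B.xb s * B.zs m * B.zl r) := by
  apply hB.cent1
  · intro t ht
    apply comm_of_cj_eq
    rw [cj_mul_left, cj_of_comm (x := t) ((hB.xa t ht u).inv_right)]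
    show cj (cj (q' L 1) (B.xa u)) t = _
    rw [cu_t hB L u ht, hk t ht, P, cj_mul_left, cp_t S _ ht, cj_mul, cq_t L _ ht, cq_zs, mul_assoc,
      (B.zs_zl _ _).eq]
    have e1 : u * (S.a t * k) = S.a t * (k * u) := by ring
    rw [e1, mul_comm (u ^ 2)]
  · intro v
    apply comm_of_cj_eq
    have h1 : cj (B.xa u)⁻¹ (B.xb v) = B.xb v * (B.zs (u * v) * B.zl (u ^ 2 * v)) := by
      apply cj_inv
      rw [cj_mul, cj_xa_xb, cj_mul, cj_of_comm (B.xa_zs u _).symm, cj_of_comm (B.xa_zl u _).symm]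
      have h3 := (B.zs_zl (u * v) (u ^ 2 * v)).eq
      calc B.xb v * (B.zs (u * v) * B.zl (u ^ 2 * v)) * (B.zs (u * v) * B.zl (u ^ 2 * v))
          = B.xb v * (B.zs (u * v) * B.zl (u ^ 2 * v)) * B.zs (u * v) * B.zl (u ^ 2 * v) := by group
        _ = B.xb v * B.zl (u ^ 2 * v) * (B.zs (u * v) * B.zs (u * v)) * B.zl (u ^ 2 * v) := by rw [h3]; group
        _ = B.xb v * (B.zl (u ^ 2 * v) * B.zl (u ^ 2 * v)) := by rw [sq_of_add B.zs_add, mul_one]; group
        _ = B.xb v := by rw [sq_of_add B.zl_add, mul_one]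
    have h2 : ∀ x, cj (U0 L u) (B.zs x) = B.zs x := fun x => cj_of_comm ((CZU0 L u _ (zs_mem B x)).symm)
    have h3 : ∀ x, cj (U0 L u) (B.zl x) = B.zl x := fun x => cj_of_comm ((CZU0 L u _ (zl_mem B x)).symm)
    rw [cj_mul_left, h1, cj_mul, cj_mul, h2, h3, cu_xb, P, cj_mul_left, cp_xb, cq_xb1]
    have f1 := (B.zs_zl (L.e * (u * rt v)) (u ^ 2 * v)).eq
    have f2 := (B.zs_zl (u * v) (u ^ 2 * v)).eq
    have f3 := (comm_of_add B.zs_add (L.e * (u * rt v)) (u * v)).eq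
    have e1 : L.e * (rt v * u) = L.e * (u * rt v) := by ring
    rw [e1]
    calc B.xb v * (B.zs (u * v) * (B.zl (u ^ 2 * v) * B.zs (L.e * (u * rt v)))) * (B.zs (u * v) * B.zl (u ^ 2 * v))
        = B.xb v * (B.zs (u * v) * B.zl (u ^ 2 * v)) * (B.zs (L.e * (u * rt v)) * B.zs (u * v)) *
            B.zl (u ^ 2 * v) := by group
      _ = B.xb v * B.zl (u ^ 2 * v) * (B.zs (u * v) * B.zs (u * v)) * (B.zs (L.e * (u * rt v)) *
            B.zl (u ^ 2 * v)) := by rw [f2, f3]; group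
      _ = B.xb v * (B.zl (u ^ 2 * v) * B.zl (u ^ 2 * v)) * B.zs (L.e * (u * rt v)) := by
            rw [sq_of_add B.zs_add, mul_one, f1]; group
      _ = _ := by rw [sq_of_add B.zl_add, mul_one]
  · intro x
    exact CZD S L k u _ (zs_mem B x)
  · intro x
    exact CZD S L k u _ (zl_mem B x)

omit [CharP F 2] [Finite F] in
theorem Cm_P_t (u : F) {t : G} (ht : t ∈ Q) : Cm B (P S L k u) t := by
  refine (Cm.of_cj (z := B.zl (L.b t * u ^ 2) * B.zs (S.a t * (k * u)))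
    (mul_mem (zl_mem B _) (zs_mem B _)) ?_).symm
  rw [P, cj_mul_left, cp_t S _ ht, cj_mul, cq_t L _ ht, cq_zs, mul_assoc]

theorem Cm_P_xb (u v : F) : Cm B (P S L k u) (B.xb v) := by
  refine (Cm.of_cj (z := B.zs (L.e * (rt v * u))) (zs_mem B _) ?_).symm
  rw [P, cj_mul_left, cp_xb, cq_xb1]

omit [CharP F 2] [Finite F] in
theorem Cm_P_xa (u v : F) : Cm B (P S L k u) (B.xa v) := by
  refine (Cm.of_cj (z := B.zl (S.e * v * (k * u))) (zl_mem B _) ?_).symm
  rw [P, cj_mul_left, cp_xa, cj_mul, cq_xa, cq_zl]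

theorem P_add (hF : 4 ≤ Nat.card F) (hB : QB B Q) (u v : F) :
    E B (P S L k u * P S L k v) (P S L k (u + v)) := by
  obtain ⟨x, hx⟩ := S.p_add (k * u) (k * v)
  obtain ⟨y, hy⟩ := L.q_add (u ^ 2) (v ^ 2)
  refine E.mk (mul_mem (zs_mem B x) (zl_mem B y)) ?_
  have h1 := comm_p_q hF hB S L (k * v) (u ^ 2)
  have h2 := (L.q_zs (u ^ 2 + v ^ 2) x).eq
  have h3 : (u + v) ^ 2 = u ^ 2 + v ^ 2 := CharTwo.add_sq u v
  show S.p (k * u) * L.q (u ^ 2) * (S.p (k * v) * L.q (v ^ 2)) =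
    S.p (k * (u + v)) * L.q ((u + v) ^ 2) * (B.zs x * B.zl y)
  rw [h3, mul_add]
  calc S.p (k * u) * L.q (u ^ 2) * (S.p (k * v) * L.q (v ^ 2))
      = S.p (k * u) * (L.q (u ^ 2) * S.p (k * v)) * L.q (v ^ 2) := by group
    _ = (S.p (k * u) * S.p (k * v)) * (L.q (u ^ 2) * L.q (v ^ 2)) := by rw [← h1]; group
    _ = S.p (k * u + k * v) * (B.zs x * L.q (u ^ 2 + v ^ 2)) * B.zl y := by rw [hx, hy]; group
    _ = _ := by rw [← h2]; group

theorem D_mem (hF : 4 ≤ Nat.card F) (hB : QB B Q) (hk : ∀ t ∈ Q, L.b t + L.e * rt (L.b t) = S.a t * k) (u : F) :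
    D S L k u ∈ Z B := by
  have cz1 : ∀ x, CZ B (P S L k x) := CZP S L k
  have cz2 : ∀ x, CZ B (D S L k x) := CZD S L k
  refine kill (exists_units hF) ?_ ?_ u
  · intro l x
    obtain ⟨t, ht, s, m, r, e⟩ := formD hB S L k hk x
    have h1 : MulAut.conj (B.h l 1) (D S L k x) = D S L k (l * x) := by
      have e1 : (l : F) * ((1 : Fˣ) : F) * (k * x) = k * (l * x) := by rw [Units.val_one]; ring
      have e2 : (l : F) ^ 2 * ((1 : Fˣ) : F) * x ^ 2 = (l * x) ^ 2 := by rw [Units.val_one]; ring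
      have e3 : MulAut.conj (B.h l 1) (q' L 1) = q' L 1 := by
        rw [cj_h_q', Units.val_one, one_mul]
      simp only [D, U0, P, cj, map_mul, map_inv, cj_h_p, cj_h_q, cj_h_xa, e3, e1, e2]
    rw [← h1, e, map_mul, map_mul, map_mul, cj_h_tt hB _ _ ht, cj_h_xb, cj_h_zs, cj_h_zl, Units.val_one, one_mul]
    have h2 : ∀ m' r', (t * (B.xb s * B.zs m * B.zl r))⁻¹ * (t * (B.xb s * B.zs m' * B.zl r')) =
        (B.zs m * B.zl r)⁻¹ * (B.zs m' * B.zl r') := by intro m' r'; group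
    rw [h2]
    exact mul_mem (inv_mem ⟨m, r, rfl⟩) ⟨_, _, rfl⟩
  · intro u v
    have main : E B (D S L k (u + v)) (D S L k u * D S L k v) := by
      obtain ⟨t, ht, s, m, r, e⟩ := formD hB S L k hk u
      obtain ⟨t', ht', s', m', r', e'⟩ := formD hB S L k hk v
      have c1 : Cm B (P S L k u) (B.xa v) := Cm_P_xa S L k u v
      have c2 : Cm B (D S L k u) (B.xa v) := by
        rw [e]
        refine Cm.mul_left ?_ (Cm.of_comm (hB.xa t ht v)) ?_
        · exact ((CZxb s).mul (CZ.of_mem (zs_mem B m))).mul (CZ.of_mem (zl_mem B r))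
        · refine Cm.mul_left (CZ.of_mem (zl_mem B r)) ?_ (Cm.of_comm ((B.xa_zl v r).symm))
          exact Cm.mul_left (CZ.of_mem (zs_mem B m)) (Cm_xa_xb v s).symm (Cm.of_comm ((B.xa_zs v m).symm))
      have c3 : Cm B (P S L k u) (D S L k v) := by
        rw [e']
        refine Cm.mul_right ?_ (Cm_P_t S L k u ht') ?_
        · exact ((CZxb s').mul (CZ.of_mem (zs_mem B m'))).mul (CZ.of_mem (zl_mem B r'))
        · refine Cm.mul_right (CZ.of_mem (zl_mem B r')) ?_ (Cm.of_comm (cz1 u _ (zl_mem B r')))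
          exact Cm.mul_right (CZ.of_mem (zs_mem B m')) (Cm_P_xb S L k u s') (Cm.of_comm (cz1 u _ (zs_mem B m')))
      have g1 : B.xa (u + v) * D S L k (u + v) * P S L k (u + v) =
          B.xa u * D S L k u * (P S L k u * B.xa v) * (D S L k v * P S L k v) := by
        rw [← eq_D, U0_add, eq_D S L k u, eq_D S L k v]; group
      have g2 : E B (B.xa u * D S L k u * (P S L k u * B.xa v) * (D S L k v * P S L k v))
          (B.xa u * D S L k u * (B.xa v * P S L k u) * (D S L k v * P S L k v)) :=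
        (c1.left (B.xa u * D S L k u)).right ((cz2 v).mul (cz1 v))
      have g3 : E B (B.xa u * (D S L k u * B.xa v) * (P S L k u * (D S L k v * P S L k v)))
          (B.xa u * (B.xa v * D S L k u) * (P S L k u * (D S L k v * P S L k v))) :=
        (c2.left (B.xa u)).right ((cz1 u).mul ((cz2 v).mul (cz1 v)))
      have g4 : E B (B.xa u * B.xa v * D S L k u * (P S L k u * D S L k v) * P S L k v)
          (B.xa u * B.xa v * D S L k u * (D S L k v * P S L k u) * P S L k v) :=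
        (c3.left (B.xa u * B.xa v * D S L k u)).right (cz1 v)
      have g5 : E B (B.xa u * B.xa v * (D S L k u * D S L k v) * (P S L k u * P S L k v))
          (B.xa u * B.xa v * (D S L k u * D S L k v) * P S L k (u + v)) :=
        (P_add S L k hF hB u v).left _
      have g6 : E B (B.xa (u + v) * D S L k (u + v) * P S L k (u + v))
          (B.xa (u + v) * (D S L k u * D S L k v) * P S L k (u + v)) := by
        refine (E.of_eq g1).trans (g2.trans ?_)
        refine (E.of_eq (by group)).trans (g3.trans ?_)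
        refine (E.of_eq (by group)).trans (g4.trans ?_)
        refine (E.of_eq (by group)).trans (g5.trans ?_)
        exact E.of_eq (by rw [B.xa_add])
      exact (g6.cancel_right (cz1 _)).cancel_left
    exact main

include hB in
/-- `u0² = 1` -/
theorem sq_rel (hF : 4 ≤ Nat.card F) (hk : ∀ t ∈ Q, L.b t + L.e * rt (L.b t) = S.a t * k) :
    S.c * k = 0 ∧ L.c + S.e * k = 0 := by
  have hz := D_mem S L k hF hB hk 1
  have h1 : U0 L 1 * U0 L 1 = 1 := by
    rw [← U0_add, CharTwo.add_self_eq_zero, U0, xa_zero, cj_one]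
  have h2 : D S L k 1 * D S L k 1 = 1 := by
    obtain ⟨x, y, e⟩ := hz
    have h3 := (B.zs_zl x y).eq
    rw [e]
    calc (B.zs x * B.zl y) * (B.zs x * B.zl y) = (B.zs x * B.zl y) * B.zs x * B.zl y := by group
      _ = B.zl y * (B.zs x * B.zs x) * B.zl y := by rw [h3]; group
      _ = 1 := by rw [sq_of_add B.zs_add, mul_one, sq_of_add B.zl_add]
  have h3 : D S L k 1 * P S L k 1 = P S L k 1 * D S L k 1 := (CZP S L k 1 _ hz).symm.eq
  have h4 : D S L k 1 * B.xa 1 = B.xa 1 * D S L k 1 := (CZxa 1 _ hz).symm.eq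
  have h5 : B.xa 1 * P S L k 1 * (B.xa 1 * P S L k 1) = 1 := by
    calc B.xa 1 * P S L k 1 * (B.xa 1 * P S L k 1)
        = B.xa 1 * P S L k 1 * B.xa 1 * P S L k 1 * (D S L k 1 * D S L k 1) := by rw [h2]; group
      _ = B.xa 1 * P S L k 1 * B.xa 1 * (P S L k 1 * D S L k 1) * D S L k 1 := by group
      _ = B.xa 1 * P S L k 1 * (B.xa 1 * D S L k 1) * P S L k 1 * D S L k 1 := by rw [← h3]; group
      _ = B.xa 1 * (P S L k 1 * D S L k 1) * B.xa 1 * (P S L k 1 * D S L k 1) := by rw [← h4]; group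
      _ = (B.xa 1 * D S L k 1 * P S L k 1) * (B.xa 1 * D S L k 1 * P S L k 1) := by rw [← h3]; group
      _ = 1 := by rw [← eq_D]; exact h1
  have h6 : S.p k * L.q 1 = L.q 1 * S.p k := comm_p_q hF hB S L k 1
  have h7 : L.q 1 * B.xa 1 = B.xa 1 * L.q 1 := (L.q_xa 1 1).eq
  have h8 : B.xa 1 * S.p k = S.p k * B.xa 1 * B.zl (S.e * k) := by
    have := S.xa_p 1 k
    rwa [mul_one] at this
  have hP : P S L k 1 = S.p k * L.q 1 := by rw [P, mul_one, one_pow]
  have c1 : B.zl (S.e * k) * B.xa 1 = B.xa 1 * B.zl (S.e * k) := (B.xa_zl 1 _).symm.eq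
  have c2 : B.zl (S.e * k) * S.p k = S.p k * B.zl (S.e * k) := (S.p_zl k _).symm.eq
  have h9 : B.zs (S.c * k) * B.zl (L.c + S.e * k) = 1 := by
    calc B.zs (S.c * k) * B.zl (L.c + S.e * k)
        = B.zs (S.c * k) * (B.zl (L.c * 1) * B.zl (S.e * k)) := by rw [B.zl_add, mul_one]
      _ = (S.p k * S.p k) * (B.zl (S.e * k) * (L.q 1 * L.q 1)) := by
          rw [S.p_sq, L.q_sq, (comm_of_add B.zl_add _ _).eq]
      _ = S.p k * (B.zl (S.e * k) * S.p k) * (L.q 1 * L.q 1) := by rw [c2]; group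
      _ = S.p k * ((B.xa 1 * B.xa 1) * B.zl (S.e * k)) * S.p k * (L.q 1 * L.q 1) := by
          rw [sq_of_add B.xa_add]; group
      _ = (S.p k * B.xa 1 * B.zl (S.e * k)) * B.xa 1 * S.p k * (L.q 1 * L.q 1) := by
          rw [mul_assoc (S.p k * B.xa 1), c1]; group
      _ = B.xa 1 * S.p k * B.xa 1 * (S.p k * L.q 1) * L.q 1 := by rw [← h8]; group
      _ = B.xa 1 * S.p k * (B.xa 1 * L.q 1) * S.p k * L.q 1 := by rw [h6]; group
      _ = B.xa 1 * (S.p k * L.q 1) * (B.xa 1 * (S.p k * L.q 1)) := by rw [← h7]; group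
      _ = 1 := by rw [← hP]; exact h5
  have h10 := zz_inj B (m' := 0) (r' := 0) (h9.trans (by rw [zs_zero, zl_zero, one_mul]))
  exact h10

include hB in
theorem half (hF : 4 ≤ Nat.card F) (h4 : ∃ t1 ∈ Q, ∃ t2 ∈ Q, t1 ≠ 1 ∧ t2 ≠ 1 ∧ t1 ≠ t2)
    (rS : ∀ g : G, (∀ t ∈ Q, ∃ w, g⁻¹ * t * g = t * B.zs w) → ∃ φ, ∀ t ∈ Q, g⁻¹ * t * g = t * B.zs (S.a t * φ)) :
    ∃ k, k ≠ 0 ∧ (∀ t ∈ Q, L.b t + L.e * rt (L.b t) = S.a t * k) ∧ S.c = 0 ∧ L.c = S.e * k := by
  have h1 : ∀ t ∈ Q, (U0 L 1 * (L.q 1)⁻¹)⁻¹ * t * (U0 L 1 * (L.q 1)⁻¹) =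
      t * B.zs (L.b t + L.e * rt (L.b t)) := by
    intro t ht
    show cj (U0 L 1 * (L.q 1)⁻¹) t = _
    have h2 : ∀ z ∈ Z B, cj (L.q 1)⁻¹ z = z := fun z hz => cj_of_comm ((CZq L 1).inv _ hz).symm
    have h3 : cj (L.q 1)⁻¹ t = t * B.zl (L.b t) := by
      apply cj_inv
      rw [cj_mul, cq_t L 1 ht, cq_zl, mul_one, mul_assoc, sq_of_add B.zl_add, mul_one]
    rw [cj_mul_left]
    show cj (L.q 1)⁻¹ (cj (cj (q' L 1) (B.xa 1)) t) = _
    rw [cu_t hB L 1 ht, one_mul, one_pow, one_mul, cj_mul, h3, h2 _ (mul_mem (zs_mem B _) (zl_mem B _)),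
      (B.zs_zl _ _).eq, mul_assoc, ← mul_assoc (B.zl (L.b t)), sq_of_add B.zl_add, one_mul]
  obtain ⟨k, hk⟩ := rS _ (fun t ht => ⟨_, h1 t ht⟩)
  have hk' : ∀ t ∈ Q, L.b t + L.e * rt (L.b t) = S.a t * k := by
    intro t ht
    have h2 := hk t ht
    rw [h1 t ht] at h2
    exact zs_inj B (mul_left_cancel h2)
  have hk0 : k ≠ 0 := by
    rintro rfl
    obtain ⟨t1, ht1, t2, ht2, n1, n2, n12⟩ := h4
    have hb : ∀ t ∈ Q, t ≠ 1 → L.b t = L.e ^ 2 := by
      intro t ht hne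
      have h2 := hk' t ht
      rw [mul_zero] at h2
      have h3 : rt (L.b t) * (rt (L.b t) + L.e) = 0 := by
        have := sq_rt (L.b t)
        calc rt (L.b t) * (rt (L.b t) + L.e) = rt (L.b t) ^ 2 + L.e * rt (L.b t) := by ring
          _ = 0 := by rw [this]; exact h2
      rcases mul_eq_zero.1 h3 with h | h
      · exact absurd (rt_eq_zero h) (L.b_ne t ht hne)
      · have h5 : rt (L.b t) = L.e := by
          have := CharTwo.add_eq_zero.1 h
          exact this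
        rw [← h5, sq_rt]
    have n3 : t1 * t2 ≠ 1 := by
      intro h
      apply n12
      have := hB.sq t2 ht2
      exact mul_right_cancel (h.trans this.symm)
    have h5 := b_mul hB L ht1 ht2
    rw [hb t1 ht1 n1, hb t2 ht2 n2, CharTwo.add_self_eq_zero] at h5
    exact L.b_ne _ (mul_mem ht1 ht2) n3 h5
  obtain ⟨h5, h6⟩ := sq_rel hB S L k hF hk'
  refine ⟨k, hk0, hk', ?_, CharTwo.add_eq_zero.1 h6⟩
  exact (mul_eq_zero.1 h5).resolve_right hk0

end half

/-- the two layers cannot both exist -/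
theorem core {F G : Type*} [Field F] [Group G] {B : Base F G} {Q : Subgroup G} [CharP F 2] [Fintype F]
    (hF : 4 ≤ Fintype.card F) (hB : QB B Q)
    (h4 : ∃ t1 ∈ Q, ∃ t2 ∈ Q, t1 ≠ 1 ∧ t2 ≠ 1 ∧ t1 ≠ t2) (S : ShortQ B Q) (L : LongQ B Q)
    (rS : ∀ g : G, (∀ t ∈ Q, ∃ w, g⁻¹ * t * g = t * B.zs w) → ∃ φ, ∀ t ∈ Q, g⁻¹ * t * g = t * B.zs (S.a t * φ))
    (rL : ∀ g : G, (∀ t ∈ Q, ∃ w, g⁻¹ * t * g = t * B.zl w) → ∃ φ, ∀ t ∈ Q, g⁻¹ * t * g = t * B.zl (L.b t * φ)) :
    False := by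
  rw [← Nat.card_eq_fintype_card] at hF
  obtain ⟨k, hk, h1, h2, h3⟩ := half hB S L hF h4 rS
  obtain ⟨k', hk', h1', h2', h3'⟩ := half (swapQB hB) (swapS L) (swapL S) hF h4 rL
  change ∀ t ∈ Q, S.a t ^ 2 + S.e * rt (S.a t ^ 2) = L.b t * k' at h1'
  change L.c = 0 at h2'
  change S.c ^ 2 = L.e ^ 2 * k' at h3'
  have hLe : L.e = 0 := by
    rw [h2, zero_pow two_ne_zero] at h3'
    have := (mul_eq_zero.1 h3'.symm).resolve_right hk'
    exact pow_eq_zero_iff two_ne_zero |>.1 this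
  have hSe : S.e = 0 := by
    rw [h2'] at h3
    exact (mul_eq_zero.1 h3.symm).resolve_right hk
  have ha : ∀ t ∈ Q, t ≠ 1 → S.a t = k * k' := by
    intro t ht hne
    have e1 := h1 t ht
    have e2 := h1' t ht
    rw [hLe, zero_mul, add_zero] at e1
    rw [hSe, zero_mul, add_zero, e1] at e2
    have e3 : S.a t * (S.a t) = S.a t * (k * k') := by linear_combination e2
    exact mul_left_cancel₀ (S.a_ne t ht hne) e3
  obtain ⟨t1, ht1, t2, ht2, n1, n2, n12⟩ := h4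
  have n3 : t1 * t2 ≠ 1 := by
    intro h
    apply n12
    have := hB.sq t2 ht2
    exact mul_right_cancel (h.trans this.symm)
  have h5 := a_mul hB S ht1 ht2
  rw [ha t1 ht1 n1, ha t2 ht2 n2, CharTwo.add_self_eq_zero] at h5
  exact S.a_ne _ (mul_mem ht1 ht2) n3 h5

end Cfsg.Agent.OddHalf.D4.SpFourCore
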