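import Cfsg.Agent.StdSpFour.Swap
import Cfsg.Agent.StdSpFour.Layer
import Mathlib.GroupTheory.PGroup
import Mathlib.GroupTheory.Commutator.Basic

/-!
# ODD D4, `K = Sp₄(q)`, `q = 2^n ≥ 4`, `m₂(C(K)) ≥ 2` (bb ODD #8684): the interface

Everything is formulated in the coordinates `StdSpFour.Base F G` of `K` (`xa, xb, zs, zl`, torus `h α β`, `na, nb`),
with the involution `B.t` replaced by the elementary abelian group `Q`; the symmetry is `StdSpFour.Swap.swap`.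

* `QC B Q`: `Q` is elementary abelian and centralises `K`. `QB B Q`: moreover the centralisers of `Q V₁`, `Q V₂`,
  `Q Z` and the TI-property of `Q`.
* `IsN4Q B Q m`: `m` centralises `V₁`, centralises `L₁` modulo `V₁`, and moves `t ∈ Q` to `t z`, `z ∈ Z_s`.
* `ShortQ B Q`, `LongQ B Q`: the layers over the short and the long root group.
* `KBase B K`: facts on `K ≅ Sp₄(F)` itself. `KAut B K`: the elements of `N_G(K)` centralising `Z`.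
* `MaxK K Q`: `K` contains the perfect subgroups of `C(Q)` generated by 2-elements.
-/

set_option autoImplicit false

namespace Cfsg.Agent.OddHalf.D4.SpFourDefs

open Cfsg.Agent.StdSpFour Subgroup

variable {F G : Type*} [Field F] [Group G]

/-- `Q` is elementary abelian, centralises `K`, and `Q ∩ U = 1`. -/
structure QC (B : Base F G) (Q : Subgroup G) : Prop where
  t_mem : B.t ∈ Q
  sq : ∀ t ∈ Q, t * t = 1
  xa : ∀ t ∈ Q, ∀ u, Commute t (B.xa u)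
  xb : ∀ t ∈ Q, ∀ u, Commute t (B.xb u)
  zs : ∀ t ∈ Q, ∀ u, Commute t (B.zs u)
  zl : ∀ t ∈ Q, ∀ u, Commute t (B.zl u)
  h : ∀ t ∈ Q, ∀ α β, Commute t (B.h α β)
  na : ∀ t ∈ Q, Commute t B.na
  nb : ∀ t ∈ Q, Commute t B.nb
  disj : ∀ t ∈ Q, ∀ u s m r, B.xa u * B.xb s * B.zs m * B.zl r = t → t = 1

/-- Moreover `C_G(Q V₁) = Q V₁`, `C_G(Q V₂) = Q V₂`, `C_G(Q Z) = Q U`; distinct commuting conjugates of `Q`
intersect trivially. -/
structure QB (B : Base F G) (Q : Subgroup G) : Prop extends QC B Q where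
  cent1 : ∀ g : G, (∀ t ∈ Q, Commute g t) → (∀ u, Commute g (B.xb u)) → (∀ u, Commute g (B.zs u)) →
    (∀ u, Commute g (B.zl u)) → ∃ t ∈ Q, ∃ s m r, g = t * (B.xb s * B.zs m * B.zl r)
  cent2 : ∀ g : G, (∀ t ∈ Q, Commute g t) → (∀ u, Commute g (B.xa u)) → (∀ u, Commute g (B.zs u)) →
    (∀ u, Commute g (B.zl u)) → ∃ t ∈ Q, ∃ s m r, g = t * (B.xa s * B.zs m * B.zl r)
  centZ : ∀ g : G, (∀ t ∈ Q, Commute g t) → (∀ u, Commute g (B.zs u)) → (∀ u, Commute g (B.zl u)) →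
    ∃ t ∈ Q, ∃ u s m r, g = t * (B.xa u * B.xb s * B.zs m * B.zl r)
  ti : ∀ g : G, (∃ x ∈ Q, x ≠ 1 ∧ g⁻¹ * x * g ∈ Q) → (∀ x ∈ Q, ∀ y ∈ Q, Commute x (g⁻¹ * y * g)) →
    ∀ x ∈ Q, g⁻¹ * x * g ∈ Q

/-- Elements which centralise `V₁`, centralise `L₁` modulo `V₁` and translate `Q` by `Z_s`. -/
structure IsN4Q [CharP F 2] (B : Base F G) (Q : Subgroup G) (m : G) : Prop where
  cent : ∀ s k r, Commute m (B.v1 s k r)
  xa : ∀ u, ∃ s k r, m⁻¹ * B.xa u * m = B.xa u * B.v1 s k r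
  tor : ∀ α : Fˣ, ∃ s k r, m⁻¹ * B.h α α⁻¹ * m = B.h α α⁻¹ * B.v1 s k r
  tr : ∀ t ∈ Q, ∃ w, m⁻¹ * t * m = t * B.zs w

/-- `g` moves `Q` inside `Q Z_s`, not trivially. -/
structure MovS (B : Base F G) (Q : Subgroup G) (g : G) : Prop where
  tr : ∀ t ∈ Q, ∃ w, g⁻¹ * t * g = t * B.zs w
  ne : ∃ t ∈ Q, g⁻¹ * t * g ≠ t

/-- The layer over the short root group: `t ^ p m = t * zs (a t * m)`. -/
structure ShortQ (B : Base F G) (Q : Subgroup G) where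
  p : F → G
  a : G → F
  e : F
  c : F
  a_ne : ∀ t ∈ Q, t ≠ 1 → a t ≠ 0
  p_zero : p 0 = 1
  t_p : ∀ t ∈ Q, ∀ m, t * p m = p m * t * B.zs (a t * m)
  p_xb : ∀ m s, Commute (p m) (B.xb s)
  p_zs : ∀ m s, Commute (p m) (B.zs s)
  p_zl : ∀ m s, Commute (p m) (B.zl s)
  p_p : ∀ m m', Commute (p m) (p m')
  p_add : ∀ m m', ∃ k, p m * p m' = p (m + m') * B.zs k
  p_sq : ∀ m, p m * p m = B.zs (c * m)
  xa_p : ∀ u m, B.xa u * p m = p m * B.xa u * B.zl (e * u * m)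
  h_p : ∀ (α β : Fˣ) m, B.h α β * p m = p (α * β * m) * B.h α β

/-- The layer over the long root group: `t ^ q r = t * zl (b t * r)`. -/
structure LongQ (B : Base F G) (Q : Subgroup G) where
  q : F → G
  b : G → F
  e : F
  c : F
  b_ne : ∀ t ∈ Q, t ≠ 1 → b t ≠ 0
  q_zero : q 0 = 1
  t_q : ∀ t ∈ Q, ∀ r, t * q r = q r * t * B.zl (b t * r)
  q_xa : ∀ m s, Commute (q m) (B.xa s)
  q_zs : ∀ m s, Commute (q m) (B.zs s)
  q_zl : ∀ m s, Commute (q m) (B.zl s)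
  q_q : ∀ m m', Commute (q m) (q m')
  q_add : ∀ m m', ∃ k, q m * q m' = q (m + m') * B.zl k
  q_sq : ∀ r, q r * q r = B.zl (c * r)
  /-- `[x_b(s²), q(r²)] = z_s(e s r)` -/
  xb_q : ∀ s r, B.xb (s ^ 2) * q (r ^ 2) = q (r ^ 2) * B.xb (s ^ 2) * B.zs (e * (s * r))
  h_q : ∀ (α β : Fˣ) r, B.h α β * q r = q (α ^ 2 * β * r) * B.h α β

/-- Facts on `K ≅ Sp₄(F)` in the coordinates `B`. -/
structure KBase (B : Base F G) (K : Subgroup G) : Prop where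
  xa_mem : ∀ u, B.xa u ∈ K
  xb_mem : ∀ u, B.xb u ∈ K
  zs_mem : ∀ u, B.zs u ∈ K
  zl_mem : ∀ u, B.zl u ∈ K
  h_mem : ∀ α β, B.h α β ∈ K
  na_mem : B.na ∈ K
  nb_mem : B.nb ∈ K
  na_sq : B.na * B.na = 1
  nb_sq : B.nb * B.nb = 1
  na_eq : B.na = B.xa 1 * (B.na * B.xa 1 * B.na⁻¹) * B.xa 1
  nb_eq : B.nb = B.xb 1 * (B.nb * B.xb 1 * B.nb⁻¹) * B.xb 1
  tor_a : ∀ α : Fˣ, B.h α α⁻¹ ∈ closure ({B.na} ∪ Set.range B.xa : Set G)
  tor_b : ∀ α : Fˣ, B.h α (α ^ 2)⁻¹ ∈ closure ({B.nb} ∪ Set.range B.xb : Set G)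
  gen : K ≤ closure ({B.na, B.nb} ∪ (Set.range B.xa ∪ Set.range B.xb) : Set G)
  /-- subgroups between `U H` and the parabolic `⟨U H, n_a⟩` -/
  bruhat_a : ∀ D : Subgroup G, D ≤ K → (∀ u, B.xa u ∈ D) → (∀ u, B.xb u ∈ D) → (∀ α β, B.h α β ∈ D) →
    B.nb ∉ D → ∀ g ∈ D, (∃ u s m r α β, g = B.xa u * B.xb s * B.zs m * B.zl r * B.h α β) ∨
      ∃ u s m r α β k, g = B.xa u * B.xb s * B.zs m * B.zl r * B.h α β * B.na * B.xa k
  bruhat_b : ∀ D : Subgroup G, D ≤ K → (∀ u, B.xa u ∈ D) → (∀ u, B.xb u ∈ D) → (∀ α β, B.h α β ∈ D) →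
    B.na ∉ D → ∀ g ∈ D, (∃ u s m r α β, g = B.xa u * B.xb s * B.zs m * B.zl r * B.h α β) ∨
      ∃ u s m r α β k, g = B.xa u * B.xb s * B.zs m * B.zl r * B.h α β * B.nb * B.xb k
  /-- Sylow: every 2-subgroup of `K` is conjugate into `U` -/
  syl : ∀ P : Subgroup G, P ≤ K → IsPGroup 2 P →
    ∃ k ∈ K, ∀ x ∈ P, ∃ u s m r, k * x * k⁻¹ = B.xa u * B.xb s * B.zs m * B.zl r
  center : ∀ g ∈ K, (∀ x ∈ K, Commute g x) → g = 1

/-- An element of `N_G(K)` centralising `Z = Z_s Z_l` acts on `K` as an element of `U`. -/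
def KAut (B : Base F G) (K : Subgroup G) : Prop :=
  ∀ g ∈ normalizer (K : Set G), (∀ u, Commute g (B.zs u)) → (∀ u, Commute g (B.zl u)) →
    ∃ u s m r, ∀ x ∈ K, Commute ((B.xa u * B.xb s * B.zs m * B.zl r)⁻¹ * g) x

/-- `K` contains the perfect subgroups of `C(Q)` generated by elements of 2-power order. -/
def MaxK (K Q : Subgroup G) : Prop :=
  ∀ P : Subgroup G, ⁅P, P⁆ = P → P ≤ closure {x | x ∈ P ∧ ∃ k : ℕ, x ^ 2 ^ k = 1} →
    (∀ x ∈ P, ∀ t ∈ Q, Commute x t) → P ≤ K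

end Cfsg.Agent.OddHalf.D4.SpFourDefs
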