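import Mathlib
import Cfsg.Agent.OddHalf.D4.Pair3
import Cfsg.Agent.OddHalf.D4.SpFourDefs

/-!
# ODD D4: full pairs, general facts used for `K = Sp₄(q)`

`Env K`: `C(K)` tightly embedded, of 2-rank at least two, `K` simple, no two distinct conjugates of `K` commute, perfect
subgroups of `N(K)` induce inner automorphisms on `K`. `maxK`: `K` contains the perfect subgroups of `C(Q)` generated by
2-elements.
-/

set_option autoImplicit false
set_option linter.unusedSectionVars false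

namespace Cfsg.Agent.OddHalf.D4.SpFourFr

open Subgroup Cfsg.Agent.OddHalf.D4 Cfsg.Agent.OddHalf.D4.Basic
open Cfsg.Agent.OddHalf.D4.CommConj (Tight cj mem_cj cj_mul card_cj mem_cj_mul cj_eq_of_mem_normalizer
  mem_normalizer_of_cj_eq)
open Cfsg.Agent.OddHalf.D4.SpFourDefs (MaxK)

variable {G : Type*} [Group G]

/-- The hypotheses on `K`. -/
structure Env (K : Subgroup G) : Prop where
  tight : TightAt K
  cen : ∀ x ∈ K, x ∈ centralizer (K : Set G) → x = 1
  simple : ∀ N ≤ K, (∀ k ∈ K, ∀ n ∈ N, k * n * k⁻¹ ∈ N) → N = ⊥ ∨ N = K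
  ne : K ≠ ⊥
  nocomm : ∀ g ∉ normalizer (K : Set G), ¬ ∀ a ∈ K, ∀ b ∈ K, a * (g * b * g⁻¹) = g * b * g⁻¹ * a
  sch : ∀ P ≤ normalizer (K : Set G), ⁅P, P⁆ = P → P ≤ K ⊔ centralizer (K : Set G)
  four : ∃ a b : G, a ∈ centralizer (K : Set G) ∧ b ∈ centralizer (K : Set G) ∧ orderOf a = 2 ∧ orderOf b = 2 ∧
    a * b = b * a ∧ a ≠ b

theorem Env.even [Finite G] {K : Subgroup G} (h : Env K) : Even (Nat.card ↥(centralizer (K : Set G))) := by
  obtain ⟨a, _, ha, _, ha2, _⟩ := h.four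
  exact even_of_mem ha2 ha

theorem Env.cj {K : Subgroup G} (h : Env K) (g : G) : Env (CommConj.cj g K) where
  tight := h.tight.cj g
  cen := by
    intro x hx hxc
    rw [centralizer_cj, mem_cj] at hxc
    rw [mem_cj] at hx
    have h3 := h.cen _ hx hxc
    have e1 : x = g * (g⁻¹ * x * g) * g⁻¹ := by group
    rw [e1, h3]; simp
  simple := by
    intro N hN hn
    rcases h.simple (CommConj.cj g⁻¹ N) (by
      intro x hx
      rw [mem_cj, inv_inv] at hx
      have h1 := hN hx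
      rw [mem_cj] at h1
      have e : g⁻¹ * (g * x * g⁻¹) * g = x := by group
      rwa [e] at h1) (by
      intro k hk n hn'
      rw [mem_cj, inv_inv] at hn' ⊢
      have h1 := hn _ (mem_cj_mul (g := g) hk) _ hn'
      have e : g * k * g⁻¹ * (g * n * g⁻¹) * (g * k * g⁻¹)⁻¹ = g * (k * n * k⁻¹) * g⁻¹ := by group
      rwa [e] at h1) with h1 | h1
    · left
      have h2 := congrArg (CommConj.cj g) h1
      rw [cj_cj_inv] at h2
      rw [h2]
      exact map_bot _
    · right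
      have h2 := congrArg (CommConj.cj g) h1
      rwa [cj_cj_inv] at h2
  ne := by
    intro h1
    apply h.ne
    have h2 := congrArg (CommConj.cj g⁻¹) h1
    rw [cj_inv_cj] at h2
    rw [h2]; exact map_bot _
  nocomm := by
    intro x hx hcon
    apply h.nocomm (g⁻¹ * x * g)
    · intro h1
      apply hx
      rw [normalizer_cj, mem_cj]
      exact h1
    · intro a ha b hb
      have h1 := hcon _ (mem_cj_mul (g := g) ha) _ (mem_cj_mul (g := g) hb)
      have e1 : a * (g⁻¹ * x * g * b * (g⁻¹ * x * g)⁻¹) = g⁻¹ * (g * a * g⁻¹ * (x * (g * b * g⁻¹) * x⁻¹)) * g := by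
        group
      have e2 : g⁻¹ * x * g * b * (g⁻¹ * x * g)⁻¹ * a = g⁻¹ * (x * (g * b * g⁻¹) * x⁻¹ * (g * a * g⁻¹)) * g := by
        group
      rw [e1, h1, e2]
  sch := by
    intro P hP hPP
    have h1 : CommConj.cj g⁻¹ P ≤ K ⊔ centralizer (K : Set G) := by
      apply h.sch
      · intro x hx
        rw [mem_cj, inv_inv] at hx
        have h2 := hP hx
        rw [normalizer_cj, mem_cj] at h2
        have e : g⁻¹ * (g * x * g⁻¹) * g = x := by group
        rwa [e] at h2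
      · rw [← Subgroup.map_commutator, hPP]
    intro x hx
    have h2 : g⁻¹ * x * g ∈ CommConj.cj g⁻¹ P := by
      rw [mem_cj, inv_inv]
      have e : g * (g⁻¹ * x * g) * g⁻¹ = x := by group
      rwa [e]
    obtain ⟨k, hk, c, hc, e⟩ := exists_decomp (h1 h2)
    have e1 : x = (g * k * g⁻¹) * (g * c * g⁻¹) := by
      calc x = g * (g⁻¹ * x * g) * g⁻¹ := by group
        _ = _ := by rw [e]; group
    rw [e1, centralizer_cj]
    exact mul_mem_sup (mem_cj_mul hk) (mem_cj_mul hc)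
  four := by
    obtain ⟨a, b, ha, hb, ha2, hb2, hab, hne⟩ := h.four
    refine ⟨g * a * g⁻¹, g * b * g⁻¹, ?_, ?_, ?_, ?_, ?_, ?_⟩
    · rw [centralizer_cj]; exact mem_cj_mul ha
    · rw [centralizer_cj]; exact mem_cj_mul hb
    · rw [Basic.orderOf_conj]; exact ha2
    · rw [Basic.orderOf_conj]; exact hb2
    · calc g * a * g⁻¹ * (g * b * g⁻¹) = g * (a * b) * g⁻¹ := by group
        _ = _ := by rw [hab]; group
    · intro h1
      apply hne
      calc a = g⁻¹ * (g * a * g⁻¹) * g := by group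
        _ = b := by rw [h1]; group

variable [Finite G] {K L Q R : Subgroup G}

theorem two_pow_of_isPGroup {P : Subgroup G} (hP : IsPGroup 2 ↥P) {x : G} (hx : x ∈ P) : ∃ k : ℕ, x ^ 2 ^ k = 1 := by
  obtain ⟨k, hk⟩ := hP ⟨x, hx⟩
  exact ⟨k, congrArg Subtype.val hk⟩

theorem isPGroup_zpowers {x : G} (hx : ∃ k : ℕ, x ^ 2 ^ k = 1) : IsPGroup 2 ↥(zpowers x) := by
  obtain ⟨k, hk⟩ := hx
  rw [IsPGroup.iff_card, Nat.card_zpowers]
  obtain ⟨m, -, hm⟩ := (Nat.dvd_prime_pow Nat.prime_two).mp (orderOf_dvd_of_pow_eq_one hk)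
  exact ⟨m, hm⟩

/-- a 2-element of `X` commuting with the Sylow subgroup `Q` of `X` lies in `Q` -/
theorem mem_of_comm_syl {X : Subgroup G} (hQ : IsSyl Q X) {c : G} (hc : c ∈ X) (h2 : ∃ k : ℕ, c ^ 2 ^ k = 1)
    (hcQ : ∀ t ∈ Q, c * t = t * c) : c ∈ Q := by
  have h3 : IsPGroup 2 ↥(zpowers c ⊔ Q) := by
    apply (isPGroup_zpowers h2).to_sup_of_normal_left' hQ.two
    intro t ht
    rw [mem_normalizer_iff]
    have h4 : ∀ n : ℤ, t * c ^ n * t⁻¹ = c ^ n := by
      intro n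
      have h5 : Commute t (c ^ n) := (Commute.zpow_right (show Commute t c from (hcQ t ht).symm) n)
      rw [h5.eq]; group
    intro x
    constructor
    · rintro ⟨n, rfl⟩
      exact ⟨n, (h4 n).symm⟩
    · rintro ⟨n, hn⟩
      refine ⟨n, ?_⟩
      have h5 : t * x * t⁻¹ = t * c ^ n * t⁻¹ := by rw [h4 n]; exact hn.symm
      exact (mul_left_cancel (mul_right_cancel h5)).symm
  exact hQ.max _ h3 le_sup_right (sup_le (by rw [zpowers_le]; exact hc) hQ.le) (mem_sup_left (mem_zpowers c))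

/-- an element `≠ 1` of a 2-group has a power which is an involution -/
theorem exists_pow_inv {x : G} (h2 : ∃ k : ℕ, x ^ 2 ^ k = 1) (h1 : x ≠ 1) : ∃ n : ℕ, orderOf (x ^ n) = 2 := by
  obtain ⟨n, hn⟩ := CommConj.exists_pow_involution (isPGroup_zpowers h2) (mem_zpowers x) h1
  exact ⟨n, hn⟩

/-- the centralizer of `x ∈ C(L)`, `x ≠ 1` a 2-element, normalizes `L` -/
theorem TightAt.mem2 (hL : TightAt L) {x y : G} (hx : x ∈ centralizer (L : Set G)) (h2 : ∃ k : ℕ, x ^ 2 ^ k = 1)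
    (h1 : x ≠ 1) (hy : y * x = x * y) : y ∈ normalizer (L : Set G) := by
  obtain ⟨n, hn⟩ := exists_pow_inv h2 h1
  exact TightAt.mem hL (pow_mem hx n) hn ((show Commute y x from hy).pow_right n).eq

/-- **`K` contains the perfect subgroups of `C(Q)` generated by 2-elements.** -/
theorem Env.maxK (h : Env K) (hQ : IsSyl Q (centralizer (K : Set G))) : MaxK K Q := by
  intro P hPP hgen hcomm
  obtain ⟨q, hq, hq2⟩ := exists_inv_syl hQ h.even
  have hPN : P ≤ normalizer (K : Set G) := fun p hp => h.tight.mem (hQ.le hq) hq2 (hcomm p hp q hq).eq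
  have hP := h.sch P hPN hPP
  obtain ⟨π, hπ, hπ'⟩ := exists_proj h.cen
  let f : ↥P →* G := π.comp (inclusion hP)
  -- the images of the 2-elements lie in `Q`
  have hcQ : ∀ p : ↥P, ∀ t ∈ Q, f p * t = t * f p := by
    intro p t ht
    obtain ⟨k, hk, he⟩ := hπ' (inclusion hP p)
    exact comm_of_decomp hk he (hQ.le ht) (hcomm p p.2 t ht).eq
  have hmem : ∀ p : ↥P, (∃ k : ℕ, (p : G) ^ 2 ^ k = 1) → f p ∈ Q := by
    intro p ⟨k, hk⟩
    refine mem_of_comm_syl hQ (hπ _) ⟨k, ?_⟩ (hcQ p)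
    rw [← map_pow]
    have : p ^ 2 ^ k = 1 := Subtype.ext hk
    rw [this, map_one]
  have hrange : ∀ p : ↥P, f p ∈ Q := by
    intro p
    have h1 : (p : G) ∈ closure {x | x ∈ P ∧ ∃ k : ℕ, x ^ 2 ^ k = 1} := hgen p.2
    have h2 : ∀ x, x ∈ closure {x | x ∈ P ∧ ∃ k : ℕ, x ^ 2 ^ k = 1} → ∀ hx : x ∈ P, f ⟨x, hx⟩ ∈ Q := by
      intro x hx
      induction hx using Subgroup.closure_induction with
      | mem y hy => intro hyP; exact hmem _ hy.2
      | one => intro h1; rw [show (⟨1, h1⟩ : ↥P) = 1 from rfl, map_one]; exact Q.one_mem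
      | mul y z hy hz ihy ihz =>
        intro hyz
        have hyP : y ∈ P := by
          have : closure {x | x ∈ P ∧ ∃ k : ℕ, x ^ 2 ^ k = 1} ≤ P := by
            rw [closure_le]; rintro x ⟨hx, _⟩; exact hx
          exact this hy
        have hzP : z ∈ P := by
          have : closure {x | x ∈ P ∧ ∃ k : ℕ, x ^ 2 ^ k = 1} ≤ P := by
            rw [closure_le]; rintro x ⟨hx, _⟩; exact hx
          exact this hz
        rw [show (⟨y * z, hyz⟩ : ↥P) = ⟨y, hyP⟩ * ⟨z, hzP⟩ from rfl, map_mul]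
        exact Q.mul_mem (ihy hyP) (ihz hzP)
      | inv y hy ihy =>
        intro hyi
        have hyP : y ∈ P := by
          have := P.inv_mem hyi
          rwa [inv_inv] at this
        rw [show (⟨y⁻¹, hyi⟩ : ↥P) = (⟨y, hyP⟩ : ↥P)⁻¹ from rfl, map_inv]
        exact Q.inv_mem (ihy hyP)
    exact h2 _ h1 p.2
  have hcom : commutator ↥P = ⊤ := by
    rw [eq_top_iff, _root_.commutator_def]
    have h2 : (⁅(⊤ : Subgroup ↥P), (⊤ : Subgroup ↥P)⁆ : Subgroup ↥P).map P.subtype = P := by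
      rw [Subgroup.map_commutator, ← MonoidHom.range_eq_map, Subgroup.range_subtype, hPP]
    intro p _
    have h3 : (p : G) ∈ (⁅(⊤ : Subgroup ↥P), (⊤ : Subgroup ↥P)⁆ : Subgroup ↥P).map P.subtype := by
      rw [h2]; exact p.2
    obtain ⟨q, hq, hqp⟩ := h3
    have h4 : q = p := Subtype.ext hqp
    rw [← h4]; exact hq
  have hker : f.ker = ⊤ := by
    rw [eq_top_iff, ← hcom, _root_.commutator_def, commutator_le]
    intro p _ q _
    rw [MonoidHom.mem_ker, map_commutatorElement, commutatorElement_eq_one_iff_mul_comm]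
    exact hcQ p _ (hrange q)
  intro p hp
  obtain ⟨k, hk, he⟩ := hπ' (inclusion hP ⟨p, hp⟩)
  have h3 : (⟨p, hp⟩ : ↥P) ∈ f.ker := by rw [hker]; trivial
  rw [MonoidHom.mem_ker] at h3
  have h4 : π (inclusion hP ⟨p, hp⟩) = 1 := h3
  rw [h4, mul_one] at he
  have h5 : p = k := he
  rw [h5]; exact hk

/-! ### Frames -/

/-- `K`, `L`, `Q`, `R`. -/
structure Fr (K L Q R : Subgroup G) : Prop where
  env : Env K
  fp : FullPair K L Q R

theorem Fr.envL (h : Fr K L Q R) : Env L := by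
  obtain ⟨g, _, rfl⟩ := h.fp.conj
  exact h.env.cj g

theorem Fr.symm (h : Fr K L Q R) : Fr L K R Q := ⟨h.envL, h.fp.symm⟩

theorem Fr.leR (h : Fr K L Q R) : R ≤ normalizer (K : Set G) := h.fp.leU h.env.tight h.env.even

theorem Fr.leQ (h : Fr K L Q R) : Q ≤ normalizer (L : Set G) := h.fp.leQ h.env.tight h.env.even

theorem Fr.two (h : Fr K L Q R) {x : G} (hx : x ∈ R) : ∃ k : ℕ, x ^ 2 ^ k = 1 := two_pow_of_isPGroup h.fp.sylU.two hx

/-- `C(x) ≤ N(L)` for `1 ≠ x ∈ R` -/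
theorem Fr.mem (h : Fr K L Q R) {x y : G} (hx : x ∈ R) (h1 : x ≠ 1) (hy : y * x = x * y) :
    y ∈ normalizer (L : Set G) :=
  TightAt.mem2 h.envL.tight (h.fp.sylU.le hx) (h.two hx) h1 hy

/-- no 2-element `≠ 1` centralizes `K` and `L` -/
theorem Fr.eq_one (h : Fr K L Q R) {x : G} (hx : x ∈ centralizer (K : Set G)) (hx' : x ∈ centralizer (L : Set G))
    (h2 : ∃ k : ℕ, x ^ 2 ^ k = 1) : x = 1 := by
  by_contra h1
  obtain ⟨n, hn⟩ := exists_pow_inv h2 h1
  exact h.fp.noInv h.env.tight (pow_mem hx n) (pow_mem hx' n) hn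

/-- **`(*)`** `K` does not normalize `L`. -/
theorem Fr.star (h : Fr K L Q R) : ¬ K ≤ normalizer (L : Set G) := by
  intro hle
  have h1 := h.env.simple (K ⊓ centralizer (L : Set G)) inf_le_left (by
    rintro k hk n ⟨hn, hn'⟩
    exact ⟨K.mul_mem (K.mul_mem hk hn) (K.inv_mem hk), centralizer_conj_mem (hle hk) hn'⟩)
  rcases h1 with h1 | h1
  · -- `[K, R] = 1`
    obtain ⟨r, hr, hr2⟩ := exists_inv_syl h.fp.sylU h.envL.even
    have h2 : r ∈ centralizer (K : Set G) := by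
      rw [mem_centralizer_iff]
      intro k hk
      have h3 := commutator_mem (K := K) (L := L) hk (hle hk) (h.fp.sylU.le hr) (h.leR hr)
      have h4 : k * r * k⁻¹ * r⁻¹ ∈ K ⊓ centralizer (L : Set G) := h3
      rw [h1, mem_bot] at h4
      calc k * r = (k * r * k⁻¹ * r⁻¹) * (r * k) := by group
        _ = r * k := by rw [h4, one_mul]
    exact h.fp.noInv h.env.tight h2 (h.fp.sylU.le hr) hr2
  · obtain ⟨g, hg, hL⟩ := h.fp.conj
    apply h.env.nocomm g hg
    intro a ha b hb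
    have h2 : a ∈ centralizer (L : Set G) := by
      have : a ∈ K ⊓ centralizer (L : Set G) := by rw [h1]; exact ha
      exact this.2
    rw [mem_centralizer_iff] at h2
    exact (h2 _ (by rw [hL]; exact mem_cj_mul hb)).symm

/-- conjugation of a frame by an element of `K` -/
theorem Fr.conj (h : Fr K L Q R) {k : G} (hk : k ∈ K) : Fr K (cj k L) Q (cj k R) := by
  refine ⟨h.env, ?_⟩
  obtain ⟨g, hg, hL⟩ := h.fp.conj
  refine ⟨⟨k * g, ?_, ?_⟩, h.fp.sylQ, ?_, ?_⟩
  · intro h1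
    apply hg
    have h2 := mul_mem (inv_mem (le_normalizer (H := K) hk)) h1
    rwa [inv_mul_cancel_left] at h2
  · rw [hL, cj_mul]
  · rw [centralizer_cj]
    exact h.fp.sylU.cj k
  · intro q hq u hu
    rw [mem_cj] at hu
    have h1 := h.fp.comm q hq _ hu
    have h2 : k * q = q * k := mem_centralizer_iff.mp (h.fp.sylQ.le hq) k hk
    calc q * u = q * k * (k⁻¹ * u * k) * k⁻¹ := by group
      _ = k * (q * (k⁻¹ * u * k)) * k⁻¹ := by rw [← h2]; group
      _ = k * (k⁻¹ * u * k) * (q * k⁻¹) := by rw [h1]; group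
      _ = u * k * (q * k⁻¹) := by group
      _ = u * (k * q) * k⁻¹ := by group
      _ = u * q := by rw [h2]; group

/-- 2-elements of `K ∩ C(L)` if `R ∩ K = 1` -/
theorem Fr.eq_one_of_inf (h : Fr K L Q R) (hRK : ∀ x ∈ R, x ∈ K → x = 1) {y : G} (hy : y ∈ K)
    (hy' : y ∈ centralizer (L : Set G)) (h2 : ∃ k : ℕ, y ^ 2 ^ k = 1) : y = 1 := by
  have hS : IsSyl R (centralizer (L : Set G) ⊓ normalizer (K : Set G)) :=
    h.fp.sylU.mono (le_inf h.fp.sylU.le h.leR) inf_le_left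
  obtain ⟨m, hm, hmy⟩ := hS.conj_into (isPGroup_zpowers h2) (by
    rw [zpowers_le]; exact ⟨hy', le_normalizer hy⟩)
  have h3 := hmy y (mem_zpowers y)
  have h4 := hRK _ h3 ((mem_normalizer_iff.mp hm.2 y).mp hy)
  calc y = m⁻¹ * (m * y * m⁻¹) * m := by group
    _ = 1 := by rw [h4]; group

/-- `K` contains a Sylow 2-subgroup normalised by `R` -/
theorem Fr.exists_syl (h : Fr K L Q R) : ∃ S : Subgroup G, IsSyl S K ∧ ∀ x ∈ R, ∀ s ∈ S, x * s * x⁻¹ ∈ S := by
  obtain ⟨T, hT, hRT⟩ := exists_isSyl h.fp.sylU.two h.leR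
  refine ⟨T ⊓ K, hT.inf le_normalizer hT.le, ?_⟩
  rintro x hx s ⟨hs, hsK⟩
  exact ⟨T.mul_mem (T.mul_mem (hRT hx) hs) (T.inv_mem (hRT hx)), (mem_normalizer_iff.mp (h.leR hx) s).mp hsK⟩

/-- two commuting involutions in `R` -/
theorem Fr.exists_four (h : Fr K L Q R) : ∃ x ∈ R, ∃ y ∈ R, x * x = 1 ∧ y * y = 1 ∧ x * y = y * x ∧ x ≠ 1 ∧ y ≠ 1 ∧
    x ≠ y := by
  obtain ⟨a, b, ha, hb, ha2, hb2, hab, hne⟩ := h.envL.four
  have hfour : IsPGroup 2 ↥(zpowers a ⊔ zpowers b) := by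
    have h1 : IsPGroup 2 ↥(zpowers a) := by
      rw [IsPGroup.iff_card]; exact ⟨1, by rw [Nat.card_zpowers, ha2]; norm_num⟩
    have h2 : IsPGroup 2 ↥(zpowers b) := by
      rw [IsPGroup.iff_card]; exact ⟨1, by rw [Nat.card_zpowers, hb2]; norm_num⟩
    apply h1.to_sup_of_normal_left' h2
    rw [zpowers_le, mem_normalizer_iff]
    have h3 : ∀ n : ℤ, b * a ^ n * b⁻¹ = a ^ n := by
      intro n
      have h4 : Commute b (a ^ n) := (Commute.zpow_right (show Commute b a from hab.symm) n)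
      rw [h4.eq]; group
    intro x
    constructor
    · rintro ⟨n, rfl⟩
      exact ⟨n, (h3 n).symm⟩
    · rintro ⟨n, hn⟩
      refine ⟨n, ?_⟩
      have h5 : b * x * b⁻¹ = b * a ^ n * b⁻¹ := by rw [h3 n]; exact hn.symm
      exact (mul_left_cancel (mul_right_cancel h5)).symm
  obtain ⟨m, hm, hmq⟩ := h.fp.sylU.conj_into hfour (sup_le (by rw [zpowers_le]; exact ha) (by rw [zpowers_le]; exact hb))
  have hma : orderOf (m * a * m⁻¹) = 2 := by rw [Basic.orderOf_conj]; exact ha2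
  have hmb : orderOf (m * b * m⁻¹) = 2 := by rw [Basic.orderOf_conj]; exact hb2
  refine ⟨m * a * m⁻¹, hmq a (mem_sup_left (mem_zpowers a)), m * b * m⁻¹, hmq b (mem_sup_right (mem_zpowers b)),
    ?_, ?_, ?_, ?_, ?_, ?_⟩
  · rw [← pow_two, ← hma, pow_orderOf_eq_one]
  · rw [← pow_two, ← hmb, pow_orderOf_eq_one]
  · calc m * a * m⁻¹ * (m * b * m⁻¹) = m * (a * b) * m⁻¹ := by group
      _ = m * (b * a) * m⁻¹ := by rw [hab]
      _ = m * b * m⁻¹ * (m * a * m⁻¹) := by group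
  · intro h1
    rw [h1, orderOf_one] at hma
    exact absurd hma (by norm_num)
  · intro h1
    rw [h1, orderOf_one] at hmb
    exact absurd hmb (by norm_num)
  · intro he
    exact hne (mul_left_cancel (mul_right_cancel he))

end Cfsg.Agent.OddHalf.D4.SpFourFr
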