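import Cfsg.Agent.OddHalf.D4.SpFourDefs
import Cfsg.Agent.StdSpFour.ShortMake

/-!
# ODD D4, `K = Sp₄(q)`, `m₂(C(K)) ≥ 2`: the layers over the root groups

[S1] of bb ODD #10764. `exists_shortQ`: one element of `IsN4Q B Q` moving an element of `Q` gives a short
layer; `exists_longQ` by the graph symmetry; `ShortQ.ratio`, `ShortQ.a_mul`, `LongQ.ratio`, `LongQ.b_mul`.
-/

set_option autoImplicit false
set_option linter.unusedSectionVars false

namespace Cfsg.Agent.OddHalf.D4.SpFourShort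

open Cfsg.Agent.StdSpFour Cfsg.Agent.StdSpFour.Base Subgroup
open Cfsg.Agent.OddHalf.D4.SpFourDefs

variable {F G : Type*} [Field F] [Group G] {B : Base F G} {Q : Subgroup G}

/-! ### generalities on `Q` -/

theorem QC.one_of_zs (hQ : QC B Q) {w : F} (h : B.zs w ∈ Q) [CharP F 2] : w = 0 := by
  have h1 := hQ.disj _ h 0 0 w 0 (by rw [B.xa_zero, B.xb_zero, B.zl_zero, one_mul, one_mul, mul_one])
  have h2 := B.inj 0 0 w 0 (by rw [B.xa_zero, B.xb_zero, B.zl_zero, one_mul, one_mul, mul_one, h1])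
  exact h2.2.2.1

theorem QC.one_of_zl (hQ : QC B Q) {w : F} (h : B.zl w ∈ Q) [CharP F 2] : w = 0 := by
  have h1 := hQ.disj _ h 0 0 0 w (by rw [B.xa_zero, B.xb_zero, B.zs_zero, one_mul, one_mul, one_mul])
  have h2 := B.inj 0 0 0 w (by rw [B.xa_zero, B.xb_zero, B.zs_zero, one_mul, one_mul, one_mul, h1])
  exact h2.2.2.2

theorem QC.one_of_v1 (hQ : QC B Q) {s m r : F} (h : B.v1 s m r ∈ Q) [CharP F 2] : B.v1 s m r = 1 :=
  hQ.disj _ h 0 s m r (by rw [B.xa_zero, one_mul]; rfl)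

theorem QC.t_ne_one (_hQ : QC B Q) [CharP F 2] : B.t ≠ 1 := by
  intro h
  apply B.t_ne 0 0 0 0
  rw [B.xa_zero, B.xb_zero, B.zs_zero, B.zl_zero, one_mul, one_mul, one_mul, h]

theorem QC.inv (hQ : QC B Q) {t : G} (ht : t ∈ Q) : t⁻¹ = t :=
  inv_eq_of_mul_eq_one_left (hQ.sq t ht)

theorem QC.comm (hQ : QC B Q) {x y : G} (hx : x ∈ Q) (hy : y ∈ Q) : Commute x y := by
  show x * y = y * x
  calc x * y = (x * y)⁻¹ := (QC.inv hQ (Q.mul_mem hx hy)).symm
    _ = y⁻¹ * x⁻¹ := mul_inv_rev _ _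
    _ = y * x := by rw [QC.inv hQ hx, QC.inv hQ hy]

theorem QC.v1 (hQ : QC B Q) {t : G} (ht : t ∈ Q) (s m r : F) : Commute t (B.v1 s m r) :=
  ((hQ.xb t ht s).mul_right (hQ.zs t ht m)).mul_right (hQ.zl t ht r)

variable [CharP F 2]

/-- the TI-property for elements translating `Q` by `Z_s` -/
theorem ti_zs (hB : QB B Q) {g : G} (hg : ∀ t ∈ Q, ∃ w, g⁻¹ * t * g = t * B.zs w) {t₁ : G}
    (h1 : t₁ ∈ Q) (hne : t₁ ≠ 1) (hc : g⁻¹ * t₁ * g = t₁) : ∀ t ∈ Q, Commute g t := by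
  have h2 := hB.ti g ⟨t₁, h1, hne, by rw [hc]; exact h1⟩ (by
    intro x hx y hy
    obtain ⟨w, hw⟩ := hg y hy
    rw [hw]
    exact (QC.comm hB.toQC hx hy).mul_right (hB.zs x hx w))
  intro t ht
  obtain ⟨w, hw⟩ := hg t ht
  have h3 := h2 t ht
  rw [hw] at h3
  have h4 : B.zs w ∈ Q := (Subgroup.mul_mem_cancel_left Q ht).1 h3
  have h5 := QC.one_of_zs hB.toQC h4
  rw [h5, B.zs_zero, mul_one] at hw
  have h6 : t * g = g * t := by
    calc t * g = g * (g⁻¹ * t * g) := by group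
      _ = g * t := by rw [hw]
  exact h6.symm

namespace N4

theorem conj_inv {m l : G} (hm : IsN4Q B Q m) {s k r : F} (h : m⁻¹ * l * m = l * B.v1 s k r) :
    m * l * m⁻¹ = l * B.v1 s k r := by
  have h1 : l * m = m * (l * B.v1 s k r) := by rw [← h]; group
  have h2 : m * l = l * m * B.v1 s k r := by
    rw [h1, mul_assoc m, mul_assoc l, B.v1_v1, mul_one]
  rw [h2, mul_assoc l, (hm.cent s k r).eq]
  group

/-- translation part of a product -/
theorem tr_mul {m n t : G} (hn : IsN4Q B Q n) {w w' : F} (h1 : m⁻¹ * t * m = t * B.zs w)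
    (h2 : n⁻¹ * t * n = t * B.zs w') : (m * n)⁻¹ * t * (m * n) = t * B.zs (w + w') := by
  rw [add_comm, B.zs_add, ← mul_assoc t, ← h2]
  calc (m * n)⁻¹ * t * (m * n) = n⁻¹ * (m⁻¹ * t * m) * n := by group
      _ = n⁻¹ * t * (B.zs w * n) := by rw [h1]; group
      _ = n⁻¹ * t * n * B.zs w := by rw [← v1_zs, ← (hn.cent 0 w 0).eq]; group

theorem tr_inv {m t : G} (hm : IsN4Q B Q m) {w : F} (h : m⁻¹ * t * m = t * B.zs w) :
    m * t * m⁻¹ = t * B.zs w := by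
  rw [← v1_zs] at h ⊢
  exact conj_inv hm h

theorem mul {m n : G} (hm : IsN4Q B Q m) (hn : IsN4Q B Q n) : IsN4Q B Q (m * n) := by
  have aux : ∀ l : G, (∃ s k r, m⁻¹ * l * m = l * B.v1 s k r) → (∃ s k r, n⁻¹ * l * n = l * B.v1 s k r) →
      ∃ s k r, (m * n)⁻¹ * l * (m * n) = l * B.v1 s k r := by
    rintro l ⟨s, k, r, h1⟩ ⟨s', k', r', h2⟩
    refine ⟨s' + s, k' + k, r' + r, ?_⟩
    rw [← B.v1_mul, ← mul_assoc l, ← h2]
    calc (m * n)⁻¹ * l * (m * n) = n⁻¹ * (m⁻¹ * l * m) * n := by group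
      _ = n⁻¹ * l * (B.v1 s k r * n) := by rw [h1]; group
      _ = n⁻¹ * l * n * B.v1 s k r := by rw [← (hn.cent s k r).eq]; group
  refine ⟨fun s k r => (hm.cent s k r).mul_left (hn.cent s k r), fun u => aux _ (hm.xa u) (hn.xa u),
    fun α => aux _ (hm.tor α) (hn.tor α), fun t ht => ?_⟩
  obtain ⟨w, h1⟩ := hm.tr t ht
  obtain ⟨w', h2⟩ := hn.tr t ht
  exact ⟨w + w', tr_mul hn h1 h2⟩

theorem inv {m : G} (hm : IsN4Q B Q m) : IsN4Q B Q m⁻¹ := by
  refine ⟨fun s k r => (hm.cent s k r).inv_left, ?_, ?_, ?_⟩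
  · intro u
    obtain ⟨s, k, r, h⟩ := hm.xa u
    exact ⟨s, k, r, by rw [inv_inv]; exact conj_inv hm h⟩
  · intro u
    obtain ⟨s, k, r, h⟩ := hm.tor u
    exact ⟨s, k, r, by rw [inv_inv]; exact conj_inv hm h⟩
  · intro t ht
    obtain ⟨w, h⟩ := hm.tr t ht
    exact ⟨w, by rw [inv_inv]; exact tr_inv hm h⟩

theorem commute_of_tr {m t : G} (h : m⁻¹ * t * m = t * B.zs 0) : Commute m t := by
  rw [B.zs_zero, mul_one] at h
  have : t * m = m * t := by
    calc t * m = m * (m⁻¹ * t * m) := by group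
      _ = m * t := by rw [h]
  exact this.symm

/-- an element of `N₄` commuting with one involution of `Q` commutes with `Q` -/
theorem commQ (hB : QB B Q) {m t : G} (hm : IsN4Q B Q m) (ht : t ∈ Q) (ht1 : t ≠ 1)
    (hc : Commute m t) : ∀ x ∈ Q, Commute m x := by
  refine ti_zs hB hm.tr ht ht1 ?_
  rw [mul_assoc, ← hc.eq, inv_mul_cancel_left]

theorem cent_t (hB : QB B Q) {m t : G} (hm : IsN4Q B Q m) (ht : t ∈ Q) (ht1 : t ≠ 1)
    (hc : Commute m t) : ∃ t' ∈ Q, ∃ s k r, m = t' * B.v1 s k r := by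
  refine hB.cent1 m (commQ hB hm ht ht1 hc) (fun u => ?_) (fun u => ?_) (fun u => ?_)
  · rw [← v1_xb]; exact hm.cent _ _ _
  · rw [← v1_zs]; exact hm.cent _ _ _
  · rw [← v1_zl]; exact hm.cent _ _ _

theorem sq (hB : QB B Q) {m : G} (hm : IsN4Q B Q m) : ∃ s k r, m * m = B.v1 s k r := by
  obtain ⟨w, hw⟩ := hm.tr B.t hB.t_mem
  have h1 := tr_mul hm hw hw
  rw [CharTwo.add_self_eq_zero] at h1
  obtain ⟨t', ht', s, k, r, h⟩ := cent_t hB (mul hm hm) hB.t_mem (QC.t_ne_one hB.toQC)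
    (commute_of_tr h1)
  by_cases ht1 : t' = 1
  · exact ⟨s, k, r, by rw [h, ht1, one_mul]⟩
  · exfalso
    have h2 : Commute m t' := by
      have h3 : Commute m (m * m) := (Commute.refl m).mul_right (Commute.refl m)
      have h4 : t' = m * m * B.v1 s k r := by rw [h, mul_assoc, B.v1_v1, mul_one]
      rw [h4]
      exact h3.mul_right (hm.cent s k r)
    obtain ⟨t'', ht'', s', k', r', h3⟩ := cent_t hB hm ht' ht1 h2
    have h6 : m * m = 1 := by
      rw [h3]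
      have hc := (QC.v1 hB.toQC ht'' s' k' r').eq
      calc t'' * B.v1 s' k' r' * (t'' * B.v1 s' k' r')
          = (B.v1 s' k' r' * t'') * (t'' * B.v1 s' k' r') := by rw [hc]
        _ = B.v1 s' k' r' * (t'' * t'') * B.v1 s' k' r' := by group
        _ = 1 := by rw [hB.sq t'' ht'', mul_one, B.v1_v1]
    rw [h6] at h
    have h7 : B.v1 s k r = t' := by
      calc B.v1 s k r = t'⁻¹ * (t' * B.v1 s k r) := by group
        _ = t' := by rw [← h, mul_one, QC.inv hB.toQC ht']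
    have h8 := QC.one_of_v1 hB.toQC (by rw [h7]; exact ht')
    exact ht1 (by rw [← h7, h8])

theorem comm (hB : QB B Q) {m n : G} (hm : IsN4Q B Q m) (hn : IsN4Q B Q n) :
    ∃ s k r, m * n = n * m * B.v1 s k r := by
  obtain ⟨s1, k1, r1, h1⟩ := sq hB hm
  obtain ⟨s2, k2, r2, h2⟩ := sq hB hn
  obtain ⟨s3, k3, r3, h3⟩ := sq hB (mul hm hn)
  have e1 : m⁻¹ = m * B.v1 s1 k1 r1 := by
    apply inv_eq_of_mul_eq_one_right
    rw [← mul_assoc, h1, B.v1_v1]
  have e2 : n⁻¹ = B.v1 s2 k2 r2 * n := by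
    rw [← (hn.cent _ _ _).eq]
    apply inv_eq_of_mul_eq_one_right
    rw [← mul_assoc, h2, B.v1_v1]
  have e3 : n * m = m⁻¹ * B.v1 s3 k3 r3 * n⁻¹ := by rw [← h3]; group
  have e4 : n * m = m * n * B.v1 (s1 + s3 + s2) (k1 + k3 + k2) (r1 + r3 + r2) := by
    rw [e3, e1, e2, ← B.v1_mul, ← B.v1_mul]
    have c1 := (hn.cent s1 k1 r1).eq
    have c2 := (hn.cent s2 k2 r2).eq
    have c3 := (hn.cent s3 k3 r3).eq
    calc m * B.v1 s1 k1 r1 * B.v1 s3 k3 r3 * (B.v1 s2 k2 r2 * n)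
        = m * B.v1 s1 k1 r1 * B.v1 s3 k3 r3 * (n * B.v1 s2 k2 r2) := by rw [c2]
      _ = m * B.v1 s1 k1 r1 * (B.v1 s3 k3 r3 * n) * B.v1 s2 k2 r2 := by group
      _ = m * (B.v1 s1 k1 r1 * n) * B.v1 s3 k3 r3 * B.v1 s2 k2 r2 := by rw [← c3]; group
      _ = _ := by rw [← c1]; group
  refine ⟨s1 + s3 + s2, k1 + k3 + k2, r1 + r3 + r2, ?_⟩
  rw [e4, mul_assoc, B.v1_v1, mul_one]

/-- the elements of `V₁` are in `N₄` -/
theorem of_v1 (hQ : QC B Q) (s k r : F) : IsN4Q B Q (B.v1 s k r) := by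
  have h0 := IsN4.of_v1 (B := B) s k r
  refine ⟨h0.cent, h0.xa, h0.tor, fun t ht => ⟨0, ?_⟩⟩
  rw [B.v1_inv, ← (QC.v1 hQ ht s k r).eq, mul_assoc, B.v1_v1, mul_one, B.zs_zero, mul_one]

theorem tr_conj (hQ : QC B Q) {m t : G} (ht : t ∈ Q) {w : F} (hw : m⁻¹ * t * m = t * B.zs w)
    (β : Fˣ) :
    (B.h 1 β * m * (B.h 1 β)⁻¹)⁻¹ * t * (B.h 1 β * m * (B.h 1 β)⁻¹) = t * B.zs (β * w) := by
  have h3 := (hQ.h t ht 1 β).eq
  rw [← h1_zs]
  calc (B.h 1 β * m * (B.h 1 β)⁻¹)⁻¹ * t * (B.h 1 β * m * (B.h 1 β)⁻¹)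
      = B.h 1 β * m⁻¹ * ((B.h 1 β)⁻¹ * (t * B.h 1 β)) * m * (B.h 1 β)⁻¹ := by group
    _ = B.h 1 β * (m⁻¹ * t * m) * (B.h 1 β)⁻¹ := by rw [h3]; group
    _ = (B.h 1 β * t) * B.zs w * (B.h 1 β)⁻¹ := by rw [hw]; group
    _ = _ := by rw [← h3]; group

/-- conjugation by the torus element `h 1 β` -/
theorem conj_h (hQ : QC B Q) {m : G} (hm : IsN4Q B Q m) (β : Fˣ) :
    IsN4Q B Q (B.h 1 β * m * (B.h 1 β)⁻¹) := by
  set h := B.h 1 β with hh
  have hv : ∀ s k r, h * B.v1 s k r * h⁻¹ = B.v1 (β * s) (β * k) (β * r) := by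
    intro s k r
    rw [hh, B.h_v1]
    simp
  have hv' : ∀ s k r, h⁻¹ * B.v1 s k r * h = B.v1 ((β⁻¹ : Fˣ) * s) ((β⁻¹ : Fˣ) * k) ((β⁻¹ : Fˣ) * r) := by
    intro s k r
    rw [hh, B.h_inv, B.h_v1, mul_assoc, ← B.h_mul]
    simp [B.h_one]
  have aux : ∀ l : G, Commute h l → (∃ s k r, m⁻¹ * l * m = l * B.v1 s k r) →
      ∃ s k r, (h * m * h⁻¹)⁻¹ * l * (h * m * h⁻¹) = l * B.v1 s k r := by
    rintro l hl ⟨s, k, r, h1⟩
    refine ⟨β * s, β * k, β * r, ?_⟩
    rw [← hv]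
    calc (h * m * h⁻¹)⁻¹ * l * (h * m * h⁻¹) = h * m⁻¹ * (h⁻¹ * (l * h)) * m * h⁻¹ := by group
      _ = h * (m⁻¹ * l * m) * h⁻¹ := by rw [← hl.eq]; group
      _ = (h * l) * B.v1 s k r * h⁻¹ := by rw [h1]; group
      _ = _ := by rw [hl.eq]; group
  refine ⟨?_, ?_, ?_, ?_⟩
  · intro s k r
    have h1 := (hm.cent ((β⁻¹ : Fˣ) * s) ((β⁻¹ : Fˣ) * k) ((β⁻¹ : Fˣ) * r)).eq
    rw [← hv'] at h1
    show h * m * h⁻¹ * B.v1 s k r = B.v1 s k r * (h * m * h⁻¹)
    calc h * m * h⁻¹ * B.v1 s k r = h * (m * (h⁻¹ * B.v1 s k r * h)) * h⁻¹ := by group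
      _ = _ := by rw [h1]; group
  · intro u
    refine aux _ ?_ (hm.xa u)
    show h * B.xa u = B.xa u * h
    rw [hh, B.h_xa]; simp
  · intro α
    exact aux _ (B.h_comm _ _ _ _) (hm.tor α)
  · intro t ht
    obtain ⟨w, hw⟩ := hm.tr t ht
    exact ⟨β * w, tr_conj hQ ht hw β⟩

/-- an element of `N₄` with the same translations commuting with `T_a` -/
theorem exists_comm [Fintype F] (hF : 4 ≤ Fintype.card F) (hQ : QC B Q) {m : G}
    (hm : IsN4Q B Q m) :
    ∃ y, IsN4Q B Q y ∧ (∀ t ∈ Q, y⁻¹ * t * y = m⁻¹ * t * m) ∧ ∀ α : Fˣ, Commute y (B.h α α⁻¹) := by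
  classical
  obtain ⟨ζ, hζ⟩ := IsCyclic.exists_generator (α := Fˣ)
  have hζ1 : (ζ : F) ≠ 1 := by
    intro h1
    obtain ⟨β, hβ⟩ := exists_unit_ne hF
    obtain ⟨k, hk⟩ := Subgroup.mem_zpowers_iff.1 (hζ β)
    have h2 : ζ = 1 := Units.ext h1
    rw [h2, one_zpow] at hk
    exact hβ hk.symm
  set h := B.h ζ ζ⁻¹ with hh
  obtain ⟨s, k, r, h1⟩ := hm.tor ζ
  rw [← hh] at h1
  -- powers
  have hpow : ∀ n : ℕ, ∃ a b, (h * B.v1 s k r) ^ n = h ^ n * B.v1 a (n * k) b := by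
    intro n
    induction n with
    | zero => exact ⟨0, 0, by simp [B.v1_zero]⟩
    | succ n ih =>
      obtain ⟨a, b, hab⟩ := ih
      refine ⟨ζ * a + s, ((ζ⁻¹ : Fˣ) : F) * b + r, ?_⟩
      rw [pow_succ, hab, pow_succ]
      calc h ^ n * B.v1 a (n * k) b * (h * B.v1 s k r) = h ^ n * (B.v1 a (n * k) b * h) * B.v1 s k r := by group
        _ = h ^ n * (h * B.v1 (ζ * a) (n * k) (((ζ⁻¹ : Fˣ) : F) * b)) * B.v1 s k r := by rw [hh, ha_v1]
        _ = h ^ n * h * (B.v1 (ζ * a) (n * k) (((ζ⁻¹ : Fˣ) : F) * b) * B.v1 s k r) := by group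
        _ = _ := by rw [B.v1_mul]; congr 2; push_cast; ring
  have hhn : ∀ n : ℕ, h ^ n = B.h (ζ ^ n) (ζ⁻¹ ^ n) := by
    intro n
    induction n with
    | zero => simp [B.h_one]
    | succ n ih => rw [pow_succ, ih, hh, ← B.h_mul, pow_succ, pow_succ]
  have hk0 : k = 0 := by
    obtain ⟨a, b, hab⟩ := hpow (Fintype.card Fˣ)
    have e1 : h ^ Fintype.card Fˣ = 1 := by
      rw [hhn, inv_pow, pow_card_eq_one, inv_one, B.h_one]
    have e2 : (h * B.v1 s k r) ^ Fintype.card Fˣ = 1 := by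
      rw [← h1]
      have : (m⁻¹ * h * m) ^ Fintype.card Fˣ = m⁻¹ * h ^ Fintype.card Fˣ * m := by
        have := conj_pow (i := Fintype.card Fˣ) (a := m⁻¹) (b := h)
        rw [inv_inv] at this
        exact this
      rw [this, e1]; group
    rw [e2, e1, one_mul, ← B.v1_zero] at hab
    have h3 := (B.v1_inj hab).2.1
    have hcard : ((Fintype.card Fˣ : ℕ) : F) = 1 := by
      have h4 : Fintype.card Fˣ = Fintype.card F - 1 := Fintype.card_units F
      have h5 : (Fintype.card F : F) = 0 := FiniteField.cast_card_eq_zero F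
      have h6 : Fintype.card Fˣ + 1 = Fintype.card F := by omega
      have h7 : ((Fintype.card Fˣ : ℕ) : F) + 1 = 0 := by
        rw [← h5, ← h6]; push_cast; rfl
      exact FieldAux.eq_of_add_eq_zero h7
    rw [hcard, one_mul] at h3
    exact h3.symm
  subst hk0
  have hz1 : (1 : F) + ζ ≠ 0 := fun h3 => hζ1 (FieldAux.eq_of_add_eq_zero h3).symm
  have hz2 : (1 : F) + ((ζ⁻¹ : Fˣ) : F) ≠ 0 := by
    intro h3
    have h4 := FieldAux.eq_of_add_eq_zero h3
    apply hζ1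
    rw [Units.val_inv_eq_inv_val] at h4
    rw [← inv_inv (ζ : F), ← h4, inv_one]
  set s' := (1 + (ζ : F))⁻¹ * s with hs'
  set r' := (1 + ((ζ⁻¹ : Fˣ) : F))⁻¹ * r with hr'
  have es : s = s' + ζ * s' := by
    rw [hs']
    field_simp
  have er : r = r' + ((ζ⁻¹ : Fˣ) : F) * r' := by
    rw [hr', show (1 + ((ζ⁻¹ : Fˣ) : F))⁻¹ * r + ((ζ⁻¹ : Fˣ) : F) * ((1 + ((ζ⁻¹ : Fˣ) : F))⁻¹ * r) =
      ((1 + ((ζ⁻¹ : Fˣ) : F)) * (1 + ((ζ⁻¹ : Fˣ) : F))⁻¹) * r by ring, mul_inv_cancel₀ hz2, one_mul]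
  have hy : Commute (m * B.v1 s' 0 r') h := by
    have h5 : h * m = m * (h * B.v1 s 0 r) := by rw [← h1]; group
    show m * B.v1 s' 0 r' * h = h * (m * B.v1 s' 0 r')
    calc m * B.v1 s' 0 r' * h = m * (B.v1 s' 0 r' * h) := by group
      _ = m * (h * B.v1 (ζ * s') 0 (((ζ⁻¹ : Fˣ) : F) * r')) := by rw [hh, ha_v1]
      _ = m * (h * (B.v1 s 0 r * B.v1 s' 0 r')) := by
          rw [B.v1_mul]
          congr 3
          · rw [es, add_comm s', add_assoc, CharTwo.add_self_eq_zero, add_zero]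
          · rw [add_zero]
          · rw [er, add_comm r', add_assoc, CharTwo.add_self_eq_zero, add_zero]
      _ = h * m * B.v1 s' 0 r' := by rw [h5]; group
      _ = _ := by group
  refine ⟨m * B.v1 s' 0 r', mul hm (of_v1 hQ _ _ _), ?_, ?_⟩
  · intro t ht
    obtain ⟨w, hw⟩ := hm.tr t ht
    calc (m * B.v1 s' 0 r')⁻¹ * t * (m * B.v1 s' 0 r')
        = (B.v1 s' 0 r')⁻¹ * (m⁻¹ * t * m) * B.v1 s' 0 r' := by group
      _ = t * B.zs w := by
        rw [hw, ← v1_zs]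
        have h6 : Commute (B.v1 s' 0 r') (t * B.v1 0 w 0) :=
          (QC.v1 hQ ht _ _ _).symm.mul_right (B.v1_comm _ _ _ _ _ _)
        calc (B.v1 s' 0 r')⁻¹ * (t * B.v1 0 w 0) * B.v1 s' 0 r'
            = (B.v1 s' 0 r')⁻¹ * ((t * B.v1 0 w 0) * B.v1 s' 0 r') := by group
          _ = _ := by rw [← h6.eq]; group
      _ = _ := hw.symm
  · intro α
    obtain ⟨k, hk⟩ := Subgroup.mem_zpowers_iff.1 (hζ α)
    have h7 : B.h α α⁻¹ = h ^ k := by
      let φ : Fˣ →* G := MonoidHom.mk' (fun x => B.h x x⁻¹) (fun x y => by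
        rw [mul_inv, B.h_mul])
      have h8 : φ α = φ ζ ^ k := by rw [← map_zpow, hk]
      exact h8
    rw [h7]
    exact hy.zpow_right k

end N4

/-! ### elements of `N₄` commuting with `T_a` -/

variable (B Q) in
/-- elements of `N₄` commuting with `T_a` -/
structure IsX (m : G) : Prop extends IsN4Q B Q m where
  comm_h : ∀ α : Fˣ, Commute m (B.h α α⁻¹)

namespace IsX

theorem mul {m n : G} (hm : IsX B Q m) (hn : IsX B Q n) : IsX B Q (m * n) :=
  ⟨N4.mul hm.toIsN4Q hn.toIsN4Q, fun α => (hm.comm_h α).mul_left (hn.comm_h α)⟩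

theorem inv {m : G} (hm : IsX B Q m) : IsX B Q m⁻¹ :=
  ⟨N4.inv hm.toIsN4Q, fun α => (hm.comm_h α).inv_left⟩

theorem conj_h (hQ : QC B Q) {m : G} (hm : IsX B Q m) (β : Fˣ) :
    IsX B Q (B.h 1 β * m * (B.h 1 β)⁻¹) :=
  ⟨N4.conj_h hQ hm.toIsN4Q β, fun α =>
    ((B.h_comm 1 β α α⁻¹).mul_left (hm.comm_h α)).mul_left (B.h_comm 1 β α α⁻¹).inv_left⟩

theorem zs_comm {m : G} (hm : IsX B Q m) (k : F) : Commute m (B.zs k) := by
  rw [← v1_zs]; exact hm.cent _ _ _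

variable [Fintype F] (hF : 4 ≤ Fintype.card F)
include hF

theorem cent_t (hB : QB B Q) {m : G} (hm : IsX B Q m) (ht : Commute m B.t) :
    ∃ t' ∈ Q, ∃ k, m = t' * B.zs k := by
  obtain ⟨t', ht', s, k, r, h⟩ := N4.cent_t hB hm.toIsN4Q hB.t_mem (QC.t_ne_one hB.toQC) ht
  have h3 : ∀ α : Fˣ, Commute (B.v1 s k r) (B.h α α⁻¹) := by
    intro α
    have h4 : B.v1 s k r = t'⁻¹ * m := by rw [h]; group
    rw [h4]
    exact (hB.h t' ht' α α⁻¹).inv_left.mul_left (hm.comm_h α)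
  obtain ⟨h1, h2⟩ := IsX.v1_zero_of_comm (B := B) hF h3
  exact ⟨t', ht', k, by rw [h, h1, h2, v1_zs]⟩

theorem sq (hB : QB B Q) {m : G} (hm : IsX B Q m) : ∃ k, m * m = B.zs k := by
  obtain ⟨s, k, r, h⟩ := N4.sq hB hm.toIsN4Q
  obtain ⟨h1, h2⟩ := IsX.v1_zero_of_comm (B := B) hF (s := s) (k := k) (r := r) (by
    rw [← h]; exact fun α => (hm.comm_h α).mul_left (hm.comm_h α))
  exact ⟨k, by rw [h, h1, h2, v1_zs]⟩

theorem comm (hB : QB B Q) {m n : G} (hm : IsX B Q m) (hn : IsX B Q n) :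
    ∃ k, m * n = n * m * B.zs k := by
  obtain ⟨s, k, r, h⟩ := N4.comm hB hm.toIsN4Q hn.toIsN4Q
  obtain ⟨h1, h2⟩ := IsX.v1_zero_of_comm (B := B) hF (s := s) (k := k) (r := r) (by
    have h3 : B.v1 s k r = (n * m)⁻¹ * (m * n) := by rw [h]; group
    rw [h3]
    exact fun α => ((hn.comm_h α).mul_left (hm.comm_h α)).inv_left.mul_left
      ((hm.comm_h α).mul_left (hn.comm_h α)))
  exact ⟨k, by rw [h, h1, h2, v1_zs]⟩

end IsX

/-! ### ratios -/

theorem mul_tr {t m : G} {w : F} : t * m = m * t * B.zs w ↔ m⁻¹ * t * m = t * B.zs w := by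
  constructor
  · intro h
    calc m⁻¹ * t * m = m⁻¹ * (t * m) := by group
      _ = t * B.zs w := by rw [h]; group
  · intro h
    calc t * m = m * (m⁻¹ * t * m) := by group
      _ = m * t * B.zs w := by rw [h]; group

/-- Comparison of the translations of two elements, one of them centralising `Z_s`. -/
theorem ratio_aux (hB : QB B Q) {g m : G} (hg : ∀ t ∈ Q, ∃ w, g⁻¹ * t * g = t * B.zs w)
    {a : G → F} (hm : ∀ t ∈ Q, m⁻¹ * t * m = t * B.zs (a t)) (hmz : ∀ w, Commute m (B.zs w))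
    (h1 : g⁻¹ * B.t * g = m⁻¹ * B.t * m) : ∀ t ∈ Q, g⁻¹ * t * g = t * B.zs (a t) := by
  have hmi : ∀ t ∈ Q, m * t * m⁻¹ = t * B.zs (a t) := by
    intro t ht
    have h2 := hm t ht
    have h3 : t = (m * t * m⁻¹) * B.zs (a t) := by
      calc t = m * (m⁻¹ * t * m) * m⁻¹ := by group
        _ = m * t * (B.zs (a t) * m⁻¹) := by rw [h2]; group
        _ = m * t * (m⁻¹ * B.zs (a t)) := by rw [((hmz (a t)).inv_left).eq]
        _ = _ := by group
    calc m * t * m⁻¹ = (m * t * m⁻¹) * (B.zs (a t) * B.zs (a t)) := by rw [B.zs_zs, mul_one]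
      _ = t * B.zs (a t) := by rw [← mul_assoc, ← h3]
  have hgm : ∀ t ∈ Q, ∀ w, g⁻¹ * t * g = t * B.zs w →
      (g * m⁻¹)⁻¹ * t * (g * m⁻¹) = t * B.zs (a t + w) := by
    intro t ht w hw
    calc (g * m⁻¹)⁻¹ * t * (g * m⁻¹) = m * (g⁻¹ * t * g) * m⁻¹ := by group
      _ = m * t * (B.zs w * m⁻¹) := by rw [hw]; group
      _ = (m * t * m⁻¹) * B.zs w := by rw [← ((hmz w).inv_left).eq]; group
      _ = t * B.zs (a t + w) := by rw [hmi t ht, B.zs_add, mul_assoc]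
  have h4 : ∀ t ∈ Q, Commute (g * m⁻¹) t := by
    refine ti_zs hB (fun t ht => ?_) hB.t_mem (QC.t_ne_one hB.toQC) ?_
    · obtain ⟨w, hw⟩ := hg t ht
      exact ⟨_, hgm t ht w hw⟩
    · have h5 : g⁻¹ * B.t * g = B.t * B.zs (a B.t) := by rw [h1, hm _ hB.t_mem]
      rw [hgm _ hB.t_mem _ h5, CharTwo.add_self_eq_zero, B.zs_zero, mul_one]
  intro t ht
  obtain ⟨w, hw⟩ := hg t ht
  have h5 := hgm t ht w hw
  have h6 : (g * m⁻¹)⁻¹ * t * (g * m⁻¹) = t := by
    rw [mul_assoc, ← (h4 t ht).eq, inv_mul_cancel_left]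
  rw [h6] at h5
  have h7 : B.zs (a t + w) = 1 := (left_eq_mul.1 h5)
  have h8 : a t + w = 0 := QC.one_of_zs hB.toQC (by rw [h7]; exact Q.one_mem)
  rw [hw, FieldAux.eq_of_add_eq_zero h8]

theorem ShortQ.ratio (hB : QB B Q) (S : ShortQ B Q) {g : G}
    (hg : ∀ t ∈ Q, ∃ w, g⁻¹ * t * g = t * B.zs w) :
    ∃ φ, ∀ t ∈ Q, g⁻¹ * t * g = t * B.zs (S.a t * φ) := by
  obtain ⟨w, hw⟩ := hg B.t hB.t_mem
  have ha := S.a_ne B.t hB.t_mem (QC.t_ne_one hB.toQC)
  refine ⟨(S.a B.t)⁻¹ * w, ratio_aux hB hg (m := S.p ((S.a B.t)⁻¹ * w))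
    (a := fun t => S.a t * ((S.a B.t)⁻¹ * w)) (fun t ht => mul_tr.1 (S.t_p t ht _))
    (fun w => S.p_zs _ w) ?_⟩
  rw [mul_tr.1 (S.t_p B.t hB.t_mem _), hw, mul_inv_cancel_left₀ ha]

theorem ShortQ.a_mul (hB : QB B Q) (S : ShortQ B Q) {t t' : G} (ht : t ∈ Q) (ht' : t' ∈ Q) :
    S.a (t * t') = S.a t + S.a t' := by
  have h1 := mul_tr.1 (S.t_p t ht 1)
  have h2 := mul_tr.1 (S.t_p t' ht' 1)
  have h3 := mul_tr.1 (S.t_p (t * t') (Q.mul_mem ht ht') 1)
  rw [mul_one] at h1 h2 h3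
  have h4 : (S.p 1)⁻¹ * (t * t') * S.p 1 = t * t' * B.zs (S.a t + S.a t') := by
    calc (S.p 1)⁻¹ * (t * t') * S.p 1 = ((S.p 1)⁻¹ * t * S.p 1) * ((S.p 1)⁻¹ * t' * S.p 1) := by group
      _ = t * (B.zs (S.a t) * t') * B.zs (S.a t') := by rw [h1, h2]; group
      _ = t * (t' * B.zs (S.a t)) * B.zs (S.a t') := by rw [(hB.zs t' ht' _).eq]
      _ = _ := by rw [B.zs_add]; group
  rw [h3] at h4
  have h5 := mul_left_cancel h4
  rw [← v1_zs, ← v1_zs] at h5
  exact (B.v1_inj h5).2.1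

theorem ShortQ.a_inj (hB : QB B Q) (S : ShortQ B Q) {t t' : G} (ht : t ∈ Q) (ht' : t' ∈ Q)
    (h : S.a t = S.a t') : t = t' := by
  by_contra hne
  apply S.a_ne (t * t') (Q.mul_mem ht ht')
  · intro h1
    apply hne
    rw [← QC.inv hB.toQC ht']
    exact eq_inv_of_mul_eq_one_left h1
  · rw [ShortQ.a_mul hB S ht ht', h, CharTwo.add_self_eq_zero]

/-! ### construction of the short layer -/

theorem exists_shortQ [Fintype F] (hF : 4 ≤ Fintype.card F) (hB : QB B Q) {m0 : G}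
    (h0 : IsN4Q B Q m0) (hne : ∃ t ∈ Q, m0⁻¹ * t * m0 ≠ t) : Nonempty (ShortQ B Q) := by
  classical
  have hQ := hB.toQC
  obtain ⟨y0, hy0N, hy0t, hy0h⟩ := N4.exists_comm hF hQ h0
  have hy0 : IsX B Q y0 := ⟨hy0N, hy0h⟩
  obtain ⟨w0, hyw⟩ := hy0N.tr B.t hB.t_mem
  have hw0 : w0 ≠ 0 := by
    rintro rfl
    obtain ⟨t, ht, hne⟩ := hne
    apply hne
    have h1 := N4.commQ hB hy0N hB.t_mem (QC.t_ne_one hQ) (N4.commute_of_tr hyw) t ht
    rw [← hy0t t ht, mul_assoc, ← h1.eq, inv_mul_cancel_left]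
  -- the translations
  have hyα : ∀ t : G, ∃ w, t ∈ Q → y0⁻¹ * t * y0 = t * B.zs w := by
    intro t
    by_cases ht : t ∈ Q
    · obtain ⟨w, hw⟩ := hy0N.tr t ht
      exact ⟨w, fun _ => hw⟩
    · exact ⟨0, fun h => absurd h ht⟩
  choose α0 hα0 using hyα
  set a : G → F := fun t => w0⁻¹ * α0 t with ha
  have hαa : ∀ t, α0 t = w0 * a t := fun t => by
    rw [ha]; field_simp
  have haBt : a B.t = 1 := by
    have h1 := hα0 B.t hB.t_mem
    rw [hyw] at h1
    have h2 := mul_left_cancel h1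
    rw [← v1_zs, ← v1_zs] at h2
    have h3 := (B.v1_inj h2).2.1
    rw [ha]
    simp only [← h3]
    exact inv_mul_cancel₀ hw0
  obtain ⟨l, hl⟩ := exists_unit_ne hF
  have hl1 : (1 : F) + l ≠ 0 := fun h => hl (Units.ext (FieldAux.eq_of_add_eq_zero h).symm)
  -- normalise: translation `(1 + l)⁻¹`
  set c : Fˣ := Units.mk0 ((1 + (l : F))⁻¹ * w0⁻¹) (mul_ne_zero (inv_ne_zero hl1) (inv_ne_zero hw0)) with hc
  set y := B.h 1 c * y0 * (B.h 1 c)⁻¹ with hy
  have hyX : IsX B Q y := hy0.conj_h hQ c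
  have hyt : ∀ t ∈ Q, y⁻¹ * t * y = t * B.zs ((1 + (l : F))⁻¹ * a t) := by
    intro t ht
    rw [hy, N4.tr_conj hQ ht (hα0 t ht)]
    congr 2
    rw [hc, Units.val_mk0, hαa]
    field_simp
  -- the family `Y`
  set Y : F → G := fun m => if h : m = 0 then 1 else B.h 1 (Units.mk0 m h) * y * (B.h 1 (Units.mk0 m h))⁻¹ with hY
  have hY0 : Y 0 = 1 := by simp [hY]
  have hYne : ∀ (m : F) (h : m ≠ 0), Y m = B.h 1 (Units.mk0 m h) * y * (B.h 1 (Units.mk0 m h))⁻¹ := by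
    intro m h; simp [hY, h]
  have one_X : IsX B Q 1 := by
    refine ⟨?_, fun α => Commute.one_left _⟩
    have := N4.of_v1 hQ (0 : F) 0 0
    rwa [B.v1_zero] at this
  have hYX : ∀ m, IsX B Q (Y m) := by
    intro m
    by_cases h : m = 0
    · rw [h, hY0]; exact one_X
    · rw [hYne m h]; exact hyX.conj_h hQ _
  have hYt : ∀ t ∈ Q, ∀ m, (Y m)⁻¹ * t * Y m = t * B.zs ((1 + (l : F))⁻¹ * m * a t) := by
    intro t ht m
    by_cases h : m = 0
    · rw [h, hY0, mul_zero, zero_mul, B.zs_zero]; group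
    · rw [hYne m h, N4.tr_conj hQ ht (hyt t ht), Units.val_mk0]
      congr 2
      ring
  have hYh : ∀ (β : Fˣ) m, B.h 1 β * Y m * (B.h 1 β)⁻¹ = Y (β * m) := by
    intro β m
    by_cases h : m = 0
    · rw [h, mul_zero, hY0]; group
    · have h' : (β : F) * m ≠ 0 := mul_ne_zero β.ne_zero h
      rw [hYne m h, hYne _ h']
      have e : B.h 1 (Units.mk0 ((β : F) * m) h') = B.h 1 β * B.h 1 (Units.mk0 m h) := by
        rw [← B.h_mul, mul_one]
        congr 1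
        ext; simp
      rw [e]; group
  -- the family `p`
  set p : F → G := fun m => (Y m)⁻¹ * (B.h 1 l * Y m * (B.h 1 l)⁻¹) with hp
  have hpX : ∀ m, IsX B Q (p m) := fun m => (hYX m).inv.mul ((hYX m).conj_h hQ l)
  have hpt : ∀ t ∈ Q, ∀ m, (p m)⁻¹ * t * p m = t * B.zs (a t * m) := by
    intro t ht m
    have h1 : ((Y m)⁻¹)⁻¹ * t * (Y m)⁻¹ = t * B.zs ((1 + (l : F))⁻¹ * m * a t) := by
      rw [inv_inv]; exact N4.tr_inv (hYX m).toIsN4Q (hYt t ht m)
    have h2 := N4.tr_mul ((hYX m).conj_h hQ l).toIsN4Q h1 (N4.tr_conj hQ ht (hYt t ht m) l)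
    rw [h2]
    congr 2
    field_simp
  have hp0 : p 0 = 1 := by simp only [hp, hY0]; group
  have hph : ∀ (β : Fˣ) m, B.h 1 β * p m * (B.h 1 β)⁻¹ = p (β * m) := by
    intro β m
    simp only [hp]
    rw [← hYh β m]
    have e := (B.h_comm 1 β 1 l).eq
    calc B.h 1 β * ((Y m)⁻¹ * (B.h 1 l * Y m * (B.h 1 l)⁻¹)) * (B.h 1 β)⁻¹
        = (B.h 1 β * (Y m)⁻¹ * (B.h 1 β)⁻¹) * ((B.h 1 β * B.h 1 l) * Y m * (B.h 1 β * B.h 1 l)⁻¹) := by group
      _ = _ := by rw [e]; group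
  have htp : ∀ t ∈ Q, ∀ m, t * p m = p m * t * B.zs (a t * m) := fun t ht m => mul_tr.2 (hpt t ht m)
  -- additivity modulo `Z_s`
  have hpadd : ∀ m m', ∃ k, p m * p m' = p (m + m') * B.zs k := by
    intro m m'
    obtain ⟨x, hx⟩ : ∃ x, x = Y m := ⟨_, rfl⟩
    obtain ⟨b, hb⟩ : ∃ b, b = Y m' := ⟨_, rfl⟩
    obtain ⟨cc, hcc⟩ : ∃ cc, cc = Y (m + m') := ⟨_, rfl⟩
    obtain ⟨H, hH⟩ : ∃ H, H = B.h 1 l := ⟨_, rfl⟩
    have haX : IsX B Q x := hx ▸ hYX m
    have hbX : IsX B Q b := hb ▸ hYX m'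
    have hcX : IsX B Q cc := hcc ▸ hYX (m + m')
    have hta : x⁻¹ * B.t * x = B.t * B.zs ((1 + (l : F))⁻¹ * m) := by
      have := hYt B.t hB.t_mem m
      rw [haBt, mul_one] at this
      rw [hx]; exact this
    have htb : b⁻¹ * B.t * b = B.t * B.zs ((1 + (l : F))⁻¹ * m') := by
      have := hYt B.t hB.t_mem m'
      rw [haBt, mul_one] at this
      rw [hb]; exact this
    have htc : cc⁻¹ * B.t * cc = B.t * B.zs ((1 + (l : F))⁻¹ * (m + m')) := by
      have := hYt B.t hB.t_mem (m + m')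
      rw [haBt, mul_one] at this
      rw [hcc]; exact this
    have hpa : p m = x⁻¹ * (H * x * H⁻¹) := by simp only [hp, hx, hH]
    have hpb : p m' = b⁻¹ * (H * b * H⁻¹) := by simp only [hp, hb, hH]
    have hpc : p (m + m') = cc⁻¹ * (H * cc * H⁻¹) := by simp only [hp, hcc, hH]
    have hHz : ∀ k, H * B.zs k * H⁻¹ = B.zs (l * k) := fun k => by rw [hH, h1_zs]
    -- `x b = cc * d`, `d` centralises `t`
    have hd : ∃ t' ∈ Q, ∃ k, cc⁻¹ * (x * b) = t' * B.zs k := by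
      refine IsX.cent_t hF hB (hcX.inv.mul (haX.mul hbX)) ?_
      refine N4.commute_of_tr (B := B) ?_
      have h1 := N4.tr_mul hbX.toIsN4Q hta htb
      have h2 : (cc⁻¹)⁻¹ * B.t * cc⁻¹ = B.t * B.zs ((1 + (l : F))⁻¹ * (m + m')) := by
        rw [inv_inv]; exact N4.tr_inv hcX.toIsN4Q htc
      have h3 := N4.tr_mul (haX.mul hbX).toIsN4Q h2 h1
      rw [h3]
      congr 2
      rw [mul_add, CharTwo.add_self_eq_zero]
    have hσ : ∀ g : G, IsX B Q g → IsX B Q (H * g * H⁻¹) := fun g hg => by rw [hH]; exact hg.conj_h hQ l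
    obtain ⟨k1, hk1⟩ := IsX.comm hF hB (hσ x haX) hbX.inv
    obtain ⟨k2, hk2⟩ := IsX.comm hF hB hbX haX
    have e1 : p m * p m' = (b * x)⁻¹ * (H * (x * b) * H⁻¹) * B.zs k1 := by
      rw [hpa, hpb]
      have z1 := ((hσ b hbX).zs_comm k1).eq
      calc x⁻¹ * (H * x * H⁻¹) * (b⁻¹ * (H * b * H⁻¹))
          = x⁻¹ * ((H * x * H⁻¹) * b⁻¹) * (H * b * H⁻¹) := by group
        _ = x⁻¹ * b⁻¹ * (H * x * H⁻¹) * (B.zs k1 * (H * b * H⁻¹)) := by rw [hk1]; group
        _ = _ := by rw [← z1]; group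
    have e2 : (b * x)⁻¹ = B.zs k2 * (x * b)⁻¹ := by
      rw [hk2, mul_inv_rev, B.zs_inv]
    have z2 : B.zs k2 * (x * b)⁻¹ * (H * (x * b) * H⁻¹) = (x * b)⁻¹ * (H * (x * b) * H⁻¹) * B.zs k2 := by
      have := ((haX.mul hbX).inv.mul (hσ _ (haX.mul hbX))).zs_comm k2
      rw [this.eq]
      simp only [mul_assoc]
    obtain ⟨t', ht', k, hk⟩ := hd
    have hab : x * b = cc * (t' * B.zs k) := by rw [← hk]; group
    refine ⟨a t' * (m + m') + k + l * k + k2 + k1, ?_⟩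
    rw [e1, e2, z2, hab]
    have e3 : (cc * (t' * B.zs k))⁻¹ * (H * (cc * (t' * B.zs k)) * H⁻¹) =
        p (m + m') * B.zs (a t' * (m + m') + k + l * k) := by
      have ht : H * t' = t' * H := by rw [hH]; exact (hQ.h t' ht' 1 l).symm.eq
      have e4 : H * (cc * (t' * B.zs k)) * H⁻¹ = H * cc * H⁻¹ * (t' * B.zs (l * k)) := by
        rw [← hHz]
        calc H * (cc * (t' * B.zs k)) * H⁻¹ = H * cc * H⁻¹ * (H * t') * B.zs k * H⁻¹ := by group
          _ = _ := by rw [ht]; group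
      rw [e4, mul_inv_rev, mul_inv_rev, B.zs_inv, QC.inv hQ ht', B.zs_add, B.zs_add]
      have z3 := ((hpX (m + m')).zs_comm k).eq
      have t1 := htp t' ht' (m + m')
      have e5 : t' * p (m + m') * t' = p (m + m') * B.zs (a t' * (m + m')) := by
        rw [t1, mul_assoc (p (m + m') * t'), ← (hQ.zs t' ht' (a t' * (m + m'))).eq]
        calc p (m + m') * t' * (t' * B.zs (a t' * (m + m'))) =
              p (m + m') * (t' * t') * B.zs (a t' * (m + m')) := by group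
          _ = _ := by rw [hB.sq t' ht', mul_one]
      calc B.zs k * t' * cc⁻¹ * (H * cc * H⁻¹ * (t' * B.zs (l * k)))
          = B.zs k * (t' * p (m + m') * t') * B.zs (l * k) := by rw [hpc]; group
        _ = (B.zs k * p (m + m')) * B.zs (a t' * (m + m')) * B.zs (l * k) := by rw [e5]; group
        _ = p (m + m') * (B.zs k * B.zs (a t' * (m + m'))) * B.zs (l * k) := by rw [← z3]; group
        _ = _ := by rw [← B.zs_add, add_comm k, B.zs_add]; group
    rw [e3]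
    simp only [B.zs_add, mul_assoc]
  -- commutation
  have hcm : ∀ m m', ∃ k, p m * p m' = p m' * p m * B.zs k := fun m m' => IsX.comm hF hB (hpX m) (hpX m')
  choose β hβ using hcm
  have hzinj : ∀ {k k' : F}, B.zs k = B.zs k' → k = k' := by
    intro k k' h
    rw [← v1_zs, ← v1_zs] at h
    exact (B.v1_inj h).2.1
  have hpz : ∀ m k, p m * B.zs k = B.zs k * p m := fun m k => ((hpX m).zs_comm k).eq
  have hβl : ∀ x y z, β (x + y) z = β x z + β y z := by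
    intro x y z
    obtain ⟨k, hk⟩ := hpadd x y
    have e : p (x + y) = p x * p y * B.zs k := by rw [hk, mul_assoc, B.zs_zs, mul_one]
    apply hzinj
    have h1 := hβ (x + y) z
    have h2 : p (x + y) * p z = p z * p (x + y) * B.zs (β x z + β y z) := by
      rw [e, B.zs_add]
      have a1 := hβ x z
      have a2 := hβ y z
      calc p x * p y * B.zs k * p z = p x * (p y * p z) * B.zs k := by
            rw [mul_assoc (p x * p y), ← hpz z k]; group
        _ = (p x * p z) * p y * B.zs (β y z) * B.zs k := by rw [a2]; group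
        _ = p z * p x * (B.zs (β x z) * p y) * B.zs (β y z) * B.zs k := by rw [a1]; group
        _ = p z * p x * p y * B.zs (β x z) * B.zs (β y z) * B.zs k := by rw [← hpz y]; group
        _ = p z * (p x * p y * B.zs k) * (B.zs (β x z) * B.zs (β y z)) := by
            have : B.zs (β x z) * B.zs (β y z) * B.zs k = B.zs k * (B.zs (β x z) * B.zs (β y z)) := by
              simp only [← B.zs_add]; congr 1; ring
            calc p z * p x * p y * B.zs (β x z) * B.zs (β y z) * B.zs k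
                = p z * p x * p y * (B.zs (β x z) * B.zs (β y z) * B.zs k) := by group
              _ = _ := by rw [this]; group
    exact mul_left_cancel (h1.symm.trans h2)
  have hβs : ∀ x y, β x y = β y x := by
    intro x y
    apply hzinj
    have h1 := hβ x y
    have h2 := hβ y x
    have h3 : p x * p y = p y * p x * B.zs (β y x) := by
      have : p y * p x * B.zs (β y x) = p x * p y * B.zs (β y x) * B.zs (β y x) := by rw [← h2]
      rw [mul_assoc (p x * p y), B.zs_zs, mul_one] at this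
      exact this.symm
    exact mul_left_cancel (h1.symm.trans h3)
  have hβr : ∀ x y z, β x (y + z) = β x y + β x z := by
    intro x y z
    rw [hβs, hβl, hβs y, hβs z]
  have hβh : ∀ k x y, k ≠ 0 → β (k * x) (k * y) = k * β x y := by
    intro k x y hk
    have h1 := hβ x y
    set H := B.h 1 (Units.mk0 k hk) with hH
    have e : ∀ m, H * p m * H⁻¹ = p (k * m) := fun m => by rw [hph, Units.val_mk0]
    have e2 : H * B.zs (β x y) * H⁻¹ = B.zs (k * β x y) := by rw [h1_zs, Units.val_mk0]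
    have h2 : p (k * x) * p (k * y) = p (k * y) * p (k * x) * B.zs (k * β x y) := by
      rw [← e, ← e, ← e2]
      calc H * p x * H⁻¹ * (H * p y * H⁻¹) = H * (p x * p y) * H⁻¹ := by group
        _ = _ := by rw [h1]; group
    exact hzinj (mul_left_cancel ((hβ _ _).symm.trans h2))
  have hβa : ∀ x, β x x = 0 := by
    intro x
    apply hzinj
    rw [B.zs_zero]
    exact (left_eq_mul.1 (hβ x x))
  have hβ0 := FieldAux.alt_zero hβl hβr hβh hβa
  have hpp : ∀ m m', Commute (p m) (p m') := by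
    intro m m'
    have := hβ m m'
    rw [hβ0, B.zs_zero, mul_one] at this
    exact this
  -- squares
  have hsq : ∀ m, ∃ k, p m * p m = B.zs k := fun m => IsX.sq hF hB (hpX m)
  choose f hf using hsq
  have hfh : ∀ k m, k ≠ 0 → f (k * m) = k * f m := by
    intro k m hk
    apply hzinj
    rw [← hf]
    have e : p (k * m) = B.h 1 (Units.mk0 k hk) * p m * (B.h 1 (Units.mk0 k hk))⁻¹ := by
      rw [hph, Units.val_mk0]
    have e2 : B.zs (k * f m) = B.h 1 (Units.mk0 k hk) * B.zs (f m) * (B.h 1 (Units.mk0 k hk))⁻¹ := by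
      rw [h1_zs, Units.val_mk0]
    rw [e, e2, ← hf]; group
  have hf1 : ∀ m, f m = f 1 * m := by
    intro m
    by_cases h : m = 0
    · rw [h, mul_zero]
      apply hzinj
      rw [← hf, hp0, B.zs_zero, one_mul]
    · have := hfh m 1 h
      rw [mul_one] at this
      rw [this, mul_comm]
  -- commutator with `X_a`
  have hxap : ∀ m u, ∃ s k r, (p m)⁻¹ * B.xa u * p m = B.xa u * B.v1 s k r := fun m u => (hpX m).xa u
  choose g1 g2 g3 hg using hxap
  have hgadd : ∀ m u u', g1 m (u + u') = g1 m u + g1 m u' ∧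
      g2 m (u + u') = g2 m u + u' * g1 m u + g2 m u' ∧
      g3 m (u + u') = g3 m u + u' ^ 2 * g1 m u + g3 m u' := by
    intro m u u'
    have h1 := hg m (u + u')
    have e : ∀ s k r, B.v1 s k r * B.xa u' = B.xa u' * B.v1 s (k + u' * s) (r + u' ^ 2 * s) := by
      intro s k r
      rw [B.xa_v1]
      congr 1
      rw [add_assoc, CharTwo.add_self_eq_zero, add_zero, add_assoc, CharTwo.add_self_eq_zero, add_zero]
    have h2 : (p m)⁻¹ * B.xa (u + u') * p m = B.xa (u + u') *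
        B.v1 (g1 m u + g1 m u') (g2 m u + u' * g1 m u + g2 m u') (g3 m u + u' ^ 2 * g1 m u + g3 m u') := by
      calc (p m)⁻¹ * B.xa (u + u') * p m = ((p m)⁻¹ * B.xa u * p m) * ((p m)⁻¹ * B.xa u' * p m) := by
            rw [B.xa_add]; group
        _ = B.xa u * (B.v1 (g1 m u) (g2 m u) (g3 m u) * B.xa u') * B.v1 (g1 m u') (g2 m u') (g3 m u') := by
            rw [hg, hg]; group
        _ = (B.xa u * B.xa u') * (B.v1 (g1 m u) (g2 m u + u' * g1 m u) (g3 m u + u' ^ 2 * g1 m u) *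
              B.v1 (g1 m u') (g2 m u') (g3 m u')) := by rw [e]; group
        _ = _ := by rw [B.v1_mul, B.xa_add]
    rw [h1] at h2
    exact B.v1_inj (mul_left_cancel h2)
  have hg00 : ∀ m, g1 m 0 = 0 ∧ g2 m 0 = 0 ∧ g3 m 0 = 0 := by
    intro m
    have h1 := hg m 0
    rw [B.xa_zero, one_mul] at h1
    have h2 : B.v1 (g1 m 0) (g2 m 0) (g3 m 0) = B.v1 0 0 0 := by
      rw [← h1, B.v1_zero]; group
    exact B.v1_inj h2
  have hg1 : ∀ m u, g1 m u = 0 := by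
    intro m u
    by_cases hu : u = 0
    · rw [hu]; exact (hg00 m).1
    · have h1 := (hgadd m u u).2.1
      rw [CharTwo.add_self_eq_zero, (hg00 m).2.1] at h1
      have h2 : u * g1 m u = 0 := by
        have h3 : g2 m u + u * g1 m u + g2 m u = u * g1 m u + (g2 m u + g2 m u) := by ring
        rw [h3, CharTwo.add_self_eq_zero, add_zero] at h1
        exact h1.symm
      exact (mul_eq_zero.1 h2).resolve_left hu
  have hgh : ∀ m (α : Fˣ) u, g2 m (α * u) = g2 m u ∧ g3 m (α * u) = α * g3 m u := by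
    intro m α u
    have h1 := hg m u
    have hc := ((hpX m).comm_h α)
    have h2 : (p m)⁻¹ * B.xa (α * u) * p m = B.xa (α * u) * B.v1 0 (g2 m u) (α * g3 m u) := by
      have e1 : B.xa (α * u) = B.h α α⁻¹ * B.xa u * (B.h α α⁻¹)⁻¹ := by rw [B.h_xa]; group
      have e2 : B.v1 0 (g2 m u) (α * g3 m u) = B.h α α⁻¹ * B.v1 0 (g2 m u) (g3 m u) * (B.h α α⁻¹)⁻¹ := by
        rw [B.h_v1, mul_inv_cancel_right]
        congr 1
        · rw [mul_zero]
        · rw [Units.mul_inv, one_mul]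
        · rw [Units.val_inv_eq_inv_val]; field_simp
      rw [e2, e1]
      set h := B.h α α⁻¹
      have h3 : (p m)⁻¹ * h = h * (p m)⁻¹ := hc.inv_left.eq
      have h4 : h⁻¹ * p m = p m * h⁻¹ := hc.symm.inv_left.eq
      calc (p m)⁻¹ * (h * B.xa u * h⁻¹) * p m = ((p m)⁻¹ * h) * B.xa u * (h⁻¹ * p m) := by group
        _ = h * ((p m)⁻¹ * B.xa u * p m) * h⁻¹ := by rw [h3, h4]; group
        _ = h * (B.xa u * B.v1 0 (g2 m u) (g3 m u)) * h⁻¹ := by rw [h1, hg1]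
        _ = _ := by group
    rw [hg] at h2
    have h3 := B.v1_inj (mul_left_cancel h2)
    exact ⟨h3.2.1, h3.2.2⟩
  have hg2 : ∀ m u, g2 m u = 0 := by
    intro m u
    refine FieldAux.const_zero hF (f := g2 m) ?_ ?_ u
    · intro x y
      have := (hgadd m x y).2.1
      rw [hg1, mul_zero, add_zero] at this
      exact this
    · intro x y hx hy
      have h1 := (hgh m (Units.mk0 x hx) 1).1
      have h2 := (hgh m (Units.mk0 y hy) 1).1
      rw [Units.val_mk0, mul_one] at h1 h2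
      rw [h1, h2]
  have hg3 : ∀ m u, g3 m u = u * g3 m 1 := by
    intro m u
    by_cases hu : u = 0
    · rw [hu, (hg00 m).2.2, zero_mul]
    · have := (hgh m (Units.mk0 u hu) 1).2
      rw [Units.val_mk0, mul_one] at this
      exact this
  have hg3h : ∀ k m, k ≠ 0 → g3 (k * m) 1 = k * g3 m 1 := by
    intro k m hk
    set H := B.h 1 (Units.mk0 k hk) with hH
    have e : p (k * m) = H * p m * H⁻¹ := by rw [hph, Units.val_mk0]
    have e1 : B.xa 1 = H * B.xa 1 * H⁻¹ := by rw [hH, B.h_xa]; simp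
    have e2 : H * B.v1 0 0 (g3 m 1) * H⁻¹ = B.v1 0 0 (k * g3 m 1) := by
      rw [h1_v1, Units.val_mk0, mul_zero]
    have h1 := hg m 1
    rw [hg1, hg2] at h1
    have h2 : (p (k * m))⁻¹ * B.xa 1 * p (k * m) = B.xa 1 * B.v1 0 0 (k * g3 m 1) := by
      rw [e, ← e2]
      calc (H * p m * H⁻¹)⁻¹ * B.xa 1 * (H * p m * H⁻¹)
          = (H * p m * H⁻¹)⁻¹ * (H * B.xa 1 * H⁻¹) * (H * p m * H⁻¹) := by rw [← e1]
        _ = H * ((p m)⁻¹ * B.xa 1 * p m) * H⁻¹ := by group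
        _ = (H * B.xa 1 * H⁻¹) * (H * B.v1 0 0 (g3 m 1) * H⁻¹) := by rw [h1]; group
        _ = _ := by rw [← e1]
    rw [hg] at h2
    exact (B.v1_inj (mul_left_cancel h2)).2.2
  have hg30 : g3 0 1 = 0 := by
    have h1 := hg 0 1
    rw [hp0, inv_one, one_mul, mul_one] at h1
    have h2 : B.v1 (g1 0 1) (g2 0 1) (g3 0 1) = B.v1 0 0 0 := by
      rw [B.v1_zero]; exact (left_eq_mul.1 h1)
    exact (B.v1_inj h2).2.2
  have hg3' : ∀ m u, g3 m u = g3 1 1 * u * m := by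
    intro m u
    rw [hg3]
    by_cases h : m = 0
    · rw [h, hg30, mul_zero, mul_zero]
    · have := hg3h m 1 h
      rw [mul_one] at this
      rw [this]; ring
  refine ⟨{ p := p, a := a, e := g3 1 1, c := f 1, a_ne := ?_, p_zero := hp0, t_p := htp,
            p_xb := ?_, p_zs := ?_, p_zl := ?_,
            p_p := hpp, p_add := hpadd, p_sq := ?_, xa_p := ?_, h_p := ?_ }⟩
  · intro t ht ht1 hat
    have h1 := hα0 t ht
    rw [hαa, hat, mul_zero] at h1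
    have h2 := N4.commQ hB hy0N ht ht1 (N4.commute_of_tr h1) B.t hB.t_mem
    have h3 : y0⁻¹ * B.t * y0 = B.t := by
      rw [mul_assoc, ← h2.eq, inv_mul_cancel_left]
    rw [h3] at hyw
    apply hw0
    refine QC.one_of_zs hQ ?_
    rw [(left_eq_mul.1 hyw)]
    exact Q.one_mem
  · intro m s; rw [← v1_xb]; exact (hpX m).cent _ _ _
  · intro m s; rw [← v1_zs]; exact (hpX m).cent _ _ _
  · intro m s; rw [← v1_zl]; exact (hpX m).cent _ _ _
  · intro m; rw [hf, hf1]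
  · intro u m
    have h1 := hg m u
    rw [hg1, hg2, hg3', v1_zl] at h1
    calc B.xa u * p m = p m * ((p m)⁻¹ * B.xa u * p m) := by group
      _ = _ := by rw [h1]; group
  · intro α β m
    have e : B.h α β = B.h 1 (α * β) * B.h α α⁻¹ := by
      rw [← B.h_mul, one_mul, mul_comm α β, mul_inv_cancel_right]
    have h1 := ((hpX m).comm_h α).eq
    have h2 := hph (α * β) m
    rw [Units.val_mul] at h2
    rw [← h2, e]
    calc B.h 1 (α * β) * B.h α α⁻¹ * p m = B.h 1 (α * β) * (B.h α α⁻¹ * p m) := by group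
      _ = _ := by rw [← h1]; group

/-! ### the graph symmetry -/

section swap

variable [Finite F]

open Cfsg.Agent.StdSpFour.Swap

theorem QC.swap (hQ : QC B Q) : QC (swap B) Q where
  t_mem := hQ.t_mem
  sq := hQ.sq
  xa := hQ.xb
  xb := fun t ht u => hQ.xa t ht _
  zs := hQ.zl
  zl := fun t ht u => hQ.zs t ht _
  h := fun t ht α β => hQ.h t ht _ _
  na := hQ.nb
  nb := hQ.na
  disj := by
    intro t ht u s m r h
    have h' : B.xb u * B.xa (rt s) * B.zl m * B.zs (rt r) = t := h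
    rw [norm_eq] at h'
    exact hQ.disj t ht _ _ _ _ h'

theorem QB.swap (hB : QB B Q) : QB (swap B) Q where
  toQC := QC.swap hB.toQC
  cent1 := by
    intro g h1 h2 h3 h4
    obtain ⟨t, ht, s, m, r, h⟩ := hB.cent2 g h1 (fun u => by
      have := h2 (u ^ 2)
      simp only [Swap.swap, rt_sq] at this
      exact this) (fun u => by
      have := h4 (u ^ 2)
      simp only [Swap.swap, rt_sq] at this
      exact this) h3
    refine ⟨t, ht, s ^ 2, r, m ^ 2, ?_⟩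
    show g = t * (B.xa (rt (s ^ 2)) * B.zl r * B.zs (rt (m ^ 2)))
    rw [rt_sq, rt_sq, mul_assoc (B.xa s), ← (B.zs_zl m r).eq, ← mul_assoc (B.xa s)]
    exact h
  cent2 := by
    intro g h1 h2 h3 h4
    obtain ⟨t, ht, s, m, r, h⟩ := hB.cent1 g h1 h2 (fun u => by
      have := h4 (u ^ 2)
      simp only [Swap.swap, rt_sq] at this
      exact this) h3
    refine ⟨t, ht, s, r, m ^ 2, ?_⟩
    show g = t * (B.xb s * B.zl r * B.zs (rt (m ^ 2)))
    rw [rt_sq, mul_assoc (B.xb s), ← (B.zs_zl m r).eq, ← mul_assoc (B.xb s)]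
    exact h
  centZ := by
    intro g h1 h2 h3
    obtain ⟨t, ht, u, s, m, r, h⟩ := hB.centZ g h1 (fun u => by
      have := h3 (u ^ 2)
      simp only [Swap.swap, rt_sq] at this
      exact this) h2
    refine ⟨t, ht, s, u ^ 2, u ^ 2 * s + r, (u * s + m) ^ 2, ?_⟩
    show g = t * (B.xb s * B.xa (rt (u ^ 2)) * B.zl (u ^ 2 * s + r) * B.zs (rt ((u * s + m) ^ 2)))
    rw [rt_sq, rt_sq, norm_eq]
    have e1 : u * s + (u * s + m) = m := by
      rw [← add_assoc, CharTwo.add_self_eq_zero, zero_add]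
    have e2 : u ^ 2 * s + (u ^ 2 * s + r) = r := by
      rw [← add_assoc, CharTwo.add_self_eq_zero, zero_add]
    rw [e1, e2]
    exact h
  ti := hB.ti

/-- the short layer of `swap B` as long layer of `B` -/
noncomputable def swapQ (S : ShortQ (swap B) Q) : LongQ B Q where
  q := S.p
  b := S.a
  e := rt S.e
  c := S.c
  b_ne := S.a_ne
  q_zero := S.p_zero
  t_q := S.t_p
  q_xa := by
    intro m s
    have := S.p_xb m (s ^ 2)
    simp only [Swap.swap, rt_sq] at this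
    exact this
  q_zs := by
    intro m s
    have := S.p_zl m (s ^ 2)
    simp only [Swap.swap, rt_sq] at this
    exact this
  q_zl := S.p_zs
  q_q := S.p_p
  q_add := S.p_add
  q_sq := S.p_sq
  xb_q := by
    intro s r
    have h := S.xa_p (s ^ 2) (r ^ 2)
    have h' : B.xb (s ^ 2) * S.p (r ^ 2) = S.p (r ^ 2) * B.xb (s ^ 2) *
      B.zs (rt (S.e * s ^ 2 * r ^ 2)) := h
    rw [h', rt_mul, rt_mul, rt_sq, rt_sq, mul_assoc (rt S.e)]
  h_q := by
    intro α β r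
    have h := S.h_p β (α ^ 2) r
    have h' : B.h (rtU (α ^ 2)) β * S.p r = S.p (β * ((α ^ 2 : Fˣ) : F) * r) * B.h (rtU (α ^ 2)) β := h
    rw [rtU_sq, Units.val_pow_eq_pow_val, mul_comm (β : F)] at h'
    exact h'

end swap

theorem exists_longQ [Fintype F] (hF : 4 ≤ Fintype.card F) (hB : QB B Q) {m0 : G}
    (h0 : IsN4Q (Swap.swap B) Q m0) (hne : ∃ t ∈ Q, m0⁻¹ * t * m0 ≠ t) : Nonempty (LongQ B Q) := by
  obtain ⟨S⟩ := exists_shortQ hF (QB.swap hB) h0 hne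
  exact ⟨swapQ S⟩

/-- the long layer as short layer of `swap B` -/
noncomputable def swapQ' [Finite F] (L : LongQ B Q) : ShortQ (Swap.swap B) Q where
  p := L.q
  a := L.b
  e := L.e ^ 2
  c := L.c
  a_ne := L.b_ne
  p_zero := L.q_zero
  t_p := L.t_q
  p_xb := fun m s => L.q_xa m _
  p_zs := L.q_zl
  p_zl := fun m s => L.q_zs m _
  p_p := L.q_q
  p_add := L.q_add
  p_sq := L.q_sq
  xa_p := by
    intro u m
    have h := L.xb_q (Swap.rt u) (Swap.rt m)
    rw [Swap.sq_rt, Swap.sq_rt] at h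
    show B.xb u * L.q m = L.q m * B.xb u * B.zs (Swap.rt (L.e ^ 2 * u * m))
    rw [h, Swap.rt_mul, Swap.rt_mul, Swap.rt_sq, mul_assoc L.e (Swap.rt u) (Swap.rt m)]
  h_p := by
    intro α β m
    show B.h (Swap.rtU β) α * L.q m = L.q (α * β * m) * B.h (Swap.rtU β) α
    rw [L.h_q, Swap.rtU_val, Swap.sq_rt, mul_comm (β : F)]

theorem LongQ.ratio [Finite F] (hB : QB B Q) (L : LongQ B Q) {g : G}
    (hg : ∀ t ∈ Q, ∃ w, g⁻¹ * t * g = t * B.zl w) :
    ∃ φ, ∀ t ∈ Q, g⁻¹ * t * g = t * B.zl (L.b t * φ) :=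
  ShortQ.ratio (QB.swap hB) (swapQ' L) hg

theorem LongQ.b_mul [Finite F] (hB : QB B Q) (L : LongQ B Q) {t t' : G} (ht : t ∈ Q) (ht' : t' ∈ Q) :
    L.b (t * t') = L.b t + L.b t' :=
  ShortQ.a_mul (QB.swap hB) (swapQ' L) ht ht'

theorem LongQ.b_inj [Finite F] (hB : QB B Q) (L : LongQ B Q) {t t' : G} (ht : t ∈ Q) (ht' : t' ∈ Q)
    (h : L.b t = L.b t') : t = t' :=
  ShortQ.a_inj (QB.swap hB) (swapQ' L) ht ht' h

end Cfsg.Agent.OddHalf.D4.SpFourShort
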