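import Cfsg.Agent.OddHalf.D4.SpFourCent
import Cfsg.Agent.OddHalf.D4.SpFourShort
import Cfsg.Agent.StdSpFour.EnvFacts

/-!
# ODD D4, `K = Sp₄(q)`, `m₂(C(K)) ≥ 2`: the mover

[S4] of bb ODD #10764 / #11555. `exists_n4`: if some conjugate `Q^{g⁻¹} ≤ Q Z_s` is not `Q` (`RootS B Q g`), then some
element of `IsN4Q B Q` moves an element of `Q`.
-/

set_option autoImplicit false
set_option linter.unusedSectionVars false

open Subgroup Pointwise
open scoped commutatorElement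

namespace Cfsg.Agent.OddHalf.D4.SpFourMover

open Cfsg.Agent.StdSpFour Cfsg.Agent.StdSpFour.Base
open Cfsg.Agent.StdSpFour.Swap Cfsg.Agent.OddHalf.D4.SpFourDefs
open Cfsg.Agent.OddHalf.D4.SpFourCent (KCent RootS)
open Cfsg.Agent.StdSpFour.Env (P1 L1 PS na_P1 xa_P1 v1_P1 na_L1 xa_L1 L1_le isU_P1 nf_inj v1_xa
  not_isU_na comm_le conj_comm)
open Cfsg.Agent.OddHalf.D4.SpFourShort

section Mov

variable {F G : Type*} [Field F] [CharP F 2] [Group G] {B : Base F G} {Q : Subgroup G}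

/-- `n` normalises `Z_s`, `V₁` and `V₁ L₁` and moves `Q` inside `Q Z_s`, not inside `Q`. -/
structure MoverQ (B : Base F G) (Q : Subgroup G) (L : Set G) (n : G) : Prop where
  tr : ∀ t ∈ Q, ∃ t' ∈ Q, ∃ w, n * t * n⁻¹ = t' * B.zs w
  ne : ∃ t ∈ Q, ∃ t' ∈ Q, ∃ w, w ≠ 0 ∧ n * t * n⁻¹ = t' * B.zs w
  zs : ∀ m, ∃ m', n⁻¹ * B.zs m * n = B.zs m'
  v : ∀ s m r, ∃ s' m' r', n * B.v1 s m r * n⁻¹ = B.v1 s' m' r'
  v' : ∀ s m r, ∃ s' m' r', n⁻¹ * B.v1 s m r * n = B.v1 s' m' r'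
  l : ∀ l ∈ L, ∃ l' ∈ L, ∃ s m r, n * l * n⁻¹ = l' * B.v1 s m r

/-- Step 1: an element of `N₄` moving `Q`. -/
theorem exists_isN4Q [Fintype F] (hF : 4 ≤ Fintype.card F) (hQ : QC B Q) {L : Set G} (hL : B.LeviSet L) {n : G}
    (hn : MoverQ B Q L n) : ∃ m, IsN4Q B Q m ∧ ∃ t ∈ Q, m⁻¹ * t * m ≠ t := by
  obtain ⟨β, hβ⟩ := exists_unit_ne hF
  set h := B.h 1 β with hh
  set g := n⁻¹ * h * n with hg
  have hVL : ∀ l ∈ L, ∃ s m r, g⁻¹ * l * g = l * B.v1 s m r := by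
    intro l hl
    obtain ⟨l', hl', s, m, r, h1⟩ := hn.l l hl
    obtain ⟨s', m', r', h2⟩ := hn.v' (s + (β⁻¹ : Fˣ) * s) (m + (β⁻¹ : Fˣ) * m) (r + (β⁻¹ : Fˣ) * r)
    refine ⟨s', m', r', ?_⟩
    have h3 : h⁻¹ * (l' * B.v1 s m r) * h = l' * B.v1 s m r *
        B.v1 (s + (β⁻¹ : Fˣ) * s) (m + (β⁻¹ : Fˣ) * m) (r + (β⁻¹ : Fˣ) * r) := by
      have h4 := (hL.h_comm l' hl' β).eq
      rw [← hh] at h4
      have h5 : h⁻¹ * l' = l' * h⁻¹ := by
        calc h⁻¹ * l' = h⁻¹ * (l' * h) * h⁻¹ := by group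
          _ = l' * h⁻¹ := by rw [← h4]; group
      rw [mul_assoc l', B.v1_mul, ← add_assoc, ← add_assoc, ← add_assoc, CharTwo.add_self_eq_zero,
        CharTwo.add_self_eq_zero, CharTwo.add_self_eq_zero, zero_add, zero_add, zero_add, ← h1_v1', ← hh,
        ← mul_assoc h⁻¹, h5]
      group
    calc g⁻¹ * l * g = n⁻¹ * (h⁻¹ * (n * l * n⁻¹) * h) * n := by rw [hg]; group
      _ = n⁻¹ * ((n * l * n⁻¹) *
        B.v1 (s + (β⁻¹ : Fˣ) * s) (m + (β⁻¹ : Fˣ) * m) (r + (β⁻¹ : Fˣ) * r)) * n := by rw [h1, h3]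
      _ = l * (n⁻¹ * B.v1 (s + (β⁻¹ : Fˣ) * s) (m + (β⁻¹ : Fˣ) * m) (r + (β⁻¹ : Fˣ) * r) * n) := by group
      _ = _ := by rw [h2]
  have hVg : ∀ s m r, ∃ s' m' r', g⁻¹ * B.v1 s m r * g = B.v1 s' m' r' := by
    intro s m r
    obtain ⟨s1, m1, r1, h1⟩ := hn.v s m r
    obtain ⟨s2, m2, r2, h2⟩ := hn.v' ((β⁻¹ : Fˣ) * s1) ((β⁻¹ : Fˣ) * m1) ((β⁻¹ : Fˣ) * r1)
    refine ⟨s2, m2, r2, ?_⟩
    rw [← h2, ← h1_v1', ← h1, hg, hh]
    group
  obtain ⟨μ, hμ⟩ := B.scalar hF g hVg (fun u => hVL _ (hL.xa_mem u)) (hVL _ hL.na_mem)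
  have hμ0 : μ ≠ 0 := by
    rintro rfl
    have h1 := hμ 1 0 0
    rw [zero_mul, zero_mul, B.v1_zero] at h1
    have h2 : B.v1 1 0 0 = 1 := by
      calc B.v1 1 0 0 = g * (g⁻¹ * B.v1 1 0 0 * g) * g⁻¹ := by group
        _ = 1 := by rw [h1]; group
    rw [← B.v1_zero] at h2
    exact one_ne_zero (B.v1_inj h2).1
  set k := B.h 1 (Units.mk0 μ hμ0) with hk
  -- translation by `g`
  have hzh : ∀ w, h⁻¹ * B.zs w * h = B.zs ((β⁻¹ : Fˣ) * w) := by
    intro w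
    rw [← v1_zs, ← v1_zs, hh, h1_v1', mul_zero]
  have hgt : ∀ t ∈ Q, ∀ t' ∈ Q, ∀ w, n * t * n⁻¹ = t' * B.zs w →
      g⁻¹ * t * g = t * (n⁻¹ * B.zs (w + (β⁻¹ : Fˣ) * w) * n) := by
    intro t ht t' ht' w hw
    have hth : h⁻¹ * t' = t' * h⁻¹ := by
      have := (hQ.h t' ht' 1 β).inv_right.eq
      rw [hh, this]
    have h1 : t' = (n * t * n⁻¹) * B.zs w := by
      rw [hw, mul_assoc, B.zs_zs, mul_one]
    calc g⁻¹ * t * g = n⁻¹ * (h⁻¹ * (n * t * n⁻¹) * h) * n := by rw [hg]; group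
      _ = n⁻¹ * ((h⁻¹ * t') * B.zs w * h) * n := by rw [hw]; group
      _ = n⁻¹ * (t' * (h⁻¹ * B.zs w * h)) * n := by rw [hth]; group
      _ = n⁻¹ * ((n * t * n⁻¹) * (B.zs w * B.zs ((β⁻¹ : Fˣ) * w))) * n := by
          rw [hzh, ← mul_assoc (n * t * n⁻¹), ← h1]
      _ = t * (n⁻¹ * B.zs (w + (β⁻¹ : Fˣ) * w) * n) := by rw [B.zs_add]; group
  have hne : ∀ {w : F}, w ≠ 0 → w + (β⁻¹ : Fˣ) * w ≠ 0 := by
    intro w hw0 h1
    apply hβ
    have h2 : w = (β⁻¹ : Fˣ) * w := FieldAux.eq_of_add_eq_zero h1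
    have h3 : ((β⁻¹ : Fˣ) : F) = 1 := by
      have h4 : (1 : F) * w = (β⁻¹ : Fˣ) * w := by rw [one_mul]; exact h2
      exact (mul_right_cancel₀ hw0 h4).symm
    have h4 : β⁻¹ = 1 := Units.ext h3
    exact inv_eq_one.1 h4
  -- the element `m = g k`
  have hkv : ∀ s m r, k⁻¹ * B.v1 s m r * k = B.v1 (μ⁻¹ * s) (μ⁻¹ * m) (μ⁻¹ * r) := by
    intro s m r
    rw [hk, h1_v1']
    simp
  have hgk : ∀ s m r, (g * k)⁻¹ * B.v1 s m r * (g * k) = B.v1 s m r := by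
    intro s m r
    calc (g * k)⁻¹ * B.v1 s m r * (g * k) = k⁻¹ * (g⁻¹ * B.v1 s m r * g) * k := by group
      _ = B.v1 s m r := by
        rw [hμ, hkv, inv_mul_cancel_left₀ hμ0, inv_mul_cancel_left₀ hμ0, inv_mul_cancel_left₀ hμ0]
  have hLk : ∀ l ∈ L, ∃ s m r, (g * k)⁻¹ * l * (g * k) = l * B.v1 s m r := by
    intro l hl
    obtain ⟨s, m, r, h1⟩ := hVL l hl
    refine ⟨μ⁻¹ * s, μ⁻¹ * m, μ⁻¹ * r, ?_⟩
    have h4 := (hL.h_comm l hl (Units.mk0 μ hμ0)).eq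
    rw [← hk] at h4
    have h5 : k⁻¹ * l = l * k⁻¹ := by
      calc k⁻¹ * l = k⁻¹ * (l * k) * k⁻¹ := by group
        _ = l * k⁻¹ := by rw [← h4]; group
    calc (g * k)⁻¹ * l * (g * k) = k⁻¹ * (g⁻¹ * l * g) * k := by group
      _ = (k⁻¹ * l) * B.v1 s m r * k := by rw [h1]; group
      _ = l * (k⁻¹ * B.v1 s m r * k) := by rw [h5]; group
      _ = _ := by rw [hkv]
  have htr : ∀ t ∈ Q, ∀ t' ∈ Q, ∀ w, n * t * n⁻¹ = t' * B.zs w → ∀ m1,
      n⁻¹ * B.zs (w + (β⁻¹ : Fˣ) * w) * n = B.zs m1 → (g * k)⁻¹ * t * (g * k) = t * B.zs (μ⁻¹ * m1) := by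
    intro t ht t' ht' w hw m1 hm1
    have htk : k⁻¹ * t = t * k⁻¹ := by
      have := (hQ.h t ht 1 (Units.mk0 μ hμ0)).inv_right.eq
      rw [hk, this]
    calc (g * k)⁻¹ * t * (g * k) = k⁻¹ * (g⁻¹ * t * g) * k := by group
      _ = (k⁻¹ * t) * B.zs m1 * k := by rw [hgt t ht t' ht' w hw, hm1]; group
      _ = t * (k⁻¹ * B.zs m1 * k) := by rw [htk]; group
      _ = _ := by rw [← v1_zs, hkv, mul_zero, v1_zs]
  refine ⟨g * k, ⟨?_, fun u => hLk _ (hL.xa_mem u), fun α => hLk _ (hL.h_mem α), ?_⟩, ?_⟩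
  · intro s m r
    have h1 := hgk s m r
    show g * k * B.v1 s m r = B.v1 s m r * (g * k)
    calc g * k * B.v1 s m r = g * k * ((g * k)⁻¹ * B.v1 s m r * (g * k)) := by rw [h1]
      _ = _ := by group
  · intro t ht
    obtain ⟨t', ht', w, hw⟩ := hn.tr t ht
    obtain ⟨m1, hm1⟩ := hn.zs (w + (β⁻¹ : Fˣ) * w)
    exact ⟨_, htr t ht t' ht' w hw m1 hm1⟩
  · obtain ⟨t, ht, t', ht', w, hw0, hw⟩ := hn.ne
    obtain ⟨m1, hm1⟩ := hn.zs (w + (β⁻¹ : Fˣ) * w)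
    refine ⟨t, ht, fun h0 => ?_⟩
    rw [htr t ht t' ht' w hw m1 hm1] at h0
    have h1 : B.zs (μ⁻¹ * m1) = 1 := mul_eq_left.1 h0
    have h2 : μ⁻¹ * m1 = 0 := by
      rw [← v1_zs, ← B.v1_zero] at h1
      exact (B.v1_inj h1).2.1
    have h3 : m1 = 0 := (mul_eq_zero.1 h2).resolve_left (inv_ne_zero hμ0)
    rw [h3, B.zs_zero] at hm1
    have h4 : B.zs (w + (β⁻¹ : Fˣ) * w) = 1 := by
      calc B.zs (w + (β⁻¹ : Fˣ) * w) = n * (n⁻¹ * B.zs (w + (β⁻¹ : Fˣ) * w) * n) * n⁻¹ := by group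
        _ = 1 := by rw [hm1]; group
    rw [← v1_zs, ← B.v1_zero] at h4
    exact hne hw0 (B.v1_inj h4).2.1

end Mov

variable {F G : Type*} [Field F] [CharP F 2] [Finite F] [Group G] {B : Base F G} {K Q : Subgroup G}

theorem isU_iff {g : G} : SpFourCent.IsU B g ↔ Env.IsU B g := by
  constructor
  · rintro ⟨u, s, m, r, h⟩
    exact ⟨u, s, m, r, by rw [h, Base.v1]; group⟩
  · rintro ⟨u, s, m, r, h⟩
    exact ⟨u, s, m, r, by rw [h, Base.v1]; group⟩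

/-! ### the parabolic `P₁` -/

theorem commP {t : G} (h1 : Commute t B.na) (h2 : ∀ u, Commute t (B.xa u))
    (h3 : ∀ s m r, Commute t (B.v1 s m r)) {x : G} (hx : x ∈ P1 B) : Commute x t := by
  rw [P1] at hx
  induction hx using closure_induction with
  | mem y hy =>
    rcases hy with rfl | ⟨u, rfl⟩ | ⟨s', m', r', rfl⟩
    · exact h1.symm
    · exact (h2 u).symm
    · exact (h3 _ _ _).symm
  | one => exact Commute.one_left _
  | mul x y _ _ hx hy => exact hx.mul_left hy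
  | inv x _ hx => exact hx.inv_left

theorem z1 {x : G} (hx : x ∈ P1 B) (w : F) : Commute x (B.zs w) := by
  apply commP _ _ _ hx
  · exact (show Commute B.na (B.zs w) from B.na_zs w).symm
  · exact fun u => (B.xa_zs u w).symm
  · intro s m r
    rw [← v1_zs]
    exact B.v1_comm _ _ _ _ _ _

theorem commQ (hQ : QC B Q) {t : G} (ht : t ∈ Q) {x : G} (hx : x ∈ P1 B) : Commute x t :=
  commP (hQ.na t ht) (hQ.xa t ht) (fun s m r => QC.v1 hQ ht s m r) hx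

section K

variable (hK : KCent B K)
include hK

theorem na_inv : B.na⁻¹ = B.na := inv_eq_of_mul_eq_one_right hK.na_sq

theorem P1_le : P1 B ≤ K := by
  rw [P1, closure_le]
  rintro _ (rfl | ⟨u, rfl⟩ | ⟨s, m, r, rfl⟩)
  · exact hK.na_mem
  · exact hK.xa_mem u
  · exact mul_mem (mul_mem (hK.xb_mem s) (hK.zs_mem m)) (hK.zl_mem r)

theorem isU_mem {g : G} (hg : Env.IsU B g) : g ∈ K := P1_le hK (isU_P1 hg)

theorem conj_xma (α β : Fˣ) (u : F) : B.h α β * (B.na * B.xa u * B.na⁻¹) * (B.h α β)⁻¹ =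
    B.na * B.xa ((α⁻¹ : Fˣ) * u) * B.na⁻¹ := by
  have h1 : B.h α β * B.na = B.na * B.h α⁻¹ (α ^ 2 * β) := by
    rw [B.na_h, inv_inv]; congr 2
    rw [inv_pow, inv_mul_cancel_left]
  have h2 : B.na⁻¹ * (B.h α β)⁻¹ = (B.h α⁻¹ (α ^ 2 * β))⁻¹ * B.na⁻¹ := by
    rw [← mul_inv_rev, h1, mul_inv_rev]
  calc B.h α β * (B.na * B.xa u * B.na⁻¹) * (B.h α β)⁻¹
      = (B.h α β * B.na) * B.xa u * (B.na⁻¹ * (B.h α β)⁻¹) := by group
    _ = B.na * (B.h α⁻¹ (α ^ 2 * β) * B.xa u) * (B.h α⁻¹ (α ^ 2 * β))⁻¹ * B.na⁻¹ := by rw [h1, h2]; group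
    _ = _ := by rw [B.h_xa]; group

theorem not_isU_xma {u : F} (hu : u ≠ 0) : ¬ Env.IsU B (B.na * B.xa u * B.na⁻¹) :=
  fun h => hu (hK.na_xa u (isU_iff.2 h))

theorem tor (α : Fˣ) : B.h α α⁻¹ ∈ P1 B := L1_le (hK.tor_a α)

theorem v_norm_both {x : G} (hx : x ∈ P1 B) : ∀ s m r, (∃ s' m' r', x⁻¹ * B.v1 s m r * x = B.v1 s' m' r') ∧
    ∃ s' m' r', x * B.v1 s m r * x⁻¹ = B.v1 s' m' r' := by
  rw [P1] at hx
  induction hx using closure_induction with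
  | mem y hy =>
    intro s m r
    rcases hy with rfl | ⟨u, rfl⟩ | ⟨s', m', r', rfl⟩
    · have h1 : B.na * B.v1 s m r * B.na⁻¹ = B.v1 r m s := by rw [B.na_v1]; group
      refine ⟨⟨r, m, s, ?_⟩, ⟨r, m, s, h1⟩⟩
      rw [← h1, na_inv hK]
    · have h1 : B.xa u * B.v1 s m r * (B.xa u)⁻¹ = B.v1 s (m + u * s) (r + u ^ 2 * s) := by rw [B.xa_v1]; group
      refine ⟨⟨s, m + u * s, r + u ^ 2 * s, ?_⟩, ⟨_, _, _, h1⟩⟩
      rw [← h1, B.xa_inv]
    · have h1 : B.v1 s' m' r' * B.v1 s m r * (B.v1 s' m' r')⁻¹ = B.v1 s m r := by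
        rw [(B.v1_comm s' m' r' s m r).eq]; group
      have h2 : (B.v1 s' m' r')⁻¹ * B.v1 s m r * B.v1 s' m' r' = B.v1 s m r := by
        rw [mul_assoc, (B.v1_comm s m r s' m' r').eq]; group
      exact ⟨⟨_, _, _, h2⟩, ⟨_, _, _, h1⟩⟩
  | one => intro s m r; exact ⟨⟨s, m, r, by group⟩, ⟨s, m, r, by group⟩⟩
  | mul x y _ _ hx hy =>
    intro s m r
    obtain ⟨⟨s1, m1, r1, h1⟩, -⟩ := hx s m r
    obtain ⟨⟨s2, m2, r2, h2⟩, -⟩ := hy s1 m1 r1
    obtain ⟨-, ⟨s3, m3, r3, h3⟩⟩ := hy s m r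
    obtain ⟨-, ⟨s4, m4, r4, h4⟩⟩ := hx s3 m3 r3
    refine ⟨⟨s2, m2, r2, ?_⟩, ⟨s4, m4, r4, ?_⟩⟩
    · rw [← h2, ← h1]; group
    · rw [← h4, ← h3]; group
  | inv x _ hx =>
    intro s m r
    obtain ⟨⟨s1, m1, r1, h1⟩, ⟨s2, m2, r2, h2⟩⟩ := hx s m r
    refine ⟨⟨s2, m2, r2, ?_⟩, ⟨s1, m1, r1, ?_⟩⟩
    · rw [← h2]; group
    · rw [← h1]; group

theorem split {x : G} (hx : x ∈ P1 B) : ∃ l ∈ L1 B, ∃ s m r, x = l * B.v1 s m r := by
  rw [P1] at hx
  induction hx using closure_induction with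
  | mem y hy =>
    rcases hy with rfl | ⟨u, rfl⟩ | ⟨s', m', r', rfl⟩
    · exact ⟨B.na, na_L1, 0, 0, 0, by rw [B.v1_zero, mul_one]⟩
    · exact ⟨B.xa u, xa_L1 u, 0, 0, 0, by rw [B.v1_zero, mul_one]⟩
    · exact ⟨1, one_mem _, s', m', r', by rw [one_mul]⟩
  | one => exact ⟨1, one_mem _, 0, 0, 0, by rw [B.v1_zero, mul_one]⟩
  | mul x y _ _ hx hy =>
    obtain ⟨l, hl, s, m, r, rfl⟩ := hx
    obtain ⟨l', hl', s', m', r', rfl⟩ := hy
    obtain ⟨⟨s1, m1, r1, h1⟩, -⟩ := v_norm_both hK (L1_le hl') s m r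
    refine ⟨l * l', mul_mem hl hl', s1 + s', m1 + m', r1 + r', ?_⟩
    rw [← B.v1_mul, ← h1]; group
  | inv x _ hx =>
    obtain ⟨l, hl, s, m, r, rfl⟩ := hx
    obtain ⟨-, ⟨s1, m1, r1, h1⟩⟩ := v_norm_both hK (L1_le hl) s m r
    refine ⟨l⁻¹, inv_mem hl, s1, m1, r1, ?_⟩
    rw [← h1, mul_inv_rev, B.v1_inv]; group

theorem perf1 (hF : 4 ≤ Nat.card F) : ⁅P1 B, P1 B⁆ = P1 B := by
  have := Fintype.ofFinite F
  rw [Nat.card_eq_fintype_card] at hF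
  obtain ⟨α, hα⟩ := Base.exists_unit_ne hF
  have hα' : ((α : F) + 1) ≠ 0 := by
    intro h
    exact hα (Units.ext (by rw [Units.val_one]; exact FieldAux.eq_of_add_eq_zero h))
  have hβ' : (((α⁻¹ : Fˣ) : F) + 1) ≠ 0 := by
    intro h
    have h1 : ((α⁻¹ : Fˣ) : F) = 1 := FieldAux.eq_of_add_eq_zero h
    have h2 : α⁻¹ = 1 := Units.ext (by rw [h1, Units.val_one])
    exact hα (inv_eq_one.1 h2)
  have hh : B.h α α⁻¹ ∈ P1 B := tor hK α
  apply le_antisymm (comm_le _)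
  set C := ⁅P1 B, P1 B⁆ with hC
  have hxa : ∀ u, B.xa u ∈ C := by
    intro u
    have h1 : ⁅B.h α α⁻¹, B.xa (((α : F) + 1)⁻¹ * u)⁆ = B.xa u := by
      rw [commutatorElement_def, B.h_xa, B.xa_inv]
      have : B.xa (α * (((α : F) + 1)⁻¹ * u)) * B.xa (((α : F) + 1)⁻¹ * u) = B.xa u := by
        rw [← B.xa_add]; congr 1
        field_simp
      rw [← this]; group
    rw [← h1]
    exact commutator_mem_commutator hh (xa_P1 _)
  have hxb : ∀ u, B.xb u ∈ C := by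
    intro u
    have h1 : ⁅B.h α α⁻¹, B.v1 ((((α⁻¹ : Fˣ) : F) + 1)⁻¹ * u) 0 0⁆ = B.xb u := by
      rw [commutatorElement_def, Base.v1_xb, B.h_xb, B.xb_inv]
      have : B.xb ((α⁻¹ : Fˣ) * ((((α⁻¹ : Fˣ) : F) + 1)⁻¹ * u)) * B.xb ((((α⁻¹ : Fˣ) : F) + 1)⁻¹ * u) = B.xb u := by
        rw [← B.xb_add]; congr 1
        field_simp
      rw [← this]; group
    rw [← h1]
    exact commutator_mem_commutator hh (v1_P1 _ _ _)
  have hzl : ∀ u, B.zl u ∈ C := by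
    intro u
    have h1 : B.na * B.xb u * B.na⁻¹ = B.zl u := by rw [B.na_xb]; group
    rw [← h1]
    exact conj_comm na_P1 (hxb u)
  have hzs : ∀ u, B.zs u ∈ C := by
    intro u
    have h1 : B.zs u = (B.xb u * B.xa 1)⁻¹ * (B.xa 1 * B.xb u) * (B.zl u)⁻¹ := by
      rw [B.xa_xb, one_mul, one_pow, one_mul]; group
    rw [h1]
    exact mul_mem (mul_mem (inv_mem (mul_mem (hxb u) (hxa 1))) (mul_mem (hxa 1) (hxb u))) (inv_mem (hzl u))
  rw [P1, closure_le]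
  rintro _ (rfl | ⟨u, rfl⟩ | ⟨s, m, r, rfl⟩)
  · show B.na ∈ C
    rw [hK.na_eq]
    exact mul_mem (mul_mem (hxa 1) (conj_comm (P := P1 B) na_P1 (hxa 1))) (hxa 1)
  · exact hxa u
  · exact mul_mem (mul_mem (hxb s) (hzs m)) (hzl r)

theorem conj_h {x : G} (hx : x ∈ P1 B) (α β : Fˣ) : B.h α β * x * (B.h α β)⁻¹ ∈ P1 B := by
  rw [P1] at hx
  induction hx using closure_induction with
  | mem y hy =>
    rcases hy with rfl | ⟨u, rfl⟩ | ⟨s', m', r', rfl⟩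
    · have h1 : B.h α β * B.na * (B.h α β)⁻¹ = B.h (α ^ 2) (α ^ 2)⁻¹ * B.na := by
        rw [B.h_inv, mul_assoc, B.na_h, ← mul_assoc, ← B.h_mul]
        congr 2
        · rw [inv_inv, sq]
        · rw [inv_pow, mul_comm (α ^ 2)⁻¹, mul_inv_cancel_left]
      rw [h1]
      exact mul_mem (tor hK _) na_P1
    · have h1 : B.h α β * B.xa u * (B.h α β)⁻¹ = B.xa (α * u) := by rw [B.h_xa]; group
      rw [h1]; exact xa_P1 _
    · have h1 : B.h α β * B.v1 s' m' r' * (B.h α β)⁻¹ = B.v1 (β * s') (α * β * m') (α ^ 2 * β * r') := by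
        rw [B.h_v1]; group
      rw [h1]; exact v1_P1 _ _ _
  | one => rw [mul_one, mul_inv_cancel]; exact one_mem _
  | mul x y _ _ hx hy =>
    have h1 : B.h α β * (x * y) * (B.h α β)⁻¹ = (B.h α β * x * (B.h α β)⁻¹) * (B.h α β * y * (B.h α β)⁻¹) := by group
    rw [h1]; exact mul_mem hx hy
  | inv x _ hx =>
    have h1 : B.h α β * x⁻¹ * (B.h α β)⁻¹ = (B.h α β * x * (B.h α β)⁻¹)⁻¹ := by group
    rw [h1]; exact inv_mem hx

/-- the centralisers in `K` of elements of `Z_s` -/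
theorem cent_s {g : G} (hg : g ∈ K) {w : F} (hw : w ≠ 0) (hc : Commute g (B.zs w)) :
    (∃ v, Env.IsU B v ∧ ∃ α : Fˣ, g = v * B.h α α⁻¹) ∨
      ∃ v, Env.IsU B v ∧ ∃ α : Fˣ, ∃ c, g = v * B.h α α⁻¹ * B.na * B.xa c := by
  rcases hK.cent_s g hg w hw hc with ⟨v, hv, α, h⟩ | ⟨v, hv, α, c, h⟩
  · exact Or.inl ⟨v, isU_iff.1 hv, α, h⟩
  · exact Or.inr ⟨v, isU_iff.1 hv, α, c, h⟩

theorem cent_s_mem {g : G} (hg : g ∈ K) {w : F} (hw : w ≠ 0) (hc : Commute g (B.zs w)) : g ∈ P1 B := by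
  rcases cent_s hK hg hw hc with ⟨v, hv, α, h⟩ | ⟨v, hv, α, c, h⟩
  · rw [h]; exact mul_mem (isU_P1 hv) (tor hK α)
  · rw [h]; exact mul_mem (mul_mem (mul_mem (isU_P1 hv) (tor hK α)) na_P1) (xa_P1 c)

/-- `C_{P₁}(P₁) = Z_s` -/
theorem center1 {x : G} (hx : x ∈ P1 B) (hc : ∀ y ∈ P1 B, Commute x y) : ∃ m, x = B.zs m := by
  have h1 : ∃ s m r, x = B.v1 s m r := by
    have aux : ∀ (u s m r : F) (α : Fˣ), B.xa u * B.v1 s m r * B.v1 ((α⁻¹ : Fˣ) : F) 0 0 =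
        B.v1 ((α⁻¹ : Fˣ) : F) (u * ((α⁻¹ : Fˣ) : F)) (u ^ 2 * ((α⁻¹ : Fˣ) : F)) * (B.xa u * B.v1 s m r) := by
      intro u s m r α
      calc B.xa u * B.v1 s m r * B.v1 ((α⁻¹ : Fˣ) : F) 0 0
          = B.xa u * (B.v1 s m r * B.v1 ((α⁻¹ : Fˣ) : F) 0 0) := by group
        _ = B.xa u * B.v1 ((α⁻¹ : Fˣ) : F) 0 0 * B.v1 s m r := by
            rw [(B.v1_comm s m r _ _ _).eq]; group
        _ = _ := by rw [B.xa_v1, zero_add, zero_add]; group
    rcases cent_s hK (P1_le hK hx) one_ne_zero (z1 hx 1) with ⟨v, ⟨u, s, m, r, rfl⟩, α, h⟩ |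
      ⟨v, ⟨u, s, m, r, rfl⟩, α, c, h⟩
    · have h2 := (hc _ (v1_P1 1 0 0)).eq
      have h3 : x * B.v1 1 0 0 =
          B.v1 ((α⁻¹ : Fˣ) : F) (u * ((α⁻¹ : Fˣ) : F)) (u ^ 2 * ((α⁻¹ : Fˣ) : F)) * x := by
        calc x * B.v1 1 0 0 = B.xa u * B.v1 s m r * (B.h α α⁻¹ * B.v1 1 0 0) := by rw [h]; group
          _ = B.xa u * B.v1 s m r * B.v1 ((α⁻¹ : Fˣ) : F) 0 0 * B.h α α⁻¹ := by
              rw [B.h_v1, mul_one, mul_zero, mul_zero]; group
          _ = _ := by rw [aux, h]; group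
      rw [h3] at h2
      obtain ⟨h4, h5, -⟩ := B.v1_inj (mul_right_cancel h2)
      have h6 : α⁻¹ = 1 := Units.ext (by rw [h4, Units.val_one])
      have h7 : α = 1 := inv_eq_one.1 h6
      have h8 : u = 0 := by rwa [h4, mul_one] at h5
      refine ⟨s, m, r, ?_⟩
      rw [h, h7, h8, inv_one, B.h_one, B.xa_zero, one_mul, mul_one]
    · exfalso
      have h2 := (hc _ (v1_P1 0 0 1)).eq
      have h3 : x * B.v1 0 0 1 =
          B.v1 ((α⁻¹ : Fˣ) : F) (u * ((α⁻¹ : Fˣ) : F)) (u ^ 2 * ((α⁻¹ : Fˣ) : F)) * x := by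
        calc x * B.v1 0 0 1 = B.xa u * B.v1 s m r * B.h α α⁻¹ * B.na * (B.xa c * B.v1 0 0 1) := by rw [h]; group
          _ = B.xa u * B.v1 s m r * B.h α α⁻¹ * (B.na * B.v1 0 0 1) * B.xa c := by
              rw [B.xa_v1 c 0 0 1, mul_zero, mul_zero, add_zero, add_zero]; group
          _ = B.xa u * B.v1 s m r * (B.h α α⁻¹ * B.v1 1 0 0) * B.na * B.xa c := by rw [B.na_v1]; group
          _ = B.xa u * B.v1 s m r * B.v1 ((α⁻¹ : Fˣ) : F) 0 0 * B.h α α⁻¹ * B.na * B.xa c := by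
              rw [B.h_v1, mul_one, mul_zero, mul_zero]; group
          _ = _ := by rw [aux, h]; group
      rw [h3] at h2
      exact (Units.ne_zero α⁻¹) (B.v1_inj (mul_right_cancel h2)).1
  obtain ⟨s, m, r, rfl⟩ := h1
  have h2 := (hc _ (xa_P1 1)).eq
  rw [B.xa_v1, one_mul, one_pow, one_mul] at h2
  have h2' : B.v1 s m r * B.xa 1 = B.v1 s (m + s) (r + s) * B.xa 1 := h2
  have h3 := (B.v1_inj (mul_right_cancel h2')).2.1
  have hs : s = 0 := by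
    have h4 : m + 0 = m + s := by rw [add_zero]; exact h3
    exact (add_left_cancel h4).symm
  have h4 := (hc _ na_P1).eq
  rw [B.na_v1] at h4
  have h5 := (B.v1_inj (mul_right_cancel h4)).1
  rw [hs] at h5
  refine ⟨m, ?_⟩
  rw [hs, ← h5, Base.v1_zs]

end K

/-- `U` as a subgroup -/
def USub (B : Base F G) : Subgroup G where
  carrier := {x | Env.IsU B x}
  mul_mem' := fun hx hy => Env.IsU.mul hx hy
  one_mem' := Env.IsU.one
  inv_mem' := fun hx => Env.IsU.inv hx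

theorem isU_pow {u : G} (hu : Env.IsU B u) : u * u * (u * u) = 1 := by
  obtain ⟨u, s, m, r, rfl⟩ := hu
  have h3 : B.xa u * B.v1 s m r * (B.xa u * B.v1 s m r) = B.v1 0 (u * s) (u ^ 2 * s) := by
    calc B.xa u * B.v1 s m r * (B.xa u * B.v1 s m r) = B.xa u * (B.v1 s m r * B.xa u) * B.v1 s m r := by group
      _ = (B.xa u * B.xa u) * (B.v1 s (m + u * s) (r + u ^ 2 * s) * B.v1 s m r) := by rw [v1_xa]; group
      _ = _ := by
        rw [B.xa_xa, B.v1_mul, one_mul]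
        congr 1
        · exact CharTwo.add_self_eq_zero s
        · rw [add_comm m, add_assoc, CharTwo.add_self_eq_zero, add_zero]
        · rw [add_comm r, add_assoc, CharTwo.add_self_eq_zero, add_zero]
  rw [h3, B.v1_v1]

/-- `Z(U) = Z` -/
theorem centerU {x : G} (hx : Env.IsU B x) (hc : ∀ y, Env.IsU B y → Commute x y) :
    ∃ m r, x = B.zs m * B.zl r := by
  obtain ⟨u, s, m, r, rfl⟩ := hx
  have h1 := (hc _ (Env.IsU.v1 1 0 0)).eq
  have h2 : B.xa u * B.v1 s m r * B.v1 1 0 0 = B.v1 1 u (u ^ 2) * (B.xa u * B.v1 s m r) := by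
    calc B.xa u * B.v1 s m r * B.v1 1 0 0 = B.xa u * (B.v1 s m r * B.v1 1 0 0) := by group
      _ = B.xa u * B.v1 1 0 0 * B.v1 s m r := by rw [(B.v1_comm s m r _ _ _).eq]; group
      _ = _ := by rw [B.xa_v1, zero_add, zero_add, mul_one, mul_one]; group
  rw [h2] at h1
  have hu : u = 0 := (B.v1_inj (mul_right_cancel h1)).2.1
  subst hu
  have h3 := (hc _ (Env.IsU.xa 1)).eq
  rw [B.xa_zero, one_mul, B.xa_v1, one_mul, one_pow, one_mul] at h3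
  have h4 := (B.v1_inj (mul_right_cancel h3)).2.1
  have hs : s = 0 := by
    have h5 : m + 0 = m + s := by rw [add_zero]; exact h4
    exact (add_left_cancel h5).symm
  refine ⟨m, r, ?_⟩
  rw [hs, B.xa_zero, one_mul, Base.v1, B.xb_zero, one_mul]

section Fin

variable [Finite G] (hK : KCent B K)
include hK

theorem syl_conj {P : Subgroup G} (hP : P ≤ K) (h2 : ∀ x ∈ P, ∃ k : ℕ, x ^ 2 ^ k = 1) :
    ∃ k ∈ K, ∀ x ∈ P, Env.IsU B (k * x * k⁻¹) := by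
  obtain ⟨k, hk, h⟩ := hK.syl P hP (fun ⟨x, hx⟩ => by
    obtain ⟨k, hk⟩ := h2 x hx
    exact ⟨k, by ext; simpa using hk⟩)
  exact ⟨k, hk, fun x hx => isU_iff.1 (h x hx)⟩

theorem sylU {P : Subgroup G} (hP : P ≤ K) (h2 : ∀ x ∈ P, ∃ k : ℕ, x ^ 2 ^ k = 1)
    (hU : ∀ u, Env.IsU B u → u ∈ P) {x : G} (hx : x ∈ P) : Env.IsU B x := by
  obtain ⟨k, -, h⟩ := syl_conj hK hP h2
  have h1 : USub B ≤ P := fun x hx => hU x hx
  have h3 : P ≤ MulAut.conj k⁻¹ • USub B := by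
    intro x hx
    rw [PFacts.conj_mem_iff, inv_inv]
    exact h x hx
  have h4 : Nat.card (MulAut.conj k⁻¹ • USub B : Subgroup G) = Nat.card (USub B) :=
    (Nat.card_congr (Subgroup.equivSMul (MulAut.conj k⁻¹) (USub B)).toEquiv).symm
  have h5 : USub B = P := Subgroup.eq_of_le_of_card_ge h1 (by
    rw [← h4]; exact Subgroup.card_le_of_le h3)
  rw [← h5] at hx
  exact hx

theorem o2 (W : Subgroup G) (hWP : W ≤ P1 B) (hn : ∀ x ∈ P1 B, ∀ y ∈ W, x⁻¹ * y * x ∈ W)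
    (h2 : ∀ y ∈ W, ∃ k : ℕ, y ^ 2 ^ k = 1) : ∀ y ∈ W, ∃ s m r, y = B.v1 s m r := by
  have hn' : ∀ x ∈ P1 B, ∀ y ∈ W, x * y * x⁻¹ ∈ W := by
    intro x hx y hy
    have := hn x⁻¹ (inv_mem hx) y hy
    rwa [inv_inv] at this
  let R : Subgroup G :=
    { carrier := {x | ∃ y ∈ W, ∃ u, Env.IsU B u ∧ x = y * u}
      mul_mem' := by
        rintro _ _ ⟨y, hy, u, hu, rfl⟩ ⟨y', hy', u', hu', rfl⟩
        refine ⟨y * (u * y' * u⁻¹), mul_mem hy (hn' u (isU_P1 hu) y' hy'), u * u', hu.mul hu', ?_⟩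
        group
      one_mem' := ⟨1, one_mem _, 1, Env.IsU.one, by group⟩
      inv_mem' := by
        rintro _ ⟨y, hy, u, hu, rfl⟩
        refine ⟨u⁻¹ * y⁻¹ * u, hn u (isU_P1 hu) _ (inv_mem hy), u⁻¹, hu.inv, ?_⟩
        group }
  have hQ2 : ∀ x ∈ R, ∃ k : ℕ, x ^ 2 ^ k = 1 := by
    rintro _ ⟨y, hy, u, hu, rfl⟩
    have h3 : ∃ y' ∈ W, (y * u) ^ 4 = y' := by
      refine ⟨y * (u * y * u⁻¹) * ((u * u) * (y * (u * y * u⁻¹)) * (u * u)⁻¹), ?_, ?_⟩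
      · have h4 : y * (u * y * u⁻¹) ∈ W := mul_mem hy (hn' u (isU_P1 hu) y hy)
        exact mul_mem h4 (hn' _ (isU_P1 (hu.mul hu)) _ h4)
      · have h5 := isU_pow hu
        calc (y * u) ^ 4 = y * (u * y * u⁻¹) * ((u * u) * (y * (u * y * u⁻¹)) * (u * u)⁻¹) * (u * u * (u * u)) := by
              rw [pow_succ, pow_succ, pow_succ, pow_one]; group
          _ = _ := by rw [h5, mul_one]
    obtain ⟨y', hy', h4⟩ := h3
    obtain ⟨k, hk⟩ := h2 y' hy'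
    refine ⟨2 + k, ?_⟩
    rw [pow_add, pow_mul, show (2 : ℕ) ^ 2 = 4 by norm_num, h4, hk]
  have hQA : R ≤ K := by
    rintro _ ⟨y, hy, u, hu, rfl⟩
    exact mul_mem (P1_le hK (hWP hy)) (isU_mem hK hu)
  have hQU : ∀ x ∈ R, Env.IsU B x := fun x hx => sylU hK hQA hQ2 (fun u hu => ⟨1, one_mem _, u, hu, by group⟩) hx
  have hWU : ∀ y ∈ W, Env.IsU B y := fun y hy => hQU y ⟨y, hy, 1, Env.IsU.one, by group⟩
  intro y hy
  obtain ⟨u, s, m, r, h⟩ := hWU y hy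
  have h3 : u = 0 := by
    by_contra hu
    apply not_isU_xma hK hu
    have h4 : Env.IsU B (B.na * y * B.na⁻¹) := hWU _ (hn' _ na_P1 y hy)
    have h5 : B.na * y * B.na⁻¹ = (B.na * B.xa u * B.na⁻¹) * B.v1 r m s := by
      have h6 : B.na * B.v1 s m r * B.na⁻¹ = B.v1 r m s := by rw [B.na_v1]; group
      rw [h, ← h6]; group
    rw [h5] at h4
    exact EnvFacts.isU_of_mul_right (Env.IsU.v1 _ _ _) h4
  exact ⟨s, m, r, by rw [h, h3, B.xa_zero, one_mul]⟩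

theorem leviSet : B.LeviSet (closure ({B.na} ∪ Set.range B.xa : Set G) : Set G) where
  xa_mem := xa_L1
  na_mem := na_L1
  h_mem := hK.tor_a
  t_comm := fun l hl => (commP B.t_na B.t_xa B.t_v1 (L1_le hl)).symm
  h_comm := by
    intro l hl β
    change l ∈ closure ({B.na} ∪ Set.range B.xa : Set G) at hl
    induction hl using closure_induction with
    | mem y hy =>
      rcases hy with rfl | ⟨u, rfl⟩
      · show B.h 1 β * B.na = B.na * B.h 1 β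
        rw [B.na_h, inv_one, one_pow, one_mul]
      · show B.h 1 β * B.xa u = B.xa u * B.h 1 β
        rw [B.h_xa, Units.val_one, one_mul]
    | one => exact Commute.one_right _
    | mul x y _ _ hx hy => exact hx.mul_right hy
    | inv x _ hx => exact hx.inv_right
  norm := fun l hl s m r => (v_norm_both hK (L1_le hl) s m r).1

/-- `n` normalises `P1`: then it is a mover as soon as it moves `Q` inside `Q Z_s`. -/
theorem mover_of_norm {n : G} (hn : ∀ x, n⁻¹ * x * n ∈ P1 B ↔ x ∈ P1 B)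
    (h1 : ∀ t ∈ Q, ∃ t' ∈ Q, ∃ w, n * t * n⁻¹ = t' * B.zs w)
    (h2 : ∃ t ∈ Q, ∃ t' ∈ Q, ∃ w, w ≠ 0 ∧ n * t * n⁻¹ = t' * B.zs w) :
    MoverQ B Q (closure ({B.na} ∪ Set.range B.xa : Set G) : Set G) n := by
  have hn' : ∀ x, n * x * n⁻¹ ∈ P1 B ↔ x ∈ P1 B := by
    intro x
    rw [← hn (n * x * n⁻¹)]
    rw [show n⁻¹ * (n * x * n⁻¹) * n = x by group]
  have hcomm : ∀ {x y : G}, Commute x y → Commute (n⁻¹ * x * n) (n⁻¹ * y * n) := by
    intro x y h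
    show n⁻¹ * x * n * (n⁻¹ * y * n) = n⁻¹ * y * n * (n⁻¹ * x * n)
    calc n⁻¹ * x * n * (n⁻¹ * y * n) = n⁻¹ * (x * y) * n := by group
      _ = _ := by rw [h.eq]; group
  have hzs : ∀ m, ∃ m', n⁻¹ * B.zs m * n = B.zs m' := by
    intro m
    refine center1 hK ((hn _).2 (by rw [← v1_zs]; exact v1_P1 _ _ _)) ?_
    intro y hy
    have h1 : y = n⁻¹ * (n * y * n⁻¹) * n := by group
    rw [h1]
    exact hcomm (z1 ((hn' y).2 hy) m).symm
  have hv' : ∀ s m r, ∃ s' m' r', n⁻¹ * B.v1 s m r * n = B.v1 s' m' r' := by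
    intro s m r
    -- the conjugate of `V₁`
    let V : Subgroup G :=
      { carrier := {x | ∃ s m r, x = n⁻¹ * B.v1 s m r * n}
        mul_mem' := by
          rintro _ _ ⟨s, m, r, rfl⟩ ⟨s', m', r', rfl⟩
          exact ⟨s + s', m + m', r + r', by rw [← B.v1_mul]; group⟩
        one_mem' := ⟨0, 0, 0, by rw [B.v1_zero]; group⟩
        inv_mem' := by
          rintro _ ⟨s, m, r, rfl⟩
          refine ⟨s, m, r, ?_⟩
          nth_rw 2 [← B.v1_inv]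
          group }
    refine o2 hK V ?_ ?_ ?_ _ ⟨s, m, r, rfl⟩
    · rintro _ ⟨s, m, r, rfl⟩
      exact (hn _).2 (v1_P1 s m r)
    · rintro x hx _ ⟨s, m, r, rfl⟩
      obtain ⟨s', m', r', h⟩ := (v_norm_both hK ((hn' x).2 hx) s m r).1
      refine ⟨s', m', r', ?_⟩
      rw [← h]; group
    · rintro _ ⟨s, m, r, rfl⟩
      refine ⟨1, ?_⟩
      rw [pow_one, sq]
      calc n⁻¹ * B.v1 s m r * n * (n⁻¹ * B.v1 s m r * n) = n⁻¹ * (B.v1 s m r * B.v1 s m r) * n := by group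
        _ = 1 := by rw [B.v1_v1]; group
  have hv : ∀ s m r, ∃ s' m' r', n * B.v1 s m r * n⁻¹ = B.v1 s' m' r' := by
    intro s m r
    let V : Subgroup G :=
      { carrier := {x | ∃ s m r, x = n * B.v1 s m r * n⁻¹}
        mul_mem' := by
          rintro _ _ ⟨s, m, r, rfl⟩ ⟨s', m', r', rfl⟩
          exact ⟨s + s', m + m', r + r', by rw [← B.v1_mul]; group⟩
        one_mem' := ⟨0, 0, 0, by rw [B.v1_zero]; group⟩
        inv_mem' := by
          rintro _ ⟨s, m, r, rfl⟩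
          refine ⟨s, m, r, ?_⟩
          nth_rw 2 [← B.v1_inv]
          group }
    refine o2 hK V ?_ ?_ ?_ _ ⟨s, m, r, rfl⟩
    · rintro _ ⟨s, m, r, rfl⟩
      exact (hn' _).2 (v1_P1 s m r)
    · rintro x hx _ ⟨s, m, r, rfl⟩
      obtain ⟨s', m', r', h⟩ := (v_norm_both hK ((hn x).2 hx) s m r).1
      refine ⟨s', m', r', ?_⟩
      rw [← h]; group
    · rintro _ ⟨s, m, r, rfl⟩
      refine ⟨1, ?_⟩
      rw [pow_one, sq]
      calc n * B.v1 s m r * n⁻¹ * (n * B.v1 s m r * n⁻¹) = n * (B.v1 s m r * B.v1 s m r) * n⁻¹ := by group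
        _ = 1 := by rw [B.v1_v1]; group
  refine ⟨h1, h2, hzs, hv, hv', ?_⟩
  intro l hl
  exact split hK ((hn' l).2 (L1_le hl))

omit [Finite G] in
/-- A perfect subgroup of `P₁` containing `U` properly is `P₁`. -/
theorem P1_le_of_perfect {Y : Subgroup G} (hY : Y ≤ P1 B) (hp : ⁅Y, Y⁆ = Y) (hU : ∀ u, Env.IsU B u → u ∈ Y)
    (hne : ¬ ∀ y ∈ Y, Env.IsU B y) : P1 B ≤ Y := by
  have hform : ∀ y ∈ Y, (∃ v, Env.IsU B v ∧ ∃ α : Fˣ, y = v * B.h α α⁻¹) ∨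
      ∃ v, Env.IsU B v ∧ ∃ α : Fˣ, ∃ c, y = v * B.h α α⁻¹ * B.na * B.xa c :=
    fun y hy => cent_s hK (P1_le hK (hY hy)) one_ne_zero (z1 (hY hy) 1)
  have hex : ∃ y ∈ Y, ∃ v, Env.IsU B v ∧ ∃ α : Fˣ, ∃ c, y = v * B.h α α⁻¹ * B.na * B.xa c := by
    by_contra hcon
    push Not at hcon
    apply hne
    have hall : ∀ y ∈ Y, ∃ v, Env.IsU B v ∧ ∃ α : Fˣ, y = v * B.h α α⁻¹ := by
      intro y hy
      rcases hform y hy with h | ⟨v, hv, α, c, h⟩
      · exact h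
      · exact (hcon y hy v hv α c h).elim
    have hle : Y ≤ USub B := by
      rw [← hp, commutator_le]
      intro x hx y hy
      obtain ⟨v, hv, α, rfl⟩ := hall x hx
      obtain ⟨v', hv', α', rfl⟩ := hall y hy
      have e : ⁅v * B.h α α⁻¹, v' * B.h α' α'⁻¹⁆ = v * (B.h α α⁻¹ * v' * (B.h α α⁻¹)⁻¹) *
          (B.h α' α'⁻¹ * v⁻¹ * (B.h α' α'⁻¹)⁻¹) * v'⁻¹ := by
        have h1 := (B.h_comm α α⁻¹ α' α'⁻¹).eq
        rw [commutatorElement_def]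
        calc v * B.h α α⁻¹ * (v' * B.h α' α'⁻¹) * (v * B.h α α⁻¹)⁻¹ * (v' * B.h α' α'⁻¹)⁻¹
            = v * (B.h α α⁻¹ * v' * (B.h α α⁻¹)⁻¹) * (B.h α α⁻¹ * B.h α' α'⁻¹) * (B.h α α⁻¹)⁻¹ * v⁻¹ *
              (B.h α' α'⁻¹)⁻¹ * v'⁻¹ := by group
          _ = _ := by rw [h1]; group
      show Env.IsU B _
      rw [e]
      exact ((hv.mul (hv'.conj_h _ _)).mul (hv.inv.conj_h _ _)).mul hv'.inv
    exact fun y hy => hle hy
  obtain ⟨y, hy, v, hv, α, c, h⟩ := hex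
  have he : B.h α α⁻¹ * B.na ∈ Y := by
    have h1 : B.h α α⁻¹ * B.na = v⁻¹ * y * (B.xa c)⁻¹ := by rw [h]; group
    rw [h1]
    exact mul_mem (mul_mem (inv_mem (hU v hv)) hy) (inv_mem (hU _ (Env.IsU.xa c)))
  have hna : B.na * B.xa 1 * B.na⁻¹ ∈ Y := by
    have h1 := conj_xma hK α α⁻¹ (α : F)
    rw [← Units.val_mul, inv_mul_cancel, Units.val_one] at h1
    rw [← h1]
    have h2 : B.h α α⁻¹ * (B.na * B.xa α * B.na⁻¹) * (B.h α α⁻¹)⁻¹ =
      (B.h α α⁻¹ * B.na) * B.xa α * (B.h α α⁻¹ * B.na)⁻¹ := by group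
    rw [h2]
    exact mul_mem (mul_mem he (hU _ (Env.IsU.xa _))) (inv_mem he)
  rw [P1, closure_le]
  rintro _ (rfl | ⟨u, rfl⟩ | ⟨s, m, r, rfl⟩)
  · show B.na ∈ Y
    rw [hK.na_eq]
    exact mul_mem (mul_mem (hU _ (Env.IsU.xa 1)) hna) (hU _ (Env.IsU.xa 1))
  · exact hU _ (Env.IsU.xa u)
  · exact hU _ (Env.IsU.v1 _ _ _)

end Fin


/-- elements of `K` commute with `Q` -/
theorem commK (hK : KBase B K) (hQ : QC B Q) {t : G} (ht : t ∈ Q) {x : G} (hx : x ∈ K) : Commute x t := by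
  have h1 := hK.gen hx
  clear hx
  induction h1 using closure_induction with
  | mem y hy =>
    rcases hy with (rfl | rfl) | ⟨u, rfl⟩ | ⟨u, rfl⟩
    · exact (hQ.na t ht).symm
    · exact (hQ.nb t ht).symm
    · exact (hQ.xa t ht u).symm
    · exact (hQ.xb t ht u).symm
  | one => exact Commute.one_left _
  | mul x y _ _ hx hy => exact hx.mul_left hy
  | inv x _ hx => exact hx.inv_left

/-- the conjugates of `P₁` are generated by involutions. -/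
theorem P1_gen (hK : KCent B K) (g : G) : MulAut.conj g⁻¹ • P1 B ≤
    closure {x | x ∈ MulAut.conj g⁻¹ • P1 B ∧ ∃ k : ℕ, x ^ 2 ^ k = 1} := by
  have hmem : ∀ {x : G}, x ∈ P1 B → g⁻¹ * x * g ∈ MulAut.conj g⁻¹ • P1 B := by
    intro x hx
    rw [PFacts.conj_mem_iff, inv_inv, show g * (g⁻¹ * x * g) * g⁻¹ = x by group]
    exact hx
  have hinv : ∀ z, z ∈ P1 B → z * z = 1 → g⁻¹ * z * g ∈
      closure {x | x ∈ MulAut.conj g⁻¹ • P1 B ∧ ∃ k : ℕ, x ^ 2 ^ k = 1} := by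
    intro z hz hzz
    refine subset_closure ⟨hmem hz, 1, ?_⟩
    rw [pow_one, sq]
    calc g⁻¹ * z * g * (g⁻¹ * z * g) = g⁻¹ * (z * z) * g := by group
      _ = 1 := by rw [hzz]; group
  have key : ∀ y ∈ P1 B, g⁻¹ * y * g ∈
      closure {x | x ∈ MulAut.conj g⁻¹ • P1 B ∧ ∃ k : ℕ, x ^ 2 ^ k = 1} := by
    intro y hy
    rw [P1] at hy
    induction hy using closure_induction with
    | mem y hy =>
      rcases hy with rfl | ⟨u, rfl⟩ | ⟨s', m', r', rfl⟩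
      · exact hinv _ na_P1 hK.na_sq
      · exact hinv _ (xa_P1 u) (B.xa_xa u)
      · exact hinv _ (v1_P1 _ _ _) (B.v1_v1 _ _ _)
    | one => rw [mul_one, inv_mul_cancel]; exact one_mem _
    | mul x y _ _ hx hy =>
      rw [show g⁻¹ * (x * y) * g = (g⁻¹ * x * g) * (g⁻¹ * y * g) by group]
      exact mul_mem hx hy
    | inv x _ hx =>
      rw [show g⁻¹ * x⁻¹ * g = (g⁻¹ * x * g)⁻¹ by group]
      exact inv_mem hx
  intro x hx
  rw [PFacts.conj_mem_iff, inv_inv] at hx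
  have h2 := key _ hx
  rwa [show g⁻¹ * (g * x * g⁻¹) * g = x by group] at h2

theorem zs_inj {w w' : F} (h : B.zs w = B.zs w') : w = w' := by
  rw [← v1_zs, ← v1_zs] at h
  exact (B.v1_inj h).2.1

theorem zl_inj {w w' : F} (h : B.zl w = B.zl w') : w = w' := by
  rw [← v1_zl, ← v1_zl] at h
  exact (B.v1_inj h).2.2

/-- **[S4]** -/
theorem exists_n4 [Finite G] [Fintype F] (hF : 4 ≤ Fintype.card F) (hK : KCent B K) (hQ : QC B Q)
    (hM : MaxK K Q) {g : G} (hg : RootS B Q g) : ∃ m, IsN4Q B Q m ∧ ∃ t ∈ Q, m⁻¹ * t * m ≠ t := by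
  have hF' : 4 ≤ Nat.card F := by rwa [Nat.card_eq_fintype_card]
  have hQinv : ∀ {t : G}, t ∈ Q → t⁻¹ = t := fun ht => QC.inv hQ ht
  -- `g⁻¹ P₁ g ≤ K`
  have hX : ∀ x ∈ P1 B, g⁻¹ * x * g ∈ K := by
    have h1 : MulAut.conj g⁻¹ • P1 B ≤ K := by
      apply hM _ (PFacts.perf_conj (perf1 hK hF')) (P1_gen hK g)
      intro x hx t ht
      rw [PFacts.conj_mem_iff, inv_inv] at hx
      obtain ⟨t', ht', w, hw⟩ := hg.le t ht
      have h2 : Commute (g * x * g⁻¹) (g * t * g⁻¹) := by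
        rw [hw]
        exact (commQ hQ ht' hx).mul_right (z1 hx w)
      show x * t = t * x
      calc x * t = g⁻¹ * (g * x * g⁻¹ * (g * t * g⁻¹)) * g := by group
        _ = _ := by rw [h2.eq]; group
    intro x hx
    apply h1
    rw [PFacts.conj_mem_iff, inv_inv, show g * (g⁻¹ * x * g) * g⁻¹ = x by group]
    exact hx
  -- normalise `U`
  obtain ⟨k, hkK, hk⟩ := syl_conj hK (P := MulAut.conj g⁻¹ • USub B) (by
    intro x hx
    rw [PFacts.conj_mem_iff, inv_inv] at hx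
    have h1 := hX _ (isU_P1 hx)
    rwa [show g⁻¹ * (g * x * g⁻¹) * g = x by group] at h1) (by
    intro x hx
    rw [PFacts.conj_mem_iff, inv_inv] at hx
    refine ⟨2, ?_⟩
    have h1 := isU_pow hx
    calc x ^ 2 ^ 2 = g⁻¹ * (g * x * g⁻¹ * (g * x * g⁻¹) * (g * x * g⁻¹ * (g * x * g⁻¹))) * g := by
          rw [show (2 : ℕ) ^ 2 = 4 by norm_num, pow_succ, pow_succ, pow_succ, pow_one]; group
      _ = 1 := by rw [h1]; group)
  set n := g * k⁻¹ with hn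
  have hnU : ∀ x, n⁻¹ * x * n ∈ USub B ↔ x ∈ USub B := by
    apply PFacts.eq_of_conj_le rfl
    intro x hx
    have h1 := hk (g⁻¹ * x * g) (by
      rw [PFacts.conj_mem_iff, inv_inv, show g * (g⁻¹ * x * g) * g⁻¹ = x by group]
      exact hx)
    show Env.IsU B _
    rwa [show n⁻¹ * x * n = k * (g⁻¹ * x * g) * k⁻¹ by rw [hn]; group]
  have hnK : ∀ x ∈ P1 B, n⁻¹ * x * n ∈ K := by
    intro x hx
    rw [show n⁻¹ * x * n = k * (g⁻¹ * x * g) * k⁻¹ by rw [hn]; group]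
    exact mul_mem (mul_mem hkK (hX x hx)) (inv_mem hkK)
  have hnt : ∀ t ∈ Q, n * t * n⁻¹ = g * t * g⁻¹ := by
    intro t ht
    have h1 := (commK hK.toKBase hQ ht (inv_mem hkK)).eq
    calc n * t * n⁻¹ = g * (k⁻¹ * t) * k * g⁻¹ := by rw [hn]; group
      _ = _ := by rw [h1]; group
  have hnQ : ∀ t ∈ Q, ∃ t' ∈ Q, ∃ w, n * t * n⁻¹ = t' * B.zs w := by
    intro t ht
    rw [hnt t ht]
    exact hg.le t ht
  have hne : ∃ t ∈ Q, ∃ t' ∈ Q, ∃ w, w ≠ 0 ∧ n * t * n⁻¹ = t' * B.zs w := by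
    obtain ⟨t, ht, h1⟩ := hg.ne
    obtain ⟨t', ht', w, hw⟩ := hg.le t ht
    refine ⟨t, ht, t', ht', w, ?_, by rw [hnt t ht, hw]⟩
    rintro rfl
    apply h1
    rw [hw, B.zs_zero, mul_one]
    exact ht'
  -- the image of `z_s(1)`
  have hzU : Env.IsU B (n⁻¹ * B.zs 1 * n) := (hnU _).2 (EnvFacts.IsU.zs 1)
  have hcomm : ∀ {x y : G}, Commute x y → Commute (n⁻¹ * x * n) (n⁻¹ * y * n) := by
    intro x y h
    show n⁻¹ * x * n * (n⁻¹ * y * n) = n⁻¹ * y * n * (n⁻¹ * x * n)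
    calc n⁻¹ * x * n * (n⁻¹ * y * n) = n⁻¹ * (x * y) * n := by group
      _ = _ := by rw [h.eq]; group
  have hback : ∀ y : G, n⁻¹ * (n * y * n⁻¹) * n = y := fun y => by group
  obtain ⟨w1, w2, hz⟩ := centerU hzU (by
    intro y hy
    have h1 : n * y * n⁻¹ ∈ USub B := by
      rw [← hnU, hback]
      exact hy
    have h2 := hcomm (z1 (isU_P1 h1) 1)
    rw [hback] at h2
    exact h2.symm)
  have hYz : ∀ y ∈ MulAut.conj n⁻¹ • P1 B, Commute y (B.zs w1 * B.zl w2) := by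
    intro y hy
    rw [PFacts.conj_mem_iff, inv_inv] at hy
    have h2 := hcomm (z1 hy 1)
    rwa [hback, hz] at h2
  have hYK : ∀ y ∈ MulAut.conj n⁻¹ • P1 B, y ∈ K := by
    intro y hy
    rw [PFacts.conj_mem_iff, inv_inv] at hy
    have h2 := hnK _ hy
    rwa [hback] at h2
  have hYmem : ∀ x ∈ P1 B, n⁻¹ * x * n ∈ MulAut.conj n⁻¹ • P1 B := by
    intro x hx
    rw [PFacts.conj_mem_iff, inv_inv, show n * (n⁻¹ * x * n) * n⁻¹ = x by group]
    exact hx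
  have hYU : ¬ ∀ y ∈ MulAut.conj n⁻¹ • P1 B, Env.IsU B y := by
    intro h
    exact not_isU_na (B := B) ((hnU _).1 (h _ (hYmem _ na_P1)))
  by_cases h2 : w2 = 0
  · -- `n` normalises `P₁`
    subst h2
    rw [B.zl_zero, mul_one] at hz
    have h1 : w1 ≠ 0 := by
      rintro rfl
      rw [B.zs_zero] at hz
      have h3 : B.zs 1 = B.zs 0 := by
        rw [B.zs_zero]
        calc B.zs 1 = n * (n⁻¹ * B.zs 1 * n) * n⁻¹ := by group
          _ = 1 := by rw [hz]; group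
      exact one_ne_zero (zs_inj h3)
    have hiff : ∀ x, n⁻¹ * x * n ∈ P1 B ↔ x ∈ P1 B := by
      apply PFacts.eq_of_conj_le rfl
      intro x hx
      have h3 := hYz _ (hYmem x hx)
      rw [B.zl_zero, mul_one] at h3
      exact cent_s_mem hK (hnK x hx) h1 h3
    exact exists_isN4Q hF hQ (leviSet hK) (mover_of_norm hK hiff hnQ hne)
  · have h1 : w1 = 0 := by
      by_contra h1
      apply hYU
      intro y hy
      exact isU_iff.1 (hK.cent_m y (hYK y hy) w1 w2 h1 h2 (hYz y hy))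
    subst h1
    have hK' : KCent (swap B) K := SpFourCent.KCent.swap hK
    have hYz' : ∀ y ∈ MulAut.conj n⁻¹ • P1 B, Commute y ((swap B).zs w2) := by
      intro y hy
      have h3 := hYz y hy
      rwa [B.zs_zero, one_mul] at h3
    have hYP : MulAut.conj n⁻¹ • P1 B ≤ P1 (swap B) :=
      fun y hy => cent_s_mem hK' (hYK y hy) h2 (hYz' y hy)
    have hPY : P1 (swap B) ≤ MulAut.conj n⁻¹ • P1 B := by
      apply P1_le_of_perfect hK' hYP (PFacts.perf_conj (perf1 hK hF'))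
      · intro u hu
        rw [PFacts.conj_mem_iff, inv_inv]
        apply isU_P1
        show n * u * n⁻¹ ∈ USub B
        rw [← hnU, hback]
        exact EnvSwap.isU_swap.1 hu
      · intro h
        exact hYU (fun y hy => EnvSwap.isU_swap.1 (h y hy))
    have hiff : ∀ x, n⁻¹ * x * n ∈ P1 (swap B) ↔ x ∈ P1 B := by
      apply PFacts.eq_of_conj_le'
      · intro x hx
        exact hYP (hYmem x hx)
      · intro x hx
        have h3 := hPY hx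
        rwa [PFacts.conj_mem_iff, inv_inv] at h3
    have hiff' : ∀ x, n * x * n⁻¹ ∈ P1 B ↔ x ∈ P1 (swap B) := by
      intro x
      rw [← hiff, hback]
    obtain ⟨β, hβ⟩ := Base.exists_unit_ne hF
    set h := (swap B).h 1 β with hh
    set n' := n * h * n⁻¹ with hn'
    -- `n'` normalises `P₁`
    have hnorm : ∀ x, n'⁻¹ * x * n' ∈ P1 B ↔ x ∈ P1 B := by
      have hone : ∀ (γ : Fˣ) x, x ∈ P1 B →
          (n * (swap B).h 1 γ * n⁻¹) * x * (n * (swap B).h 1 γ * n⁻¹)⁻¹ ∈ P1 B := by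
        intro γ x hx
        rw [← hiff] at hx ⊢
        have := conj_h hK' hx 1 γ
        rw [show n⁻¹ * (n * (swap B).h 1 γ * n⁻¹ * x * (n * (swap B).h 1 γ * n⁻¹)⁻¹) * n =
          (swap B).h 1 γ * (n⁻¹ * x * n) * ((swap B).h 1 γ)⁻¹ by group]
        exact this
      intro x
      constructor
      · intro hx
        have := hone β _ hx
        rw [← hh, ← hn'] at this
        rwa [show n' * (n'⁻¹ * x * n') * n'⁻¹ = x by group] at this
      · intro hx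
        have := hone β⁻¹ x hx
        have e : (swap B).h 1 β⁻¹ = h⁻¹ := by rw [hh, (swap B).h_inv, inv_one]
        rw [e] at this
        rwa [show n * h⁻¹ * n⁻¹ * x * (n * h⁻¹ * n⁻¹)⁻¹ = n'⁻¹ * x * n' by rw [hn']; group] at this
    -- `n⁻¹ zs w n = zl r`
    have hzl : ∀ w, ∃ r, n⁻¹ * B.zs w * n = B.zl r := by
      intro w
      refine center1 hK' (B := swap B) ((hiff _).2 (by rw [← v1_zs]; exact v1_P1 _ _ _)) ?_
      intro y hy
      have h3 := hcomm (z1 ((hiff' y).2 hy) w)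
      rw [hback] at h3
      exact h3.symm
    have hzs : ∀ r, ∃ w, n * B.zl r * n⁻¹ = B.zs w := by
      intro r
      have hmem : B.zl r ∈ P1 (swap B) := by
        have h3 : (swap B).v1 0 r 0 = B.zl r := Base.v1_zs (B := swap B) r
        rw [← h3]; exact v1_P1 _ _ _
      refine center1 hK ((hiff' _).2 hmem) ?_
      intro y hy
      have h3 : Commute (n⁻¹ * y * n) ((swap B).zs r) := z1 ((hiff y).2 hy) r
      have h4 : n⁻¹ * y * n * B.zl r = B.zl r * (n⁻¹ * y * n) := h3.eq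
      show n * B.zl r * n⁻¹ * y = y * (n * B.zl r * n⁻¹)
      calc n * B.zl r * n⁻¹ * y = n * (B.zl r * (n⁻¹ * y * n)) * n⁻¹ := by group
        _ = _ := by rw [← h4]; group
    have hzmove : ∀ w, ∃ w', n' * B.zs w * n'⁻¹ = B.zs w' ∧ (w ≠ 0 → w + w' ≠ 0) := by
      intro w
      obtain ⟨r, hr⟩ := hzl w
      obtain ⟨w', hw'⟩ := hzs (β * r)
      have e1 : h * B.zl r * h⁻¹ = B.zl (β * r) := by
        have h3 := (swap B).h_zs 1 β r
        rw [Units.val_one, one_mul] at h3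
        have h4 : h * B.zl r = B.zl (β * r) * h := h3
        rw [h4]; group
      refine ⟨w', ?_, ?_⟩
      · rw [← hw', ← e1, ← hr, hn']; group
      · intro hw0 h3
        have h4 : w = w' := FieldAux.eq_of_add_eq_zero h3
        rw [← h4] at hw'
        have h5 : B.zl (β * r) = B.zl r := by
          calc B.zl (β * r) = n⁻¹ * (n * B.zl (β * r) * n⁻¹) * n := by group
            _ = B.zl r := by rw [hw', hr]
        have h6 := zl_inj h5
        have hr0 : r ≠ 0 := by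
          rintro rfl
          rw [B.zl_zero] at hr
          apply hw0
          apply zs_inj (B := B)
          rw [B.zs_zero]
          calc B.zs w = n * (n⁻¹ * B.zs w * n) * n⁻¹ := by group
            _ = 1 := by rw [hr]; group
        exact hβ (Units.ext (mul_right_cancel₀ hr0 (by rw [h6, Units.val_one, one_mul])))
    -- translation by `n'`
    have htr : ∀ t1 ∈ Q, ∀ t ∈ Q, ∀ w, n * t1 * n⁻¹ = t * B.zs w → ∀ w', n' * B.zs w * n'⁻¹ = B.zs w' →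
        n' * t * n'⁻¹ = t * B.zs (w + w') := by
      intro t1 ht1 t ht w hw w' hw'
      have h3 : t = n * t1 * n⁻¹ * B.zs w := by rw [hw, mul_assoc, B.zs_zs, mul_one]
      have h4 : h * t1 = t1 * h := ((SpFourCent.QC.swap hQ).h t1 ht1 1 β).symm.eq
      calc n' * t * n'⁻¹ = n' * (n * t1 * n⁻¹) * n'⁻¹ * (n' * B.zs w * n'⁻¹) := by rw [h3]; group
        _ = n * (h * t1) * h⁻¹ * n⁻¹ * B.zs w' := by rw [hw', hn']; group
        _ = n * t1 * n⁻¹ * B.zs w' := by rw [h4]; group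
        _ = _ := by rw [hw, B.zs_add, mul_assoc]
    -- `Q ≤ Q^{n⁻¹} Z_s`
    have hsurj : ∀ t ∈ Q, ∃ t1 ∈ Q, ∃ w, n * t1 * n⁻¹ = t * B.zs w := by
      have hc : ∀ x : Q, ∃ y : Q, ∃ w, n * x * n⁻¹ = y * B.zs w := by
        rintro ⟨x, hx⟩
        obtain ⟨t', ht', w, hw⟩ := hnQ x hx
        exact ⟨⟨t', ht'⟩, w, hw⟩
      choose f w hf using hc
      have hinj : Function.Injective f := by
        intro x y hxy
        have e1 : n * ((x : G) * (y : G)⁻¹) * n⁻¹ = B.zs (w x + w y) := by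
          have h3 := hf x
          have h4 := hf y
          rw [hxy] at h3
          have hc2 := (hQ.zs _ (f y).2 (w x)).eq
          calc n * ((x : G) * (y : G)⁻¹) * n⁻¹ = (n * x * n⁻¹) * (n * y * n⁻¹)⁻¹ := by group
            _ = (f y * B.zs (w x)) * (f y * B.zs (w y))⁻¹ := by rw [h3, h4]
            _ = B.zs (w x) * B.zs (w y) := by
                rw [hc2, mul_inv_rev, B.zs_inv]
                have hc3 := (hQ.zs _ (f y).2 (w y)).inv_left.eq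
                calc B.zs (w x) * (f y : G) * (B.zs (w y) * (f y : G)⁻¹)
                    = B.zs (w x) * (f y : G) * ((f y : G)⁻¹ * B.zs (w y)) := by rw [hc3]
                  _ = _ := by group
            _ = _ := by rw [B.zs_add]
        have e2 := hnt _ (mul_mem x.2 (inv_mem y.2))
        have e3 := hg.inj _ (mul_mem x.2 (inv_mem y.2)) (w x + w y) (by rw [← e2, e1])
        exact Subtype.ext (mul_inv_eq_one.1 e3)
      intro t ht
      obtain ⟨x, hx⟩ := (Finite.injective_iff_surjective.1 hinj) ⟨t, ht⟩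
      refine ⟨x, x.2, w x, ?_⟩
      rw [hf x, hx]
    apply exists_isN4Q hF hQ (leviSet hK) (n := n')
    apply mover_of_norm hK hnorm
    · intro t ht
      obtain ⟨t1, ht1, w, hw⟩ := hsurj t ht
      obtain ⟨w', hw', -⟩ := hzmove w
      exact ⟨t, ht, w + w', htr t1 ht1 t ht w hw w' hw'⟩
    · obtain ⟨t1, ht1, t, ht, w, hw0, hw⟩ := hne
      obtain ⟨w', hw', h3⟩ := hzmove w
      exact ⟨t, ht, t, ht, w + w', h3 hw0, htr t1 ht1 t ht w hw w' hw'⟩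

end Cfsg.Agent.OddHalf.D4.SpFourMover
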