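import Cfsg.Agent.OddHalf.D4.SpFourDefs

/-!
# ODD D4, `K = Sp₄(q)`: centralisers in `K`

`KCent B K`: `KBase B K` and the centralisers in `K` of the elements of `Z = Z_s Z_l`. `KCent.swap`: the graph symmetry.
`RootS B Q g`: `Q^g ≤ Q Z_s`.
-/

set_option autoImplicit false

namespace Cfsg.Agent.OddHalf.D4.SpFourCent

open Cfsg.Agent.StdSpFour Subgroup
open Cfsg.Agent.StdSpFour.Swap Cfsg.Agent.OddHalf.D4.SpFourDefs

variable {F G : Type*} [Field F] [Group G]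

/-- Elements of `U`. -/
def IsU (B : Base F G) (g : G) : Prop := ∃ u s m r, g = B.xa u * B.xb s * B.zs m * B.zl r

/-- Centralisers in `K` of the elements of `Z`. -/
structure KCent (B : Base F G) (K : Subgroup G) : Prop extends KBase B K where
  cent_s : ∀ g ∈ K, ∀ m, m ≠ 0 → Commute g (B.zs m) →
    (∃ v, IsU B v ∧ ∃ α : Fˣ, g = v * B.h α α⁻¹) ∨
      ∃ v, IsU B v ∧ ∃ α : Fˣ, ∃ c, g = v * B.h α α⁻¹ * B.na * B.xa c
  cent_l : ∀ g ∈ K, ∀ m, m ≠ 0 → Commute g (B.zl m) →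
    (∃ v, IsU B v ∧ ∃ α : Fˣ, g = v * B.h α (α ^ 2)⁻¹) ∨
      ∃ v, IsU B v ∧ ∃ α : Fˣ, ∃ c, g = v * B.h α (α ^ 2)⁻¹ * B.nb * B.xb c
  cent_m : ∀ g ∈ K, ∀ m n, m ≠ 0 → n ≠ 0 → Commute g (B.zs m * B.zl n) → IsU B g
  na_xa : ∀ c, IsU B (B.na * B.xa c * B.na⁻¹) → c = 0
  nb_xb : ∀ c, IsU B (B.nb * B.xb c * B.nb⁻¹) → c = 0

/-- `g Q g⁻¹ ≤ Q Z_s`, `g Q g⁻¹ ∩ Z_s = 1`, `g Q g⁻¹ ≠ Q`. -/
structure RootS (B : Base F G) (Q : Subgroup G) (g : G) : Prop where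
  le : ∀ t ∈ Q, ∃ t' ∈ Q, ∃ w, g * t * g⁻¹ = t' * B.zs w
  inj : ∀ t ∈ Q, ∀ w, g * t * g⁻¹ = B.zs w → t = 1
  ne : ∃ t ∈ Q, g * t * g⁻¹ ∉ Q

section swap

variable [CharP F 2] [Finite F] {B : Base F G}

theorem isU_swap {g : G} : IsU (swap B) g ↔ IsU B g := by
  constructor
  · rintro ⟨u, s, m, r, h⟩
    exact ⟨rt s, u, rt s * u + rt r, rt s ^ 2 * u + m, h.trans (norm_eq B u (rt s) m (rt r))⟩
  · rintro ⟨u, s, m, r, h⟩
    refine ⟨s, u ^ 2, u ^ 2 * s + r, (u * s + m) ^ 2, ?_⟩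
    show g = B.xb s * B.xa (rt (u ^ 2)) * B.zl (u ^ 2 * s + r) * B.zs (rt ((u * s + m) ^ 2))
    rw [rt_sq, rt_sq, norm_eq]
    have e1 : u * s + (u * s + m) = m := by
      rw [← add_assoc, CharTwo.add_self_eq_zero, zero_add]
    have e2 : u ^ 2 * s + (u ^ 2 * s + r) = r := by
      rw [← add_assoc, CharTwo.add_self_eq_zero, zero_add]
    rw [e1, e2]
    exact h

theorem QC.swap {Q : Subgroup G} (h : QC B Q) : QC (swap B) Q where
  t_mem := h.t_mem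
  sq := h.sq
  xa := h.xb
  xb := fun t ht u => h.xa t ht _
  zs := h.zl
  zl := fun t ht u => h.zs t ht _
  h := fun t ht α β => h.h t ht _ _
  na := h.nb
  nb := h.na
  disj := by
    intro t ht u s m r e
    obtain ⟨u', s', m', r', e'⟩ := isU_swap.1 (⟨u, s, m, r, rfl⟩ :
      IsU (Swap.swap B) ((Swap.swap B).xa u * (Swap.swap B).xb s * (Swap.swap B).zs m * (Swap.swap B).zl r))
    exact h.disj t ht u' s' m' r' (e'.symm.trans e)

theorem QB.swap {Q : Subgroup G} (h : QB B Q) : QB (swap B) Q where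
  toQC := QC.swap h.toQC
  cent1 := by
    intro g h1 h2 h3 h4
    obtain ⟨t, ht, s, m, r, e⟩ := h.cent2 g h1 (fun u => by
      have := h2 (u ^ 2)
      simp only [Swap.swap, rt_sq] at this
      exact this) (fun u => by
      have := h4 (u ^ 2)
      simp only [Swap.swap, rt_sq] at this
      exact this) h3
    refine ⟨t, ht, s ^ 2, r, m ^ 2, ?_⟩
    show g = t * (B.xa (rt (s ^ 2)) * B.zl r * B.zs (rt (m ^ 2)))
    rw [rt_sq, rt_sq, e, mul_assoc (B.xa s), (B.zs_zl m r).eq, ← mul_assoc (B.xa s)]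
  cent2 := by
    intro g h1 h2 h3 h4
    obtain ⟨t, ht, s, m, r, e⟩ := h.cent1 g h1 h2 (fun u => by
      have := h4 (u ^ 2)
      simp only [Swap.swap, rt_sq] at this
      exact this) h3
    refine ⟨t, ht, s, r, m ^ 2, ?_⟩
    show g = t * (B.xb s * B.zl r * B.zs (rt (m ^ 2)))
    rw [rt_sq, e, mul_assoc (B.xb s), (B.zs_zl m r).eq, ← mul_assoc (B.xb s)]
  centZ := by
    intro g h1 h2 h3
    obtain ⟨t, ht, u, s, m, r, e⟩ := h.centZ g h1 (fun u => by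
      have := h3 (u ^ 2)
      simp only [Swap.swap, rt_sq] at this
      exact this) h2
    obtain ⟨u', s', m', r', e'⟩ := isU_swap.2 (⟨u, s, m, r, rfl⟩ : IsU B _)
    exact ⟨t, ht, u', s', m', r', by rw [← e']; exact e⟩
  ti := h.ti

theorem range_xb : Set.range (swap B).xb = Set.range B.xa := by
  ext x
  constructor
  · rintro ⟨u, rfl⟩; exact ⟨rt u, rfl⟩
  · rintro ⟨u, rfl⟩
    refine ⟨u ^ 2, ?_⟩
    show B.xa (rt (u ^ 2)) = _
    rw [rt_sq]

theorem KBase.swap {K : Subgroup G} (h : KBase B K) : KBase (swap B) K where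
  xa_mem := h.xb_mem
  xb_mem := fun u => h.xa_mem _
  zs_mem := h.zl_mem
  zl_mem := fun u => h.zs_mem _
  h_mem := fun α β => h.h_mem _ _
  na_mem := h.nb_mem
  nb_mem := h.na_mem
  na_sq := h.nb_sq
  nb_sq := h.na_sq
  na_eq := h.nb_eq
  nb_eq := by
    show B.na = B.xa (rt 1) * (B.na * B.xa (rt 1) * B.na⁻¹) * B.xa (rt 1)
    rw [rt_one]
    exact h.na_eq
  tor_a := by
    intro α
    have h1 := h.tor_b (rtU α⁻¹)
    rw [sq_rtU, inv_inv] at h1
    exact h1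
  tor_b := by
    intro α
    have h1 := h.tor_a α⁻¹
    rw [inv_inv] at h1
    show B.h (rtU (α ^ 2)⁻¹) α ∈ _
    rw [map_inv, rtU_sq, range_xb]
    exact h1
  gen := by
    refine h.gen.trans (closure_mono ?_)
    rw [range_xb]
    rintro x (hx | hx)
    · left
      rcases hx with rfl | hx
      · right; rfl
      · left; exact hx
    · right
      rcases hx with hx | hx
      · right; exact hx
      · left; exact hx
  bruhat_a := by
    intro D hD hxa hxb hh hn g hg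
    have hh' : ∀ α β, B.h α β ∈ D := by
      intro α β
      have h1 := hh β (α ^ 2)
      change B.h (rtU (α ^ 2)) β ∈ D at h1
      rwa [rtU_sq] at h1
    have hx' : ∀ u, B.xa u ∈ D := by
      intro u
      have h1 := hxb (u ^ 2)
      change B.xa (rt (u ^ 2)) ∈ D at h1
      rwa [rt_sq] at h1
    rcases h.bruhat_b D hD hx' hxa hh' hn g hg with ⟨u, s, m, r, α, β, e⟩ | ⟨u, s, m, r, α, β, k, e⟩
    · left
      obtain ⟨u', s', m', r', e'⟩ := isU_swap.2 (⟨u, s, m, r, rfl⟩ : IsU B _)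
      refine ⟨u', s', m', r', β, α ^ 2, ?_⟩
      rw [← e']
      show g = _ * B.h (rtU (α ^ 2)) β
      rw [rtU_sq]; exact e
    · right
      obtain ⟨u', s', m', r', e'⟩ := isU_swap.2 (⟨u, s, m, r, rfl⟩ : IsU B _)
      refine ⟨u', s', m', r', β, α ^ 2, k, ?_⟩
      rw [← e']
      show g = _ * B.h (rtU (α ^ 2)) β * B.nb * B.xb k
      rw [rtU_sq]; exact e
  bruhat_b := by
    intro D hD hxa hxb hh hn g hg
    have hh' : ∀ α β, B.h α β ∈ D := by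
      intro α β
      have h1 := hh β (α ^ 2)
      change B.h (rtU (α ^ 2)) β ∈ D at h1
      rwa [rtU_sq] at h1
    have hx' : ∀ u, B.xa u ∈ D := by
      intro u
      have h1 := hxb (u ^ 2)
      change B.xa (rt (u ^ 2)) ∈ D at h1
      rwa [rt_sq] at h1
    rcases h.bruhat_a D hD hx' hxa hh' hn g hg with ⟨u, s, m, r, α, β, e⟩ | ⟨u, s, m, r, α, β, k, e⟩
    · left
      obtain ⟨u', s', m', r', e'⟩ := isU_swap.2 (⟨u, s, m, r, rfl⟩ : IsU B _)
      refine ⟨u', s', m', r', β, α ^ 2, ?_⟩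
      rw [← e']
      show g = _ * B.h (rtU (α ^ 2)) β
      rw [rtU_sq]; exact e
    · right
      obtain ⟨u', s', m', r', e'⟩ := isU_swap.2 (⟨u, s, m, r, rfl⟩ : IsU B _)
      refine ⟨u', s', m', r', β, α ^ 2, k ^ 2, ?_⟩
      rw [← e']
      show g = _ * B.h (rtU (α ^ 2)) β * B.na * B.xa (rt (k ^ 2))
      rw [rtU_sq, rt_sq]; exact e
  syl := by
    intro P hP h2
    obtain ⟨k, hk, hkP⟩ := h.syl P hP h2
    refine ⟨k, hk, fun x hx => ?_⟩
    obtain ⟨u, s, m, r, e⟩ := hkP x hx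
    exact isU_swap.2 (⟨u, s, m, r, e⟩ : IsU B _)
  center := h.center

theorem KCent.swap {K : Subgroup G} (h : KCent B K) : KCent (swap B) K where
  toKBase := KBase.swap h.toKBase
  cent_s := by
    intro g hg m hm hc
    rcases h.cent_l g hg m hm hc with ⟨v, hv, α, e⟩ | ⟨v, hv, α, c, e⟩
    · refine Or.inl ⟨v, isU_swap.2 hv, (α ^ 2)⁻¹, ?_⟩
      show g = v * B.h (rtU ((α ^ 2)⁻¹)⁻¹) (α ^ 2)⁻¹
      rw [inv_inv, rtU_sq]; exact e
    · refine Or.inr ⟨v, isU_swap.2 hv, (α ^ 2)⁻¹, c, ?_⟩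
      show g = v * B.h (rtU ((α ^ 2)⁻¹)⁻¹) (α ^ 2)⁻¹ * B.nb * B.xb c
      rw [inv_inv, rtU_sq]; exact e
  cent_l := by
    intro g hg m hm hc
    rcases h.cent_s g hg (rt m) (fun h0 => hm (rt_eq_zero h0)) hc with ⟨v, hv, α, e⟩ | ⟨v, hv, α, c, e⟩
    · refine Or.inl ⟨v, isU_swap.2 hv, α⁻¹, ?_⟩
      show g = v * B.h (rtU (α⁻¹ ^ 2)⁻¹) α⁻¹
      rw [inv_pow, inv_inv, rtU_sq]; exact e
    · refine Or.inr ⟨v, isU_swap.2 hv, α⁻¹, c ^ 2, ?_⟩
      show g = v * B.h (rtU (α⁻¹ ^ 2)⁻¹) α⁻¹ * B.na * B.xa (rt (c ^ 2))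
      rw [inv_pow, inv_inv, rtU_sq, rt_sq]; exact e
  cent_m := by
    intro g hg m n hm hn hc
    apply isU_swap.2
    apply h.cent_m g hg (rt n) m (fun h0 => hn (rt_eq_zero h0)) hm
    rw [(B.zs_zl _ _).eq]
    exact hc
  na_xa := fun c hc => h.nb_xb c (isU_swap.1 hc)
  nb_xb := fun c hc => rt_eq_zero (h.na_xa (rt c) (isU_swap.1 hc))

theorem KAut.swap {K : Subgroup G} (h : KAut B K) : KAut (swap B) K := by
  intro g hg h1 h2
  obtain ⟨u, s, m, r, e⟩ := h g hg (fun u => by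
    have := h2 (u ^ 2)
    simp only [Swap.swap, rt_sq] at this
    exact this) h1
  obtain ⟨u', s', m', r', e'⟩ := isU_swap.2 (⟨u, s, m, r, rfl⟩ : IsU B _)
  exact ⟨u', s', m', r', by rw [← e']; exact e⟩

end swap

end Cfsg.Agent.OddHalf.D4.SpFourCent
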