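import Mathlib
import Cfsg.Agent.OddHalf.D4.SpFourCent

/-!
# ODD D4, `K = Sp₄(q)`: calculations in `U` and in the parabolic subgroups
-/

set_option autoImplicit false
set_option linter.unusedSectionVars false

namespace Cfsg.Agent.OddHalf.D4.SpFourU

open Cfsg.Agent.StdSpFour Subgroup
open Cfsg.Agent.StdSpFour.Swap Cfsg.Agent.OddHalf.D4.SpFourDefs Cfsg.Agent.OddHalf.D4.SpFourCent

variable {F G : Type*} [Field F] [CharP F 2] [Group G]

/-- normal form -/
def nf (B : Base F G) (u s m r : F) : G := B.xa u * B.xb s * B.zs m * B.zl r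

variable {B : Base F G}

theorem xb_xa (u s : F) : B.xb u * B.xa s = B.xa s * B.xb u * (B.zs (s * u) * B.zl (s ^ 2 * u)) :=
  Swap.xb_xa B u s

theorem nf_mul (u s m r u' s' m' r' : F) :
    nf B u s m r * nf B u' s' m' r' = nf B (u + u') (s + s') (m + m' + u' * s) (r + r' + u' ^ 2 * s) := by
  unfold nf
  rw [B.xa_add, B.xb_add, B.zs_add, B.zs_add, B.zl_add, B.zl_add]
  have h1 := xb_xa (B := B) s u'
  have c1 := (B.zs_zl m' r).eq
  have c2 := (B.zs_zl m' (u' ^ 2 * s)).eq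
  have c3 := (B.zs_zl m' r').eq
  have d1 := (B.xb_zs s' (u' * s)).eq
  have d2 := (B.xb_zl s' (u' ^ 2 * s)).eq
  have d3 := (B.xa_zs u' m).eq
  have d4 := (B.xa_zl u' r).eq
  have d5 := (B.xb_zs s' m).eq
  have d6 := (B.xb_zl s' r).eq
  have e1 := (B.zs_zl (u' * s) r).eq
  have e2 := (Comm.comm_of_add B.zl_add r (u' ^ 2 * s)).eq
  have e3 := (Comm.comm_of_add B.zl_add (u' ^ 2 * s) r').eq
  have e4 := (Comm.comm_of_add B.zs_add (u' * s) m).eq
  have e5 := (Comm.comm_of_add B.zs_add (u' * s) m').eq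
  have e6 := (B.zs_zl m (u' ^ 2 * s)).eq
  calc B.xa u * B.xb s * B.zs m * B.zl r * (B.xa u' * B.xb s' * B.zs m' * B.zl r')
      = B.xa u * B.xb s * B.zs m * (B.zl r * B.xa u') * B.xb s' * B.zs m' * B.zl r' := by group
    _ = B.xa u * B.xb s * (B.zs m * B.xa u') * (B.zl r * B.xb s') * B.zs m' * B.zl r' := by rw [← d4]; group
    _ = B.xa u * (B.xb s * B.xa u') * (B.zs m * B.xb s') * (B.zl r * B.zs m') * B.zl r' := by
        rw [← d3, ← d6]; group
    _ = B.xa u * B.xa u' * B.xb s * B.zs (u' * s) * (B.zl (u' ^ 2 * s) * B.xb s') * B.zs m * B.zs m' *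
          (B.zl r * B.zl r') := by rw [h1, ← d5, ← c1]; group
    _ = B.xa u * B.xa u' * B.xb s * (B.zs (u' * s) * B.xb s') * (B.zl (u' ^ 2 * s) * B.zs m) * B.zs m' *
          (B.zl r * B.zl r') := by rw [← d2]; group
    _ = B.xa u * B.xa u' * (B.xb s * B.xb s') * (B.zs (u' * s) * B.zs m) * (B.zl (u' ^ 2 * s) * B.zs m') *
          (B.zl r * B.zl r') := by rw [← d1, ← e6]; group
    _ = B.xa u * B.xa u' * (B.xb s * B.xb s') * (B.zs m * (B.zs (u' * s) * B.zs m')) *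
          (B.zl (u' ^ 2 * s) * (B.zl r * B.zl r')) := by rw [e4, ← c2]; group
    _ = _ := by
        rw [e5, ← mul_assoc (B.zl (u' ^ 2 * s)), ← e2]
        rw [mul_assoc (B.zl r), e3]
        group

theorem nf_zero : nf B 0 0 0 0 = 1 := by
  unfold nf
  rw [B.xa_zero, B.xb_zero, B.zs_zero, B.zl_zero]; group

theorem xa_eq (u : F) : B.xa u = nf B u 0 0 0 := by
  unfold nf; rw [B.xb_zero, B.zs_zero, B.zl_zero]; group
theorem xb_eq (s : F) : B.xb s = nf B 0 s 0 0 := by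
  unfold nf; rw [B.xa_zero, B.zs_zero, B.zl_zero]; group
theorem zs_eq (m : F) : B.zs m = nf B 0 0 m 0 := by
  unfold nf; rw [B.xa_zero, B.xb_zero, B.zl_zero]; group
theorem zl_eq (r : F) : B.zl r = nf B 0 0 0 r := by
  unfold nf; rw [B.xa_zero, B.xb_zero, B.zs_zero]; group
theorem z_eq (m r : F) : B.zs m * B.zl r = nf B 0 0 m r := by
  rw [zs_eq, zl_eq, nf_mul]; congr 1 <;> ring

theorem nf_inv (u s m r : F) : (nf B u s m r)⁻¹ = nf B u s (m + u * s) (r + u ^ 2 * s) := by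
  apply inv_eq_of_mul_eq_one_right
  rw [nf_mul, ← nf_zero (B := B)]
  have h2 : (2 : F) = 0 := CharTwo.two_eq_zero
  congr 1
  · exact CharTwo.add_self_eq_zero u
  · exact CharTwo.add_self_eq_zero s
  · linear_combination (m + u * s) * h2
  · linear_combination (r + u ^ 2 * s) * h2

theorem nf_one {u s m r : F} (h : nf B u s m r = 1) : u = 0 ∧ s = 0 ∧ m = 0 ∧ r = 0 := B.inj u s m r h

theorem nf_inj {u s m r u' s' m' r' : F} (h : nf B u s m r = nf B u' s' m' r') :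
    u = u' ∧ s = s' ∧ m = m' ∧ r = r' := by
  have h1 : nf B u s m r * (nf B u' s' m' r')⁻¹ = 1 := by rw [h]; group
  rw [nf_inv, nf_mul] at h1
  obtain ⟨h2, h3, h4, h5⟩ := nf_one h1
  have e1 : u = u' := FieldAux.eq_of_add_eq_zero h2
  have e2 : s = s' := FieldAux.eq_of_add_eq_zero h3
  subst e1 e2
  have h2 : (2 : F) = 0 := CharTwo.two_eq_zero
  refine ⟨rfl, rfl, ?_, ?_⟩
  · apply FieldAux.eq_of_add_eq_zero
    linear_combination h4 - (u * s) * h2
  · apply FieldAux.eq_of_add_eq_zero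
    linear_combination h5 - (u ^ 2 * s) * h2

/-- conjugation in `U` -/
theorem nf_conj (u s m r u' s' m' r' : F) : nf B u s m r * nf B u' s' m' r' * (nf B u s m r)⁻¹ =
    nf B u' s' (m' + (u' * s + u * s')) (r' + (u' ^ 2 * s + u ^ 2 * s')) := by
  have h2 : (2 : F) = 0 := CharTwo.two_eq_zero
  rw [nf_inv, nf_mul, nf_mul]
  congr 1
  · linear_combination u * h2
  · linear_combination s * h2
  · linear_combination (m + u * s) * h2
  · linear_combination (r + u ^ 2 * s) * h2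

/-- commutators in `U` -/
theorem nf_comm (u s m r u' s' m' r' : F) :
    nf B u s m r * nf B u' s' m' r' * (nf B u s m r)⁻¹ * (nf B u' s' m' r')⁻¹ =
    nf B 0 0 (u' * s + u * s') (u' ^ 2 * s + u ^ 2 * s') := by
  have h2 : (2 : F) = 0 := CharTwo.two_eq_zero
  rw [nf_conj, nf_inv, nf_mul]
  congr 1
  · linear_combination u' * h2
  · linear_combination s' * h2
  · linear_combination (m' + u' * s') * h2
  · linear_combination (r' + u' ^ 2 * s') * h2

theorem nf_sq (u s m r : F) : nf B u s m r * nf B u s m r = nf B 0 0 (u * s) (u ^ 2 * s) := by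
  rw [nf_mul]
  congr 1
  · exact CharTwo.add_self_eq_zero u
  · exact CharTwo.add_self_eq_zero s
  · rw [CharTwo.add_self_eq_zero, zero_add]
  · rw [CharTwo.add_self_eq_zero, zero_add]

theorem isU_nf (u s m r : F) : IsU B (nf B u s m r) := ⟨u, s, m, r, rfl⟩

theorem IsU.mul {g g' : G} (h : IsU B g) (h' : IsU B g') : IsU B (g * g') := by
  obtain ⟨u, s, m, r, rfl⟩ := h
  obtain ⟨u', s', m', r', rfl⟩ := h'
  exact ⟨_, _, _, _, nf_mul u s m r u' s' m' r'⟩

theorem IsU.inv {g : G} (h : IsU B g) : IsU B g⁻¹ := by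
  obtain ⟨u, s, m, r, rfl⟩ := h
  exact ⟨_, _, _, _, nf_inv u s m r⟩

theorem isU_one : IsU B 1 := ⟨0, 0, 0, 0, nf_zero.symm⟩

/-- `U` -/
def UU (B : Base F G) : Subgroup G where
  carrier := {g | IsU B g}
  mul_mem' := IsU.mul
  one_mem' := isU_one
  inv_mem' := IsU.inv

theorem mem_UU {g : G} : g ∈ UU B ↔ IsU B g := Iff.rfl

theorem IsU.pow_four {g : G} (h : IsU B g) : g ^ 2 ^ 2 = 1 := by
  obtain ⟨u, s, m, r, rfl⟩ := h
  change (nf B u s m r) ^ 2 ^ 2 = 1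
  rw [show (2 : ℕ) ^ 2 = 2 * 2 from rfl, pow_mul, pow_two, pow_two, nf_sq, nf_sq, ← nf_zero (B := B)]
  congr 1 <;> ring

theorem isPGroup_UU : IsPGroup 2 ↥(UU B) := by
  rintro ⟨g, hg⟩
  exact ⟨2, Subtype.ext (IsU.pow_four hg)⟩

theorem isU_xa (u : F) : IsU B (B.xa u) := xa_eq (B := B) u ▸ isU_nf _ _ _ _
theorem isU_xb (u : F) : IsU B (B.xb u) := xb_eq (B := B) u ▸ isU_nf _ _ _ _
theorem isU_zs (u : F) : IsU B (B.zs u) := zs_eq (B := B) u ▸ isU_nf _ _ _ _
theorem isU_zl (u : F) : IsU B (B.zl u) := zl_eq (B := B) u ▸ isU_nf _ _ _ _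
theorem isU_z (m r : F) : IsU B (B.zs m * B.zl r) := z_eq (B := B) m r ▸ isU_nf _ _ _ _

/-- `Z` is central in `U` -/
theorem z_comm {g : G} (hg : IsU B g) (m r : F) : Commute g (B.zs m * B.zl r) := by
  obtain ⟨u, s, m', r', rfl⟩ := hg
  change nf B u s m' r' * _ = _ * nf B u s m' r'
  rw [z_eq, nf_mul, nf_mul]
  congr 1 <;> ring

theorem zs_comm {g : G} (hg : IsU B g) (m : F) : Commute g (B.zs m) := by
  have := z_comm hg m 0
  rwa [B.zl_zero, mul_one] at this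

theorem zl_comm {g : G} (hg : IsU B g) (r : F) : Commute g (B.zl r) := by
  have := z_comm hg 0 r
  rwa [B.zs_zero, one_mul] at this

/-- the centre of `U` -/
theorem center_U {g : G} (hg : IsU B g) (h1 : Commute g (B.xa 1)) (h2 : Commute g (B.xb 1)) :
    ∃ m r, g = B.zs m * B.zl r := by
  obtain ⟨u, s, m, r, rfl⟩ := hg
  change Commute (nf B u s m r) _ at h1 h2
  have e1 := nf_comm (B := B) u s m r 1 0 0 0
  have e2 := nf_comm (B := B) u s m r 0 1 0 0
  rw [← xa_eq, h1.eq] at e1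
  rw [← xb_eq, h2.eq] at e2
  have e1' : nf B 0 0 (1 * s + u * 0) (1 ^ 2 * s + u ^ 2 * 0) = 1 := by rw [← e1]; group
  have e2' : nf B 0 0 (0 * s + u * 1) (0 ^ 2 * s + u ^ 2 * 1) = 1 := by rw [← e2]; group
  have h3 := (nf_one e1').2.2.1
  have h4 := (nf_one e2').2.2.1
  have hs : s = 0 := by linear_combination h3
  have hu : u = 0 := by linear_combination h4
  subst hs hu
  exact ⟨m, r, by rw [z_eq]; rfl⟩

/-- elements of `U` of order two -/
theorem inv_U {u s m r : F} (h : nf B u s m r * nf B u s m r = 1) : u = 0 ∨ s = 0 := by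
  rw [nf_sq] at h
  exact mul_eq_zero.1 (nf_one h).2.2.1

/-- an element of `U` with non-trivial commutators in `Z_l` -/
theorem exists_comm_zl (hF : ∀ s : F, ∃ d : F, d ≠ 0 ∧ d ≠ s) {u s : F} (m r : F) (hu : u ≠ 0) (hs : s ≠ 0) :
    ∃ y e, IsU B y ∧ e ≠ 0 ∧ nf B u s m r * y * (nf B u s m r)⁻¹ * y⁻¹ = B.zl e := by
  obtain ⟨d, hd0, hds⟩ := hF s
  refine ⟨nf B (u * d * s⁻¹) d 0 0, u ^ 2 * d * (1 + d * s⁻¹), isU_nf _ _ _ _, ?_, ?_⟩
  · apply mul_ne_zero (mul_ne_zero (pow_ne_zero 2 hu) hd0)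
    intro h1
    apply hds
    have h2 : (1 : F) = d * s⁻¹ := FieldAux.eq_of_add_eq_zero h1
    calc d = d * s⁻¹ * s := by field_simp
      _ = s := by rw [← h2, one_mul]
  · rw [nf_comm, zl_eq]
    have h2 : (2 : F) = 0 := CharTwo.two_eq_zero
    congr 1
    · rw [mul_assoc (u * d), inv_mul_cancel₀ hs]
      linear_combination (u * d) * h2
    · field_simp
      ring

/-! ### Conjugation by `na`, `nb`, `h` -/

theorem na_zs' (m : F) : B.na * B.zs m * B.na⁻¹ = B.zs m := by rw [B.na_zs]; group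
theorem na_zl' (m : F) : B.na * B.zl m * B.na⁻¹ = B.xb m := by rw [B.na_zl]; group
theorem na_xb' (m : F) : B.na * B.xb m * B.na⁻¹ = B.zl m := by rw [B.na_xb]; group
theorem nb_zs' (m : F) : B.nb * B.zs m * B.nb⁻¹ = B.xa m := by rw [B.nb_zs]; group
theorem nb_zl' (m : F) : B.nb * B.zl m * B.nb⁻¹ = B.zl m := by rw [B.nb_zl]; group
theorem nb_xa' (m : F) : B.nb * B.xa m * B.nb⁻¹ = B.zs m := by rw [B.nb_xa]; group
theorem h_xa' (α β : Fˣ) (u : F) : B.h α β * B.xa u * (B.h α β)⁻¹ = B.xa (α * u) := by rw [B.h_xa]; group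
theorem h_xb' (α β : Fˣ) (u : F) : B.h α β * B.xb u * (B.h α β)⁻¹ = B.xb (β * u) := by rw [B.h_xb]; group
theorem h_zs' (α β : Fˣ) (u : F) : B.h α β * B.zs u * (B.h α β)⁻¹ = B.zs (α * β * u) := by rw [B.h_zs]; group
theorem h_zl' (α β : Fˣ) (u : F) : B.h α β * B.zl u * (B.h α β)⁻¹ = B.zl (α ^ 2 * β * u) := by rw [B.h_zl]; group

theorem mul_conj {g a b : G} : g * (a * b) * g⁻¹ = g * a * g⁻¹ * (g * b * g⁻¹) := by group

theorem h_nf (α β : Fˣ) (u s m r : F) : B.h α β * nf B u s m r * (B.h α β)⁻¹ =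
    nf B (α * u) (β * s) (α * β * m) (α ^ 2 * β * r) := by
  unfold nf
  rw [mul_conj, mul_conj, mul_conj, h_xa', h_xb', h_zs', h_zl']

/-- `p = na x_a(c)` maps `x_b(s) z_s(m) z_l(r)` into `Z` if `c² s = r` -/
theorem exists_conj_V1 [Finite F] {s : F} (m r : F) (hs : s ≠ 0) : ∃ c m', B.na * B.xa c * nf B 0 s m r * (B.na * B.xa c)⁻¹ =
    B.zs m' * B.zl s := by
  obtain ⟨c, hc⟩ : ∃ c : F, c ^ 2 * s = r := ⟨rt (r * s⁻¹), by rw [sq_rt]; field_simp⟩
  refine ⟨c, m + c * s, ?_⟩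
  have h1 : B.xa c * nf B 0 s m r * (B.xa c)⁻¹ = nf B 0 s (m + c * s) 0 := by
    have h2 : (2 : F) = 0 := CharTwo.two_eq_zero
    rw [xa_eq, nf_conj]
    congr 1
    · ring
    · rw [← hc]; linear_combination (c ^ 2 * s) * h2
  calc B.na * B.xa c * nf B 0 s m r * (B.na * B.xa c)⁻¹ = B.na * (B.xa c * nf B 0 s m r * (B.xa c)⁻¹) * B.na⁻¹ := by
        group
    _ = B.na * (B.xb s * B.zs (m + c * s)) * B.na⁻¹ := by
        rw [h1]; unfold nf; rw [B.xa_zero, B.zl_zero, one_mul, mul_one]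
    _ = B.zl s * B.zs (m + c * s) := by rw [mul_conj, na_xb', na_zs']
    _ = _ := ((B.zs_zl _ _).eq).symm

end Cfsg.Agent.OddHalf.D4.SpFourU
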