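import Cfsg.Agent.OddHalf.D4.SpFourQuot
import Cfsg.Agent.OddHalf.D4.SpFourMover
import Cfsg.Agent.OddHalf.D4.SpFourCore
import Cfsg.Agent.OddHalf.D4.SpFourFr
import Cfsg.Agent.OddHalf.D4.SpFourU

/-!
# ODD D4, `K = Sp₄(q)`, `|Q| ≥ 4`: no frame of root type (helper684; [E] of bb ODD #12274)

`O` = the elements of odd order of `C_G(K Q) = Q × O`. In `N_G(O)/O` the centralisers of `Q V₁`, `Q V₂`, `Q Z` are as
small as possible (`qb`). `endS`, `endL`: `Q^g ≤ Q Z_s` (resp. `Q Z_l`), `Q^g ≠ Q`, is impossible.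
-/

set_option autoImplicit false

namespace Cfsg.Agent.OddHalf.D4.SpFourEnd

open Subgroup
open Cfsg.Agent.StdSpFour Cfsg.Agent.StdSpFour.Swap
open Cfsg.Agent.OddHalf.D4 Cfsg.Agent.OddHalf.D4.Basic
open Cfsg.Agent.OddHalf.D4.SpFourDefs Cfsg.Agent.OddHalf.D4.SpFourCent Cfsg.Agent.OddHalf.D4.SpFourQuot
open Cfsg.Agent.OddHalf.D4.SpFourFr (Env)
open Cfsg.Agent.OddHalf.D4.SpFourU (nf)

variable {F G : Type*} [Field F] [Group G]

theorem zero_xb [CharP F 2] {B : Base F G} {u s m r : F}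
    (h : Commute (B.xa u * B.xb s * B.zs m * B.zl r) (B.xb 1)) : u = 0 := by
  change Commute (nf B u s m r) _ at h
  have e2 := SpFourU.nf_comm (B := B) u s m r 0 1 0 0
  rw [← SpFourU.xb_eq, h.eq] at e2
  have e2' : nf B 0 0 (0 * s + u * 1) (0 ^ 2 * s + u ^ 2 * 1) = 1 := by rw [← e2]; group
  have h4 := (SpFourU.nf_one e2').2.2.1
  linear_combination h4

theorem zero_xa [CharP F 2] {B : Base F G} {u s m r : F}
    (h : Commute (B.xa u * B.xb s * B.zs m * B.zl r) (B.xa 1)) : s = 0 := by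
  change Commute (nf B u s m r) _ at h
  have e2 := SpFourU.nf_comm (B := B) u s m r 1 0 0 0
  rw [← SpFourU.xa_eq, h.eq] at e2
  have e2' : nf B 0 0 (1 * s + u * 0) (1 ^ 2 * s + u ^ 2 * 0) = 1 := by rw [← e2]; group
  have h4 := (SpFourU.nf_one e2').2.2.1
  linear_combination h4

/-! ### The odd part of `C_G(K Q)` -/

theorem exists_O [Finite G] {K Q : Subgroup G} (hQ : IsSyl Q (centralizer (K : Set G)))
    (hab : ∀ x ∈ Q, ∀ y ∈ Q, Commute x y) :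
    ∃ O : Subgroup G, (∀ o ∈ O, o ∈ centralizer (K : Set G)) ∧ (∀ o ∈ O, ∀ t ∈ Q, Commute t o) ∧
      (∀ o ∈ O, o * o = 1 → o = 1) ∧
      ∀ x ∈ centralizer (K : Set G), (∀ t ∈ Q, Commute x t) → ∃ t ∈ Q, ∃ o ∈ O, x = t * o := by
  set C : Subgroup G := centralizer (K : Set G) ⊓ centralizer (Q : Set G) with hC
  have hQC : Q ≤ C := le_inf hQ.le (fun x hx => mem_centralizer_iff.2 fun y hy => (hab y hy x hx).eq)
  obtain ⟨P, hP⟩ := (hQ.mono hQC inf_le_left : IsSyl Q C).toSylow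
  have hn : (Q.subgroupOf C).Normal := by
    refine ⟨fun t ht c => ?_⟩
    have h1 : c * t * c⁻¹ = t := by
      apply Subtype.ext
      have h2 := mem_centralizer_iff.1 c.2.2 t (mem_subgroupOf.1 ht)
      show (c : G) * t * (c : G)⁻¹ = t
      rw [← h2]; group
    rwa [h1]
  have : Fact (Nat.Prime 2) := ⟨Nat.prime_two⟩
  have hodd : ¬ 2 ∣ (Q.subgroupOf C).index := by
    rw [← hP]; exact P.not_dvd_index
  have hcop : Nat.Coprime (Nat.card (Q.subgroupOf C)) (Q.subgroupOf C).index := by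
    rw [← hP]; exact P.card_coprime_index
  obtain ⟨H, hH⟩ := exists_right_complement'_of_coprime hcop
  have hcard : Nat.card H = (Q.subgroupOf C).index := hH.symm.index_eq_card.symm
  refine ⟨H.map C.subtype, ?_, ?_, ?_, ?_⟩
  · rintro _ ⟨o, _, rfl⟩; exact o.2.1
  · rintro _ ⟨o, _, rfl⟩ t ht
    exact mem_centralizer_iff.1 o.2.2 t ht
  · rintro _ ⟨o, ho, rfl⟩ h1
    have h2 : o * o = 1 := Subtype.ext h1
    have h3 : orderOf (⟨o, ho⟩ : H) ∣ 2 := by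
      rw [orderOf_dvd_iff_pow_eq_one, pow_two]; exact Subtype.ext h2
    have h4 : orderOf (⟨o, ho⟩ : H) ∣ Nat.card H := orderOf_dvd_natCard _
    rcases (Nat.dvd_prime Nat.prime_two).1 h3 with h5 | h5
    · have h6 := orderOf_eq_one_iff.1 h5
      have h7 : o = 1 := congrArg Subtype.val h6
      rw [h7]; rfl
    · rw [h5, hcard] at h4
      exact absurd h4 hodd
  · intro x hx hxt
    have hxC : x ∈ C := ⟨hx, mem_centralizer_iff.2 fun t ht => (hxt t ht).symm.eq⟩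
    obtain ⟨⟨⟨t, ht⟩, ⟨o, ho⟩⟩, e, -⟩ := IsComplement.existsUnique hH ⟨x, hxC⟩
    exact ⟨t, mem_subgroupOf.1 ht, o, ⟨o, ho, rfl⟩, (congrArg Subtype.val e).symm⟩

/-- The situation. -/
structure Sit (B : Base F G) (K Q O : Subgroup G) : Prop where
  hK : KCent B K
  hA : KAut B K
  env : Env K
  syl : IsSyl Q (centralizer (K : Set G))
  qc : QC B Q
  ok : ∀ o ∈ O, o ∈ centralizer (K : Set G)
  oq : ∀ o ∈ O, ∀ t ∈ Q, Commute t o
  odd : ∀ o ∈ O, o * o = 1 → o = 1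
  dec : ∀ x ∈ centralizer (K : Set G), (∀ t ∈ Q, Commute x t) → ∃ t ∈ Q, ∃ o ∈ O, x = t * o

namespace Sit

variable {B : Base F G} {K Q O : Subgroup G}

theorem swap [CharP F 2] [Finite F] (S : Sit B K Q O) : Sit (swap B) K Q O where
  hK := KCent.swap S.hK
  hA := KAut.swap S.hA
  env := S.env
  syl := S.syl
  qc := SpFourCent.QC.swap S.qc
  ok := S.ok
  oq := S.oq
  odd := S.odd
  dec := S.dec

variable (S : Sit B K Q O)
include S

theorem commK {k o : G} (hk : k ∈ K) (ho : o ∈ O) : Commute k o := mem_centralizer_iff.1 (S.ok o ho) k hk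

theorem commKQ {k t : G} (hk : k ∈ K) (ht : t ∈ Q) : Commute k t := mem_centralizer_iff.1 (S.syl.le ht) k hk

theorem mem_X {g : G} (h : ∀ o ∈ O, Commute g o) : g ∈ normalizer (O : Set G) := by
  rw [mem_normalizer_iff]
  intro x
  constructor
  · intro hx
    have := (h x hx).eq
    rw [this, mul_inv_cancel_right]; exact hx
  · intro hx
    have h1 := (h _ hx).eq
    have h2 : g * x * g⁻¹ = x := by
      have h3 : g * (g * x * g⁻¹) * g⁻¹ = g * x * g⁻¹ := by rw [h1, mul_inv_cancel_right]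
      exact mul_left_cancel (mul_right_cancel h3)
    rwa [h2] at hx

theorem K_le : K ≤ normalizer (O : Set G) := fun _ hk => S.mem_X fun _ ho => S.commK hk ho

theorem Q_le : Q ≤ normalizer (O : Set G) := fun _ ht => S.mem_X fun o ho => S.oq o ho _ ht

theorem inX : InX B (normalizer (O : Set G)) where
  t := S.Q_le S.qc.t_mem
  xa := fun u => S.K_le (S.hK.xa_mem u)
  xb := fun u => S.K_le (S.hK.xb_mem u)
  zs := fun u => S.K_le (S.hK.zs_mem u)
  zl := fun u => S.K_le (S.hK.zl_mem u)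
  h := fun α β => S.K_le (S.hK.h_mem α β)
  na := S.K_le S.hK.na_mem
  nb := S.K_le S.hK.nb_mem

theorem nf_mem (u s m r : F) : B.xa u * B.xb s * B.zs m * B.zl r ∈ K :=
  mul_mem (mul_mem (mul_mem (S.hK.xa_mem u) (S.hK.xb_mem s)) (S.hK.zs_mem m)) (S.hK.zl_mem r)

/-- `K ∩ C(K) = 1` -/
theorem one_of_K {k : G} (hk : k ∈ K) (hc : k ∈ centralizer (K : Set G)) : k = 1 :=
  S.hK.center k hk fun x hx => (mem_centralizer_iff.1 hc x hx).symm

/-- `Q ∩ O = 1` -/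
theorem one_of_Q {t : G} (ht : t ∈ Q) (ho : t ∈ O) : t = 1 := S.odd t ho (S.qc.sq t ht)

/-- an element normalising `O` and commuting modulo `O` with an involution `x` commuting with `O` commutes with `x` -/
theorem comm_of {n x o : G} (hx : x * x = 1) (hxO : ∀ o ∈ O, Commute x o) (ho : o ∈ O) (h : n * x * n⁻¹ = x * o) :
    Commute n x := by
  have h1 : (n * x * n⁻¹) * (n * x * n⁻¹) = 1 := by
    calc (n * x * n⁻¹) * (n * x * n⁻¹) = n * (x * x) * n⁻¹ := by group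
      _ = 1 := by rw [hx]; group
  rw [h] at h1
  have h2 : x * o * (x * o) = o * o := by
    calc x * o * (x * o) = x * (o * x) * o := by group
      _ = (x * x) * (o * o) := by rw [← (hxO o ho).eq]; group
      _ = o * o := by rw [hx, one_mul]
  rw [h2] at h1
  rw [S.odd o ho h1, mul_one] at h
  show n * x = x * n
  calc n * x = n * x * n⁻¹ * n := by group
    _ = x * n := by rw [h]

/-- elements commuting with `Q` and `Z` -/
theorem form {n : G} (h1 : ∀ t ∈ Q, Commute n t) (h2 : ∀ u, Commute n (B.zs u)) (h3 : ∀ u, Commute n (B.zl u)) :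
    ∃ t ∈ Q, ∃ o ∈ O, ∃ u s m r, n = B.xa u * B.xb s * B.zs m * B.zl r * (t * o) := by
  have ht1 : B.t ≠ 1 := by
    intro h
    apply B.t_ne 0 0 0 0
    rw [h]
    have e1 : B.xa 0 = 1 := by
      have := B.xa_add 0 0
      rw [add_zero] at this
      exact (left_eq_mul.1 this)
    have e2 : B.xb 0 = 1 := by
      have := B.xb_add 0 0
      rw [add_zero] at this
      exact (left_eq_mul.1 this)
    have e3 : B.zs 0 = 1 := by
      have := B.zs_add 0 0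
      rw [add_zero] at this
      exact (left_eq_mul.1 this)
    have e4 : B.zl 0 = 1 := by
      have := B.zl_add 0 0
      rw [add_zero] at this
      exact (left_eq_mul.1 this)
    rw [e1, e2, e3, e4, one_mul, one_mul, one_mul]
  have hN : n ∈ normalizer (K : Set G) := by
    apply TightAt.mem S.env.tight (S.syl.le S.qc.t_mem) _ (h1 _ S.qc.t_mem).eq
    exact orderOf_eq_prime (by rw [pow_two, B.tt]) ht1
  obtain ⟨u, s, m, r, hc⟩ := S.hA n hN h2 h3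
  have hcK : (B.xa u * B.xb s * B.zs m * B.zl r)⁻¹ * n ∈ centralizer (K : Set G) :=
    mem_centralizer_iff.2 fun k hk => (hc k hk).symm.eq
  obtain ⟨t, ht, o, ho, e⟩ := S.dec _ hcK (fun t ht =>
    ((S.commKQ (S.nf_mem u s m r) ht).inv_left).mul_left (h1 t ht))
  exact ⟨t, ht, o, ho, u, s, m, r, by rw [← e, mul_inv_cancel_left]⟩

/-! ### The section `N_G(O) / O` -/

section quot

variable {H : Type*} [Group H] (f : ↥(normalizer (O : Set G)) →* H)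
  (hf : ∀ x : ↥(normalizer (O : Set G)), f x = 1 ↔ (x : G) ∈ O)

include hf

/-- commutation lifts -/
theorem lift {n x : ↥(normalizer (O : Set G))} (hx : (x : G) * x = 1) (hxO : ∀ o ∈ O, Commute (x : G) o)
    (h : Commute (f n) (f x)) : Commute (n : G) (x : G) := by
  have h1 : f (x⁻¹ * (n * x * n⁻¹)) = 1 := by
    rw [map_mul, map_mul, map_mul, map_inv, map_inv, h.eq]; group
  have h2 := (hf _).1 h1
  apply S.comm_of hx hxO h2
  show (n : G) * x * (n : G)⁻¹ = x * ((x : G)⁻¹ * (n * x * (n : G)⁻¹))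
  rw [mul_inv_cancel_left]

theorem eq_of {x y : ↥(normalizer (O : Set G))} (hx : (x : G) * x = 1) (hy : (y : G) * y = 1)
    (hyO : ∀ o ∈ O, Commute (y : G) o) (h : f x = f y) : (x : G) = y := by
  have h1 : f (y⁻¹ * x) = 1 := by rw [map_mul, map_inv, h, inv_mul_cancel]
  have h2 : (y : G)⁻¹ * x ∈ O := (hf _).1 h1
  have hc := hyO _ h2
  have h3 : (x : G) = y * ((y : G)⁻¹ * x) := by group
  have h4 : ((y : G)⁻¹ * x) * ((y : G)⁻¹ * x) = 1 := by
    have h5 : ((y : G) * ((y : G)⁻¹ * x)) * ((y : G) * ((y : G)⁻¹ * x)) = 1 := by rw [← h3]; exact hx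
    calc ((y : G)⁻¹ * x) * ((y : G)⁻¹ * x) = ((y : G) * y) * (((y : G)⁻¹ * x) * ((y : G)⁻¹ * x)) := by rw [hy, one_mul]
      _ = (y : G) * (y * ((y : G)⁻¹ * x)) * ((y : G)⁻¹ * x) := by group
      _ = (y : G) * (((y : G)⁻¹ * x) * y) * ((y : G)⁻¹ * x) := by rw [hc.eq]
      _ = ((y : G) * ((y : G)⁻¹ * x)) * ((y : G) * ((y : G)⁻¹ * x)) := by group
      _ = 1 := h5
  rw [h3, S.odd _ h2 h4, mul_one]

theorem injU : InjU (toSub B _ S.inX) f where
  inj := by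
    intro u s m r e
    have h1 := (hf _).1 e
    apply Subtype.ext
    exact S.one_of_K (S.nf_mem u s m r) (S.ok _ h1)
  ne := by
    intro u s m r e
    have h1 : f (((toSub B _ S.inX).xa u * (toSub B _ S.inX).xb s * (toSub B _ S.inX).zs m *
        (toSub B _ S.inX).zl r) * ((toSub B _ S.inX).t)⁻¹) = 1 := by
      rw [map_mul, map_inv, e, mul_inv_cancel]
    have h2 : (B.xa u * B.xb s * B.zs m * B.zl r) * B.t⁻¹ ∈ O := (hf _).1 h1
    have h3 := S.ok _ h2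
    have h4 := mul_mem h3 (S.syl.le S.qc.t_mem)
    rw [inv_mul_cancel_right] at h4
    have h5 := S.one_of_K (S.nf_mem u s m r) h4
    rw [h5, one_mul] at h2
    have h6 := S.one_of_Q (inv_mem S.qc.t_mem) h2
    apply B.t_ne u s m r
    rw [h5, ← inv_inv B.t, h6, inv_one]

/-- the image of `B` -/
abbrev Bb : Base F H := map (toSub B _ S.inX) f (S.injU f hf)

omit hf S [Field F] in
/-- the image of `Q` -/
abbrev Qb (Q : Subgroup G) (f : ↥(normalizer (O : Set G)) →* H) : Subgroup H :=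
  (Q.subgroupOf (normalizer (O : Set G))).map f

omit hf in
theorem mem_Qb {x : H} : x ∈ Qb Q f ↔ ∃ t, ∃ ht : t ∈ Q, f ⟨t, S.Q_le ht⟩ = x := by
  constructor
  · rintro ⟨⟨t, ht'⟩, ht, e⟩
    exact ⟨t, mem_subgroupOf.1 ht, e⟩
  · rintro ⟨t, ht, e⟩
    exact ⟨_, mem_subgroupOf.2 ht, e⟩

theorem nf_eq (u s m r : F) : (S.Bb f hf).xa u * (S.Bb f hf).xb s * (S.Bb f hf).zs m * (S.Bb f hf).zl r =
    f ⟨B.xa u * B.xb s * B.zs m * B.zl r, S.K_le (S.nf_mem u s m r)⟩ := by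
  show f _ * f _ * f _ * f _ = _
  rw [← map_mul, ← map_mul, ← map_mul]
  rfl

theorem v1_eq (s m r : F) : (S.Bb f hf).v1 s m r =
    f ⟨B.v1 s m r, S.K_le (mul_mem (mul_mem (S.hK.xb_mem s) (S.hK.zs_mem m)) (S.hK.zl_mem r))⟩ := by
  show f _ * f _ * f _ = _
  rw [← map_mul, ← map_mul]
  rfl

theorem qc' : QC (S.Bb f hf) (Qb Q f) where
  t_mem := (S.mem_Qb f).2 ⟨B.t, S.qc.t_mem, rfl⟩
  sq := by
    intro x hx
    obtain ⟨t, ht, rfl⟩ := (S.mem_Qb f).1 hx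
    rw [← map_mul]
    have : (⟨t, S.Q_le ht⟩ : ↥(normalizer (O : Set G))) * ⟨t, S.Q_le ht⟩ = 1 := Subtype.ext (S.qc.sq t ht)
    rw [this, map_one]
  xa := by
    intro x hx u
    obtain ⟨t, ht, rfl⟩ := (S.mem_Qb f).1 hx
    exact cm (Subtype.ext (S.qc.xa t ht u).eq)
  xb := by
    intro x hx u
    obtain ⟨t, ht, rfl⟩ := (S.mem_Qb f).1 hx
    exact cm (Subtype.ext (S.qc.xb t ht u).eq)
  zs := by
    intro x hx u
    obtain ⟨t, ht, rfl⟩ := (S.mem_Qb f).1 hx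
    exact cm (Subtype.ext (S.qc.zs t ht u).eq)
  zl := by
    intro x hx u
    obtain ⟨t, ht, rfl⟩ := (S.mem_Qb f).1 hx
    exact cm (Subtype.ext (S.qc.zl t ht u).eq)
  h := by
    intro x hx α β
    obtain ⟨t, ht, rfl⟩ := (S.mem_Qb f).1 hx
    exact cm (Subtype.ext (S.qc.h t ht α β).eq)
  na := by
    intro x hx
    obtain ⟨t, ht, rfl⟩ := (S.mem_Qb f).1 hx
    exact cm (Subtype.ext (S.qc.na t ht).eq)
  nb := by
    intro x hx
    obtain ⟨t, ht, rfl⟩ := (S.mem_Qb f).1 hx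
    exact cm (Subtype.ext (S.qc.nb t ht).eq)
  disj := by
    intro x hx u s m r e
    obtain ⟨t, ht, rfl⟩ := (S.mem_Qb f).1 hx
    rw [S.nf_eq f hf] at e
    have h1 : f (⟨B.xa u * B.xb s * B.zs m * B.zl r, S.K_le (S.nf_mem u s m r)⟩ * (⟨t, S.Q_le ht⟩)⁻¹) = 1 := by
      rw [map_mul, map_inv, e, mul_inv_cancel]
    have h2 : (B.xa u * B.xb s * B.zs m * B.zl r) * t⁻¹ ∈ O := (hf _).1 h1
    have h4 := mul_mem (S.ok _ h2) (S.syl.le ht)
    rw [inv_mul_cancel_right] at h4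
    have h5 := S.one_of_K (S.nf_mem u s m r) h4
    rw [← e]
    have : (⟨B.xa u * B.xb s * B.zs m * B.zl r, S.K_le (S.nf_mem u s m r)⟩ : ↥(normalizer (O : Set G))) = 1 :=
      Subtype.ext h5
    rw [this, map_one]

/-- the general form of the elements commuting with `Q` and `Z` modulo `O` -/
theorem form' [CharP F 2] (hs : Function.Surjective f) {g : H} (h1 : ∀ t ∈ Qb Q f, Commute g t)
    (h2 : ∀ u, Commute g ((S.Bb f hf).zs u)) (h3 : ∀ u, Commute g ((S.Bb f hf).zl u)) :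
    ∃ t, ∃ ht : t ∈ Q, ∃ u s m r, g = f ⟨t, S.Q_le ht⟩ *
      ((S.Bb f hf).xa u * (S.Bb f hf).xb s * (S.Bb f hf).zs m * (S.Bb f hf).zl r) := by
  obtain ⟨n, rfl⟩ := hs g
  have g1 : ∀ t ∈ Q, Commute (n : G) t := fun t ht =>
    S.lift f hf (x := ⟨t, S.Q_le ht⟩) (S.qc.sq t ht) (fun o ho => S.oq o ho t ht) (h1 _ ((S.mem_Qb f).2 ⟨t, ht, rfl⟩))
  have g2 : ∀ u, Commute (n : G) (B.zs u) := fun u =>
    S.lift f hf (x := ⟨B.zs u, S.inX.zs u⟩) (Comm.sq_of_add B.zs_add u) (fun o ho => S.commK (S.hK.zs_mem u) ho) (h2 u)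
  have g3 : ∀ u, Commute (n : G) (B.zl u) := fun u =>
    S.lift f hf (x := ⟨B.zl u, S.inX.zl u⟩) (Comm.sq_of_add B.zl_add u) (fun o ho => S.commK (S.hK.zl_mem u) ho) (h3 u)
  obtain ⟨t, ht, o, ho, u, s, m, r, e⟩ := S.form g1 g2 g3
  refine ⟨t, ht, u, s, m, r, ?_⟩
  rw [S.nf_eq f hf]
  have hoX : o ∈ normalizer (O : Set G) := le_normalizer ho
  have e1 : n = ⟨t, S.Q_le ht⟩ * ⟨_, S.K_le (S.nf_mem u s m r)⟩ * ⟨o, hoX⟩ := by
    apply Subtype.ext
    show (n : G) = t * (B.xa u * B.xb s * B.zs m * B.zl r) * o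
    rw [e, ← (S.commKQ (S.nf_mem u s m r) ht).eq, mul_assoc _ t o]
  have e2 : f ⟨o, hoX⟩ = 1 := (hf _).2 ho
  rw [e1, map_mul, map_mul, e2, mul_one]

theorem qb [CharP F 2] (hs : Function.Surjective f) : QB (S.Bb f hf) (Qb Q f) where
  toQC := S.qc' f hf
  cent1 := by
    intro g h1 h2 h3 h4
    obtain ⟨t, ht, u, s, m, r, e⟩ := S.form' f hf hs h1 h3 h4
    refine ⟨_, (S.mem_Qb f).2 ⟨t, ht, rfl⟩, s, m, r, ?_⟩
    have hu : u = 0 := by
      have h5 := h2 1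
      rw [e] at h5
      have h6 : Commute (f ⟨t, S.Q_le ht⟩) ((S.Bb f hf).xb 1) := (S.qc' f hf).xb _ ((S.mem_Qb f).2 ⟨t, ht, rfl⟩) 1
      have h7 : Commute ((S.Bb f hf).xa u * (S.Bb f hf).xb s * (S.Bb f hf).zs m * (S.Bb f hf).zl r)
          ((S.Bb f hf).xb 1) := by
        have h8 := h6.inv_left.mul_left h5
        rwa [inv_mul_cancel_left] at h8
      exact zero_xb h7
    rw [e, hu, (S.Bb f hf).xa_zero, one_mul]
  cent2 := by
    intro g h1 h2 h3 h4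
    obtain ⟨t, ht, u, s, m, r, e⟩ := S.form' f hf hs h1 h3 h4
    refine ⟨_, (S.mem_Qb f).2 ⟨t, ht, rfl⟩, u, m, r, ?_⟩
    have hu : s = 0 := by
      have h5 := h2 1
      rw [e] at h5
      have h6 : Commute (f ⟨t, S.Q_le ht⟩) ((S.Bb f hf).xa 1) := (S.qc' f hf).xa _ ((S.mem_Qb f).2 ⟨t, ht, rfl⟩) 1
      have h7 : Commute ((S.Bb f hf).xa u * (S.Bb f hf).xb s * (S.Bb f hf).zs m * (S.Bb f hf).zl r)
          ((S.Bb f hf).xa 1) := by
        have h8 := h6.inv_left.mul_left h5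
        rwa [inv_mul_cancel_left] at h8
      exact zero_xa h7
    rw [e, hu, (S.Bb f hf).xb_zero, mul_one]
  centZ := by
    intro g h1 h2 h3
    obtain ⟨t, ht, u, s, m, r, e⟩ := S.form' f hf hs h1 h2 h3
    exact ⟨_, (S.mem_Qb f).2 ⟨t, ht, rfl⟩, u, s, m, r, e⟩
  ti := by
    intro g ⟨x, hx, hx1, hxg⟩ hcomm
    obtain ⟨n, rfl⟩ := hs g
    obtain ⟨t, ht, rfl⟩ := (S.mem_Qb f).1 hx
    obtain ⟨t', ht', e⟩ := (S.mem_Qb f).1 hxg
    have ht1 : t ≠ 1 := by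
      rintro rfl
      exact hx1 (map_one f)
    have key : ∀ b ∈ Q, ∀ o ∈ O, Commute ((n : G)⁻¹ * b * n) o := by
      intro b hb o ho
      have h1 : (n : G) * o * (n : G)⁻¹ ∈ O := (mem_normalizer_iff.1 n.2 o).1 ho
      have h2 := (S.oq _ h1 b hb).eq
      show (n : G)⁻¹ * b * n * o = o * ((n : G)⁻¹ * b * n)
      calc (n : G)⁻¹ * b * n * o = (n : G)⁻¹ * (b * (n * o * (n : G)⁻¹)) * n := by group
        _ = (n : G)⁻¹ * ((n * o * (n : G)⁻¹) * b) * n := by rw [h2]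
        _ = o * ((n : G)⁻¹ * b * n) := by group
    have hsq : ∀ b ∈ Q, ((n : G)⁻¹ * b * n) * ((n : G)⁻¹ * b * n) = 1 := by
      intro b hb
      calc ((n : G)⁻¹ * b * n) * ((n : G)⁻¹ * b * n) = (n : G)⁻¹ * (b * b) * n := by group
        _ = 1 := by rw [S.qc.sq b hb]; group
    -- `n` normalises `K`
    have h1 : (n : G)⁻¹ * t * n = t' :=
      (S.eq_of f hf (x := ⟨t', S.Q_le ht'⟩) (y := n⁻¹ * ⟨t, S.Q_le ht⟩ * n) (S.qc.sq t' ht') (hsq t ht)
        (key t ht) (by rw [e, map_mul, map_mul, map_inv])).symm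
    have ho2 : orderOf t = 2 := orderOf_eq_prime (by rw [pow_two, S.qc.sq t ht]) ht1
    have hN : (n : G) ∈ normalizer (K : Set G) := by
      have h2 : (n : G)⁻¹ ∈ normalizer (K : Set G) := by
        apply S.env.tight.tight _ t (S.syl.le ht) ho2
        rw [inv_inv, h1]
        exact S.syl.le ht'
      exact inv_mem_iff.1 h2
    intro x hx
    obtain ⟨b, hb, rfl⟩ := (S.mem_Qb f).1 hx
    have hbK : (n : G)⁻¹ * b * n ∈ centralizer (K : Set G) := by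
      rw [mem_centralizer_iff]
      intro k hk
      have h3 : (n : G) * k * (n : G)⁻¹ ∈ K := (mem_normalizer_iff.1 hN k).1 hk
      have h4 := (S.commKQ h3 hb).eq
      calc k * ((n : G)⁻¹ * b * n) = (n : G)⁻¹ * ((n * k * (n : G)⁻¹) * b) * n := by group
        _ = (n : G)⁻¹ * (b * (n * k * (n : G)⁻¹)) * n := by rw [h4]
        _ = (n : G)⁻¹ * b * n * k := by group
    have hbQ : ∀ a ∈ Q, Commute ((n : G)⁻¹ * b * n) a := by
      intro a ha
      have h3 := hcomm _ ((S.mem_Qb f).2 ⟨a, ha, rfl⟩) _ ((S.mem_Qb f).2 ⟨b, hb, rfl⟩)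
      have h4 : Commute (f ⟨a, S.Q_le ha⟩) (f (n⁻¹ * ⟨b, S.Q_le hb⟩ * n)) := by
        rw [map_mul, map_mul, map_inv]; exact h3
      exact (S.lift f hf (n := ⟨a, S.Q_le ha⟩) (x := n⁻¹ * ⟨b, S.Q_le hb⟩ * n) (hsq b hb) (key b hb) h4).symm
    obtain ⟨c, hc, o, ho, e3⟩ := S.dec _ hbK hbQ
    refine (S.mem_Qb f).2 ⟨c, hc, ?_⟩
    have hoX : o ∈ normalizer (O : Set G) := le_normalizer ho
    have e4 : n⁻¹ * ⟨b, S.Q_le hb⟩ * n = ⟨c, S.Q_le hc⟩ * ⟨o, hoX⟩ := Subtype.ext e3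
    have e2 : f ⟨o, hoX⟩ = 1 := (hf _).2 ho
    rw [← map_inv, ← map_mul, ← map_mul, e4, map_mul, e2, mul_one]

end quot

/-! ### Elements of `IsN4Q` -/

section n4

variable [CharP F 2]

theorem odd_order {o : G} [Finite G] (ho : o ∈ O) : Nat.Coprime 4 (orderOf o) := by
  have h1 : ¬ 2 ∣ orderOf o := by
    rintro ⟨k, hk⟩
    have hpos := orderOf_pos o
    have h2 : o ^ k = 1 := by
      apply S.odd _ (pow_mem ho k)
      rw [← pow_add, ← two_mul, ← hk, pow_orderOf_eq_one]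
    have h3 := orderOf_dvd_of_pow_eq_one h2
    have h4 := Nat.le_of_dvd (by omega) h3
    omega
  rw [show (4 : ℕ) = 2 ^ 2 by norm_num]
  exact Nat.Coprime.pow_left 2 ((Nat.Prime.coprime_iff_not_dvd Nat.prime_two).2 h1)

/-- conjugates of elements of `O` by elements of `IsN4Q` -/
theorem n4_conj [Finite G] {m : G} (h : IsN4Q B Q m) {o : G} (ho : o ∈ O) : m⁻¹ * o * m ∈ O := by
  have hv : ∀ s k r, Commute (m⁻¹ * o * m) (B.v1 s k r) := by
    intro s k r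
    have h1 := (h.cent s k r).eq
    have h2 : Commute (B.v1 s k r) o :=
      S.commK (mul_mem (mul_mem (S.hK.xb_mem s) (S.hK.zs_mem k)) (S.hK.zl_mem r)) ho
    show m⁻¹ * o * m * B.v1 s k r = B.v1 s k r * (m⁻¹ * o * m)
    calc m⁻¹ * o * m * B.v1 s k r = m⁻¹ * o * (m * B.v1 s k r) := by group
      _ = m⁻¹ * (o * B.v1 s k r) * m := by rw [h1]; group
      _ = m⁻¹ * B.v1 s k r * m * (m⁻¹ * o * m) := by rw [← h2.eq]; group
      _ = B.v1 s k r * (m⁻¹ * o * m) := by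
        have : m⁻¹ * B.v1 s k r * m = B.v1 s k r := by rw [mul_assoc, ← h1, inv_mul_cancel_left]
        rw [this]
  have hzs : ∀ u, Commute (m⁻¹ * o * m) (B.zs u) := fun u => by
    have := hv 0 u 0; rwa [B.v1_zs] at this
  have hzl : ∀ u, Commute (m⁻¹ * o * m) (B.zl u) := fun u => by
    have := hv 0 0 u; rwa [B.v1_zl] at this
  have hxb : ∀ u, Commute (m⁻¹ * o * m) (B.xb u) := fun u => by
    have := hv u 0 0; rwa [B.v1_xb] at this
  have ht : ∀ t ∈ Q, Commute (m⁻¹ * o * m) t := by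
    intro t ht
    obtain ⟨w, hw⟩ := h.tr t ht
    have h1 : t = m⁻¹ * t * m * B.zs w := by
      rw [hw, mul_assoc, Comm.sq_of_add B.zs_add, mul_one]
    have h2 : Commute (m⁻¹ * o * m) (m⁻¹ * t * m) := by
      have h3 := (S.oq o ho t ht).eq
      show m⁻¹ * o * m * (m⁻¹ * t * m) = m⁻¹ * t * m * (m⁻¹ * o * m)
      calc m⁻¹ * o * m * (m⁻¹ * t * m) = m⁻¹ * (o * t) * m := by group
        _ = m⁻¹ * t * m * (m⁻¹ * o * m) := by rw [← h3]; group
    rw [h1]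
    exact h2.mul_right (hzs w)
  obtain ⟨t, htQ, o', ho', u, s, k, r, e⟩ := S.form ht hzs hzl
  -- the fourth power lies in `O`
  set v := B.xa u * B.xb s * B.zs k * B.zl r with hv'
  have hvK : v ∈ K := S.nf_mem u s k r
  have h4 : (m⁻¹ * o * m) ^ 4 = o' ^ 4 := by
    have c1 : Commute v (t * o') := (S.commKQ hvK htQ).mul_right (S.commK hvK ho')
    have hv4 : v ^ 4 = 1 := by
      have := SpFourU.IsU.pow_four (B := B) (g := v) ⟨u, s, k, r, rfl⟩
      exact this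
    have ht4 : t ^ 4 = 1 := by
      rw [show (4 : ℕ) = 2 * 2 by norm_num, pow_mul, pow_two t, S.qc.sq t htQ, one_pow]
    rw [e, c1.mul_pow, (S.oq o' ho' t htQ).mul_pow, hv4, ht4, one_mul, one_mul]
  obtain ⟨j, hj⟩ := exists_pow_eq_self_of_coprime (S.odd_order ho)
  have h5 : m⁻¹ * o * m = ((m⁻¹ * o * m) ^ 4) ^ j := by
    have h6 : ∀ n : ℕ, (m⁻¹ * o * m) ^ n = m⁻¹ * o ^ n * m := by
      intro n
      have := conj_pow (i := n) (a := m⁻¹) (b := o)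
      rwa [inv_inv] at this
    rw [h6]
    have h7 : (m⁻¹ * o ^ 4 * m) ^ j = m⁻¹ * (o ^ 4) ^ j * m := by
      have := conj_pow (i := j) (a := m⁻¹) (b := o ^ 4)
      rwa [inv_inv] at this
    rw [h7, hj]
  rw [h5, h4]
  exact pow_mem (pow_mem ho' 4) j

theorem n4_mem [Finite G] {m : G} (h : IsN4Q B Q m) : m ∈ normalizer (O : Set G) := by
  apply mem_normalizer_fintype
  intro o ho
  have := S.n4_conj (SpFourShort.N4.inv h) ho
  rwa [inv_inv] at this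

variable {H : Type*} [Group H] (f : ↥(normalizer (O : Set G)) →* H)
  (hf : ∀ x : ↥(normalizer (O : Set G)), f x = 1 ↔ (x : G) ∈ O)

/-- the image of an element of `IsN4Q` -/
theorem n4_map {m : G} (h : IsN4Q B Q m) (hm : m ∈ normalizer (O : Set G)) :
    IsN4Q (S.Bb f hf) (Qb Q f) (f ⟨m, hm⟩) where
  cent := by
    intro s k r
    rw [S.v1_eq f hf]
    exact cm (Subtype.ext (h.cent s k r).eq)
  xa := by
    intro u
    obtain ⟨s, k, r, e⟩ := h.xa u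
    refine ⟨s, k, r, ?_⟩
    rw [S.v1_eq f hf]
    show (f _)⁻¹ * f _ * f _ = f _ * f _
    rw [← map_inv, ← map_mul, ← map_mul, ← map_mul]
    congr 1
    exact Subtype.ext e
  tor := by
    intro α
    obtain ⟨s, k, r, e⟩ := h.tor α
    refine ⟨s, k, r, ?_⟩
    rw [S.v1_eq f hf]
    show (f _)⁻¹ * f _ * f _ = f _ * f _
    rw [← map_inv, ← map_mul, ← map_mul, ← map_mul]
    congr 1
    exact Subtype.ext e
  tr := by
    intro x hx
    obtain ⟨t, ht, rfl⟩ := (S.mem_Qb f).1 hx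
    obtain ⟨w, e⟩ := h.tr t ht
    refine ⟨w, ?_⟩
    show (f _)⁻¹ * f _ * f _ = f _ * f _
    rw [← map_inv, ← map_mul, ← map_mul, ← map_mul]
    congr 1
    exact Subtype.ext e

include hf in
theorem n4_ne {m : G} (h : IsN4Q B Q m) (hm : m ∈ normalizer (O : Set G)) (hne : ∃ t ∈ Q, m⁻¹ * t * m ≠ t) :
    ∃ t ∈ Qb Q f, (f ⟨m, hm⟩)⁻¹ * t * f ⟨m, hm⟩ ≠ t := by
  obtain ⟨t, ht, hne⟩ := hne
  refine ⟨_, (S.mem_Qb f).2 ⟨t, ht, rfl⟩, fun e => hne ?_⟩
  obtain ⟨w, hw⟩ := h.tr t ht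
  have h1 : f (⟨m, hm⟩⁻¹ * ⟨t, S.Q_le ht⟩ * ⟨m, hm⟩) = f ⟨t, S.Q_le ht⟩ := by
    rw [map_mul, map_mul, map_inv]; exact e
  refine S.eq_of f hf (x := ⟨m, hm⟩⁻¹ * ⟨t, S.Q_le ht⟩ * ⟨m, hm⟩) ?_ (S.qc.sq t ht) (fun o ho => S.oq o ho t ht) h1
  show (m⁻¹ * t * m) * (m⁻¹ * t * m) = 1
  calc (m⁻¹ * t * m) * (m⁻¹ * t * m) = m⁻¹ * (t * t) * m := by group
    _ = 1 := by rw [S.qc.sq t ht]; group

end n4

end Sit

/-! ### The second mover -/

section mover

variable {B : Base F G} {Q : Subgroup G} [CharP F 2] [Finite F]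

/-- the long mover from the short layer -/
theorem exists_y (hB : QB B Q) (S : ShortQ B Q) :
    ∃ y : G, ∀ t ∈ Q, y⁻¹ * t * y = t * B.zl (S.a t ^ 2 + S.e * S.a t) := by
  refine ⟨Comm.cj (SpFourCore.q' (SpFourSwapQ.swapL S) 1) (B.xb 1) * S.p 1, ?_⟩
  intro t ht
  have h1 := SpFourCore.cu_t (SpFourSwapQ.swapQB hB) (SpFourSwapQ.swapL S) 1 ht
  change Comm.cj (Comm.cj (SpFourCore.q' (SpFourSwapQ.swapL S) 1) (B.xb 1)) t =
    t * (B.zl (1 * (S.a t ^ 2 + S.e * rt (S.a t ^ 2))) * B.zs (rt (1 ^ 2 * S.a t ^ 2))) at h1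
  rw [one_mul, one_pow, one_mul, rt_sq] at h1
  set y0 := Comm.cj (SpFourCore.q' (SpFourSwapQ.swapL S) 1) (B.xb 1) with hy0
  have h2 : Comm.cj (y0 * S.p 1) t = Comm.cj (S.p 1) (Comm.cj y0 t) := by simp [Comm.cj, mul_assoc]
  have h3 : Comm.cj (y0 * S.p 1) t = t * B.zl (S.a t ^ 2 + S.e * S.a t) := by
    rw [h2, h1, Comm.cj_mul, Comm.cj_mul, SpFourCore.cp_t S 1 ht, SpFourCore.cp_zl, SpFourCore.cp_zs, mul_one]
    have h4 := (B.zs_zl (S.a t) (S.a t ^ 2 + S.e * S.a t)).eq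
    have h5 := Comm.sq_of_add B.zs_add (S.a t)
    calc t * B.zs (S.a t) * (B.zl (S.a t ^ 2 + S.e * S.a t) * B.zs (S.a t)) =
        t * (B.zs (S.a t) * B.zl (S.a t ^ 2 + S.e * S.a t)) * B.zs (S.a t) := by group
      _ = t * B.zl (S.a t ^ 2 + S.e * S.a t) * (B.zs (S.a t) * B.zs (S.a t)) := by rw [h4]; group
      _ = _ := by rw [h5, mul_one]
  exact h3

end mover

variable {B : Base F G} {K Q : Subgroup G}

/-- **[E], short roots.** -/
theorem endS [Finite G] [CharP F 2] [Fintype F] (hF : 4 ≤ Fintype.card F) (hK : KCent B K) (hA : KAut B K)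
    (env : Env K) (hQ : IsSyl Q (centralizer (K : Set G))) (hqc : QC B Q)
    (h4 : ∃ t1 ∈ Q, ∃ t2 ∈ Q, t1 ≠ 1 ∧ t2 ≠ 1 ∧ t1 ≠ t2) {g : G} (hg : RootS B Q g) : False := by
  obtain ⟨O, o1, o2, o3, o4⟩ := exists_O hQ (fun x hx y hy => SpFourShort.QC.comm hqc hx hy)
  have S : Sit B K Q O := ⟨hK, hA, env, hQ, hqc, o1, o2, o3, o4⟩
  have hM := env.maxK hQ
  obtain ⟨m, hm, hne⟩ := SpFourMover.exists_n4 hF hK hqc hM hg
  let f := QuotientGroup.mk' (O.subgroupOf (normalizer (O : Set G)))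
  have hf : ∀ x : ↥(normalizer (O : Set G)), f x = 1 ↔ (x : G) ∈ O := fun x => by
    rw [QuotientGroup.mk'_apply, QuotientGroup.eq_one_iff, mem_subgroupOf]
  have hs : Function.Surjective f := QuotientGroup.mk'_surjective _
  have hB := S.qb f hf hs
  obtain ⟨Sh⟩ := SpFourShort.exists_shortQ hF hB (S.n4_map f hf hm (S.n4_mem hm)) (S.n4_ne f hf hm (S.n4_mem hm) hne)
  -- the second mover
  obtain ⟨y, hy⟩ := exists_y hB Sh
  obtain ⟨n, rfl⟩ := hs y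
  have hmem : ∀ {t : G} (ht : t ∈ Q), f ⟨t, S.Q_le ht⟩ ∈ Sit.Qb Q f := fun ht => (S.mem_Qb f).2 ⟨_, ht, rfl⟩
  have hn : ∀ (t : G) (ht : t ∈ Q), (n : G)⁻¹ * t * n =
      t * B.zl (Sh.a (f ⟨t, S.Q_le ht⟩) ^ 2 + Sh.e * Sh.a (f ⟨t, S.Q_le ht⟩)) := by
    intro t ht
    set w := Sh.a (f ⟨t, S.Q_le ht⟩) ^ 2 + Sh.e * Sh.a (f ⟨t, S.Q_le ht⟩) with hw
    have h1 : f (n⁻¹ * ⟨t, S.Q_le ht⟩ * n) = f (⟨t, S.Q_le ht⟩ * ⟨B.zl w, S.inX.zl w⟩) := by
      rw [map_mul, map_mul, map_inv, map_mul]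
      exact hy _ (hmem ht)
    have hc := S.commKQ (hK.zl_mem w) ht
    refine S.eq_of f hf (x := n⁻¹ * ⟨t, S.Q_le ht⟩ * n) (y := ⟨t, S.Q_le ht⟩ * ⟨B.zl w, S.inX.zl w⟩) ?_ ?_ ?_ h1
    · show ((n : G)⁻¹ * t * n) * ((n : G)⁻¹ * t * n) = 1
      calc ((n : G)⁻¹ * t * n) * ((n : G)⁻¹ * t * n) = (n : G)⁻¹ * (t * t) * n := by group
        _ = 1 := by rw [hqc.sq t ht]; group
    · show t * B.zl w * (t * B.zl w) = 1
      calc t * B.zl w * (t * B.zl w) = t * (B.zl w * t) * B.zl w := by group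
        _ = (t * t) * (B.zl w * B.zl w) := by rw [hc.eq]; group
        _ = 1 := by rw [hqc.sq t ht, Comm.sq_of_add B.zl_add, one_mul]
    · intro o ho
      exact (S.oq o ho t ht).mul_left (S.commK (hK.zl_mem w) ho)
  have hroot : RootS (Swap.swap B) Q ((n : G)⁻¹) := by
    refine ⟨fun t ht => ⟨t, ht, Sh.a (f ⟨t, S.Q_le ht⟩) ^ 2 + Sh.e * Sh.a (f ⟨t, S.Q_le ht⟩), ?_⟩, ?_, ?_⟩
    · rw [inv_inv]; exact hn t ht
    · intro t ht w e
      rw [inv_inv, hn t ht] at e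
      change _ = B.zl w at e
      set w' := Sh.a (f ⟨t, S.Q_le ht⟩) ^ 2 + Sh.e * Sh.a (f ⟨t, S.Q_le ht⟩) with hw
      have e1 : t = B.zl (w + w') := by
        rw [B.zl_add, ← e, mul_assoc, Comm.sq_of_add B.zl_add, mul_one]
      have e2 : w + w' = 0 := SpFourShort.QC.one_of_zl hqc (e1 ▸ ht)
      rw [e1, e2, B.zl_zero]
    · -- some element of `Q` is moved
      obtain ⟨t1, ht1, t2, ht2, n1, n2, n12⟩ := h4
      have hinj : ∀ {s t : G} (hs : s ∈ Q) (ht : t ∈ Q), f ⟨s, S.Q_le hs⟩ = f ⟨t, S.Q_le ht⟩ → s = t :=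
        fun {s t} hs ht e => S.eq_of f hf (x := ⟨s, S.Q_le hs⟩) (y := ⟨t, S.Q_le ht⟩) (hqc.sq s hs) (hqc.sq t ht)
          (fun o ho => S.oq o ho t ht) e
      have hone : ∀ {t : G} (ht : t ∈ Q), t ≠ 1 → f ⟨t, S.Q_le ht⟩ ≠ 1 := by
        intro t ht h1 e
        apply h1
        exact S.one_of_Q ht ((hf _).1 e)
      have key : ∀ {t : G} (ht : t ∈ Q), t ≠ 1 → (n : G)⁻¹ * t * (n : G)⁻¹⁻¹ ∈ Q →
          Sh.a (f ⟨t, S.Q_le ht⟩) = Sh.e := by
        intro t ht h1 h2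
        rw [inv_inv, hn t ht] at h2
        have h3 := (Subgroup.mul_mem_cancel_left Q ht).1 h2
        have h5 := SpFourShort.QC.one_of_zl hqc h3
        have h6 := Sh.a_ne _ (hmem ht) (hone ht h1)
        have h7 : Sh.a (f ⟨t, S.Q_le ht⟩) * (Sh.a (f ⟨t, S.Q_le ht⟩) + Sh.e) = 0 := by
          rw [← h5]; ring
        exact CharTwo.add_eq_zero.1 ((mul_eq_zero.1 h7).resolve_left h6)
      by_contra hcon
      push Not at hcon
      have k1 := key ht1 n1 (hcon t1 ht1)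
      have k2 := key ht2 n2 (hcon t2 ht2)
      apply n12
      apply hinj ht1 ht2
      exact SpFourShort.ShortQ.a_inj hB Sh (hmem ht1) (hmem ht2) (k1.trans k2.symm)
  obtain ⟨m', hm', hne'⟩ := SpFourMover.exists_n4 hF (KCent.swap hK) (SpFourCent.QC.swap hqc) hM hroot
  have S' := S.swap
  obtain ⟨L⟩ := SpFourShort.exists_longQ (m0 := f ⟨m', S'.n4_mem hm'⟩) hF hB
    (S'.n4_map f hf hm' (S'.n4_mem hm')) (S'.n4_ne f hf hm' (S'.n4_mem hm') hne')
  refine SpFourCore.core hF hB ?_ Sh L (fun g hg => SpFourShort.ShortQ.ratio hB Sh hg)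
    (fun g hg => SpFourShort.LongQ.ratio hB L hg)
  obtain ⟨t1, ht1, t2, ht2, n1, n2, n12⟩ := h4
  refine ⟨_, hmem ht1, _, hmem ht2, fun e => n1 (S.one_of_Q ht1 ((hf _).1 e)),
    fun e => n2 (S.one_of_Q ht2 ((hf _).1 e)), fun e => n12 ?_⟩
  exact S.eq_of f hf (x := ⟨t1, S.Q_le ht1⟩) (y := ⟨t2, S.Q_le ht2⟩) (hqc.sq t1 ht1) (hqc.sq t2 ht2)
    (fun o ho => S.oq o ho t2 ht2) e

/-- **[E], long roots.** -/
theorem endL [Finite G] [CharP F 2] [Fintype F] (hF : 4 ≤ Fintype.card F) (hK : KCent B K) (hA : KAut B K)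
    (env : Env K) (hQ : IsSyl Q (centralizer (K : Set G))) (hqc : QC B Q)
    (h4 : ∃ t1 ∈ Q, ∃ t2 ∈ Q, t1 ≠ 1 ∧ t2 ≠ 1 ∧ t1 ≠ t2) {g : G} (hg : RootS (swap B) Q g) : False :=
  endS hF (KCent.swap hK) (KAut.swap hA) env hQ (SpFourCent.QC.swap hqc) h4 hg

end Cfsg.Agent.OddHalf.D4.SpFourEnd
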