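import Cfsg.Agent.StdSpFour.EnvFacts
import Cfsg.Agent.OddHalf.D4.SpFourCent

/-!
# ODD D4, `K = Sp₄(q)`: centralisers from the Bruhat words

`KE B K`: Weyl relations and Bruhat decomposition of `K` in the words in `na`, `nb`; `KE.swap`; the centralisers in `K`
of the elements of `Z = Z_s Z_l` (the proofs of `StdSpFour/EnvFacts` without the conditions on `C(t)`).
-/

set_option autoImplicit false
set_option linter.unusedSectionVars false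

namespace Cfsg.Agent.OddHalf.D4.SpFourWord

open Cfsg.Agent.StdSpFour Subgroup
open Cfsg.Agent.StdSpFour.Swap Cfsg.Agent.StdSpFour.Env Cfsg.Agent.StdSpFour.EnvSwap

variable {F G : Type*} [Field F] [Group G]

/-- Weyl relations and Bruhat decomposition -/
structure KE (B : Base F G) (A : Subgroup G) : Prop where
  weyl : Weyl B
  bruhat : ∀ g ∈ A, ∃ u, IsU B u ∧ ∃ α β n, IsW B n ∧ ∃ u', IsU B u' ∧ g = u * B.h α β * n * u'

variable [CharP F 2] [Finite F] {B : Base F G} {A : Subgroup G}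

theorem KE.swap (hE : KE B A) : KE (swap B) A where
  weyl := weyl_swap hE.weyl
  bruhat := by
    intro g hg
    obtain ⟨u, hu, α, β, n, hn, u', hu', h⟩ := hE.bruhat g hg
    refine ⟨u, isU_swap.2 hu, β, α ^ 2, n, isW_swap hE.weyl hn, u', isU_swap.2 hu', ?_⟩
    rw [h]
    show _ = u * B.h (rtU (α ^ 2)) β * n * u'
    rw [rtU_sq]

section weyl

variable (W : Weyl B)
include W

theorem na_inv : B.na⁻¹ = B.na := inv_eq_of_mul_eq_one_right W.na_sq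

theorem nb_inv : B.nb⁻¹ = B.nb := inv_eq_of_mul_eq_one_right W.nb_sq

/-- `na = x_a(1) (na x_a(1) na) x_a(1)` -/
theorem na_eq : B.na = B.xa 1 * (B.na * B.xa 1 * B.na⁻¹) * B.xa 1 := by
  have h := W.na_xa
  have h1 : (B.na * B.xa 1 * B.na) * (B.xa 1 * B.na * B.xa 1) = 1 := by
    rw [← h, pow_succ, pow_two]; group
  have h2 : (B.na * B.xa 1 * B.na) = (B.xa 1 * B.na * B.xa 1)⁻¹ := eq_inv_of_mul_eq_one_left h1
  rw [na_inv W, h2, mul_inv_rev, mul_inv_rev, B.xa_inv, na_inv W]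
  calc B.na = (B.xa 1 * B.xa 1) * B.na * (B.xa 1 * B.xa 1) := by rw [B.xa_xa, one_mul, mul_one]
    _ = _ := by group

omit W in
/-- `h(α,1)` moves `na x_a(u) na⁻¹` to `na x_a(α⁻¹u) na⁻¹`. -/
theorem conj_xma (α β : Fˣ) (u : F) : B.h α β * (B.na * B.xa u * B.na⁻¹) * (B.h α β)⁻¹ =
    B.na * B.xa ((α⁻¹ : Fˣ) * u) * B.na⁻¹ := by
  have h1 : B.h α β * B.na = B.na * B.h α⁻¹ (α ^ 2 * β) := by
    rw [B.na_h, inv_inv]; congr 2
    rw [inv_pow, inv_mul_cancel_left]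
  have h2 : B.na⁻¹ * (B.h α β)⁻¹ = (B.h α⁻¹ (α ^ 2 * β))⁻¹ * B.na⁻¹ := by
    rw [← mul_inv_rev, h1, mul_inv_rev]
  calc B.h α β * (B.na * B.xa u * B.na⁻¹) * (B.h α β)⁻¹
      = (B.h α β * B.na) * B.xa u * (B.na⁻¹ * (B.h α β)⁻¹) := by group
    _ = B.na * (B.h α⁻¹ (α ^ 2 * β) * B.xa u) * (B.h α⁻¹ (α ^ 2 * β))⁻¹ * B.na⁻¹ := by rw [h1, h2]; group
    _ = _ := by rw [B.h_xa]; group

theorem not_isU_xma {u : F} (hu : u ≠ 0) : ¬ IsU B (B.na * B.xa u * B.na⁻¹) := by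
  intro h
  have h1 := h.conj_h (Units.mk0 u hu) 1
  rw [conj_xma] at h1
  have e : ((Units.mk0 u hu)⁻¹ : Fˣ) * u = 1 := by
    rw [Units.val_inv_eq_inv_val, Units.val_mk0, inv_mul_cancel₀ hu]
  rw [e] at h1
  apply not_isU_na (B := B)
  rw [na_eq W]
  exact ((IsU.xa 1).mul h1).mul (IsU.xa 1)

theorem not_isU_xmb {u : F} (hu : u ≠ 0) : ¬ IsU B (B.nb * B.xb u * B.nb⁻¹) := by
  intro h
  exact not_isU_xma (weyl_swap W) hu (isU_swap.2 h)

/-- the torus of `L₁` -/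
theorem tor (α : Fˣ) : B.h α α⁻¹ ∈ closure ({B.na} ∪ Set.range B.xa : Set G) := by
  obtain ⟨β, hβ⟩ : ∃ β : Fˣ, β ^ 2 = α := ⟨Swap.rtU α, Swap.sq_rtU α⟩
  have h1 : B.h β 1 * B.na * (B.h β 1)⁻¹ = B.h (β ^ 2) (β ^ 2)⁻¹ * B.na := by
    rw [B.h_inv, mul_assoc, B.na_h, ← mul_assoc, ← B.h_mul]
    congr 2
    · rw [inv_inv, sq]
    · rw [inv_one, mul_one, one_mul, inv_pow]
  have h2 : B.h β 1 * B.na * (B.h β 1)⁻¹ = B.xa β * (B.na * B.xa ((β⁻¹ : Fˣ) : F) * B.na⁻¹) * B.xa β := by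
    have h3 := conj_xma (B := B) β 1 1
    rw [mul_one] at h3
    have h4 : B.h β 1 * B.xa 1 * (B.h β 1)⁻¹ = B.xa β := by rw [B.h_xa, mul_one]; group
    conv_lhs => rw [na_eq W]
    calc B.h β 1 * (B.xa 1 * (B.na * B.xa 1 * B.na⁻¹) * B.xa 1) * (B.h β 1)⁻¹
        = (B.h β 1 * B.xa 1 * (B.h β 1)⁻¹) * (B.h β 1 * (B.na * B.xa 1 * B.na⁻¹) * (B.h β 1)⁻¹) *
          (B.h β 1 * B.xa 1 * (B.h β 1)⁻¹) := by group
      _ = _ := by rw [h4, ← h3]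
  rw [← hβ]
  have h5 : B.h (β ^ 2) (β ^ 2)⁻¹ = B.xa β * (B.na * B.xa ((β⁻¹ : Fˣ) : F) * B.na⁻¹) * B.xa β * B.na⁻¹ := by
    rw [← h2, h1]; group
  rw [h5]
  have hn : B.na ∈ closure ({B.na} ∪ Set.range B.xa : Set G) := subset_closure (Or.inl rfl)
  have hx : ∀ u, B.xa u ∈ closure ({B.na} ∪ Set.range B.xa : Set G) := fun u => subset_closure (Or.inr ⟨u, rfl⟩)
  exact mul_mem (mul_mem (mul_mem (hx _) (mul_mem (mul_mem hn (hx _)) (inv_mem hn))) (hx _)) (inv_mem hn)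

end weyl

/-! ### Centralisers -/

/-- Central elements under a Bruhat word. -/
theorem word_eq {g u u' n : G} {α β : Fˣ} (hu : IsU B u) (hu' : IsU B u') (hg : g = u * B.h α β * n * u') {w w' : F}
    (hc : Commute g (B.zs w * B.zl w')) :
    n * (B.zs w * B.zl w') * n⁻¹ =
      B.zs ((((α * β)⁻¹ : Fˣ) : F) * w) * B.zl ((((α ^ 2 * β)⁻¹ : Fˣ) : F) * w') := by
  have h1 : (B.h α β)⁻¹ * (B.zs w * B.zl w') * B.h α β =
      B.zs ((((α * β)⁻¹ : Fˣ) : F) * w) * B.zl ((((α ^ 2 * β)⁻¹ : Fˣ) : F) * w') := by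
    rw [EnvFacts.zz_v1, B.h_inv, B.h_v1, mul_assoc, ← B.h_mul, inv_mul_cancel, inv_mul_cancel, B.h_one, mul_one,
      mul_zero, EnvFacts.zz_v1]
    congr 1
    · push_cast; rw [← mul_inv]
    · push_cast; rw [inv_pow, ← mul_inv]
  have hu1 : Commute u (B.zs w * B.zl w') := by rw [EnvFacts.zz_v1]; exact hu.comm_z w w'
  have hu2 : Commute u' (B.zs w * B.zl w') := by rw [EnvFacts.zz_v1]; exact hu'.comm_z w w'
  rw [← h1]
  have h2 : u' * (B.zs w * B.zl w') * u'⁻¹ = B.zs w * B.zl w' := by rw [hu2.eq]; group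
  have h3 : u⁻¹ * (B.zs w * B.zl w') * u = B.zs w * B.zl w' := by rw [mul_assoc, ← hu1.eq]; group
  have h4 : g * (B.zs w * B.zl w') * g⁻¹ = B.zs w * B.zl w' := by rw [hc.eq]; group
  calc n * (B.zs w * B.zl w') * n⁻¹
      = (B.h α β)⁻¹ * (u⁻¹ * (u * B.h α β * n * u' * (u'⁻¹ * (B.zs w * B.zl w') * u') *
        (u * B.h α β * n * u')⁻¹) * u) * B.h α β := by group
    _ = (B.h α β)⁻¹ * (u⁻¹ * (g * (B.zs w * B.zl w') * g⁻¹) * u) * B.h α β := by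
        rw [← hg, mul_assoc u'⁻¹, ← hu2.eq, inv_mul_cancel_left]
    _ = _ := by rw [h4, h3]

/-- moving `U` to the left of the torus -/
theorem move_h {u u' : G} (hu : IsU B u) (hu' : IsU B u') (α β : Fˣ) :
    ∃ v, IsU B v ∧ u * B.h α β * u' = v * B.h α β :=
  ⟨u * (B.h α β * u' * (B.h α β)⁻¹), hu.mul (hu'.conj_h α β), by group⟩

/-- moving `V₁` to the left of `na` -/
theorem move_na {u u' : G} (hu : IsU B u) (hu' : IsU B u') (α β : Fˣ) :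
    ∃ v, IsU B v ∧ ∃ c, u * B.h α β * B.na * u' = v * B.h α β * B.na * B.xa c := by
  obtain ⟨c, s, m, r, rfl⟩ := hu'
  refine ⟨u * (B.h α β * B.v1 (r + c ^ 2 * s) (m + c * s) s * (B.h α β)⁻¹),
    hu.mul ((IsU.v1 _ _ _).conj_h α β), c, ?_⟩
  rw [B.xa_v1]
  have h1 := B.na_v1 s (m + c * s) (r + c ^ 2 * s)
  calc u * B.h α β * B.na * (B.v1 s (m + c * s) (r + c ^ 2 * s) * B.xa c)
      = u * B.h α β * (B.na * B.v1 s (m + c * s) (r + c ^ 2 * s)) * B.xa c := by group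
    _ = _ := by rw [h1]; group

/-- `C_A(z_s(w))` -/
theorem KE.cent_zs (hE : KE B A) {g : G} (hg : g ∈ A) {w : F} (hw : w ≠ 0) (hc : Commute g (B.zs w)) :
    (∃ v, IsU B v ∧ ∃ α : Fˣ, g = v * B.h α α⁻¹) ∨
      ∃ v, IsU B v ∧ ∃ α : Fˣ, ∃ c, g = v * B.h α α⁻¹ * B.na * B.xa c := by
  have W := hE.weyl
  obtain ⟨u, hu, α, β, n, hn, u', hu', h⟩ := hE.bruhat g hg
  have hc' : Commute g (B.zs w * B.zl 0) := by rw [B.zl_zero, mul_one]; exact hc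
  have h1 := word_eq hu hu' h hc'
  rw [mul_zero, B.zl_zero, mul_one, mul_one] at h1
  set w1 : F := (((α * β)⁻¹ : Fˣ) : F) * w with hw1
  have hnb : B.nb * B.zs w * B.nb⁻¹ = B.xa w := by rw [B.nb_zs]; group
  have hna : B.na * B.zs w * B.na⁻¹ = B.zs w := by rw [B.na_zs]; group
  have hxz : ∀ {v : F}, B.xa w = B.zs v → False := by
    intro v h2
    have h3 : B.xa w * B.v1 0 0 0 = B.xa 0 * B.v1 0 v 0 := by
      rw [B.v1_zero, mul_one, B.xa_zero, one_mul, Base.v1_zs, h2]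
    exact hw (nf_inj h3).1
  have hxm : ∀ {v : F}, B.na * B.xa w * B.na⁻¹ = B.zs v → False := by
    intro v h2
    exact not_isU_xma W hw (by rw [h2]; exact EnvFacts.IsU.zs v)
  have key : w = w1 → β = α⁻¹ := by
    intro h2
    have h3 : (((α * β)⁻¹ : Fˣ) : F) = 1 := mul_right_cancel₀ hw (by rw [one_mul]; exact h2.symm)
    have h4 : (α * β)⁻¹ = 1 := Units.ext (by rw [h3, Units.val_one])
    rw [inv_eq_one] at h4
    exact eq_inv_of_mul_eq_one_right h4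
  have hwv : B.zs w = B.zs w1 → w = w1 := by
    intro h2
    rw [← Base.v1_zs, ← Base.v1_zs] at h2
    exact (B.v1_inj h2).2.1
  rcases hn with rfl | rfl | rfl | rfl | rfl | rfl | rfl | rfl
  · rw [one_mul, inv_one, mul_one] at h1
    have hβ := key (hwv h1)
    subst hβ
    obtain ⟨v, hv, e⟩ := move_h hu hu' α α⁻¹
    exact Or.inl ⟨v, hv, α, by rw [h, mul_one, e]⟩
  · rw [hna] at h1
    have hβ := key (hwv h1)
    subst hβ
    obtain ⟨v, hv, c, e⟩ := move_na hu hu' α α⁻¹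
    exact Or.inr ⟨v, hv, α, c, by rw [h, e]⟩
  · rw [hnb] at h1
    exact (hxz h1).elim
  · rw [show B.na * B.nb * B.zs w * (B.na * B.nb)⁻¹ = B.na * (B.nb * B.zs w * B.nb⁻¹) * B.na⁻¹ by group, hnb] at h1
    exact (hxm h1).elim
  · rw [show B.nb * B.na * B.zs w * (B.nb * B.na)⁻¹ = B.nb * (B.na * B.zs w * B.na⁻¹) * B.nb⁻¹ by group, hna,
      hnb] at h1
    exact (hxz h1).elim
  · rw [show B.na * B.nb * B.na * B.zs w * (B.na * B.nb * B.na)⁻¹ =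
      B.na * (B.nb * (B.na * B.zs w * B.na⁻¹) * B.nb⁻¹) * B.na⁻¹ by group, hna, hnb] at h1
    exact (hxm h1).elim
  · rw [show B.nb * B.na * B.nb * B.zs w * (B.nb * B.na * B.nb)⁻¹ =
      B.nb * (B.na * (B.nb * B.zs w * B.nb⁻¹) * B.na⁻¹) * B.nb⁻¹ by group, hnb] at h1
    exfalso
    apply not_isU_xma W hw
    have h2 : B.na * B.xa w * B.na⁻¹ = B.xa w1 := by
      calc B.na * B.xa w * B.na⁻¹ = B.nb⁻¹ * (B.nb * (B.na * B.xa w * B.na⁻¹) * B.nb⁻¹) * B.nb := by group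
        _ = B.nb⁻¹ * B.zs w1 * B.nb := by rw [h1]
        _ = B.nb * B.zs w1 * B.nb⁻¹ := by rw [nb_inv W]
        _ = B.xa w1 := by rw [B.nb_zs]; group
    rw [h2]; exact IsU.xa _
  · rw [show B.na * B.nb * B.na * B.nb * B.zs w * (B.na * B.nb * B.na * B.nb)⁻¹ =
      B.na * (B.nb * (B.na * (B.nb * B.zs w * B.nb⁻¹) * B.na⁻¹) * B.nb⁻¹) * B.na⁻¹ by group, hnb] at h1
    exfalso
    apply not_isU_xma W hw
    have h2 : B.na * B.xa w * B.na⁻¹ = B.xa w1 := by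
      calc B.na * B.xa w * B.na⁻¹ = B.nb⁻¹ * (B.na⁻¹ * (B.na * (B.nb * (B.na * B.xa w * B.na⁻¹) * B.nb⁻¹) * B.na⁻¹)
            * B.na) * B.nb := by group
        _ = B.nb⁻¹ * (B.na⁻¹ * B.zs w1 * B.na) * B.nb := by rw [h1]
        _ = B.nb * (B.na * B.zs w1 * B.na⁻¹) * B.nb⁻¹ := by rw [nb_inv W, na_inv W]
        _ = B.nb * B.zs w1 * B.nb⁻¹ := by rw [B.na_zs]; group
        _ = B.xa w1 := by rw [B.nb_zs]; group
    rw [h2]; exact IsU.xa _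

/-- `C_A(z_s(w) z_l(w')) ≤ U` for `w, w' ≠ 0` -/
theorem KE.cent_mixed (hE : KE B A) (hF : 4 ≤ Nat.card F) {g : G} (hg : g ∈ A) {w w' : F} (hw : w ≠ 0)
    (hw' : w' ≠ 0) (hc : Commute g (B.zs w * B.zl w')) : IsU B g := by
  have W := hE.weyl
  obtain ⟨u, hu, α, β, n, hn, u', hu', h⟩ := hE.bruhat g hg
  have h1 := word_eq hu hu' h hc
  set w1 : F := (((α * β)⁻¹ : Fˣ) : F) * w with hw1
  set w2 : F := (((α ^ 2 * β)⁻¹ : Fˣ) : F) * w' with hw2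
  have hw20 : w2 ≠ 0 := mul_ne_zero (Units.ne_zero _) hw'
  have cs : ∀ x : F, B.nb * B.zs x * B.nb⁻¹ = B.xa x := fun x => by rw [B.nb_zs]; group
  have cl : ∀ x : F, B.nb * B.zl x * B.nb⁻¹ = B.zl x := fun x => by rw [B.nb_zl]; group
  have as : ∀ x : F, B.na * B.zs x * B.na⁻¹ = B.zs x := fun x => by rw [B.na_zs]; group
  have al : ∀ x : F, B.na * B.zl x * B.na⁻¹ = B.xb x := fun x => by rw [B.na_zl]; group
  have cm : ∀ n x y : G, n * (x * y) * n⁻¹ = (n * x * n⁻¹) * (n * y * n⁻¹) := fun n x y => by group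
  have cjj : ∀ n n' x : G, (n * n') * x * (n * n')⁻¹ = n * (n' * x * n'⁻¹) * n⁻¹ := fun n n' x => by group
  have a1 : B.na * (B.zs w * B.zl w') * B.na⁻¹ = B.zs w * B.xb w' := by rw [cm, as, al]
  have b1 : B.nb * (B.zs w * B.zl w') * B.nb⁻¹ = B.xa w * B.zl w' := by rw [cm, cs, cl]
  have ba : B.nb * (B.zs w * B.xb w') * B.nb⁻¹ = B.xa w * (B.nb * B.xb w' * B.nb⁻¹) := by rw [cm, cs]
  have ab' : B.na * (B.xa w * B.zl w') * B.na⁻¹ = B.na * B.xa w * B.na⁻¹ * B.xb w' := by rw [cm, al]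
  have hUz : IsU B (B.zs w1 * B.zl w2) := (EnvFacts.IsU.zs _).mul (EnvFacts.IsU.zl _)
  -- the inverse actions
  have backa : ∀ {x : G}, B.na * x * B.na⁻¹ = B.zs w1 * B.zl w2 → x = B.zs w1 * B.xb w2 := by
    intro x h2
    calc x = B.na⁻¹ * (B.na * x * B.na⁻¹) * B.na := by group
      _ = B.na * (B.zs w1 * B.zl w2) * B.na⁻¹ := by rw [h2, na_inv W]
      _ = _ := by rw [cm, as, al]
  have backb : ∀ {x : G}, B.nb * x * B.nb⁻¹ = B.zs w1 * B.zl w2 → x = B.xa w1 * B.zl w2 := by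
    intro x h2
    calc x = B.nb⁻¹ * (B.nb * x * B.nb⁻¹) * B.nb := by group
      _ = B.nb * (B.zs w1 * B.zl w2) * B.nb⁻¹ := by rw [h2, nb_inv W]
      _ = _ := by rw [cm, cs, cl]
  rcases hn with rfl | rfl | rfl | rfl | rfl | rfl | rfl | rfl
  · rw [one_mul, inv_one, mul_one, EnvFacts.zz_v1, EnvFacts.zz_v1] at h1
    obtain ⟨-, h2, h3⟩ := B.v1_inj h1
    have h4 : (α * β)⁻¹ = 1 := Units.ext (mul_right_cancel₀ hw (by rw [← hw1, Units.val_one, one_mul, h2]))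
    have h5 : (α ^ 2 * β)⁻¹ = 1 := Units.ext (mul_right_cancel₀ hw' (by rw [← hw2, Units.val_one, one_mul, h3]))
    rw [inv_eq_one] at h4 h5
    have h6 : α = 1 := by
      have : α * (α * β) = 1 := by rw [← h5, sq, mul_assoc]
      rwa [h4, mul_one] at this
    have h7 : β = 1 := by rwa [h6, one_mul] at h4
    rw [h, h6, h7, B.h_one, mul_one, mul_one]
    exact hu.mul hu'
  · exfalso
    rw [cm, as, al, EnvFacts.zz_v1] at h1
    have h2 : B.v1 w' w 0 = B.v1 0 w1 w2 := by rw [← h1, Base.v1, B.zl_zero, mul_one, (B.xb_zs w' w).eq]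
    exact hw' (B.v1_inj h2).1
  · exfalso
    rw [cm, cs, cl, EnvFacts.zz_v1] at h1
    have h2 : B.xa w * B.v1 0 0 w' = B.xa 0 * B.v1 0 w1 w2 := by rw [Base.v1_zl, h1, B.xa_zero, one_mul]
    exact hw (nf_inj h2).1
  · exfalso
    rw [cjj, b1, ab'] at h1
    apply not_isU_xma W hw
    apply EnvFacts.isU_of_mul_right (EnvFacts.IsU.xb w')
    rw [h1]; exact hUz
  · exfalso
    rw [cjj, a1, ba] at h1
    apply not_isU_xmb W hw'
    apply EnvFacts.isU_of_mul_left (IsU.xa w)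
    rw [h1]; exact hUz
  · exfalso
    rw [cjj, cjj, a1, ba] at h1
    have h2 := backa h1
    apply not_isU_xmb W hw'
    apply EnvFacts.isU_of_mul_left (IsU.xa w)
    rw [h2]; exact (EnvFacts.IsU.zs _).mul (EnvFacts.IsU.xb _)
  · exfalso
    rw [cjj, cjj, b1, ab'] at h1
    have h2 := backb h1
    apply not_isU_xma W hw
    apply EnvFacts.isU_of_mul_right (EnvFacts.IsU.xb w')
    rw [h2]; exact (IsU.xa _).mul (EnvFacts.IsU.zl _)
  · exfalso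
    rw [cjj, cjj, cjj, b1, ab'] at h1
    have h2 := backa h1
    -- `(na xa w na⁻¹) xb w' = xa w1 (nb⁻¹ xb w2 nb)`
    have h3 : B.na * B.xa w * B.na⁻¹ * B.xb w' = B.xa w1 * (B.nb * B.xb w2 * B.nb⁻¹) := by
      calc B.na * B.xa w * B.na⁻¹ * B.xb w'
          = B.nb⁻¹ * (B.nb * (B.na * B.xa w * B.na⁻¹ * B.xb w') * B.nb⁻¹) * B.nb := by group
        _ = B.nb * (B.zs w1 * B.xb w2) * B.nb⁻¹ := by rw [h2, nb_inv W]
        _ = _ := by rw [cm, cs]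
    have := Fintype.ofFinite F
    rw [Nat.card_eq_fintype_card] at hF
    obtain ⟨γ, hγ⟩ := Base.exists_unit_ne hF
    -- conjugate by `h(1,γ)`
    have c1 : B.h 1 γ * (B.na * B.xa w * B.na⁻¹) * (B.h 1 γ)⁻¹ = B.na * B.xa w * B.na⁻¹ := by
      rw [conj_xma, inv_one, Units.val_one, one_mul]
    have c2 : B.h 1 γ * B.xb w' * (B.h 1 γ)⁻¹ = B.xb (γ * w') := by rw [B.h_xb]; group
    have c3 : B.h 1 γ * B.xa w1 * (B.h 1 γ)⁻¹ = B.xa w1 := by rw [B.h_xa, Units.val_one, one_mul]; group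
    have c4 : B.h 1 γ * (B.nb * B.xb w2 * B.nb⁻¹) * (B.h 1 γ)⁻¹ =
        B.nb * B.xb (((γ⁻¹ : Fˣ) : F) * w2) * B.nb⁻¹ := by
      have h4 := conj_xma (B := Swap.swap B) γ 1 w2
      change B.h (rtU 1) γ * (B.nb * B.xb w2 * B.nb⁻¹) * (B.h (rtU 1) γ)⁻¹ =
        B.nb * B.xb (((γ⁻¹ : Fˣ) : F) * w2) * B.nb⁻¹ at h4
      rwa [map_one] at h4
    have h5 : B.na * B.xa w * B.na⁻¹ * B.xb (γ * w') =
        B.xa w1 * (B.nb * B.xb (((γ⁻¹ : Fˣ) : F) * w2) * B.nb⁻¹) := by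
      have h6 : B.h 1 γ * (B.na * B.xa w * B.na⁻¹ * B.xb w') * (B.h 1 γ)⁻¹ =
        B.h 1 γ * (B.xa w1 * (B.nb * B.xb w2 * B.nb⁻¹)) * (B.h 1 γ)⁻¹ := by rw [h3]
      rwa [cm _ (B.na * B.xa w * B.na⁻¹) (B.xb w'), cm _ (B.xa w1) (B.nb * B.xb w2 * B.nb⁻¹), c1, c2, c3, c4] at h6
    apply not_isU_xmb W (u := w2 + ((γ⁻¹ : Fˣ) : F) * w2)
    · intro h6
      have h7 : w2 = ((γ⁻¹ : Fˣ) : F) * w2 := FieldAux.eq_of_add_eq_zero h6
      have h8 : γ⁻¹ = 1 := Units.ext (mul_right_cancel₀ hw20 (by rw [Units.val_one, one_mul, ← h7]))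
      exact hγ (inv_eq_one.1 h8)
    · have h9 : B.nb * B.xb (w2 + ((γ⁻¹ : Fˣ) : F) * w2) * B.nb⁻¹ = B.xb w' * B.xb (γ * w') := by
        have h10 : (B.na * B.xa w * B.na⁻¹ * B.xb w')⁻¹ * (B.na * B.xa w * B.na⁻¹ * B.xb (γ * w')) =
          (B.xa w1 * (B.nb * B.xb w2 * B.nb⁻¹))⁻¹ *
            (B.xa w1 * (B.nb * B.xb (((γ⁻¹ : Fˣ) : F) * w2) * B.nb⁻¹)) := by rw [h3, h5]
        have h11 : (B.na * B.xa w * B.na⁻¹ * B.xb w')⁻¹ * (B.na * B.xa w * B.na⁻¹ * B.xb (γ * w')) =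
          B.xb w' * B.xb (γ * w') := by
            rw [mul_inv_rev, B.xb_inv]; group
        have h12 : (B.xa w1 * (B.nb * B.xb w2 * B.nb⁻¹))⁻¹ *
            (B.xa w1 * (B.nb * B.xb (((γ⁻¹ : Fˣ) : F) * w2) * B.nb⁻¹)) =
            B.nb * B.xb (w2 + ((γ⁻¹ : Fˣ) : F) * w2) * B.nb⁻¹ := by
            rw [B.xb_add, mul_inv_rev, mul_inv_rev, mul_inv_rev, B.xb_inv]; group
        rw [← h11, h10, h12]
      rw [h9]
      exact (EnvFacts.IsU.xb _).mul (EnvFacts.IsU.xb _)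

end Cfsg.Agent.OddHalf.D4.SpFourWord
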