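import Cfsg.Agent.StdSpFour.SpEnv
import Cfsg.Agent.OddHalf.D4.SpFourWord

/-!
# ODD D4, `K = Sp₄(q)`: `KCent` and `KAut` for the package `Std (stdSp F) A`
-/

set_option autoImplicit false
set_option linter.unusedSectionVars false

namespace Cfsg.Agent.OddHalf.D4.SpFourK

open Subgroup
open Cfsg.Agent.TitsThree.B2Pkg Cfsg.Agent.TitsThree.RankTwoIdentB2
  Cfsg.Agent.TitsThree.CoreB2 Cfsg.Agent.TitsThree.RankTwoIdx Cfsg.Agent.TitsThree.RankTwoRGD
  Cfsg.Agent.TitsThree.StdData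
open Cfsg.Agent.StdRank2 Cfsg.Agent.StdRank2.OddLift Cfsg.Agent.StdRank2.B2Lift Cfsg.Agent.StdRank2.B2Std
  Cfsg.Agent.StdRank2.B2Torus Cfsg.Agent.StdRank2.B2Act Cfsg.Agent.StdRank2.B2Act.Std
  Cfsg.Agent.StdRank2.B2Par Cfsg.Agent.StdRank2.B2Par.Std
  Cfsg.Agent.StdRank2.B2Amb Cfsg.Agent.StdRank2.SpFrame Cfsg.Agent.StdRank2.SpSelf
open Cfsg.Agent.StdSpFour Cfsg.Agent.OddHalf.D4.SpFourDefs Cfsg.Agent.OddHalf.D4.SpFourWord
open Cfsg.Agent.StdSpFour.Swap Cfsg.Agent.StdSpFour.Env Cfsg.Agent.StdSpFour.EnvSwap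

universe u

variable {F : Type*} [Field F] [Finite F] [CharP F 2]
variable {G : Type u} [Group G] {A : Subgroup G} (S : Std (stdSp F) ↥A)
  (hZ : center ↥A = ⊥) {t : G} (htt : t * t = 1) (htA : t ∈ centralizer (A : Set G)) (htn : t ∉ A)

/-- the two forms of `U` -/
theorem isU_iff' {B : Base F G} {g : G} : SpFourCent.IsU B g ↔ Env.IsU B g := by
  constructor
  · rintro ⟨u, s, m, r, rfl⟩
    exact ⟨u, s, m, r, by rw [Base.v1]; group⟩
  · rintro ⟨u, s, m, r, rfl⟩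
    exact ⟨u, s, m, r, by rw [Base.v1]; group⟩

include S in
theorem ke : KE (SpFrame.base S hZ htt htA htn) A where
  weyl := Weyl.base S hZ htt htA htn
  bruhat := by
    intro g hg
    have hW := Weyl.base S hZ htt htA htn
    have hbr : SpFrame.na S * SpFrame.nb S * SpFrame.na S * SpFrame.nb S =
        SpFrame.nb S * SpFrame.na S * SpFrame.nb S * SpFrame.na S :=
      A.subtype_injective (EnvSwap.braid' hW)
    obtain ⟨u, hu, α, β, n, hn, u', hu', e⟩ := SpEnv.bruhat hZ hbr (⟨g, hg⟩ : ↥A)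
    refine ⟨u, (SpEnv.isU_iff S hZ htt htA htn).2 ⟨u, hu, rfl⟩, α, β, n, ?_, u',
      (SpEnv.isU_iff S hZ htt htA htn).2 ⟨u', hu', rfl⟩, congrArg Subtype.val e⟩
    rcases hn with rfl | rfl | rfl | rfl | rfl | rfl | rfl | rfl
    · exact Or.inl rfl
    · exact Or.inr (Or.inl rfl)
    · exact Or.inr (Or.inr (Or.inl rfl))
    · exact Or.inr (Or.inr (Or.inr (Or.inl rfl)))
    · exact Or.inr (Or.inr (Or.inr (Or.inr (Or.inl rfl))))
    · exact Or.inr (Or.inr (Or.inr (Or.inr (Or.inr (Or.inl rfl)))))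
    · exact Or.inr (Or.inr (Or.inr (Or.inr (Or.inr (Or.inr (Or.inl rfl))))))
    · exact Or.inr (Or.inr (Or.inr (Or.inr (Or.inr (Or.inr (Or.inr rfl))))))

/-- `B = U H` in coordinates -/
theorem mem_B' {g : ↥A} (hg : g ∈ S.U ⊔ S.H) : ∃ u s m r : F, ∃ α β : Fˣ,
    (g : G) = (SpFrame.base S hZ htt htA htn).xa u * (SpFrame.base S hZ htt htA htn).xb s *
      (SpFrame.base S hZ htt htA htn).zs m * (SpFrame.base S hZ htt htA htn).zl r *
      (SpFrame.base S hZ htt htA htn).h α β := by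
  obtain ⟨u, hu, h, hh, rfl⟩ := mem_B.1 hg
  obtain ⟨α, β, rfl⟩ := SpEnv.exists_h S hZ hh
  obtain ⟨u', s, m, r, e⟩ := isU_iff'.2 ((SpEnv.isU_iff S hZ htt htA htn).2 ⟨u, hu, rfl⟩)
  exact ⟨u', s, m, r, α, β, by rw [← e]; rfl⟩

include hZ in
/-- the reflection `nII p₀` -/
theorem nII_eq : ∃ α β : Fˣ, S.m.nII S.p₀ = SpFrame.h S α β * SpFrame.nb S := by
  obtain ⟨α0, β0, h0⟩ := SpEnv.exists_h S hZ (hII_mem (m := S.m) S.hp₀ one_c)
  exact ⟨α0, β0, by rw [← h0]; unfold nb; group⟩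

/-- `Z` lies in a subgroup containing `X_a`, `X_b`. -/
theorem zz_mem {B : Base F G} {D : Subgroup G} (hF : 4 ≤ Nat.card F) (hxa : ∀ u, B.xa u ∈ D)
    (hxb : ∀ u, B.xb u ∈ D) : (∀ u, B.zs u ∈ D) ∧ ∀ u, B.zl u ∈ D := by
  have h1 : ∀ u s, B.zs (u * s) * B.zl (u ^ 2 * s) ∈ D := by
    intro u s
    have h2 : B.zs (u * s) * B.zl (u ^ 2 * s) = (B.xb s * B.xa u)⁻¹ * (B.xa u * B.xb s) := by
      rw [B.xa_xb]; group
    rw [h2]
    exact mul_mem (inv_mem (mul_mem (hxb _) (hxa _))) (mul_mem (hxa _) (hxb _))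
  have := Fintype.ofFinite F
  rw [Nat.card_eq_fintype_card] at hF
  obtain ⟨γ, hγ⟩ := Base.exists_unit_ne hF
  have hγ' : (γ : F) + 1 ≠ 0 := by
    intro h
    exact hγ (Units.ext (by rw [Units.val_one]; exact FieldAux.eq_of_add_eq_zero h))
  have hl : ∀ w, B.zl w ∈ D := by
    intro w
    set v := ((γ : F) + 1)⁻¹ * w with hv
    have h2 := h1 γ (((γ⁻¹ : Fˣ) : F) * v)
    have h3 := h1 1 v
    have e1 : (γ : F) * (((γ⁻¹ : Fˣ) : F) * v) = v := by
      rw [← mul_assoc, Units.mul_inv, one_mul]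
    have e2 : (γ : F) ^ 2 * (((γ⁻¹ : Fˣ) : F) * v) = γ * v := by
      rw [pow_two, mul_assoc, e1]
    rw [e1, e2] at h2
    rw [one_mul, one_pow, one_mul] at h3
    have h4 := mul_mem h2 h3
    have h5 : B.zs v * B.zl (γ * v) * (B.zs v * B.zl v) = B.zl w := by
      calc B.zs v * B.zl (γ * v) * (B.zs v * B.zl v)
          = B.zs v * (B.zl (γ * v) * B.zs v) * B.zl v := by group
        _ = (B.zs v * B.zs v) * (B.zl (γ * v) * B.zl v) := by rw [← (B.zs_zl v (γ * v)).eq]; group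
        _ = B.zl w := by
            rw [← B.zs_add, ← B.zl_add, CharTwo.add_self_eq_zero, B.zs_zero, one_mul]
            congr 1
            rw [hv]
            field_simp
    rwa [h5] at h4
  refine ⟨fun w => ?_, hl⟩
  have h2 := h1 1 w
  rw [one_mul, one_pow, one_mul] at h2
  have h3 := mul_mem h2 (inv_mem (hl w))
  rwa [mul_inv_cancel_right] at h3

theorem B_le (hF : 4 ≤ Nat.card F) {D : Subgroup G}
    (hxa : ∀ u, (SpFrame.base S hZ htt htA htn).xa u ∈ D) (hxb : ∀ u, (SpFrame.base S hZ htt htA htn).xb u ∈ D)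
    (hh : ∀ α β, (SpFrame.base S hZ htt htA htn).h α β ∈ D) : S.U ⊔ S.H ≤ D.subgroupOf A := by
  intro g hg
  obtain ⟨u, s, m, r, α, β, e⟩ := mem_B' S hZ htt htA htn hg
  rw [mem_subgroupOf, e]
  obtain ⟨h1, h2⟩ := zz_mem hF hxa hxb
  exact mul_mem (mul_mem (mul_mem (mul_mem (hxa u) (hxb s)) (h1 m)) (h2 r)) (hh α β)

theorem bruhat_a (hF : 4 ≤ Nat.card F) {D : Subgroup G} (hDA : D ≤ A)
    (hxa : ∀ u, (SpFrame.base S hZ htt htA htn).xa u ∈ D) (hxb : ∀ u, (SpFrame.base S hZ htt htA htn).xb u ∈ D)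
    (hh : ∀ α β, (SpFrame.base S hZ htt htA htn).h α β ∈ D) (hn : (SpFrame.base S hZ htt htA htn).nb ∉ D)
    {g : G} (hg : g ∈ D) :
    (∃ u s m r α β, g = (SpFrame.base S hZ htt htA htn).xa u * (SpFrame.base S hZ htt htA htn).xb s *
      (SpFrame.base S hZ htt htA htn).zs m * (SpFrame.base S hZ htt htA htn).zl r *
      (SpFrame.base S hZ htt htA htn).h α β) ∨
    ∃ u s m r α β k, g = (SpFrame.base S hZ htt htA htn).xa u * (SpFrame.base S hZ htt htA htn).xb s *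
      (SpFrame.base S hZ htt htA htn).zs m * (SpFrame.base S hZ htt htA htn).zl r *
      (SpFrame.base S hZ htt htA htn).h α β * (SpFrame.base S hZ htt htA htn).na *
      (SpFrame.base S hZ htt htA htn).xa k := by
  have hle := B_le S hZ htt htA htn hF hxa hxb hh
  have h1 := mem_or S.r2.core (by norm_num) (S := D.subgroupOf A)
    (by rw [S.core_G]; exact le_top) (by rw [core_D]; exact hle) ?_ (g := ⟨g, hDA hg⟩) (mem_subgroupOf.2 hg)
  · rw [core_D, core_nI] at h1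
    rcases h1 with h1 | ⟨b, hb, a, ha, e⟩
    · left
      exact mem_B' S hZ htt htA htn h1
    · right
      obtain ⟨c, rfl⟩ := core_AI ha
      obtain ⟨u, s, m, r, α, β, e'⟩ := mem_B' S hZ htt htA htn hb
      refine ⟨u, s, m, r, α, β, c, ?_⟩
      rw [← e']
      exact congrArg Subtype.val e
  · rw [core_nJ]
    intro hJ
    apply hn
    obtain ⟨α, β, e⟩ := nII_eq S hZ
    rw [e, mem_subgroupOf] at hJ
    have h2 : (SpFrame.base S hZ htt htA htn).h α β * (SpFrame.base S hZ htt htA htn).nb ∈ D := hJ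
    have h3 := mul_mem (inv_mem (hh α β)) h2
    rwa [inv_mul_cancel_left] at h3

theorem bruhat_b (hF : 4 ≤ Nat.card F) {D : Subgroup G} (hDA : D ≤ A)
    (hxa : ∀ u, (SpFrame.base S hZ htt htA htn).xa u ∈ D) (hxb : ∀ u, (SpFrame.base S hZ htt htA htn).xb u ∈ D)
    (hh : ∀ α β, (SpFrame.base S hZ htt htA htn).h α β ∈ D) (hn : (SpFrame.base S hZ htt htA htn).na ∉ D)
    {g : G} (hg : g ∈ D) :
    (∃ u s m r α β, g = (SpFrame.base S hZ htt htA htn).xa u * (SpFrame.base S hZ htt htA htn).xb s *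
      (SpFrame.base S hZ htt htA htn).zs m * (SpFrame.base S hZ htt htA htn).zl r *
      (SpFrame.base S hZ htt htA htn).h α β) ∨
    ∃ u s m r α β k, g = (SpFrame.base S hZ htt htA htn).xa u * (SpFrame.base S hZ htt htA htn).xb s *
      (SpFrame.base S hZ htt htA htn).zs m * (SpFrame.base S hZ htt htA htn).zl r *
      (SpFrame.base S hZ htt htA htn).h α β * (SpFrame.base S hZ htt htA htn).nb *
      (SpFrame.base S hZ htt htA htn).xb k := by
  have hle := B_le S hZ htt htA htn hF hxa hxb hh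
  have e1 : S.r2.core.symm.D = S.U ⊔ S.H := core_D
  have h1 := mem_or S.r2.core.symm (by norm_num) (S := D.subgroupOf A)
    (by
      have : S.r2.core.symm.G = ⊤ := by
        rw [eq_top_iff, ← S.core_G]
        unfold Core.G
        refine sup_le le_sup_left (sup_le ?_ ?_)
        · exact le_trans (le_sup_right (a := S.r2.core.AJ')) le_sup_right
        · exact le_trans (le_sup_left (b := S.r2.core.AI')) le_sup_right
      rw [this]; exact le_top)
    (by rw [e1]; exact hle) ?_ (g := ⟨g, hDA hg⟩) (mem_subgroupOf.2 hg)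
  · rw [e1] at h1
    rcases h1 with h1 | ⟨b, hb, a, ha, e⟩
    · left
      exact mem_B' S hZ htt htA htn h1
    · right
      obtain ⟨c, rfl⟩ := core_AJ ha
      obtain ⟨α0, β0, e0⟩ := nII_eq S hZ
      have hb' : b * SpFrame.h S α0 β0 ∈ S.U ⊔ S.H := mul_mem hb (le_sup_right (a := S.U) (SpFrame.h_mem S α0 β0))
      obtain ⟨u, s, m, r, α, β, e'⟩ := mem_B' S hZ htt htA htn hb'
      refine ⟨u, s, m, r, α, β, c.c, ?_⟩
      rw [← e']
      have e2 : (⟨g, hDA hg⟩ : ↥A) = b * SpFrame.h S α0 β0 * SpFrame.nb S * S.m.z₂ c := by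
        rw [e]
        show b * S.m.nII S.p₀ * S.m.z₂ c = _
        rw [e0]; group
      exact congrArg Subtype.val e2
  · have e1 : S.r2.core.symm.nJ = S.m.nI := core_nI
    rw [e1]
    intro hJ
    exact hn (mem_subgroupOf.1 hJ)


/-! ### Generation -/

section gen

variable {B : Base F G} {K : Subgroup G}

/-- the generating set -/
abbrev GS (B : Base F G) : Set G := {B.na, B.nb} ∪ (Set.range B.xa ∪ Set.range B.xb)

theorem tor_b (W : Weyl B) (α : Fˣ) : B.h α (α ^ 2)⁻¹ ∈ closure ({B.nb} ∪ Set.range B.xb : Set G) := by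
  have h1 := tor (weyl_swap W) (α ^ 2)⁻¹
  change B.h (rtU ((α ^ 2)⁻¹)⁻¹) (α ^ 2)⁻¹ ∈ closure ({B.nb} ∪ Set.range B.xb : Set G) at h1
  rwa [inv_inv, rtU_sq] at h1

theorem isU_gen {g : G} (hg : Env.IsU B g) : g ∈ closure (GS B) := by
  have hna : B.na ∈ closure (GS B) := subset_closure (Or.inl (Or.inl rfl))
  have hnb : B.nb ∈ closure (GS B) := subset_closure (Or.inl (Or.inr rfl))
  have hxa : ∀ u, B.xa u ∈ closure (GS B) := fun u => subset_closure (Or.inr (Or.inl ⟨u, rfl⟩))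
  have hxb : ∀ u, B.xb u ∈ closure (GS B) := fun u => subset_closure (Or.inr (Or.inr ⟨u, rfl⟩))
  have hzs : ∀ u, B.zs u ∈ closure (GS B) := by
    intro u
    have h1 : B.nb * B.xa u * B.nb⁻¹ = B.zs u := by rw [B.nb_xa]; group
    rw [← h1]
    exact mul_mem (mul_mem hnb (hxa u)) (inv_mem hnb)
  have hzl : ∀ u, B.zl u ∈ closure (GS B) := by
    intro u
    have h1 : B.na * B.xb u * B.na⁻¹ = B.zl u := by rw [B.na_xb]; group
    rw [← h1]
    exact mul_mem (mul_mem hna (hxb u)) (inv_mem hna)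
  obtain ⟨u, s, m, r, rfl⟩ := hg
  exact mul_mem (hxa u) (mul_mem (mul_mem (hxb s) (hzs m)) (hzl r))

theorem KE.gen (hE : KE B K) : K ≤ closure (GS B) := by
  have W := hE.weyl
  intro g hg
  obtain ⟨u, hu, α, β, n, hn, u', hu', rfl⟩ := hE.bruhat g hg
  have hna : B.na ∈ closure (GS B) := subset_closure (Or.inl (Or.inl rfl))
  have hnb : B.nb ∈ closure (GS B) := subset_closure (Or.inl (Or.inr rfl))
  have ha : ∀ α : Fˣ, B.h α α⁻¹ ∈ closure (GS B) := by
    intro α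
    refine closure_mono ?_ (tor W α)
    rintro x (hx | hx)
    · exact Or.inl (Or.inl hx)
    · exact Or.inr (Or.inl hx)
  have hb : ∀ α : Fˣ, B.h α (α ^ 2)⁻¹ ∈ closure (GS B) := by
    intro α
    refine closure_mono ?_ (tor_b W α)
    rintro x (hx | hx)
    · exact Or.inl (Or.inr hx)
    · exact Or.inr (Or.inr hx)
  have hh : B.h α β ∈ closure (GS B) := by
    have h1 : B.h α β = B.h (α ^ 2 * β) (α ^ 2 * β)⁻¹ * B.h (α * β)⁻¹ (((α * β)⁻¹) ^ 2)⁻¹ := by
      rw [← B.h_mul]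
      congr 1
      · rw [pow_two, mul_assoc α α β, mul_inv_cancel_right]
      · rw [inv_pow, inv_inv, mul_pow α β 2, pow_two β, ← mul_assoc (α ^ 2) β β, inv_mul_cancel_left]
    rw [h1]
    exact mul_mem (ha _) (hb _)
  refine mul_mem (mul_mem (mul_mem (isU_gen hu) hh) ?_) (isU_gen hu')
  rcases hn with rfl | rfl | rfl | rfl | rfl | rfl | rfl | rfl
  · exact one_mem _
  · exact hna
  · exact hnb
  · exact mul_mem hna hnb
  · exact mul_mem hnb hna
  · exact mul_mem (mul_mem hna hnb) hna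
  · exact mul_mem (mul_mem hnb hna) hnb
  · exact mul_mem (mul_mem (mul_mem hna hnb) hna) hnb

end gen

/-! ### The instance -/

variable [Finite ↥A]

theorem syl (P : Subgroup G) (hPA : P ≤ A) (hP : IsPGroup 2 P) :
    ∃ k ∈ A, ∀ x ∈ P, Env.IsU (SpFrame.base S hZ htt htA htn) (k * x * k⁻¹) := by
  have : Fact (Nat.Prime 2) := ⟨Nat.prime_two⟩
  obtain ⟨R, hR⟩ := B2Torus.Std.exists_sylow S scal_Sp (by rw [hZ, Subgroup.card_bot]; exact odd_one)
  have h1 : IsPGroup 2 ↥(P.subgroupOf A) := by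
    rintro ⟨y, hy⟩
    obtain ⟨k, hk⟩ := hP ⟨y, mem_subgroupOf.1 hy⟩
    refine ⟨k, Subtype.ext (Subtype.ext ?_)⟩
    have h2 : (y : G) ^ 2 ^ k = 1 := congrArg Subtype.val hk
    simpa using h2
  obtain ⟨Q, hQ⟩ := h1.exists_le_sylow
  obtain ⟨g, hg⟩ := MulAction.exists_smul_eq ↥A Q R
  refine ⟨g, g.2, fun x hx => ?_⟩
  have h3 : g * ⟨x, hPA hx⟩ * g⁻¹ ∈ (R : Subgroup ↥A) := by
    rw [← hg, Sylow.coe_subgroup_smul]
    exact ⟨⟨x, hPA hx⟩, hQ (mem_subgroupOf.2 hx), rfl⟩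
  rw [hR] at h3
  exact (SpEnv.isU_iff S hZ htt htA htn).2 ⟨_, h3, rfl⟩

/-- **`KBase`** -/
theorem kBase (hF : 4 ≤ Nat.card F) : KBase (SpFrame.base S hZ htt htA htn) A where
  xa_mem u := (S.m.x u).2
  xb_mem u := (S.m.z₂ (tt u)).2
  zs_mem u := (S.m.y u).2
  zl_mem u := (S.m.z₁ (tt u)).2
  h_mem α β := (SpFrame.h S α β).2
  na_mem := (SpFrame.na S).2
  nb_mem := (SpFrame.nb S).2
  na_sq := (Weyl.base S hZ htt htA htn).na_sq
  nb_sq := (Weyl.base S hZ htt htA htn).nb_sq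
  na_eq := na_eq (Weyl.base S hZ htt htA htn)
  nb_eq := na_eq (weyl_swap (Weyl.base S hZ htt htA htn))
  tor_a := tor (Weyl.base S hZ htt htA htn)
  tor_b := tor_b (Weyl.base S hZ htt htA htn)
  gen := KE.gen (ke S hZ htt htA htn)
  bruhat_a := fun D hD h1 h2 h3 h4 g hg => bruhat_a S hZ htt htA htn hF hD h1 h2 h3 h4 hg
  bruhat_b := fun D hD h1 h2 h3 h4 g hg => bruhat_b S hZ htt htA htn hF hD h1 h2 h3 h4 hg
  syl := by
    intro P hP h2
    obtain ⟨k, hk, h⟩ := syl S hZ htt htA htn P hP h2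
    exact ⟨k, hk, fun x hx => isU_iff'.2 (h x hx)⟩
  center := by
    intro g hg hc
    have h1 : (⟨g, hg⟩ : ↥A) ∈ center ↥A := by
      rw [mem_center_iff]
      intro x
      exact Subtype.ext (hc x x.2).symm.eq
    rw [hZ, mem_bot] at h1
    exact congrArg Subtype.val h1

/-- **`KCent`** -/
theorem kCent (hF : 4 ≤ Nat.card F) : SpFourCent.KCent (SpFrame.base S hZ htt htA htn) A where
  toKBase := kBase S hZ htt htA htn hF
  cent_s := by
    intro g hg m hm hc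
    rcases KE.cent_zs (ke S hZ htt htA htn) hg hm hc with ⟨v, hv, α, e⟩ | ⟨v, hv, α, c, e⟩
    · exact Or.inl ⟨v, isU_iff'.2 hv, α, e⟩
    · exact Or.inr ⟨v, isU_iff'.2 hv, α, c, e⟩
  cent_l := by
    intro g hg m hm hc
    rcases KE.cent_zs (KE.swap (ke S hZ htt htA htn)) hg hm hc with ⟨v, hv, α, e⟩ | ⟨v, hv, α, c, e⟩
    · refine Or.inl ⟨v, isU_iff'.2 (isU_swap.1 hv), rtU α⁻¹, ?_⟩
      rw [sq_rtU, inv_inv]
      exact e
    · refine Or.inr ⟨v, isU_iff'.2 (isU_swap.1 hv), rtU α⁻¹, c, ?_⟩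
      rw [sq_rtU, inv_inv]
      exact e
  cent_m := fun g hg m n hm hn hc => isU_iff'.2 (KE.cent_mixed (ke S hZ htt htA htn) hF hg hm hn hc)
  na_xa := by
    intro c hc
    by_contra h
    exact not_isU_xma (Weyl.base S hZ htt htA htn) h (isU_iff'.1 hc)
  nb_xb := by
    intro c hc
    by_contra h
    exact not_isU_xmb (Weyl.base S hZ htt htA htn) h (isU_iff'.1 hc)

/-- **`KAut`** -/
theorem kAut (hF : 4 ≤ Nat.card F) : KAut (SpFrame.base S hZ htt htA htn) A := by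
  intro g hg hs hl
  obtain ⟨lam, h0, h1⟩ := B2Inst.exists_ne (F := F) (by omega)
  have L := lam_Sp h0 h1
  let φ : MulAut ↥A := A.normalizerMonoidHom ⟨g, hg⟩
  have hφ : ∀ x : ↥A, ((φ x : ↥A) : G) = g * x * g⁻¹ := fun x => rfl
  obtain ⟨u, hu, e⟩ := inner_of_Z S L hZ (φ := φ)
    (fun b => Subtype.ext (mul_inv_eq_iff_eq_mul.2 (hs b).eq))
    (fun c => Subtype.ext (mul_inv_eq_iff_eq_mul.2 (hl c).eq))
  obtain ⟨a, s, m, r, e1⟩ := isU_iff'.2 ((SpEnv.isU_iff S hZ htt htA htn).2 ⟨u, hu, rfl⟩)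
  refine ⟨a, s, m, r, fun x hx => ?_⟩
  rw [← e1]
  have h2 : (u : G) * x * (u : G)⁻¹ = g * x * g⁻¹ := by
    rw [← hφ ⟨x, hx⟩, e]; rfl
  show (u : G)⁻¹ * g * x = x * ((u : G)⁻¹ * g)
  calc (u : G)⁻¹ * g * x = (u : G)⁻¹ * (g * x * g⁻¹) * g := by group
    _ = (u : G)⁻¹ * (u * x * (u : G)⁻¹) * g := by rw [h2]
    _ = _ := by group

end Cfsg.Agent.OddHalf.D4.SpFourK
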