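import Mathlib
import Cfsg.Agent.OddHalf.D4.SpFourU
import Cfsg.Agent.StdSpFour.Mover

/-!
# ODD D4, `K = Sp₄(q)`: the parabolic `P₂ = C_K(Z_l)`
-/

set_option autoImplicit false
set_option linter.unusedSectionVars false

namespace Cfsg.Agent.OddHalf.D4.SpFourPar

open Cfsg.Agent.StdSpFour Subgroup
open Cfsg.Agent.StdSpFour.Swap Cfsg.Agent.OddHalf.D4.SpFourDefs Cfsg.Agent.OddHalf.D4.SpFourCent
open Cfsg.Agent.OddHalf.D4.SpFourU
open scoped commutatorElement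

variable {F G : Type*} [Field F] [CharP F 2] [Group G]

/-- `P₂ = ⟨n_b, X_a, X_b⟩` -/
def P2 (B : Base F G) : Subgroup G := closure ({B.nb} ∪ (Set.range B.xa ∪ Set.range B.xb))

variable {B : Base F G} {K : Subgroup G}

theorem nb_mem : B.nb ∈ P2 B := subset_closure (Or.inl rfl)
theorem xa_mem (u : F) : B.xa u ∈ P2 B := subset_closure (Or.inr (Or.inl ⟨u, rfl⟩))
theorem xb_mem (u : F) : B.xb u ∈ P2 B := subset_closure (Or.inr (Or.inr ⟨u, rfl⟩))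
theorem zs_mem (u : F) : B.zs u ∈ P2 B := by
  rw [← nb_xa']
  exact mul_mem (mul_mem nb_mem (xa_mem u)) (inv_mem nb_mem)
theorem zl_mem (r : F) : B.zl r ∈ P2 B := by
  have h1 := B.xa_xb 1 r
  rw [one_mul, one_pow, one_mul] at h1
  have h2 : B.zl r = (B.zs r)⁻¹ * (B.xa 1)⁻¹ * (B.xb r)⁻¹ * (B.xa 1 * B.xb r) := by rw [h1]; group
  rw [h2]
  exact mul_mem (mul_mem (mul_mem (inv_mem (zs_mem r)) (inv_mem (xa_mem 1))) (inv_mem (xb_mem r)))
    (mul_mem (xa_mem 1) (xb_mem r))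

theorem isU_mem {g : G} (hg : IsU B g) : g ∈ P2 B := by
  obtain ⟨u, s, m, r, rfl⟩ := hg
  exact mul_mem (mul_mem (mul_mem (xa_mem u) (xb_mem s)) (zs_mem m)) (zl_mem r)

theorem h_mem (hK : KBase B K) (α : Fˣ) : B.h α (α ^ 2)⁻¹ ∈ P2 B := by
  refine closure_mono ?_ (hK.tor_b α)
  rintro x (hx | hx)
  · exact Or.inl hx
  · exact Or.inr (Or.inr hx)

theorem P2_le (hK : KBase B K) : P2 B ≤ K := by
  rw [P2, closure_le]
  rintro x (rfl | ⟨u, rfl⟩ | ⟨u, rfl⟩)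
  · exact hK.nb_mem
  · exact hK.xa_mem u
  · exact hK.xb_mem u

theorem P2_comm (r : F) : ∀ g ∈ P2 B, Commute g (B.zl r) := by
  intro g hg
  have h1 : P2 B ≤ centralizer ({B.zl r} : Set G) := by
    rw [P2, closure_le]
    rintro x (rfl | ⟨u, rfl⟩ | ⟨u, rfl⟩)
    · exact mem_centralizer_singleton_iff.2 (B.nb_zl r)
    · exact mem_centralizer_singleton_iff.2 (B.xa_zl u r).eq
    · exact mem_centralizer_singleton_iff.2 (B.xb_zl u r).eq
  exact mem_centralizer_singleton_iff.1 (h1 hg)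

theorem mem_P2 (hK : KCent B K) {g : G} (hg : g ∈ K) {r : F} (hr : r ≠ 0) (hc : Commute g (B.zl r)) : g ∈ P2 B := by
  rcases hK.cent_l g hg r hr hc with ⟨v, hv, α, rfl⟩ | ⟨v, hv, α, c, rfl⟩
  · exact mul_mem (isU_mem hv) (h_mem hK.toKBase α)
  · exact mul_mem (mul_mem (mul_mem (isU_mem hv) (h_mem hK.toKBase α)) nb_mem) (xb_mem c)

theorem exists_unit [Finite F] (hF : 4 ≤ Nat.card F) : ∃ α : Fˣ, (1 : F) + α ≠ 0 := by
  have := Fintype.ofFinite F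
  rw [Nat.card_eq_fintype_card] at hF
  obtain ⟨β, hβ⟩ := Base.exists_unit_ne hF
  refine ⟨β, fun h => hβ (Units.ext ?_)⟩
  exact (FieldAux.eq_of_add_eq_zero h).symm

theorem exists_ne_ne [Finite F] (hF : 4 ≤ Nat.card F) (s : F) : ∃ d : F, d ≠ 0 ∧ d ≠ s := by
  by_cases hs : s = 1
  · obtain ⟨α, hα⟩ := exists_unit hF
    refine ⟨α, α.ne_zero, ?_⟩
    intro h
    apply hα
    rw [h, hs]; exact CharTwo.add_self_eq_zero 1
  · exact ⟨1, one_ne_zero, fun h => hs h.symm⟩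

theorem P2_perfect [Finite F] (hF : 4 ≤ Nat.card F) (hK : KBase B K) : ⁅P2 B, P2 B⁆ = P2 B := by
  apply le_antisymm (commutator_le_self _)
  obtain ⟨α, hα⟩ := exists_unit hF
  have hα0 : (α : F) ≠ 0 := α.ne_zero
  have hN : ∀ g ∈ P2 B, ∀ x ∈ ⁅P2 B, P2 B⁆, g * x * g⁻¹ ∈ ⁅P2 B, P2 B⁆ := by
    intro g hg x hx
    have h1 : g * x * g⁻¹ = ⁅g, x⁆ * x := by rw [commutatorElement_def]; group
    rw [h1]
    exact mul_mem (commutator_mem_commutator hg (commutator_le_self _ hx)) hx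
  have hxa : ∀ u, B.xa u ∈ ⁅P2 B, P2 B⁆ := by
    intro u
    have h1 : B.xa u = ⁅B.h α (α ^ 2)⁻¹, B.xa (u * (1 + (α : F))⁻¹)⁆ := by
      rw [commutatorElement_def, h_xa', B.xa_inv, ← B.xa_add]
      congr 1
      field_simp
      ring
    rw [h1]
    exact commutator_mem_commutator (h_mem hK α) (xa_mem _)
  have hβ : (1 : F) + ((α ^ 2)⁻¹ : Fˣ) ≠ 0 := by
    intro h1
    apply hα
    have h2 : (1 : F) = (((α ^ 2)⁻¹ : Fˣ) : F) := FieldAux.eq_of_add_eq_zero h1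
    have h3 : (α : F) ^ 2 = 1 := by
      rw [Units.val_inv_eq_inv_val, Units.val_pow_eq_pow_val] at h2
      have := congrArg (fun x => (α : F) ^ 2 * x) h2
      simp only [mul_one] at this
      rw [this, mul_inv_cancel₀ (pow_ne_zero 2 hα0)]
    have h4 : (1 + (α : F)) ^ 2 = 0 := by
      rw [CharTwo.add_sq, h3, one_pow]; exact CharTwo.add_self_eq_zero 1
    exact pow_eq_zero_iff two_ne_zero |>.1 h4
  have hxb : ∀ u, B.xb u ∈ ⁅P2 B, P2 B⁆ := by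
    intro u
    have h1 : B.xb u = ⁅B.h α (α ^ 2)⁻¹, B.xb (u * (1 + (((α ^ 2)⁻¹ : Fˣ) : F))⁻¹)⁆ := by
      rw [commutatorElement_def, h_xb', B.xb_inv, ← B.xb_add]
      congr 1
      generalize (((α ^ 2)⁻¹ : Fˣ) : F) = γ at hβ ⊢
      field_simp
      ring
    rw [h1]
    exact commutator_mem_commutator (h_mem hK α) (xb_mem _)
  rw [P2, closure_le]
  rintro x (rfl | ⟨u, rfl⟩ | ⟨u, rfl⟩)
  · have h1 : B.xb 1 * (B.nb * B.xb 1 * B.nb⁻¹) * B.xb 1 ∈ ⁅P2 B, P2 B⁆ :=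
      mul_mem (mul_mem (hxb 1) (hN _ nb_mem _ (hxb 1))) (hxb 1)
    rw [← hK.nb_eq] at h1
    exact h1
  · exact hxa u
  · exact hxb u

theorem P2_two (hK : KBase B K) : P2 B ≤ closure {x | x ∈ P2 B ∧ ∃ k : ℕ, x ^ 2 ^ k = 1} := by
  nth_rewrite 1 [P2]
  rw [closure_le]
  rintro x (rfl | ⟨u, rfl⟩ | ⟨u, rfl⟩)
  · exact subset_closure ⟨nb_mem, 1, by rw [pow_one, pow_two, hK.nb_sq]⟩
  · exact subset_closure ⟨xa_mem u, 1, by rw [pow_one, pow_two, B.xa_xa]⟩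
  · exact subset_closure ⟨xb_mem u, 1, by rw [pow_one, pow_two, B.xb_xb]⟩

/-- `V₂ ⊴ P₂` -/
theorem P2_V2 : ∀ g ∈ P2 B, ∀ u m r, ∃ u' m' r', g * nf B u 0 m r * g⁻¹ = nf B u' 0 m' r' := by
  intro g hg
  have hnb : ∀ u m r, B.nb * nf B u 0 m r * B.nb⁻¹ = nf B m 0 u r := by
    intro u m r
    unfold nf
    rw [B.xb_zero, mul_one, mul_one, mul_conj, mul_conj, nb_xa', nb_zs', nb_zl', (B.xa_zs m u).eq]
  have hnb' : ∀ u m r, B.nb⁻¹ * nf B u 0 m r * B.nb⁻¹⁻¹ = nf B m 0 u r := by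
    intro u m r
    rw [← hnb m u r]; group
  have hU : ∀ {v : G}, IsU B v → ∀ u m r, ∃ u' m' r', v * nf B u 0 m r * v⁻¹ = nf B u' 0 m' r' := by
    rintro v ⟨u', s', m', r', rfl⟩ u m r
    exact ⟨_, _, _, nf_conj u' s' m' r' u 0 m r⟩
  rw [P2] at hg
  induction hg using Subgroup.closure_induction'' with
  | one => intro u m r; exact ⟨u, m, r, by group⟩
  | mem x hx =>
    rcases hx with rfl | ⟨u, rfl⟩ | ⟨u, rfl⟩
    · exact fun u m r => ⟨m, u, r, hnb u m r⟩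
    · exact hU (isU_xa u)
    · exact hU (isU_xb u)
  | inv_mem x hx =>
    rcases hx with rfl | ⟨u, rfl⟩ | ⟨u, rfl⟩
    · exact fun u m r => ⟨m, u, r, hnb' u m r⟩
    · exact hU (IsU.inv (isU_xa u))
    · exact hU (IsU.inv (isU_xb u))
  | mul x y _ _ hx hy =>
    intro u m r
    obtain ⟨u1, m1, r1, h1⟩ := hy u m r
    obtain ⟨u2, m2, r2, h2⟩ := hx u1 m1 r1
    refine ⟨u2, m2, r2, ?_⟩
    rw [← h2, ← h1]; group

/-- **Lemma C.** A subgroup of `P₂` normalised by `P₂` and not contained in `Z_l` contains short root elements. -/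
theorem exists_zs [Finite F] (hF : 4 ≤ Nat.card F) (hK : KCent B K) {J : Subgroup G}
    (hn : ∀ p ∈ P2 B, ∀ x ∈ J, p * x * p⁻¹ ∈ J) {g : G} (hg : g ∈ P2 B) (hgJ : g ∈ J) (hgZ : ∀ r, g ≠ B.zl r) :
    ∃ m, m ≠ 0 ∧ B.zs m ∈ J := by
  obtain ⟨α, hα⟩ := exists_unit hF
  have hα0 : (α : F) ≠ 0 := α.ne_zero
  -- Step 3
  have s3 : ∀ m r, m ≠ 0 → B.zs m * B.zl r ∈ J → ∃ m, m ≠ 0 ∧ B.zs m ∈ J := by
    intro m r hm hJ
    have h1 := hn _ (h_mem hK.toKBase α) _ hJ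
    rw [mul_conj, h_zs', h_zl'] at h1
    have h2 := J.mul_mem hJ h1
    refine ⟨m + α * ((α ^ 2)⁻¹ : Fˣ) * m, ?_, ?_⟩
    · intro h3
      apply hα
      have h4 : (1 + (α : F) * (((α ^ 2)⁻¹ : Fˣ) : F)) * m = 0 := by linear_combination h3
      rcases mul_eq_zero.1 h4 with h5 | h5
      · have h6 : (1 : F) = (α : F) * (((α ^ 2)⁻¹ : Fˣ) : F) := FieldAux.eq_of_add_eq_zero h5
        rw [Units.val_inv_eq_inv_val, Units.val_pow_eq_pow_val] at h6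
        have h7 : (α : F) = 1 := by
          field_simp at h6
          exact h6
        rw [h7]; exact CharTwo.add_self_eq_zero 1
      · exact absurd h5 hm
    · have e1 : (α : F) ^ 2 * (((α ^ 2)⁻¹ : Fˣ) : F) * r = r := by
        rw [Units.val_inv_eq_inv_val, Units.val_pow_eq_pow_val, mul_inv_cancel₀ (pow_ne_zero 2 hα0), one_mul]
      rw [e1] at h2
      have e2 : B.zs m * B.zl r * (B.zs (α * ((α ^ 2)⁻¹ : Fˣ) * m) * B.zl r) =
          B.zs (m + α * ((α ^ 2)⁻¹ : Fˣ) * m) := by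
        rw [z_eq, z_eq, nf_mul, zs_eq]
        congr 1
        · ring
        · ring
        · ring
        · rw [CharTwo.add_self_eq_zero]; ring
      rw [← e2]; exact h2
  -- Step 2
  have s2 : ∀ u m r, (u ≠ 0 ∨ m ≠ 0) → nf B u 0 m r ∈ J → ∃ m, m ≠ 0 ∧ B.zs m ∈ J := by
    intro u m r hum hJ
    by_cases hu : u = 0
    · subst hu
      have hm : m ≠ 0 := by
        rcases hum with h | h
        · exact absurd rfl h
        · exact h
      refine s3 m r hm ?_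
      rw [z_eq]; exact hJ
    · have h1 := hn _ (xb_mem 1) _ hJ
      have h2 := J.mul_mem h1 (J.inv_mem hJ)
      have h3 : B.xb 1 * nf B u 0 m r * (B.xb 1)⁻¹ * (nf B u 0 m r)⁻¹ = B.zs u * B.zl (u ^ 2) := by
        rw [xb_eq, nf_comm, z_eq]
        congr 1 <;> ring
      rw [h3] at h2
      exact s3 u (u ^ 2) hu h2
  -- Step 1
  have s1 : ∀ u0 m0, ∀ u m r, g * nf B u0 0 m0 0 * g⁻¹ = nf B u 0 m r → (u + u0 ≠ 0 ∨ m + m0 ≠ 0) →
      ∃ m, m ≠ 0 ∧ B.zs m ∈ J := by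
    intro u0 m0 u m r e hne
    have hy : nf B u0 0 m0 0 ∈ P2 B := isU_mem (isU_nf _ _ _ _)
    have h1 : g * nf B u0 0 m0 0 * g⁻¹ * (nf B u0 0 m0 0)⁻¹ ∈ J := by
      have h2 := J.mul_mem hgJ (hn _ hy _ (J.inv_mem hgJ))
      have h3 : g * (nf B u0 0 m0 0 * g⁻¹ * (nf B u0 0 m0 0)⁻¹) = g * nf B u0 0 m0 0 * g⁻¹ * (nf B u0 0 m0 0)⁻¹ := by
        group
      rwa [h3] at h2
    rw [e, nf_inv, nf_mul] at h1
    simp only [mul_zero, add_zero] at h1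
    exact s2 _ _ _ hne h1
  rcases hK.cent_l g (P2_le hK.toKBase hg) 1 one_ne_zero (P2_comm 1 g hg) with
    ⟨v, ⟨a, b, m, r, rfl⟩, γ, rfl⟩ | ⟨v, ⟨a, b, m, r, rfl⟩, γ, c, rfl⟩
  · -- `g = v h`
    change nf B a b m r * B.h γ (γ ^ 2)⁻¹ ∈ J at hgJ
    have hc : ∀ u0 m0, nf B a b m r * B.h γ (γ ^ 2)⁻¹ * nf B u0 0 m0 0 * (nf B a b m r * B.h γ (γ ^ 2)⁻¹)⁻¹ =
        nf B (γ * u0) 0 (γ * ((γ ^ 2)⁻¹ : Fˣ) * m0 + γ * u0 * b) ((γ * u0) ^ 2 * b) := by
      intro u0 m0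
      calc nf B a b m r * B.h γ (γ ^ 2)⁻¹ * nf B u0 0 m0 0 * (nf B a b m r * B.h γ (γ ^ 2)⁻¹)⁻¹
          = nf B a b m r * (B.h γ (γ ^ 2)⁻¹ * nf B u0 0 m0 0 * (B.h γ (γ ^ 2)⁻¹)⁻¹) * (nf B a b m r)⁻¹ := by group
        _ = _ := by
          rw [h_nf, nf_conj]
          congr 1 <;> ring
    by_cases hγ : γ = 1
    · subst hγ
      by_cases hb : b = 0
      · subst hb
        have h1 : nf B a 0 m r ∈ J := by
          have h2 : (1 : Fˣ) ^ 2 = 1 := one_pow 2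
          rw [h2, inv_one, B.h_one, mul_one] at hgJ
          exact hgJ
        by_cases ham : a = 0 ∧ m = 0
        · exfalso
          obtain ⟨rfl, rfl⟩ := ham
          apply hgZ r
          have h2 : (1 : Fˣ) ^ 2 = 1 := one_pow 2
          rw [h2, inv_one, B.h_one, mul_one, B.xa_zero, B.xb_zero, B.zs_zero]
          group
        · exact s2 a m r (by
            by_contra hcon
            push Not at hcon
            exact ham hcon) h1
      · refine s1 1 0 _ _ _ (hc 1 0) (Or.inr ?_)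
        simpa using hb
    · refine s1 1 0 _ _ _ (hc 1 0) (Or.inl ?_)
      intro h1
      apply hγ
      apply Units.ext
      rw [mul_one] at h1
      exact FieldAux.eq_of_add_eq_zero h1
  · -- `g = v h nb xb(c)`
    have hc : nf B a b m r * B.h γ (γ ^ 2)⁻¹ * B.nb * B.xb c * nf B 0 0 1 0 *
        (nf B a b m r * B.h γ (γ ^ 2)⁻¹ * B.nb * B.xb c)⁻¹ = nf B γ 0 (γ * b) (γ ^ 2 * b) := by
      calc nf B a b m r * B.h γ (γ ^ 2)⁻¹ * B.nb * B.xb c * nf B 0 0 1 0 *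
            (nf B a b m r * B.h γ (γ ^ 2)⁻¹ * B.nb * B.xb c)⁻¹
          = nf B a b m r * (B.h γ (γ ^ 2)⁻¹ * (B.nb * (B.xb c * nf B 0 0 1 0 * (B.xb c)⁻¹) * B.nb⁻¹) *
              (B.h γ (γ ^ 2)⁻¹)⁻¹) * (nf B a b m r)⁻¹ := by group
        _ = _ := by
          rw [← zs_eq, (B.xb_zs c 1).eq, mul_inv_cancel_right, nb_zs', xa_eq, h_nf, nf_conj]
          congr 1 <;> ring
    refine s1 0 1 _ _ _ hc (Or.inl ?_)
    rw [add_zero]; exact γ.ne_zero

/-- a homomorphism-like map from the perfect group `P₂` to its centre is trivial -/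
theorem comm_of_comm_mem [Finite F] (hF : 4 ≤ Nat.card F) (hK : KBase B K) {r : G}
    (h : ∀ p ∈ P2 B, ∃ c, p * r * p⁻¹ * r⁻¹ = B.zl c) : ∀ p ∈ P2 B, Commute p r := by
  let f : ↥(P2 B) →* G := MonoidHom.mk' (fun p => (p : G) * r * (p : G)⁻¹ * r⁻¹) (by
    intro p q
    obtain ⟨c, hc⟩ := h q q.2
    have h1 := P2_comm c _ p.2
    calc ((p * q : ↥(P2 B)) : G) * r * ((p * q : ↥(P2 B)) : G)⁻¹ * r⁻¹
        = (p : G) * ((q : G) * r * (q : G)⁻¹ * r⁻¹) * (r * (p : G)⁻¹ * r⁻¹) := by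
          rw [Subgroup.coe_mul]; group
      _ = (B.zl c * (p : G)) * (r * (p : G)⁻¹ * r⁻¹) := by rw [hc, h1.eq]
      _ = B.zl c * ((p : G) * r * (p : G)⁻¹ * r⁻¹) := by group
      _ = ((p : G) * r * (p : G)⁻¹ * r⁻¹) * B.zl c := by
          obtain ⟨c', hc'⟩ := h p p.2
          rw [hc', (Comm.comm_of_add B.zl_add c c').eq]
      _ = _ := by rw [hc])
  have hf : ∀ p q : ↥(P2 B), f p * f q = f q * f p := by
    intro p q
    obtain ⟨c, hc⟩ := h q q.2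
    obtain ⟨c', hc'⟩ := h p p.2
    have e1 : f q = B.zl c := hc
    have e2 : f p = B.zl c' := hc'
    rw [e1, e2, (Comm.comm_of_add B.zl_add c c').eq]
  have hPP := P2_perfect hF hK
  have hcom : commutator ↥(P2 B) = ⊤ := by
    rw [eq_top_iff, _root_.commutator_def]
    have h2 : (⁅(⊤ : Subgroup ↥(P2 B)), (⊤ : Subgroup ↥(P2 B))⁆ : Subgroup ↥(P2 B)).map (P2 B).subtype = P2 B := by
      rw [Subgroup.map_commutator, ← MonoidHom.range_eq_map, Subgroup.range_subtype, hPP]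
    intro p _
    have h3 : (p : G) ∈ (⁅(⊤ : Subgroup ↥(P2 B)), (⊤ : Subgroup ↥(P2 B))⁆ : Subgroup ↥(P2 B)).map
        (P2 B).subtype := by
      rw [h2]; exact p.2
    obtain ⟨q, hq, hqp⟩ := h3
    have h4 : q = p := Subtype.ext hqp
    rw [← h4]; exact hq
  have hker : f.ker = ⊤ := by
    rw [eq_top_iff, ← hcom, _root_.commutator_def, commutator_le]
    intro p _ q _
    rw [MonoidHom.mem_ker, map_commutatorElement, commutatorElement_eq_one_iff_mul_comm]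
    exact hf p q
  intro p hp
  have h3 : (⟨p, hp⟩ : ↥(P2 B)) ∈ f.ker := by rw [hker]; trivial
  rw [MonoidHom.mem_ker] at h3
  have h4 : p * r * p⁻¹ * r⁻¹ = 1 := h3
  show p * r = r * p
  calc p * r = (p * r * p⁻¹ * r⁻¹) * (r * p) := by group
    _ = r * p := by rw [h4, one_mul]

/-! ### `K` is generated by `P₂` and `P₁` -/

theorem le_of_P2_P1 [Finite F] (hK : KBase B K) {N : Subgroup G} (h2 : P2 B ≤ N) (h1 : P2 (swap B) ≤ N) : K ≤ N := by
  refine hK.gen.trans ?_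
  rw [closure_le]
  rintro x ((rfl | rfl) | ⟨u, rfl⟩ | ⟨u, rfl⟩)
  · exact h1 (nb_mem (B := swap B))
  · exact h2 nb_mem
  · exact h2 (xa_mem u)
  · exact h2 (xb_mem u)

end Cfsg.Agent.OddHalf.D4.SpFourPar
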