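import Cfsg.Agent.OddHalf.D4.SpFourFr
import Cfsg.Agent.OddHalf.D4.SpFourU

/-!
# ODD D4, `K = Sp₄(q)`: the types of a frame

`TypL`, `TypS`: root type, `TypM`: mixed type. `HasTyp B Q R`: after conjugation by an element of `K` the frame
`(K, L, Q, R)` has one of these types (proved in `SpFourTOne`).
-/

set_option autoImplicit false

namespace Cfsg.Agent.OddHalf.D4.SpFourTyp

open Cfsg.Agent.StdSpFour Subgroup
open Cfsg.Agent.OddHalf.D4.CommConj (cj)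

variable {F G : Type*} [Field F] [Group G]

/-- `R ≤ Q Z_l`, `R ∩ K = 1` -/
def TypL (B : Base F G) (K Q R : Subgroup G) : Prop :=
  (∀ x ∈ R, ∃ t ∈ Q, ∃ r, x = t * B.zl r) ∧ ∀ x ∈ R, x ∈ K → x = 1

/-- `R ≤ Q Z_s`, `R ∩ K = 1` -/
def TypS (B : Base F G) (K Q R : Subgroup G) : Prop :=
  (∀ x ∈ R, ∃ t ∈ Q, ∃ m, x = t * B.zs m) ∧ ∀ x ∈ R, x ∈ K → x = 1

/-- `R ≤ Q Z`, all elements `≠ 1` have a mixed component in `Z` -/
def TypM (B : Base F G) (Q R : Subgroup G) : Prop :=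
  ∀ x ∈ R, x ≠ 1 → ∃ t ∈ Q, ∃ m r, m ≠ 0 ∧ r ≠ 0 ∧ x = t * (B.zs m * B.zl r)

/-- one of the types, after conjugation in `K` -/
def HasTyp (B : Base F G) (K Q R : Subgroup G) : Prop :=
  ∃ k ∈ K, TypL B K Q (cj k R) ∨ TypS B K Q (cj k R) ∨ TypM B Q (cj k R)

end Cfsg.Agent.OddHalf.D4.SpFourTyp
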