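import Mathlib
import Cfsg.Agent.OddHalf.D4.SpFourPar
import Cfsg.Agent.OddHalf.D4.SpFourTyp

/-!
# ODD D4, `K = Sp₄(q)`: frames with `R ∩ K ≠ 1`
-/

set_option autoImplicit false
set_option linter.unusedSectionVars false

namespace Cfsg.Agent.OddHalf.D4.SpFourTOneA

open Cfsg.Agent.StdSpFour Subgroup Cfsg.Agent.OddHalf.D4 Cfsg.Agent.OddHalf.D4.Basic
open Cfsg.Agent.StdSpFour.Swap (rt rt_sq sq_rt rt_zero rt_eq_zero swap)
open Cfsg.Agent.OddHalf.D4.SpFourDefs Cfsg.Agent.OddHalf.D4.SpFourCent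
open Cfsg.Agent.OddHalf.D4.SpFourU Cfsg.Agent.OddHalf.D4.SpFourFr Cfsg.Agent.OddHalf.D4.SpFourTyp
open Cfsg.Agent.OddHalf.D4.SpFourPar (P2 P2_le P2_comm mem_P2 exists_ne_ne P2_perfect P2_two P2_V2 exists_zs
  comm_of_comm_mem le_of_P2_P1)
open Cfsg.Agent.OddHalf.D4.CommConj (cj mem_cj mem_cj_mul)

variable {F G : Type*} [Field F] [CharP F 2] [Finite F] [Group G] [Finite G]
variable {B : Base F G} {K L Q R : Subgroup G}

theorem two_of_isU {v : G} (h : IsU B v) : ∃ k : ℕ, v ^ 2 ^ k = 1 := ⟨2, IsU.pow_four h⟩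

theorem zl_ne {r : F} (hr : r ≠ 0) : B.zl r ≠ 1 := by
  intro h
  rw [zl_eq] at h
  exact hr (nf_one h).2.2.2

theorem zs_ne {r : F} (hr : r ≠ 0) : B.zs r ≠ 1 := by
  intro h
  rw [zs_eq] at h
  exact hr (nf_one h).2.2.1

/-- elements commuting with a 2-element `≠ 1` of `C(L)` -/
theorem memN (h : Fr K L Q R) {x y : G} (hx : x ∈ centralizer (L : Set G)) (h2 : ∃ k : ℕ, x ^ 2 ^ k = 1)
    (h1 : x ≠ 1) (hy : Commute y x) : y ∈ normalizer (L : Set G) :=
  TightAt.mem2 h.envL.tight hx h2 h1 hy.eq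

/-- **Lemma E.** -/
theorem rootE (hF : 4 ≤ Nat.card F) (hK : KCent B K) (h : Fr K L Q R) (hP : P2 B ≤ normalizer (L : Set G)) {g : G}
    (hg : g ∈ P2 B) (hgJ : g ∈ centralizer (L : Set G)) : ∃ r, g = B.zl r := by
  by_contra hcon
  push Not at hcon
  obtain ⟨m, hm, hmJ⟩ := exists_zs hF hK (J := centralizer (L : Set G))
    (fun p hp x hx => centralizer_conj_mem (hP hp) hx) hg hgJ hcon
  apply h.star
  refine le_of_P2_P1 hK.toKBase hP ?_
  intro p hp
  have h1 := P2_comm (B := swap B) (m ^ 2) p hp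
  change Commute p (B.zs (rt (m ^ 2))) at h1
  rw [rt_sq] at h1
  exact memN h hmJ (two_of_isU (isU_zs m)) (zs_ne hm) h1

/-- **Lemma F.** -/
theorem root2 (hF : 4 ≤ Nat.card F) (hK : KCent B K) (h : Fr K L Q R) {r : F} (hr : r ≠ 0)
    (hJ : B.zl r ∈ centralizer (L : Set G)) (hc : ∀ x ∈ R, Commute x (B.zl r)) : False := by
  have hP : P2 B ≤ normalizer (L : Set G) := fun p hp =>
    memN h hJ (two_of_isU (isU_zl r)) (zl_ne hr) (P2_comm r p hp)
  have hcom : ∀ p ∈ P2 B, ∀ x ∈ R, Commute p x := by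
    intro p hp x hx
    refine comm_of_comm_mem hF hK.toKBase ?_ p hp
    intro p hp
    obtain ⟨h1, h2⟩ := commutator_mem (K := K) (L := L) (P2_le hK.toKBase hp) (hP hp) (h.fp.sylU.le hx)
      (h.leR hx)
    have h3 : Commute (p * x * p⁻¹ * x⁻¹) (B.zl r) :=
      (((P2_comm r p hp).mul_left (hc x hx)).mul_left (P2_comm r p hp).inv_left).mul_left (hc x hx).inv_left
    exact rootE hF hK h hP (mem_P2 hK h1 hr h3) h2
  have h1 := h.envL.maxK h.fp.sylU (P2 B) (P2_perfect hF hK.toKBase) (P2_two hK.toKBase) hcom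
  exact zl_ne hr (h.envL.cen _ (h1 (SpFourPar.zl_mem r)) hJ)

/-- **Lemma F**, short roots -/
theorem root2s (hF : 4 ≤ Nat.card F) (hK : KCent B K) (h : Fr K L Q R) {r : F} (hr : r ≠ 0)
    (hJ : B.zs r ∈ centralizer (L : Set G)) (hc : ∀ x ∈ R, Commute x (B.zs r)) : False := by
  have e : (swap B).zl (r ^ 2) = B.zs r := by
    show B.zs (rt (r ^ 2)) = _
    rw [rt_sq]
  refine root2 (B := swap B) hF (KCent.swap hK) h (r := r ^ 2) (pow_ne_zero 2 hr) ?_ ?_
  · rw [e]; exact hJ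
  · rw [e]; exact hc

/-! ### A mixed element in `C(L)` -/

section Mix

variable {m n : F}

/-- no long root elements in `C(L)` -/
theorem noL (hF : 4 ≤ Nat.card F) (hK : KCent B K) (h : Fr K L Q R) (hm : m ≠ 0)
    (hw : B.zs m * B.zl n ∈ centralizer (L : Set G)) {r : F} (hr : B.zl r ∈ centralizer (L : Set G)) : r = 0 := by
  by_contra h0
  have hP : P2 B ≤ normalizer (L : Set G) := fun p hp =>
    memN h hr (two_of_isU (isU_zl r)) (zl_ne h0) (P2_comm r p hp)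
  obtain ⟨c, hc⟩ := rootE hF hK h hP (SpFourPar.isU_mem (isU_z m n)) hw
  rw [z_eq, zl_eq] at hc
  exact hm (nf_inj hc).2.2.1

/-- no short root elements in `C(L)` -/
theorem noS (hF : 4 ≤ Nat.card F) (hK : KCent B K) (h : Fr K L Q R) (hn : n ≠ 0)
    (hw : B.zs m * B.zl n ∈ centralizer (L : Set G)) {r : F} (hr : B.zs r ∈ centralizer (L : Set G)) : r = 0 := by
  have h1 : r ^ 2 = 0 := by
    apply noL (B := swap B) (m := n) (n := m ^ 2) hF (KCent.swap hK) h hn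
    · show B.zl n * B.zs (rt (m ^ 2)) ∈ _
      rw [rt_sq, ← (B.zs_zl m n).eq]; exact hw
    · show B.zs (rt (r ^ 2)) ∈ _
      rw [rt_sq]; exact hr
  exact pow_eq_zero_iff two_ne_zero |>.1 h1

/-- `U ≤ N(L)` -/
theorem memU (h : Fr K L Q R) (hm : m ≠ 0) (hw : B.zs m * B.zl n ∈ centralizer (L : Set G)) {v : G}
    (hv : IsU B v) : v ∈ normalizer (L : Set G) := by
  refine memN h hw (two_of_isU (isU_z m n)) ?_ (z_comm hv m n)
  intro h1
  rw [z_eq] at h1
  exact hm (nf_one h1).2.2.1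

/-- `na ∉ N(L)` -/
theorem naN (hF : 4 ≤ Nat.card F) (hK : KCent B K) (h : Fr K L Q R) (hm : m ≠ 0) (hn : n ≠ 0)
    (hw : B.zs m * B.zl n ∈ centralizer (L : Set G)) : B.na ∉ normalizer (L : Set G) := by
  intro hna
  -- the key calculation
  have key : ∀ {m n : F}, m ≠ 0 → n ≠ 0 → B.zs m * B.zl n ∈ centralizer (L : Set G) →
      m = n ∧ ∀ c, nf B 0 0 (c * n) (c ^ 2 * n) ∈ centralizer (L : Set G) := by
    intro m n hm hn hw
    have h1 := centralizer_conj_mem hna hw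
    rw [mul_conj, na_zs', na_zl'] at h1
    have h2 : B.zs m * B.xb n = nf B 0 n m 0 := by
      rw [zs_eq, xb_eq, nf_mul]
      congr 1 <;> ring
    rw [h2] at h1
    have h3 : ∀ c, nf B 0 0 (c * n) (c ^ 2 * n) ∈ centralizer (L : Set G) := by
      intro c
      have h4 := centralizer_conj_mem (memU h hm hw (isU_xa c)) h1
      rw [xa_eq, nf_conj] at h4
      have h5 := (centralizer (L : Set G)).mul_mem h1 h4
      rw [nf_mul] at h5
      have e : nf B (0 + 0) (n + n) (m + (m + (0 * 0 + c * n)) + 0 * n) (0 + (0 + (0 ^ 2 * 0 + c ^ 2 * n)) + 0 ^ 2 * n) =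
          nf B 0 0 (c * n) (c ^ 2 * n) := by
        have h2 : (2 : F) = 0 := CharTwo.two_eq_zero
        congr 1
        · ring
        · exact CharTwo.add_self_eq_zero n
        · linear_combination m * h2
        · ring
      rwa [e] at h5
    refine ⟨?_, h3⟩
    have h4 := (centralizer (L : Set G)).mul_mem hw (h3 1)
    rw [z_eq, nf_mul] at h4
    have e : nf B (0 + 0) (0 + 0) (m + 1 * n + 0 * 0) (n + 1 ^ 2 * n + 0 ^ 2 * 0) = B.zs (m + n) := by
      have h2 : (2 : F) = 0 := CharTwo.two_eq_zero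
      rw [zs_eq]
      congr 1
      · ring
      · ring
      · ring
      · linear_combination n * h2
    rw [e] at h4
    exact FieldAux.eq_of_add_eq_zero (noS hF hK h hn hw h4)
  obtain ⟨_, h1⟩ := key hm hn hw
  obtain ⟨c, hc0, hc1⟩ := exists_ne_ne hF (1 : F)
  have h2 := h1 c
  rw [← z_eq] at h2
  obtain ⟨h3, _⟩ := key (mul_ne_zero hc0 hn) (mul_ne_zero (pow_ne_zero 2 hc0) hn) h2
  apply hc1
  have h4 : c * n * (c + 1) = 0 := by
    have h2 : (2 : F) = 0 := CharTwo.two_eq_zero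
    linear_combination -h3 + c * n * h2
  rcases mul_eq_zero.1 h4 with h5 | h5
  · exact absurd h5 (mul_ne_zero hc0 hn)
  · exact FieldAux.eq_of_add_eq_zero h5

/-- `nb ∉ N(L)` -/
theorem nbN (hF : 4 ≤ Nat.card F) (hK : KCent B K) (h : Fr K L Q R) (hm : m ≠ 0) (hn : n ≠ 0)
    (hw : B.zs m * B.zl n ∈ centralizer (L : Set G)) : B.nb ∉ normalizer (L : Set G) := by
  apply naN (B := swap B) (m := n) (n := m ^ 2) hF (KCent.swap hK) h hn (pow_ne_zero 2 hm)
  show B.zl n * B.zs (rt (m ^ 2)) ∈ _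
  rw [rt_sq, ← (B.zs_zl m n).eq]; exact hw

end Mix

/-- if the centralizer in `K` of an element of `V₁ ∖ Z` lies in `N ≥ U` then `na ∈ N` -/
theorem na_mem_of (hK : KBase B K) {N : Subgroup G} (hU : ∀ v, IsU B v → v ∈ N) {s m r : F} (hs : s ≠ 0)
    (hc : ∀ y ∈ K, Commute y (nf B 0 s m r) → y ∈ N) : B.na ∈ N := by
  obtain ⟨c, m', e⟩ := exists_conj_V1 (B := B) m r hs
  have h1 : (B.na * B.xa c)⁻¹ * B.xa 1 * (B.na * B.xa c) ∈ N := by
    apply hc
    · exact K.mul_mem (K.mul_mem (K.inv_mem (K.mul_mem hK.na_mem (hK.xa_mem c))) (hK.xa_mem 1))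
        (K.mul_mem hK.na_mem (hK.xa_mem c))
    · have h2 := (z_comm (isU_xa (B := B) 1) m' s).eq
      rw [← e] at h2
      show (B.na * B.xa c)⁻¹ * B.xa 1 * (B.na * B.xa c) * nf B 0 s m r =
        nf B 0 s m r * ((B.na * B.xa c)⁻¹ * B.xa 1 * (B.na * B.xa c))
      calc (B.na * B.xa c)⁻¹ * B.xa 1 * (B.na * B.xa c) * nf B 0 s m r
          = (B.na * B.xa c)⁻¹ * (B.xa 1 * (B.na * B.xa c * nf B 0 s m r * (B.na * B.xa c)⁻¹)) * (B.na * B.xa c) := by
            group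
        _ = _ := by rw [h2]; group
  have h2 : B.na⁻¹ * B.xa 1 * B.na ∈ N := by
    have h3 := N.mul_mem (N.mul_mem (hU _ (isU_xa c)) h1) (N.inv_mem (hU _ (isU_xa c)))
    have e2 : B.xa c * ((B.na * B.xa c)⁻¹ * B.xa 1 * (B.na * B.xa c)) * (B.xa c)⁻¹ = B.na⁻¹ * B.xa 1 * B.na := by
      group
    rwa [e2] at h3
  have hna : B.na⁻¹ = B.na := inv_eq_of_mul_eq_one_right hK.na_sq
  have h3 : B.na * B.xa 1 * B.na⁻¹ ∈ N := by
    rw [hna]
    rw [hna] at h2
    exact h2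
  rw [hK.na_eq]
  exact N.mul_mem (N.mul_mem (hU _ (isU_xa 1)) h3) (hU _ (isU_xa 1))

theorem swap_nf (u m r : F) : nf B u 0 m r = nf (swap B) 0 (u ^ 2) r (m ^ 2) := by
  unfold nf
  show _ = B.xb 0 * B.xa (rt (u ^ 2)) * B.zl r * B.zs (rt (m ^ 2))
  rw [rt_sq, rt_sq, B.xb_zero, mul_one, one_mul, mul_assoc, (B.zs_zl m r).eq, ← mul_assoc]

/-- the dual statement -/
theorem nb_mem_of (hK : KBase B K) {N : Subgroup G} (hU : ∀ v, IsU B v → v ∈ N) {u m r : F} (hu : u ≠ 0)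
    (hc : ∀ y ∈ K, Commute y (nf B u 0 m r) → y ∈ N) : B.nb ∈ N := by
  refine na_mem_of (B := swap B) (KBase.swap hK) (fun v hv => hU v (isU_swap.1 hv)) (s := u ^ 2) (m := r)
    (r := m ^ 2) (pow_ne_zero 2 hu) ?_
  rw [← swap_nf]
  exact hc

/-- an automorphism trivial on `U/Z` is trivial on `Z` -/
theorem comm_Z (hF : 4 ≤ Nat.card F) {x : G} (hx : ∀ v, IsU B v → ∃ m r, x * v * x⁻¹ = B.zs m * B.zl r * v) :
    (∀ m, Commute x (B.zs m)) ∧ ∀ r, Commute x (B.zl r) := by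
  have h1 : ∀ u s, x * nf B 0 0 (u * s) (u ^ 2 * s) * x⁻¹ = nf B 0 0 (u * s) (u ^ 2 * s) := by
    intro u s
    obtain ⟨m, r, e⟩ := hx _ (isU_xa u)
    obtain ⟨m', r', e'⟩ := hx _ (isU_xb s)
    have e1 : nf B 0 0 (u * s) (u ^ 2 * s) = B.xa u * B.xb s * (B.xa u)⁻¹ * (B.xb s)⁻¹ := by
      rw [xa_eq, xb_eq, nf_comm]
      congr 1 <;> ring
    have e2 : B.zs m * B.zl r * B.xa u * (B.zs m' * B.zl r' * B.xb s) * (B.zs m * B.zl r * B.xa u)⁻¹ *
        (B.zs m' * B.zl r' * B.xb s)⁻¹ = B.xa u * B.xb s * (B.xa u)⁻¹ * (B.xb s)⁻¹ := by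
      rw [z_eq, z_eq, xa_eq, xb_eq, nf_mul, nf_mul, nf_comm, nf_comm]
      congr 1 <;> ring
    calc x * nf B 0 0 (u * s) (u ^ 2 * s) * x⁻¹
        = (x * B.xa u * x⁻¹) * (x * B.xb s * x⁻¹) * (x * B.xa u * x⁻¹)⁻¹ * (x * B.xb s * x⁻¹)⁻¹ := by
          rw [e1]; group
      _ = _ := by rw [e, e', e2, ← e1]
  obtain ⟨c, hc0, hc1⟩ := exists_ne_ne hF (1 : F)
  have hc : (1 : F) + c ≠ 0 := fun h => hc1 (FieldAux.eq_of_add_eq_zero h).symm
  have hl : ∀ r, x * B.zl r * x⁻¹ = B.zl r := by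
    intro r
    have h2 := h1 1 (r * (1 + c)⁻¹)
    have h3 := h1 c (r * (1 + c)⁻¹ * c⁻¹)
    have e : B.zl r = nf B 0 0 (1 * (r * (1 + c)⁻¹)) (1 ^ 2 * (r * (1 + c)⁻¹)) *
        nf B 0 0 (c * (r * (1 + c)⁻¹ * c⁻¹)) (c ^ 2 * (r * (1 + c)⁻¹ * c⁻¹)) := by
      have h2 : (2 : F) = 0 := CharTwo.two_eq_zero
      rw [nf_mul, zl_eq]
      congr 1
      · ring
      · ring
      · field_simp
        linear_combination (-r) * h2
      · field_simp
        ring
    rw [e, mul_conj, h2, h3]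
  have hs : ∀ m, x * B.zs m * x⁻¹ = B.zs m := by
    intro m
    have h2 := h1 1 m
    have e : B.zs m = nf B 0 0 (1 * m) (1 ^ 2 * m) * B.zl m := by
      rw [zl_eq, nf_mul, zs_eq]
      congr 1
      · ring
      · ring
      · ring
      · rw [one_pow, one_mul, CharTwo.add_self_eq_zero]; ring
    rw [e, mul_conj, h2, hl]
  exact ⟨fun m => mul_inv_eq_iff_eq_mul.1 (hs m), fun r => mul_inv_eq_iff_eq_mul.1 (hl r)⟩

/-- the `C(K)`-component of an element of `R` lies in `Q` -/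
theorem mem_Q (h : Fr K L Q R) {x v c : G} (hx : x ∈ R) (hv : v ∈ K) (hc : c ∈ centralizer (K : Set G))
    (e : x = v * c) : c ∈ Q := by
  obtain ⟨k, hk⟩ := h.two hx
  refine mem_of_comm_syl h.fp.sylQ hc ⟨k, ?_⟩ ?_
  · exact pow_eq_one_of_decomp h.env.cen hv hc e hk
  · intro t ht
    exact comm_of_decomp hv e (h.fp.sylQ.le ht) (h.fp.comm t ht x hx).symm

/-- **the mixed case** -/
theorem typM_of (hF : 4 ≤ Nat.card F) (hK : KCent B K) (hA : KAut B K) (h : Fr K L Q R) {m n : F} (hm : m ≠ 0)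
    (hn : n ≠ 0) (hw : B.zs m * B.zl n ∈ centralizer (L : Set G)) (hc : ∀ x ∈ R, Commute x (B.zs m * B.zl n)) :
    TypM B Q R := by
  have hU : ∀ v, IsU B v → v ∈ normalizer (L : Set G) := fun v hv => memU h hm hw hv
  have hUK : ∀ {v}, IsU B v → v ∈ K := fun hv => P2_le hK.toKBase (SpFourPar.isU_mem hv)
  have hna := naN hF hK h hm hn hw
  have hnb := nbN hF hK h hm hn hw
  -- `U ∩ C(L) ≤ Z`
  have hZ : ∀ v, IsU B v → v ∈ centralizer (L : Set G) → ∃ m r, v = B.zs m * B.zl r := by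
    rintro _ ⟨u, s, m', r, rfl⟩ hv
    change nf B u s m' r ∈ _ at hv
    have hinv : ¬ (u ≠ 0 ∧ s ≠ 0) := by
      rintro ⟨hu, hs⟩
      obtain ⟨y, e, hy, he, hye⟩ := exists_comm_zl (B := B) (exists_ne_ne hF) m' r hu hs
      have h1 : nf B u s m' r * y * (nf B u s m' r)⁻¹ * y⁻¹ ∈ centralizer (L : Set G) := by
        have h2 := (centralizer (L : Set G)).mul_mem hv
          (centralizer_conj_mem (hU y hy) ((centralizer (L : Set G)).inv_mem hv))
        have e2 : nf B u s m' r * (y * (nf B u s m' r)⁻¹ * y⁻¹) = nf B u s m' r * y * (nf B u s m' r)⁻¹ * y⁻¹ := by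
          group
        rwa [e2] at h2
      rw [hye] at h1
      exact he (noL hF hK h hm hw h1)
    by_cases hs : s = 0
    · by_cases hu : u = 0
      · subst hs hu
        exact ⟨m', r, by rw [z_eq]; rfl⟩
      · exfalso
        subst hs
        apply hnb
        refine nb_mem_of hK.toKBase hU hu (m := m') (r := r) ?_
        intro y _ hy
        refine memN h hv (two_of_isU (isU_nf _ _ _ _)) ?_ hy
        intro h1; exact hu (nf_one h1).1
    · have hu : u = 0 := by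
        by_contra hu
        exact hinv ⟨hu, hs⟩
      exfalso
      subst hu
      apply hna
      refine na_mem_of hK.toKBase hU hs (m := m') (r := r) ?_
      intro y _ hy
      refine memN h hv (two_of_isU (isU_nf _ _ _ _)) ?_ hy
      intro h1; exact hs (nf_one h1).2.1
  -- action of `R` on `U`
  have hRU : ∀ x ∈ R, ∀ v, IsU B v → IsU B (x * v * x⁻¹) := by
    intro x hx v hv
    apply hK.cent_m _ ((mem_normalizer_iff.mp (h.leR hx) v).mp (hUK hv)) m n hm hn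
    have h1 := hc x hx
    have h2 := z_comm hv m n
    exact (h1.mul_left h2).mul_left h1.inv_left
  have hcomm : ∀ x ∈ R, ∀ v, IsU B v → v * x * v⁻¹ * x⁻¹ ∈ centralizer (L : Set G) ∧ IsU B (v * x * v⁻¹ * x⁻¹) := by
    intro x hx v hv
    obtain ⟨_, h2⟩ := commutator_mem (K := K) (L := L) (hUK hv) (hU v hv) (h.fp.sylU.le hx) (h.leR hx)
    refine ⟨h2, ?_⟩
    have h3 := IsU.mul hv (hRU x hx v⁻¹ (IsU.inv hv))
    have e : v * (x * v⁻¹ * x⁻¹) = v * x * v⁻¹ * x⁻¹ := by group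
    rwa [e] at h3
  intro x hx hx1
  have hxZ := comm_Z (B := B) hF (x := x) (by
    intro v hv
    obtain ⟨h1, h2⟩ := hcomm x hx v⁻¹ (IsU.inv hv)
    obtain ⟨m', r', e⟩ := hZ _ h2 h1
    refine ⟨m', r', ?_⟩
    have h3 := (z_comm hv m' r').eq
    calc x * v * x⁻¹ = v * (v⁻¹ * x * v⁻¹⁻¹ * x⁻¹) := by group
      _ = _ := by rw [e, h3])
  obtain ⟨u, s, m', r, hv⟩ := hA x (h.leR hx) hxZ.1 hxZ.2
  change ∀ y ∈ K, Commute ((nf B u s m' r)⁻¹ * x) y at hv
  obtain ⟨c, hcdef⟩ : ∃ c, c = (nf B u s m' r)⁻¹ * x := ⟨_, rfl⟩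
  rw [← hcdef] at hv
  have hcC : c ∈ centralizer (K : Set G) := by
    rw [mem_centralizer_iff]
    intro y hy
    exact (hv y hy).symm.eq
  have hxe : x = nf B u s m' r * c := by rw [hcdef]; group
  have hvK : nf B u s m' r ∈ K := hUK (isU_nf _ _ _ _)
  have hcQ := mem_Q h hx hvK hcC hxe
  -- elements of `K` commuting with `v` lie in `N(L)`
  have hcen : ∀ y ∈ K, Commute y (nf B u s m' r) → y ∈ normalizer (L : Set G) := by
    intro y hy hyv
    apply h.mem hx hx1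
    rw [hxe]
    exact (hyv.mul_right (hv y hy).symm).eq
  have hinv : ¬ (u ≠ 0 ∧ s ≠ 0) := by
    rintro ⟨hu, hs⟩
    obtain ⟨y, e, hy, he, hye⟩ := exists_comm_zl (B := B) (exists_ne_ne hF) m' r hu hs
    obtain ⟨h1, _⟩ := hcomm x hx y hy
    have h2 := (hv y (hUK hy)).eq
    have h3 : (y * x * y⁻¹ * x⁻¹)⁻¹ = B.zl e := by
      have h4 : c * y⁻¹ * c⁻¹ = y⁻¹ := by
        have : c * y⁻¹ = y⁻¹ * c := ((hv y (hUK hy)).inv_right).eq
        rw [this]; group
      rw [← hye, hxe]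
      calc (y * (nf B u s m' r * c) * y⁻¹ * (nf B u s m' r * c)⁻¹)⁻¹
          = (y * nf B u s m' r * (c * y⁻¹ * c⁻¹) * (nf B u s m' r)⁻¹)⁻¹ := by group
        _ = _ := by rw [h4]; group
    have h4 := (centralizer (L : Set G)).inv_mem h1
    rw [h3] at h4
    exact he (noL hF hK h hm hw h4)
  have hs0 : s = 0 := by
    by_contra hs
    have hu : u = 0 := by
      by_contra hu
      exact hinv ⟨hu, hs⟩
    subst hu
    exact hna (na_mem_of hK.toKBase hU hs hcen)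
  have hu0 : u = 0 := by
    by_contra hu
    subst hs0
    exact hnb (nb_mem_of hK.toKBase hU hu hcen)
  subst hs0 hu0
  have hz : nf B 0 0 m' r = B.zs m' * B.zl r := (z_eq m' r).symm
  have hr0 : r ≠ 0 := by
    rintro rfl
    by_cases hm0 : m' = 0
    · subst hm0
      rw [nf_zero, one_mul] at hxe
      exact hx1 (h.eq_one (hxe ▸ hcC) (h.fp.sylU.le hx) (h.two hx))
    · -- short root element
      have hP : P2 (swap B) ≤ normalizer (L : Set G) := by
        intro p hp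
        apply hcen p (P2_le (KBase.swap hK.toKBase) hp)
        have h1 := P2_comm (B := swap B) (m' ^ 2) p hp
        change Commute p (B.zs (rt (m' ^ 2))) at h1
        rw [rt_sq] at h1
        rw [← zs_eq]; exact h1
      obtain ⟨c', hc'⟩ := rootE (B := swap B) hF (KCent.swap hK) h hP
        (SpFourPar.isU_mem (isU_swap.2 (isU_z m n))) hw
      change _ = B.zs (rt c') at hc'
      rw [z_eq, zs_eq] at hc'
      exact hn (nf_inj hc').2.2.2
  have hm0 : m' ≠ 0 := by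
    rintro rfl
    have hP : P2 B ≤ normalizer (L : Set G) := by
      intro p hp
      apply hcen p (P2_le hK.toKBase hp)
      rw [← zl_eq]; exact P2_comm r p hp
    obtain ⟨c', hc'⟩ := rootE hF hK h hP (SpFourPar.isU_mem (isU_z m n)) hw
    rw [z_eq, zl_eq] at hc'
    exact hm (nf_inj hc').2.2.1
  refine ⟨c, hcQ, m', r, hm0, hr0, ?_⟩
  rw [hxe, hz]
  rw [hz] at hvK
  exact (hv _ hvK).symm.eq

/-- every involution of `K` is conjugate into `Z` -/
theorem inv_conj (hK : KCent B K) {x : G} (hx : x ∈ K) (h2 : x * x = 1) (h1 : x ≠ 1) :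
    ∃ k ∈ K, ∃ m r, (m ≠ 0 ∨ r ≠ 0) ∧ k * x * k⁻¹ = B.zs m * B.zl r := by
  have hne : ∀ {k : G} {m r : F}, k * x * k⁻¹ = B.zs m * B.zl r → m ≠ 0 ∨ r ≠ 0 := by
    intro k m r e
    by_contra hcon
    push Not at hcon
    obtain ⟨rfl, rfl⟩ := hcon
    rw [B.zs_zero, B.zl_zero, one_mul] at e
    apply h1
    calc x = k⁻¹ * (k * x * k⁻¹) * k := by group
      _ = 1 := by rw [e]; group
  obtain ⟨k, hk, hkx⟩ := hK.syl (zpowers x) (by rw [zpowers_le]; exact hx)
    (isPGroup_zpowers ⟨1, by rw [pow_one, pow_two, h2]⟩)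
  obtain ⟨u, s, m, r, e⟩ := hkx x (mem_zpowers x)
  change k * x * k⁻¹ = nf B u s m r at e
  have h3 : nf B u s m r * nf B u s m r = 1 := by
    rw [← e]
    calc k * x * k⁻¹ * (k * x * k⁻¹) = k * (x * x) * k⁻¹ := by group
      _ = 1 := by rw [h2]; group
  by_cases hs : s = 0
  · subst hs
    by_cases hu : u = 0
    · subst hu
      rw [← z_eq] at e
      exact ⟨k, hk, m, r, hne e, e⟩
    · rw [swap_nf] at e
      obtain ⟨c, m', e'⟩ := exists_conj_V1 (B := swap B) r (m ^ 2) (pow_ne_zero 2 hu)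
      have e2 : (B.nb * B.xb c) * k * x * (B.nb * B.xb c * k)⁻¹ = B.zs u * B.zl m' := by
        have e3 : B.nb * B.xb c * nf (swap B) 0 (u ^ 2) r (m ^ 2) * (B.nb * B.xb c)⁻¹ =
            B.zl m' * B.zs (rt (u ^ 2)) := e'
        rw [rt_sq, ← e] at e3
        rw [(B.zs_zl u m').eq, ← e3]
        group
      exact ⟨B.nb * B.xb c * k, K.mul_mem (K.mul_mem hK.nb_mem (hK.xb_mem c)) hk, u, m', hne e2, e2⟩
  · have hu : u = 0 := by
      rcases inv_U h3 with h | h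
      · exact h
      · exact absurd h hs
    subst hu
    obtain ⟨c, m', e'⟩ := exists_conj_V1 (B := B) m r hs
    have e2 : (B.na * B.xa c) * k * x * (B.na * B.xa c * k)⁻¹ = B.zs m' * B.zl s := by
      rw [← e', ← e]; group
    exact ⟨B.na * B.xa c * k, K.mul_mem (K.mul_mem hK.na_mem (hK.xa_mem c)) hk, m', s, hne e2, e2⟩

/-- **frames with `R ∩ K ≠ 1`** -/
theorem hasTyp_of_inf (hF : 4 ≤ Nat.card F) (hK : KCent B K) (hA : KAut B K) (h : Fr K L Q R)
    (hne : ∃ x ∈ R, x ∈ K ∧ x ≠ 1) : HasTyp B K Q R := by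
  obtain ⟨x, hxR, hxK, hx1⟩ := hne
  obtain ⟨w, ⟨hwR, hwK⟩, hw2, hwc⟩ := exists_central_invol (T := R) (N := R ⊓ K) h.fp.sylU.two inf_le_left
    (by
      intro h1
      apply hx1
      have : x ∈ R ⊓ K := ⟨hxR, hxK⟩
      rwa [h1, mem_bot] at this)
    (by
      rintro t ht n ⟨hn, hnK⟩
      exact ⟨R.mul_mem (R.mul_mem ht hn) (R.inv_mem ht), (mem_normalizer_iff.mp (h.leR ht) n).mp hnK⟩)
  have hww : w * w = 1 := by rw [← pow_two, ← hw2, pow_orderOf_eq_one]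
  have hw1 : w ≠ 1 := by
    rintro rfl
    rw [orderOf_one] at hw2
    exact absurd hw2 (by norm_num)
  obtain ⟨k, hk, m, r, hmr, e⟩ := inv_conj hK hwK hww hw1
  have h' := h.conj hk
  have hwJ : k * w * k⁻¹ ∈ centralizer ((cj k L : Subgroup G) : Set G) := h'.fp.sylU.le (mem_cj_mul hwR)
  have hwc' : ∀ x ∈ cj k R, Commute x (k * w * k⁻¹) := by
    intro x hx
    rw [mem_cj] at hx
    have h1 := hwc _ hx
    show x * (k * w * k⁻¹) = k * w * k⁻¹ * x
    calc x * (k * w * k⁻¹) = k * ((k⁻¹ * x * k) * w) * k⁻¹ := by group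
      _ = _ := by rw [h1]; group
  rw [e] at hwJ hwc'
  refine ⟨k, hk, ?_⟩
  by_cases hm : m = 0
  · exfalso
    subst hm
    rw [B.zs_zero, one_mul] at hwJ hwc'
    have hr : r ≠ 0 := by
      rcases hmr with h | h
      · exact absurd rfl h
      · exact h
    exact root2 hF hK h' hr hwJ hwc'
  · by_cases hr : r = 0
    · exfalso
      subst hr
      rw [B.zl_zero, mul_one] at hwJ hwc'
      exact root2s hF hK h' hm hwJ hwc'
    · right; right
      exact typM_of hF hK hA h' hm hr hwJ hwc'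

end Cfsg.Agent.OddHalf.D4.SpFourTOneA
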