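import Mathlib
import Cfsg.Agent.OddHalf.D4.SpFourTOneA
import Cfsg.Agent.StdRank2.OutField

/-!
# ODD D4, `K = Sp₄(q)`: automorphisms of `K` normalising `U`

An element of `N(K) ∩ N(U)` preserves `{Z_s, Z_l}`; if it fixes `Z_s` and `Z_l` it acts semilinearly. One of the
involutions of a four-group acting on `U`, all of whose involutions have the same centralizer in `U`, centralizes `Z`.
-/

set_option autoImplicit false
set_option linter.unusedSectionVars false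

namespace Cfsg.Agent.OddHalf.D4.SpFourFld

open Cfsg.Agent.StdSpFour Subgroup Cfsg.Agent.OddHalf.D4 Cfsg.Agent.OddHalf.D4.Basic
open Cfsg.Agent.StdSpFour.Swap (rt rt_sq sq_rt rt_zero rt_eq_zero swap)
open Cfsg.Agent.OddHalf.D4.SpFourDefs Cfsg.Agent.OddHalf.D4.SpFourCent
open Cfsg.Agent.OddHalf.D4.SpFourU Cfsg.Agent.OddHalf.D4.SpFourFr Cfsg.Agent.OddHalf.D4.SpFourTyp
open Cfsg.Agent.OddHalf.D4.SpFourPar (P2 P2_le P2_comm mem_P2 exists_ne_ne P2_perfect P2_two P2_V2 exists_zs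
  comm_of_comm_mem le_of_P2_P1)

variable {F G : Type*} [Field F] [CharP F 2] [Finite F] [Group G]

/-- elements of `N(K) ∩ N(U)` -/
structure NU (B : Base F G) (K : Subgroup G) (θ : G) : Prop where
  mem : ∀ x, x ∈ K ↔ θ * x * θ⁻¹ ∈ K
  u : ∀ v, IsU B v ↔ IsU B (θ * v * θ⁻¹)

variable {B : Base F G} {K : Subgroup G} {θ θ' : G}

theorem NU.inv (h : NU B K θ) : NU B K θ⁻¹ where
  mem := by
    intro x
    rw [h.mem (θ⁻¹ * x * θ⁻¹⁻¹)]
    have e : θ * (θ⁻¹ * x * θ⁻¹⁻¹) * θ⁻¹ = x := by group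
    rw [e]
  u := by
    intro x
    rw [h.u (θ⁻¹ * x * θ⁻¹⁻¹)]
    have e : θ * (θ⁻¹ * x * θ⁻¹⁻¹) * θ⁻¹ = x := by group
    rw [e]

theorem NU.mul (h : NU B K θ) (h' : NU B K θ') : NU B K (θ * θ') where
  mem := by
    intro x
    rw [h'.mem x, h.mem]
    have e : θ * (θ' * x * θ'⁻¹) * θ⁻¹ = θ * θ' * x * (θ * θ')⁻¹ := by group
    rw [e]
  u := by
    intro x
    rw [h'.u x, h.u]
    have e : θ * (θ' * x * θ'⁻¹) * θ⁻¹ = θ * θ' * x * (θ * θ')⁻¹ := by group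
    rw [e]

theorem NU.swap (h : NU B K θ) : NU (swap B) K θ :=
  ⟨h.mem, fun v => by rw [isU_swap, isU_swap]; exact h.u v⟩

theorem comm_conj {x y : G} (h : Commute x y) : Commute (θ * x * θ⁻¹) (θ * y * θ⁻¹) := by
  show θ * x * θ⁻¹ * (θ * y * θ⁻¹) = θ * y * θ⁻¹ * (θ * x * θ⁻¹)
  calc θ * x * θ⁻¹ * (θ * y * θ⁻¹) = θ * (x * y) * θ⁻¹ := by group
    _ = _ := by rw [h.eq]; group

/-- `Z` is invariant -/
theorem NU.z (h : NU B K θ) (m r : F) : ∃ m' r', θ * (B.zs m * B.zl r) * θ⁻¹ = B.zs m' * B.zl r' := by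
  have h1 : ∀ v, IsU B v → Commute (θ * (B.zs m * B.zl r) * θ⁻¹) v := by
    intro v hv
    have h2 : IsU B (θ⁻¹ * v * θ⁻¹⁻¹) := (h.inv.u v).1 hv
    have h3 := comm_conj (θ := θ) (z_comm h2 m r).symm
    have e : θ * (θ⁻¹ * v * θ⁻¹⁻¹) * θ⁻¹ = v := by group
    rwa [e] at h3
  exact center_U ((h.u _).1 (isU_z m r)) (h1 _ (isU_xa 1)) (h1 _ (isU_xb 1))

theorem na_notU (hK : KCent B K) : ¬ IsU B B.na := by
  intro h
  have h1 := hK.na_xa 1 (IsU.mul (IsU.mul h (isU_xa 1)) (IsU.inv h))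
  exact one_ne_zero h1

/-- `Z_s ∪ Z_l` is invariant, first half -/
theorem NU.zs_or (h : NU B K θ) (hK : KCent B K) (m : F) :
    (∃ m', θ * B.zs m * θ⁻¹ = B.zs m') ∨ ∃ r', θ * B.zs m * θ⁻¹ = B.zl r' := by
  obtain ⟨m', r', e⟩ := h.z m 0
  rw [B.zl_zero, mul_one] at e
  by_cases hm : m' = 0
  · right
    subst hm
    exact ⟨r', by rw [e, B.zs_zero, one_mul]⟩
  · by_cases hr : r' = 0
    · left
      subst hr
      exact ⟨m', by rw [e, B.zl_zero, mul_one]⟩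
    · exfalso
      apply na_notU hK
      rw [h.u]
      apply hK.cent_m _ ((h.mem _).1 hK.na_mem) m' r' hm hr
      rw [← e]
      exact comm_conj (B.na_zs m)

theorem zs_inj {m m' : F} (h : B.zs m = B.zs m') : m = m' := by
  rw [zs_eq, zs_eq] at h
  exact (nf_inj h).2.2.1

theorem zl_inj {m m' : F} (h : B.zl m = B.zl m') : m = m' := by
  rw [zl_eq, zl_eq] at h
  exact (nf_inj h).2.2.2

theorem zs_zl_eq {m m' : F} (h : B.zs m = B.zl m') : m = 0 ∧ m' = 0 := by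
  rw [zs_eq, zl_eq] at h
  exact ⟨(nf_inj h).2.2.1, (nf_inj h).2.2.2.symm⟩

/-- `Z_s` is mapped onto `Z_s` or `Z_l` -/
theorem NU.perm_s (h : NU B K θ) (hK : KCent B K) :
    (∀ m, ∃ m', θ * B.zs m * θ⁻¹ = B.zs m') ∨ ∀ m, ∃ r', θ * B.zs m * θ⁻¹ = B.zl r' := by
  by_contra hcon
  push Not at hcon
  obtain ⟨⟨m1, h1⟩, ⟨m2, h2⟩⟩ := hcon
  obtain ⟨r1, e1⟩ : ∃ r', θ * B.zs m1 * θ⁻¹ = B.zl r' := by
    rcases h.zs_or hK m1 with ⟨m', e⟩ | e
    · exact absurd e (h1 m')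
    · exact e
  obtain ⟨m2', e2⟩ : ∃ m', θ * B.zs m2 * θ⁻¹ = B.zs m' := by
    rcases h.zs_or hK m2 with e | ⟨r', e⟩
    · exact e
    · exact absurd e (h2 r')
  have hr1 : r1 ≠ 0 := by
    rintro rfl
    apply h1 0
    rw [e1, B.zl_zero, B.zs_zero]
  have hm2 : m2' ≠ 0 := by
    rintro rfl
    apply h2 0
    rw [e2, B.zl_zero, B.zs_zero]
  have e3 : θ * B.zs (m2 + m1) * θ⁻¹ = B.zs m2' * B.zl r1 := by
    rw [B.zs_add, mul_conj, e1, e2]
  rcases h.zs_or hK (m2 + m1) with ⟨m', e⟩ | ⟨m', e⟩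
  · rw [e3, z_eq, zs_eq] at e
    exact hr1 (nf_inj e).2.2.2
  · rw [e3, z_eq, zl_eq] at e
    exact hm2 (nf_inj e).2.2.1

theorem NU.perm_l (h : NU B K θ) (hK : KCent B K) :
    (∀ m, ∃ m', θ * B.zl m * θ⁻¹ = B.zl m') ∨ ∀ m, ∃ r', θ * B.zl m * θ⁻¹ = B.zs r' := by
  rcases h.swap.perm_s (KCent.swap hK) with h1 | h1
  · exact Or.inl h1
  · right
    intro m
    obtain ⟨r', e⟩ := h1 m
    exact ⟨rt r', e⟩

/-- `θ` fixes `Z_s` and `Z_l` -/
def Pres (B : Base F G) (θ : G) : Prop :=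
  (∀ m, ∃ m', θ * B.zs m * θ⁻¹ = B.zs m') ∧ ∀ m, ∃ m', θ * B.zl m * θ⁻¹ = B.zl m'

/-- `θ` interchanges `Z_s` and `Z_l` -/
def Swp (B : Base F G) (θ : G) : Prop :=
  (∀ m, ∃ m', θ * B.zs m * θ⁻¹ = B.zl m') ∧ ∀ m, ∃ m', θ * B.zl m * θ⁻¹ = B.zs m'

theorem NU.perm (h : NU B K θ) (hK : KCent B K) : Pres B θ ∨ Swp B θ := by
  rcases h.perm_s hK with h1 | h1
  · rcases h.perm_l hK with h2 | h2
    · exact Or.inl ⟨h1, h2⟩
    · exfalso
      obtain ⟨b, hb⟩ := h2 1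
      obtain ⟨a, ha⟩ := h1 1
      have ha' : θ⁻¹ * B.zs a * θ⁻¹⁻¹ = B.zs 1 := by rw [← ha]; group
      have hb' : θ⁻¹ * B.zs b * θ⁻¹⁻¹ = B.zl 1 := by rw [← hb]; group
      rcases h.inv.perm_s hK with h3 | h3
      · obtain ⟨c, hc⟩ := h3 b
        rw [hb'] at hc
        exact one_ne_zero (zs_zl_eq hc.symm).2
      · obtain ⟨c, hc⟩ := h3 a
        rw [ha'] at hc
        exact one_ne_zero (zs_zl_eq hc).1
  · rcases h.perm_l hK with h2 | h2
    · exfalso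
      obtain ⟨b, hb⟩ := h2 1
      obtain ⟨a, ha⟩ := h1 1
      have ha' : θ⁻¹ * B.zl a * θ⁻¹⁻¹ = B.zs 1 := by rw [← ha]; group
      have hb' : θ⁻¹ * B.zl b * θ⁻¹⁻¹ = B.zl 1 := by rw [← hb]; group
      rcases h.inv.perm_l hK with h3 | h3
      · obtain ⟨c, hc⟩ := h3 a
        rw [ha'] at hc
        exact one_ne_zero (zs_zl_eq hc).1
      · obtain ⟨c, hc⟩ := h3 b
        rw [hb'] at hc
        exact one_ne_zero (zs_zl_eq hc.symm).2
    · exact Or.inr ⟨h1, h2⟩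

theorem Pres.mul (h : Pres B θ) (h' : Pres B θ') : Pres B (θ * θ') := by
  constructor
  · intro m
    obtain ⟨m1, e1⟩ := h'.1 m
    obtain ⟨m2, e2⟩ := h.1 m1
    refine ⟨m2, ?_⟩
    rw [← e2, ← e1]; group
  · intro m
    obtain ⟨m1, e1⟩ := h'.2 m
    obtain ⟨m2, e2⟩ := h.2 m1
    refine ⟨m2, ?_⟩
    rw [← e2, ← e1]; group

theorem Swp.mul (h : Swp B θ) (h' : Swp B θ') : Pres B (θ * θ') := by
  constructor
  · intro m
    obtain ⟨m1, e1⟩ := h'.1 m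
    obtain ⟨m2, e2⟩ := h.2 m1
    refine ⟨m2, ?_⟩
    rw [← e2, ← e1]; group
  · intro m
    obtain ⟨m1, e1⟩ := h'.2 m
    obtain ⟨m2, e2⟩ := h.1 m1
    refine ⟨m2, ?_⟩
    rw [← e2, ← e1]; group

/-- the inverse fixes `Z_l` -/
theorem Pres.inv_l (h : Pres B θ) (r : F) : ∃ r', θ⁻¹ * B.zl r * θ⁻¹⁻¹ = B.zl r' := by
  choose f hf using h.2
  have hinj : Function.Injective f := by
    intro a b hab
    apply zl_inj (B := B)
    have e1 := hf a
    rw [hab, ← hf b] at e1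
    calc B.zl a = θ⁻¹ * (θ * B.zl a * θ⁻¹) * θ := by group
      _ = B.zl b := by rw [e1]; group
  obtain ⟨r', hr'⟩ := (Finite.injective_iff_surjective.1 hinj) r
  refine ⟨r', ?_⟩
  rw [← hr', ← hf r']; group

/-- `V₂` is invariant -/
theorem NU.v2 (h : NU B K θ) (hK : KCent B K) (hP : Pres B θ) (u : F) :
    ∃ u' m r, θ * B.xa u * θ⁻¹ = nf B u' 0 m r := by
  obtain ⟨u', s', m, r, e⟩ := (h.u _).1 (isU_xa (B := B) u)
  change θ * B.xa u * θ⁻¹ = nf B u' s' m r at e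
  obtain ⟨r1, hr1⟩ := hP.inv_l 1
  have hr0 : r1 ≠ 0 := by
    rintro rfl
    rw [B.zl_zero] at hr1
    apply one_ne_zero (α := F)
    apply zl_inj (B := B)
    rw [B.zl_zero]
    calc B.zl 1 = θ * (θ⁻¹ * B.zl 1 * θ⁻¹⁻¹) * θ⁻¹ := by group
      _ = 1 := by rw [hr1]; group
  have h1 : θ⁻¹ * B.nb * θ⁻¹⁻¹ ∈ P2 B := by
    apply mem_P2 hK ((h.inv.mem _).1 hK.nb_mem) hr0
    rw [← hr1]
    exact comm_conj (B.nb_zl 1)
  obtain ⟨u2, m2, r2, e2⟩ := P2_V2 _ h1 u 0 0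
  rw [← xa_eq] at e2
  have h3 : IsU B (θ * (θ⁻¹ * B.nb * θ⁻¹⁻¹ * B.xa u * (θ⁻¹ * B.nb * θ⁻¹⁻¹)⁻¹) * θ⁻¹) := by
    rw [← h.u, e2]; exact isU_nf _ _ _ _
  have e3 : θ * (θ⁻¹ * B.nb * θ⁻¹⁻¹ * B.xa u * (θ⁻¹ * B.nb * θ⁻¹⁻¹)⁻¹) * θ⁻¹ =
      B.nb * (θ * B.xa u * θ⁻¹) * B.nb⁻¹ := by group
  rw [e3, e] at h3
  have e4 : B.nb * nf B u' s' m r * B.nb⁻¹ = B.zs u' * (B.nb * B.xb s' * B.nb⁻¹) * (B.xa m * B.zl r) := by
    unfold nf
    rw [mul_conj, mul_conj, mul_conj, nb_xa', nb_zs', nb_zl']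
    group
  rw [e4] at h3
  have h5 : IsU B (B.nb * B.xb s' * B.nb⁻¹) := by
    have h6 := IsU.mul (IsU.mul (IsU.inv (isU_zs (B := B) u')) h3) (IsU.inv (IsU.mul (isU_xa (B := B) m) (isU_zl r)))
    have e6 : (B.zs u')⁻¹ * (B.zs u' * (B.nb * B.xb s' * B.nb⁻¹) * (B.xa m * B.zl r)) * (B.xa m * B.zl r)⁻¹ =
        B.nb * B.xb s' * B.nb⁻¹ := by group
    rwa [e6] at h6
  have hs := hK.nb_xb s' h5
  subst hs
  exact ⟨u', m, r, e⟩

theorem Pres.swap (h : Pres B θ) : Pres (swap B) θ := by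
  refine ⟨h.2, ?_⟩
  intro m
  obtain ⟨m', e⟩ := h.1 (rt m)
  refine ⟨m' ^ 2, ?_⟩
  show θ * B.zs (rt m) * θ⁻¹ = B.zs (rt (m' ^ 2))
  rw [rt_sq]; exact e

theorem NU.v1 (h : NU B K θ) (hK : KCent B K) (hP : Pres B θ) (s : F) :
    ∃ s' m r, θ * B.xb s * θ⁻¹ = nf B 0 s' m r := by
  obtain ⟨u', m, r, e⟩ := h.swap.v2 (KCent.swap hK) hP.swap s
  refine ⟨u', rt r, m, ?_⟩
  change θ * B.xb s * θ⁻¹ = B.xb u' * B.xa (rt 0) * B.zl m * B.zs (rt r) at e
  rw [e, rt_zero, B.xa_zero, mul_one, mul_assoc, ← (B.zs_zl (rt r) m).eq]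
  unfold nf
  rw [B.xa_zero, one_mul, mul_assoc]

/-- **semilinearity** -/
theorem NU.exists_sigma (h : NU B K θ) (hK : KCent B K) (hP : Pres B θ) : ∃ (σ : F ≃+* F) (a b : F),
    a ≠ 0 ∧ b ≠ 0 ∧ (∀ m, θ * B.zs m * θ⁻¹ = B.zs (a * b * σ m)) ∧
      ∀ r, θ * B.zl r * θ⁻¹ = B.zl (a ^ 2 * b * σ r) := by
  choose α hα using hP.1
  choose β hβ using hP.2
  choose a m1 r1 ha using h.v2 hK hP
  choose b m2 r2 hb using h.v1 hK hP
  -- the commutator relation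
  have hrel : ∀ u s, α (u * s) = a u * b s ∧ β (u ^ 2 * s) = a u ^ 2 * b s := by
    intro u s
    have e1 : B.xa u * B.xb s * (B.xa u)⁻¹ * (B.xb s)⁻¹ = B.zs (u * s) * B.zl (u ^ 2 * s) := by
      rw [xa_eq, xb_eq, nf_comm, z_eq]
      congr 1 <;> ring
    have e2 : θ * (B.xa u * B.xb s * (B.xa u)⁻¹ * (B.xb s)⁻¹) * θ⁻¹ =
        (θ * B.xa u * θ⁻¹) * (θ * B.xb s * θ⁻¹) * (θ * B.xa u * θ⁻¹)⁻¹ * (θ * B.xb s * θ⁻¹)⁻¹ := by group
    rw [ha, hb, nf_comm, e1, mul_conj, hα, hβ, z_eq] at e2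
    have h3 := nf_inj e2
    refine ⟨?_, ?_⟩
    · rw [h3.2.2.1]; ring
    · rw [h3.2.2.2]; ring
  have hadd : ∀ m m', α (m + m') = α m + α m' := by
    intro m m'
    apply zs_inj (B := B)
    rw [← hα, B.zs_add, mul_conj, hα, hα, B.zs_add]
  have hαinj : Function.Injective α := by
    intro m m' hmm
    apply zs_inj (B := B)
    have e1 := hα m
    rw [hmm, ← hα m'] at e1
    calc B.zs m = θ⁻¹ * (θ * B.zs m * θ⁻¹) * θ := by group
      _ = B.zs m' := by rw [e1]; group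
  have hα0 : α 0 = 0 := by
    have := hadd 0 0
    rw [add_zero] at this
    exact (left_eq_add.1 this)
  have h11 : α 1 = a 1 * b 1 := by
    have := (hrel 1 1).1
    rwa [mul_one] at this
  have hα1 : α 1 ≠ 0 := by
    intro h0
    rw [← hα0] at h0
    exact one_ne_zero (hαinj h0)
  have ha1 : a 1 ≠ 0 := fun h0 => hα1 (by rw [h11, h0, zero_mul])
  have hb1 : b 1 ≠ 0 := fun h0 => hα1 (by rw [h11, h0, mul_zero])
  have hau : ∀ u, α u = a u * b 1 := by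
    intro u
    have := (hrel u 1).1
    rwa [mul_one] at this
  have hbs : ∀ s, α s = a 1 * b s := by
    intro s
    have := (hrel 1 s).1
    rwa [one_mul] at this
  let f : F →+* F :=
    { toFun := fun x => α x * (α 1)⁻¹
      map_one' := mul_inv_cancel₀ hα1
      map_zero' := by rw [hα0, zero_mul]
      map_add' := by intro x y; rw [hadd, add_mul]
      map_mul' := by
        intro x y
        rw [(hrel x y).1, hau x, hbs y, h11]
        field_simp }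
  have hf : Function.Bijective f := by
    apply Finite.injective_iff_bijective.1
    exact f.injective
  let σ : F ≃+* F := RingEquiv.ofBijective f hf
  have hσ : ∀ x, α x = α 1 * σ x := by
    intro x
    show α x = α 1 * (α x * (α 1)⁻¹)
    field_simp
  refine ⟨σ, a 1, b 1, ha1, hb1, ?_, ?_⟩
  · intro m
    rw [hα, hσ, h11]
  · intro r
    rw [hβ]
    have h2 : β r = a 1 ^ 2 * b r := by
      have := (hrel 1 r).2
      rwa [one_pow, one_mul] at this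
    have h3 : b r = b 1 * σ r := by
      have h4 := hbs r
      rw [hσ, h11] at h4
      apply mul_left_cancel₀ ha1
      rw [← h4]; ring
    rw [h2, h3]
    congr 1
    ring

/-- an involution acting as scalars on `Z_s` and `Z_l` centralizes them -/
theorem comm_of_scalar {k l : F} (h2 : θ * θ = 1) (hs : ∀ m, θ * B.zs m * θ⁻¹ = B.zs (k * m))
    (hl : ∀ m, θ * B.zl m * θ⁻¹ = B.zl (l * m)) :
    (∀ m, Commute θ (B.zs m)) ∧ ∀ m, Commute θ (B.zl m) := by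
  have hsq : ∀ {k : F}, k * k = 1 → k = 1 := by
    intro k hk
    have h4 : (k + 1) * (k + 1) = 0 := by
      have h2 : (2 : F) = 0 := CharTwo.two_eq_zero
      linear_combination hk + (k + 1) * h2
    exact FieldAux.eq_of_add_eq_zero (mul_self_eq_zero.1 h4)
  have hk : k = 1 := by
    apply hsq
    apply zs_inj (B := B)
    have h3 := hs 1
    have h4 := hs (k * 1)
    rw [← h3] at h4
    have e : θ * (θ * B.zs 1 * θ⁻¹) * θ⁻¹ = (θ * θ) * B.zs 1 * (θ * θ)⁻¹ := by group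
    rw [e, h2, inv_one, mul_one, one_mul, mul_one] at h4
    exact h4.symm
  have hl1 : l = 1 := by
    apply hsq
    apply zl_inj (B := B)
    have h3 := hl 1
    have h4 := hl (l * 1)
    rw [← h3] at h4
    have e : θ * (θ * B.zl 1 * θ⁻¹) * θ⁻¹ = (θ * θ) * B.zl 1 * (θ * θ)⁻¹ := by group
    rw [e, h2, inv_one, mul_one, one_mul, mul_one] at h4
    exact h4.symm
  subst hk hl1
  constructor
  · intro m
    have := hs m
    rw [one_mul] at this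
    exact mul_inv_eq_iff_eq_mul.1 this
  · intro m
    have := hl m
    rw [one_mul] at this
    exact mul_inv_eq_iff_eq_mul.1 this

/-- one of the involutions of a four-group fixing `Z_s` and `Z_l` centralizes `Z` -/
theorem exists_comm_of_pres (hK : KCent B K) {x y : G} (hx : NU B K x) (hy : NU B K y) (hPx : Pres B x)
    (hPy : Pres B y) (hx2 : x * x = 1) (hy2 : y * y = 1) (hxy : x * y = y * x) :
    ∃ θ, (θ = x ∨ θ = y ∨ θ = x * y) ∧ (∀ m, Commute θ (B.zs m)) ∧ ∀ m, Commute θ (B.zl m) := by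
  obtain ⟨σ, a, b, ha, hb, h1, h2⟩ := hx.exists_sigma hK hPx
  obtain ⟨τ, a', b', ha', hb', h1', h2'⟩ := hy.exists_sigma hK hPy
  have inv2 : ∀ {θ : G} {σ : F ≃+* F} {k : F}, k ≠ 0 → θ * θ = 1 → (∀ m, θ * B.zs m * θ⁻¹ = B.zs (k * σ m)) →
      σ * σ = 1 := by
    intro θ σ k hk h2 h
    have h3 : ∀ m, m = k * σ (k * σ m) := by
      intro m
      apply zs_inj (B := B)
      rw [← h, ← h]
      have e : θ * (θ * B.zs m * θ⁻¹) * θ⁻¹ = (θ * θ) * B.zs m * (θ * θ)⁻¹ := by group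
      rw [e, h2]; group
    have h4 : k * σ k = 1 := by
      have := h3 1
      rw [map_one, mul_one] at this
      exact this.symm
    ext m
    have h5 := h3 m
    rw [map_mul, ← mul_assoc, h4, one_mul] at h5
    exact h5.symm
  have hσ := inv2 (mul_ne_zero ha hb) hx2 h1
  have hτ := inv2 (mul_ne_zero ha' hb') hy2 h1'
  by_cases hσ1 : σ = 1
  · refine ⟨x, Or.inl rfl, ?_⟩
    subst hσ1
    exact comm_of_scalar hx2 h1 h2
  by_cases hτ1 : τ = 1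
  · refine ⟨y, Or.inr (Or.inl rfl), ?_⟩
    subst hτ1
    exact comm_of_scalar hy2 h1' h2'
  have hστ : σ = τ := Cfsg.Agent.StdRank2.OutField.unique_invol hσ hτ hσ1 hτ1
  subst hστ
  refine ⟨x * y, Or.inr (Or.inr rfl), ?_⟩
  refine comm_of_scalar (k := a * b * σ (a' * b')) (l := a ^ 2 * b * σ (a' ^ 2 * b')) ?_ ?_ ?_
  · calc x * y * (x * y) = x * (y * x) * y := by group
      _ = (x * x) * (y * y) := by rw [← hxy]; group
      _ = 1 := by rw [hx2, hy2, one_mul]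
  · intro m
    have e : x * y * B.zs m * (x * y)⁻¹ = x * (y * B.zs m * y⁻¹) * x⁻¹ := by group
    have hσσ : σ (σ m) = m := Cfsg.Agent.StdRank2.OutField.invol_apply hσ m
    rw [e, h1', h1, map_mul, hσσ]
    congr 1
    ring
  · intro m
    have e : x * y * B.zl m * (x * y)⁻¹ = x * (y * B.zl m * y⁻¹) * x⁻¹ := by group
    have hσσ : σ (σ m) = m := Cfsg.Agent.StdRank2.OutField.invol_apply hσ m
    rw [e, h2', h2, map_mul, hσσ]
    congr 1
    ring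

/-- **(H3)** -/
theorem exists_comm (hK : KCent B K) {R : Subgroup G} (hR : ∀ x ∈ R, NU B K x)
    (hc : ∀ x ∈ R, x ≠ 1 → ∀ v, IsU B v → Commute v x → ∀ r ∈ R, Commute v r) {x y : G} (hxR : x ∈ R) (hyR : y ∈ R)
    (hx2 : x * x = 1) (hy2 : y * y = 1) (hxy : x * y = y * x) (hx1 : x ≠ 1) (hy1 : y ≠ 1) (hne : x ≠ y) :
    (∀ θ ∈ R, ∀ m, Commute θ (B.zs m)) ∧ ∀ θ ∈ R, ∀ m, Commute θ (B.zl m) := by
  have hxy1 : x * y ≠ 1 := by
    intro h
    apply hne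
    calc x = x * (y * y) := by rw [hy2, mul_one]
      _ = y := by rw [← mul_assoc, h, one_mul]
  have hxy2 : x * y * (x * y) = 1 := by
    calc x * y * (x * y) = x * (y * x) * y := by group
      _ = (x * x) * (y * y) := by rw [← hxy]; group
      _ = 1 := by rw [hx2, hy2, one_mul]
  -- it suffices to find one element centralizing `Z`
  suffices hex : ∃ θ ∈ R, θ ≠ 1 ∧ (∀ m, Commute θ (B.zs m)) ∧ ∀ m, Commute θ (B.zl m) by
    obtain ⟨θ, hθ, hθ1, h1, h2⟩ := hex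
    exact ⟨fun r hr m => (hc θ hθ hθ1 _ (isU_zs m) (h1 m).symm r hr).symm,
      fun r hr m => (hc θ hθ hθ1 _ (isU_zl m) (h2 m).symm r hr).symm⟩
  -- a preserving and a swapping involution
  have hmix : ∀ x ∈ R, ∀ y ∈ R, x * x = 1 → x ≠ 1 → Pres B x → Swp B y → False := by
    intro x hx y hy hx2 hx1 hPx hSy
    obtain ⟨m, hm, hcm⟩ : ∃ m, m ≠ 0 ∧ Commute x (B.zs m) := by
      obtain ⟨m', e⟩ := hPx.1 1
      by_cases h1 : (1 : F) + m' = 0
      · have h2 : m' = 1 := (FieldAux.eq_of_add_eq_zero h1).symm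
        subst h2
        exact ⟨1, one_ne_zero, mul_inv_eq_iff_eq_mul.1 e⟩
      · refine ⟨1 + m', h1, mul_inv_eq_iff_eq_mul.1 ?_⟩
        have e2 : x * B.zs m' * x⁻¹ = B.zs 1 := by
          rw [← e]
          calc x * (x * B.zs 1 * x⁻¹) * x⁻¹ = (x * x) * B.zs 1 * (x * x)⁻¹ := by group
            _ = B.zs 1 := by rw [hx2]; group
        rw [B.zs_add, mul_conj, e, e2, ← B.zs_add, add_comm m', B.zs_add]
    have h1 := hc x hx hx1 _ (isU_zs m) hcm.symm y hy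
    obtain ⟨r, e⟩ := hSy.1 m
    have e2 : y * B.zs m * y⁻¹ = B.zs m := by rw [← h1.eq]; group
    rw [e2] at e
    exact hm (zs_zl_eq e).1
  rcases (hR x hxR).perm hK with hPx | hSx
  · rcases (hR y hyR).perm hK with hPy | hSy
    · obtain ⟨θ, hθ, h1, h2⟩ := exists_comm_of_pres hK (hR x hxR) (hR y hyR) hPx hPy hx2 hy2 hxy
      rcases hθ with rfl | rfl | rfl
      · exact ⟨_, hxR, hx1, h1, h2⟩
      · exact ⟨_, hyR, hy1, h1, h2⟩
      · exact ⟨_, R.mul_mem hxR hyR, hxy1, h1, h2⟩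
    · exact (hmix x hxR y hyR hx2 hx1 hPx hSy).elim
  · rcases (hR y hyR).perm hK with hPy | hSy
    · exact (hmix y hyR x hxR hy2 hy1 hPy hSx).elim
    · exact (hmix (x * y) (R.mul_mem hxR hyR) x hxR hxy2 hxy1 (hSx.mul hSy) hSx).elim

end Cfsg.Agent.OddHalf.D4.SpFourFld
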