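import Mathlib
import Cfsg.Agent.OddHalf.D4.SpFourFld

/-!
# ODD D4, `K = Sp₄(q)`: the types of a frame (T1)

`hasTyp`: every frame has, after conjugation in `K`, one of the types `TypL`, `TypS`, `TypM`.
-/

set_option autoImplicit false
set_option linter.unusedSectionVars false
set_option linter.unusedVariables false

namespace Cfsg.Agent.OddHalf.D4.SpFourTOne

open Cfsg.Agent.StdSpFour Subgroup Cfsg.Agent.OddHalf.D4 Cfsg.Agent.OddHalf.D4.Basic
open Cfsg.Agent.StdSpFour.Swap (rt rt_sq sq_rt rt_zero rt_eq_zero swap)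
open Cfsg.Agent.OddHalf.D4.SpFourDefs Cfsg.Agent.OddHalf.D4.SpFourCent
open Cfsg.Agent.OddHalf.D4.SpFourU Cfsg.Agent.OddHalf.D4.SpFourFr Cfsg.Agent.OddHalf.D4.SpFourTyp
open Cfsg.Agent.OddHalf.D4.SpFourTOneA Cfsg.Agent.OddHalf.D4.SpFourFld
open Cfsg.Agent.OddHalf.D4.SpFourPar (P2 P2_le P2_comm mem_P2 exists_ne_ne P2_perfect P2_two P2_V2 exists_zs
  comm_of_comm_mem le_of_P2_P1)
open Cfsg.Agent.OddHalf.D4.CommConj (cj mem_cj mem_cj_mul card_cj cj_eq_of_mem_normalizer)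

variable {F G : Type*} [Field F] [CharP F 2] [Finite F] [Group G] [Finite G]
variable {B : Base F G} {K L Q R : Subgroup G}

theorem isU_memK (hK : KBase B K) {v : G} (hv : IsU B v) : v ∈ K := P2_le hK (SpFourPar.isU_mem hv)

/-- after conjugation in `K`, `R` normalizes `U` -/
theorem exists_normU (hK : KCent B K) (h : Fr K L Q R) :
    ∃ k ∈ K, ∀ x ∈ cj k R, ∀ v, IsU B v → IsU B (x * v * x⁻¹) := by
  obtain ⟨S, hS, hRS⟩ := h.exists_syl
  obtain ⟨k, hk, hkS⟩ := hK.syl S hS.le hS.two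
  refine ⟨k, hk, ?_⟩
  have h1 : UU B ≤ cj k S := by
    have h2 : IsSyl (cj k S) K := by
      have h3 := hS.cj k
      rwa [cj_eq_of_mem_normalizer (le_normalizer (H := K) hk)] at h3
    apply h2.max _ isPGroup_UU
    · intro x hx
      rw [mem_cj] at hx
      obtain ⟨u, s, m, r, e⟩ := hkS _ hx
      have e2 : k * (k⁻¹ * x * k) * k⁻¹ = x := by group
      rw [e2] at e
      exact ⟨u, s, m, r, e⟩
    · intro v hv
      exact isU_memK hK.toKBase hv
  intro x hx v hv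
  have h2 := h1 hv
  rw [mem_cj] at hx h2
  have h3 := hRS _ hx _ h2
  obtain ⟨u, s, m, r, e⟩ := hkS _ h3
  refine ⟨u, s, m, r, ?_⟩
  rw [← e]; group

/-- `C_U(x) = C_U(R)` for `1 ≠ x ∈ R` if `R ∩ K = 1` -/
theorem centU (hK : KCent B K) (h : Fr K L Q R) (hRK : ∀ x ∈ R, x ∈ K → x = 1)
    (hn : ∀ x ∈ R, ∀ v, IsU B v → IsU B (x * v * x⁻¹)) {x : G} (hx : x ∈ R) (hx1 : x ≠ 1) {v : G} (hv : IsU B v)
    (hvx : Commute v x) {r : G} (hr : r ∈ R) : Commute v r := by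
  have hvN : v ∈ normalizer (L : Set G) := h.mem hx hx1 hvx.eq
  obtain ⟨h1, h2⟩ := commutator_mem (K := K) (L := L) (isU_memK hK.toKBase hv) hvN (h.fp.sylU.le hr) (h.leR hr)
  have h3 : IsU B (v * r * v⁻¹ * r⁻¹) := by
    have h4 := IsU.mul hv (hn r hr v⁻¹ (IsU.inv hv))
    have e : v * (r * v⁻¹ * r⁻¹) = v * r * v⁻¹ * r⁻¹ := by group
    rwa [e] at h4
  have h4 := h.eq_one_of_inf hRK h1 h2 (two_of_isU h3)
  show v * r = r * v
  calc v * r = (v * r * v⁻¹ * r⁻¹) * (r * v) := by group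
    _ = r * v := by rw [h4, one_mul]

/-- elements of `R` normalise `K` and `U` -/
theorem nU (h : Fr K L Q R) (hn : ∀ x ∈ R, ∀ v, IsU B v → IsU B (x * v * x⁻¹)) {x : G} (hx : x ∈ R) :
    NU B K x where
  mem := fun y => mem_normalizer_iff.mp (h.leR hx) y
  u := by
    intro v
    refine ⟨hn x hx v, fun hv => ?_⟩
    have h1 := hn x⁻¹ (R.inv_mem hx) _ hv
    have e : x⁻¹ * (x * v * x⁻¹) * x⁻¹⁻¹ = v := by group
    rwa [e] at h1

/-- the case `z₀` a long root element -/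
theorem endL (hF : 4 ≤ Nat.card F) (hK : KCent B K) (h : Fr K L Q R) (hRK : ∀ x ∈ R, x ∈ K → x = 1)
    (hdec : ∀ x ∈ R, ∃ v ∈ K, ∃ c ∈ centralizer (K : Set G), x = v * c) {r : F} (hr : r ≠ 0) {c₀ : G}
    (hc₀ : c₀ ∈ centralizer (K : Set G)) (hx₀ : B.zl r * c₀ ∈ R)
    (hcen : ∀ x ∈ R, x * (B.zl r * c₀) = B.zl r * c₀ * x) : TypL B K Q R := by
  refine ⟨?_, hRK⟩
  have hzK : B.zl r ∈ K := hK.zl_mem r
  have hx1 : B.zl r * c₀ ≠ 1 := by
    intro h1
    apply zl_ne (B := B) hr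
    apply h.env.cen _ hzK
    have e : B.zl r = c₀⁻¹ := mul_eq_one_iff_eq_inv.1 h1
    rw [e]; exact (centralizer (K : Set G)).inv_mem hc₀
  have hP : P2 B ≤ normalizer (L : Set G) := by
    intro p hp
    apply h.mem hx₀ hx1
    exact ((P2_comm r p hp).mul_right (mem_centralizer_iff.mp hc₀ p (P2_le hK.toKBase hp))).eq
  intro x hx
  obtain ⟨v, hv, c, hc, e⟩ := hdec x hx
  have hcQ := mem_Q h hx hv hc e
  have hvz : Commute v (B.zl r) := by
    have h1 := hcen x hx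
    have h2 : v * B.zl r * (c * c₀) = B.zl r * v * (c₀ * c) := by
      have e1 : c * B.zl r = B.zl r * c := (mem_centralizer_iff.mp hc _ hzK).symm
      have e2 : c₀ * v = v * c₀ := (mem_centralizer_iff.mp hc₀ _ hv).symm
      calc v * B.zl r * (c * c₀) = v * (B.zl r * c) * c₀ := by group
        _ = x * (B.zl r * c₀) := by rw [← e1, e]; group
        _ = B.zl r * (c₀ * v) * c := by rw [h1, e]; group
        _ = _ := by rw [e2]; group
    exact (decomp_unique h.env.cen (K.mul_mem hv hzK) ((centralizer (K : Set G)).mul_mem hc hc₀) (K.mul_mem hzK hv)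
      ((centralizer (K : Set G)).mul_mem hc₀ hc) h2).1
  -- `v` centralizes `P₂`
  have hvP : ∀ y ∈ P2 B, Commute v y := by
    intro y hy
    have hyK := P2_le hK.toKBase hy
    obtain ⟨h1, h2⟩ := commutator_mem (K := K) (L := L) hyK (hP hy) (h.fp.sylU.le hx) (h.leR hx)
    have e1 : y * x * y⁻¹ * x⁻¹ = y * v * y⁻¹ * v⁻¹ := by
      have e2 : c * y⁻¹ * c⁻¹ = y⁻¹ := by
        have : c * y⁻¹ = y⁻¹ * c := (mem_centralizer_iff.mp hc _ (K.inv_mem hyK)).symm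
        rw [this]; group
      rw [e]
      calc y * (v * c) * y⁻¹ * (v * c)⁻¹ = y * v * (c * y⁻¹ * c⁻¹) * v⁻¹ := by group
        _ = _ := by rw [e2]
    rw [e1] at h1 h2
    have h3 : y * v * y⁻¹ * v⁻¹ ∈ P2 B := mem_P2 hK h1 hr
      ((((P2_comm r y hy).mul_left hvz).mul_left (P2_comm r y hy).inv_left).mul_left hvz.inv_left)
    -- it centralizes `V₂`
    have h4 : ∀ a b c, Commute (y * v * y⁻¹ * v⁻¹) (nf B a 0 b c) := by
      intro a b d
      obtain ⟨w, hw⟩ : ∃ w, w = y * v * y⁻¹ * v⁻¹ := ⟨_, rfl⟩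
      rw [← hw] at h2 h3 ⊢
      obtain ⟨a', b', d', e3⟩ := P2_V2 w h3 a b d
      have h5 : w * nf B a 0 b d * w⁻¹ * (nf B a 0 b d)⁻¹ ∈ centralizer (L : Set G) := by
        have h6 := (centralizer (L : Set G)).mul_mem h2 (centralizer_conj_mem
          (hP (SpFourPar.isU_mem (isU_nf a 0 b d))) ((centralizer (L : Set G)).inv_mem h2))
        have e4 : w * (nf B a 0 b d * w⁻¹ * (nf B a 0 b d)⁻¹) = w * nf B a 0 b d * w⁻¹ * (nf B a 0 b d)⁻¹ := by
          group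
        rwa [e4] at h6
      have h6 : IsU B (w * nf B a 0 b d * w⁻¹ * (nf B a 0 b d)⁻¹) := by
        rw [e3]; exact IsU.mul (isU_nf _ _ _ _) (IsU.inv (isU_nf _ _ _ _))
      have h7 := h.eq_one_of_inf hRK (isU_memK hK.toKBase h6) h5 (two_of_isU h6)
      show w * nf B a 0 b d = nf B a 0 b d * w
      calc w * nf B a 0 b d = (w * nf B a 0 b d * w⁻¹ * (nf B a 0 b d)⁻¹) * (nf B a 0 b d * w) := by group
        _ = _ := by rw [h7, one_mul]
    have h5 : IsU B (y * v * y⁻¹ * v⁻¹) := by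
      apply hK.cent_m _ h1 1 1 one_ne_zero one_ne_zero
      rw [z_eq]; exact h4 0 1 1
    have h6 := h.eq_one_of_inf hRK h1 h2 (two_of_isU h5)
    show v * y = y * v
    calc v * y = (y * v * y⁻¹ * v⁻¹)⁻¹ * (y * v) := by group
      _ = y * v := by rw [h6, inv_one, one_mul]
  have hvU : IsU B v := by
    apply hK.cent_m _ hv 1 1 one_ne_zero one_ne_zero
    exact hvP _ (SpFourPar.isU_mem (isU_z 1 1))
  obtain ⟨m', r', e1⟩ := center_U hvU (hvP _ (SpFourPar.xa_mem 1)) (hvP _ (SpFourPar.xb_mem 1))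
  have hm' : m' = 0 := by
    have h1 := hvP _ (SpFourPar.nb_mem (B := B))
    rw [e1] at h1
    have h2 : B.nb * (B.zs m' * B.zl r') * B.nb⁻¹ = B.zs m' * B.zl r' := by rw [← h1.eq]; group
    rw [mul_conj, nb_zs', nb_zl', z_eq, xa_eq, zl_eq, nf_mul] at h2
    have h3 := (nf_inj h2).1
    rw [add_zero] at h3
    exact h3
  subst hm'
  rw [B.zs_zero, one_mul] at e1
  refine ⟨c, hcQ, r', ?_⟩
  rw [e, e1]
  exact mem_centralizer_iff.mp hc _ (hK.zl_mem r')

/-- the case `z₀` a short root element -/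
theorem endS (hF : 4 ≤ Nat.card F) (hK : KCent B K) (h : Fr K L Q R) (hRK : ∀ x ∈ R, x ∈ K → x = 1)
    (hdec : ∀ x ∈ R, ∃ v ∈ K, ∃ c ∈ centralizer (K : Set G), x = v * c) {r : F} (hr : r ≠ 0) {c₀ : G}
    (hc₀ : c₀ ∈ centralizer (K : Set G)) (hx₀ : B.zs r * c₀ ∈ R)
    (hcen : ∀ x ∈ R, x * (B.zs r * c₀) = B.zs r * c₀ * x) : TypS B K Q R := by
  have e : (swap B).zl (r ^ 2) = B.zs r := by
    show B.zs (rt (r ^ 2)) = _
    rw [rt_sq]
  obtain ⟨h1, h2⟩ := endL (B := swap B) hF (KCent.swap hK) h hRK hdec (r := r ^ 2) (pow_ne_zero 2 hr) hc₀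
    (by rw [e]; exact hx₀) (by rw [e]; exact hcen)
  refine ⟨?_, h2⟩
  intro x hx
  obtain ⟨t, ht, r', e'⟩ := h1 x hx
  exact ⟨t, ht, rt r', e'⟩

/-- **frames with `R ∩ K = 1`**, `R` centralizing `Z` -/
theorem hasTyp_of_comm (hF : 4 ≤ Nat.card F) (hK : KCent B K) (hA : KAut B K) (h : Fr K L Q R)
    (hRK : ∀ x ∈ R, x ∈ K → x = 1) (hs : ∀ x ∈ R, ∀ m, Commute x (B.zs m)) (hl : ∀ x ∈ R, ∀ m, Commute x (B.zl m)) :
    HasTyp B K Q R := by
  have hdec : ∀ x ∈ R, ∃ v ∈ K, ∃ c ∈ centralizer (K : Set G), x = v * c := by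
    intro x hx
    obtain ⟨u, s, m', r, hv⟩ := hA x (h.leR hx) (hs x hx) (hl x hx)
    change ∀ y ∈ K, Commute ((nf B u s m' r)⁻¹ * x) y at hv
    refine ⟨nf B u s m' r, isU_memK hK.toKBase (isU_nf _ _ _ _), (nf B u s m' r)⁻¹ * x, ?_, by group⟩
    rw [mem_centralizer_iff]
    intro y hy
    exact (hv y hy).symm.eq
  -- a central involution
  obtain ⟨x₀, hx₀, hx2, hxc⟩ := exists_central_invol (T := R) (N := R) h.fp.sylU.two le_rfl
    (by
      intro h1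
      obtain ⟨x, hx, _, _, _, _, _, hx1, _⟩ := h.exists_four
      apply hx1
      rwa [h1, mem_bot] at hx)
    (by
      intro t ht n hn
      exact R.mul_mem (R.mul_mem ht hn) (R.inv_mem ht))
  have hxx : x₀ * x₀ = 1 := by rw [← pow_two, ← hx2, pow_orderOf_eq_one]
  have hx1 : x₀ ≠ 1 := by
    rintro rfl
    rw [orderOf_one] at hx2
    exact absurd hx2 (by norm_num)
  obtain ⟨v₀, hv₀, c₀, hc₀, e₀⟩ := hdec x₀ hx₀
  have hvc : v₀ * c₀ = c₀ * v₀ := mem_centralizer_iff.mp hc₀ v₀ hv₀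
  have hvv : v₀ * v₀ = 1 := by
    apply h.env.cen _ (K.mul_mem hv₀ hv₀)
    have e : v₀ * v₀ = (c₀ * c₀)⁻¹ := by
      apply eq_inv_of_mul_eq_one_left
      calc v₀ * v₀ * (c₀ * c₀) = v₀ * (v₀ * c₀) * c₀ := by group
        _ = v₀ * (c₀ * v₀) * c₀ := by rw [hvc]
        _ = (v₀ * c₀) * (v₀ * c₀) := by group
        _ = 1 := by rw [← e₀, hxx]
    rw [e]
    exact (centralizer (K : Set G)).inv_mem ((centralizer (K : Set G)).mul_mem hc₀ hc₀)
  have hv1 : v₀ ≠ 1 := by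
    rintro rfl
    rw [one_mul] at e₀
    exact hx1 (h.eq_one (e₀ ▸ hc₀) (h.fp.sylU.le hx₀) (h.two hx₀))
  obtain ⟨k, hk, m, r, hmr, e⟩ := inv_conj hK hv₀ hvv hv1
  have h' := h.conj hk
  refine ⟨k, hk, ?_⟩
  -- transport
  have hRK' : ∀ x ∈ cj k R, x ∈ K → x = 1 := by
    intro x hx hxK
    rw [mem_cj] at hx
    have h1 := hRK _ hx (K.mul_mem (K.mul_mem (K.inv_mem hk) hxK) hk)
    calc x = k * (k⁻¹ * x * k) * k⁻¹ := by group
      _ = 1 := by rw [h1]; group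
  have hdec' : ∀ x ∈ cj k R, ∃ v ∈ K, ∃ c ∈ centralizer (K : Set G), x = v * c := by
    intro x hx
    rw [mem_cj] at hx
    obtain ⟨v, hv, c, hc, e⟩ := hdec _ hx
    refine ⟨k * v * k⁻¹, K.mul_mem (K.mul_mem hk hv) (K.inv_mem hk), c, hc, ?_⟩
    have h1 : k⁻¹ * c = c * k⁻¹ := mem_centralizer_iff.mp hc _ (K.inv_mem hk)
    calc x = k * (k⁻¹ * x * k) * k⁻¹ := by group
      _ = k * v * (c * k⁻¹) := by rw [e]; group
      _ = _ := by rw [← h1]; group
  have hx₀' : B.zs m * B.zl r * c₀ ∈ cj k R := by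
    rw [mem_cj]
    have h1 : c₀ * k = k * c₀ := (mem_centralizer_iff.mp hc₀ _ hk).symm
    have e1 : k⁻¹ * (B.zs m * B.zl r * c₀) * k = x₀ := by
      rw [← e, e₀]
      calc k⁻¹ * (k * v₀ * k⁻¹ * c₀) * k = v₀ * k⁻¹ * (c₀ * k) := by group
        _ = _ := by rw [h1]; group
    rw [e1]; exact hx₀
  have hcen' : ∀ x ∈ cj k R, x * (B.zs m * B.zl r * c₀) = B.zs m * B.zl r * c₀ * x := by
    intro x hx
    rw [mem_cj] at hx
    have h2 := hxc _ hx
    have h1 : k⁻¹ * c₀ = c₀ * k⁻¹ := mem_centralizer_iff.mp hc₀ _ (K.inv_mem hk)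
    have e1 : B.zs m * B.zl r * c₀ = k * x₀ * k⁻¹ := by
      rw [← e, e₀]
      calc k * v₀ * k⁻¹ * c₀ = k * v₀ * (k⁻¹ * c₀) := by group
        _ = _ := by rw [h1]; group
    rw [e1]
    calc x * (k * x₀ * k⁻¹) = k * ((k⁻¹ * x * k) * x₀) * k⁻¹ := by group
      _ = _ := by rw [h2]; group
  generalize cj k L = L' at h' hx₀' hcen' hRK' hdec'
  generalize cj k R = R' at h' hx₀' hcen' hRK' hdec' ⊢
  by_cases hm : m = 0
  · left
    subst hm
    rw [B.zs_zero, one_mul] at hx₀' hcen'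
    have hr : r ≠ 0 := by
      rcases hmr with h | h
      · exact absurd rfl h
      · exact h
    exact endL hF hK h' hRK' hdec' hr hc₀ hx₀' hcen'
  by_cases hr : r = 0
  · right; left
    subst hr
    rw [B.zl_zero, mul_one] at hx₀' hcen'
    exact endS hF hK h' hRK' hdec' hm hc₀ hx₀' hcen'
  -- the mixed case
  have hz : IsU B (B.zs m * B.zl r) := isU_z m r
  have hzK := isU_memK hK.toKBase hz
  have hx1' : B.zs m * B.zl r * c₀ ≠ 1 := by
    intro h1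
    have h2 : B.zs m * B.zl r = 1 := by
      apply h.env.cen _ hzK
      have e : B.zs m * B.zl r = c₀⁻¹ := mul_eq_one_iff_eq_inv.1 h1
      rw [e]; exact (centralizer (K : Set G)).inv_mem hc₀
    rw [z_eq] at h2
    exact hm (nf_one h2).2.2.1
  have hRZ : ∀ x ∈ R', ∃ m' r', ∃ c ∈ centralizer (K : Set G), x = B.zs m' * B.zl r' * c := by
    intro x hx
    obtain ⟨v, hv, c, hc, e⟩ := hdec' x hx
    have hvz : Commute v (B.zs m * B.zl r) := by
      have h1 := hcen' x hx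
      have h2 : v * (B.zs m * B.zl r) * (c * c₀) = B.zs m * B.zl r * v * (c₀ * c) := by
        have e1 : c * (B.zs m * B.zl r) = B.zs m * B.zl r * c := (mem_centralizer_iff.mp hc _ hzK).symm
        have e2 : c₀ * v = v * c₀ := (mem_centralizer_iff.mp hc₀ _ hv).symm
        calc v * (B.zs m * B.zl r) * (c * c₀) = v * (B.zs m * B.zl r * c) * c₀ := by group
          _ = x * (B.zs m * B.zl r * c₀) := by rw [← e1, e]; group
          _ = B.zs m * B.zl r * (c₀ * v) * c := by rw [h1, e]; group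
          _ = _ := by rw [e2]; group
      exact (decomp_unique h.env.cen (K.mul_mem hv hzK) ((centralizer (K : Set G)).mul_mem hc hc₀)
        (K.mul_mem hzK hv) ((centralizer (K : Set G)).mul_mem hc₀ hc) h2).1
    have hvU : IsU B v := hK.cent_m v hv m r hm hr hvz
    have hcU : ∀ y, IsU B y → Commute v y := by
      intro y hy
      have hyK := isU_memK hK.toKBase hy
      have hyN : y ∈ normalizer (L' : Set G) := by
        apply h'.mem hx₀' hx1'
        exact ((z_comm hy m r).mul_right (mem_centralizer_iff.mp hc₀ y hyK)).eq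
      obtain ⟨h1, h2⟩ := commutator_mem (K := K) (L := L') hyK hyN (h'.fp.sylU.le hx) (h'.leR hx)
      have e1 : y * x * y⁻¹ * x⁻¹ = y * v * y⁻¹ * v⁻¹ := by
        have e2 : c * y⁻¹ * c⁻¹ = y⁻¹ := by
          have : c * y⁻¹ = y⁻¹ * c := (mem_centralizer_iff.mp hc _ (K.inv_mem hyK)).symm
          rw [this]; group
        rw [e]
        calc y * (v * c) * y⁻¹ * (v * c)⁻¹ = y * v * (c * y⁻¹ * c⁻¹) * v⁻¹ := by group
          _ = _ := by rw [e2]
      rw [e1] at h1 h2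
      have h5 : IsU B (y * v * y⁻¹ * v⁻¹) := IsU.mul (IsU.mul (IsU.mul hy hvU) (IsU.inv hy)) (IsU.inv hvU)
      have h6 := h'.eq_one_of_inf hRK' h1 h2 (two_of_isU h5)
      show v * y = y * v
      calc v * y = (y * v * y⁻¹ * v⁻¹)⁻¹ * (y * v) := by group
        _ = y * v := by rw [h6, inv_one, one_mul]
    obtain ⟨m', r', e1⟩ := center_U hvU (hcU _ (isU_xa 1)) (hcU _ (isU_xb 1))
    exact ⟨m', r', c, hc, by rw [e, e1]⟩
  -- `R'` is abelian
  have hab : ∀ x ∈ R', ∀ y ∈ R', x * y = y * x := by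
    intro x hx y hy
    obtain ⟨m1, r1, c1, hc1, e1⟩ := hRZ x hx
    obtain ⟨m2, r2, c2, hc2, e2⟩ := hRZ y hy
    have hz1 := isU_memK hK.toKBase (isU_z (B := B) m1 r1)
    have hz2 := isU_memK hK.toKBase (isU_z (B := B) m2 r2)
    have hcomm : x * y * x⁻¹ * y⁻¹ = c1 * c2 * c1⁻¹ * c2⁻¹ := by
      have a1 : Commute (B.zs m1 * B.zl r1) (B.zs m2 * B.zl r2) := z_comm (isU_z m1 r1) m2 r2
      have a2 : Commute (B.zs m1 * B.zl r1) c2 := mem_centralizer_iff.mp hc2 _ hz1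
      have a3 : Commute (B.zs m1 * B.zl r1) c1 := mem_centralizer_iff.mp hc1 _ hz1
      have a4 : Commute (B.zs m2 * B.zl r2) c1 := mem_centralizer_iff.mp hc1 _ hz2
      have a5 : Commute (B.zs m2 * B.zl r2) c2 := mem_centralizer_iff.mp hc2 _ hz2
      have b1 : Commute (B.zs m1 * B.zl r1) y := by rw [e2]; exact a1.mul_right a2
      have b2 : Commute (B.zs m2 * B.zl r2) c1 := a4
      calc x * y * x⁻¹ * y⁻¹ = (B.zs m1 * B.zl r1) * (c1 * y * c1⁻¹) * (B.zs m1 * B.zl r1)⁻¹ * y⁻¹ := by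
            rw [e1]; group
        _ = (c1 * y * c1⁻¹) * y⁻¹ := by
            have b3 : Commute (B.zs m1 * B.zl r1) (c1 * y * c1⁻¹) := (a3.mul_right b1).mul_right a3.inv_right
            rw [b3.eq]; group
        _ = c1 * (B.zs m2 * B.zl r2) * c2 * c1⁻¹ * c2⁻¹ * (B.zs m2 * B.zl r2)⁻¹ := by rw [e2]; group
        _ = (B.zs m2 * B.zl r2) * (c1 * c2 * c1⁻¹ * c2⁻¹) * (B.zs m2 * B.zl r2)⁻¹ := by rw [← b2.eq]; group
        _ = _ := by
            have b4 : Commute (B.zs m2 * B.zl r2) (c1 * c2 * c1⁻¹ * c2⁻¹) :=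
              ((a4.mul_right a5).mul_right a4.inv_right).mul_right a5.inv_right
            rw [b4.eq]; group
    have h1 : x * y * x⁻¹ * y⁻¹ ∈ R' :=
      R'.mul_mem (R'.mul_mem (R'.mul_mem hx hy) (R'.inv_mem hx)) (R'.inv_mem hy)
    have h2 : x * y * x⁻¹ * y⁻¹ = 1 := by
      apply h'.eq_one _ (h'.fp.sylU.le h1) (h'.two h1)
      rw [hcomm]
      exact (centralizer (K : Set G)).mul_mem ((centralizer (K : Set G)).mul_mem
        ((centralizer (K : Set G)).mul_mem hc1 hc2) ((centralizer (K : Set G)).inv_mem hc1))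
        ((centralizer (K : Set G)).inv_mem hc2)
    calc x * y = (x * y * x⁻¹ * y⁻¹) * (y * x) := by group
      _ = y * x := by rw [h2, one_mul]
  by_cases hexL : ∃ r' c, r' ≠ 0 ∧ c ∈ centralizer (K : Set G) ∧ B.zl r' * c ∈ R'
  · obtain ⟨r', c, hr', hc, hx⟩ := hexL
    exact Or.inl (endL hF hK h' hRK' hdec' hr' hc hx (fun x hx' => hab x hx' _ hx))
  by_cases hexS : ∃ r' c, r' ≠ 0 ∧ c ∈ centralizer (K : Set G) ∧ B.zs r' * c ∈ R'
  · obtain ⟨r', c, hr', hc, hx⟩ := hexS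
    exact Or.inr (Or.inl (endS hF hK h' hRK' hdec' hr' hc hx (fun x hx' => hab x hx' _ hx)))
  right; right
  intro x hx hx1
  obtain ⟨m', r', c, hc, e1⟩ := hRZ x hx
  have hzK' := isU_memK hK.toKBase (isU_z (B := B) m' r')
  have hcQ := mem_Q h' hx hzK' hc e1
  have hr0 : r' ≠ 0 := by
    rintro rfl
    by_cases hm0 : m' = 0
    · subst hm0
      rw [B.zs_zero, B.zl_zero, one_mul, one_mul] at e1
      exact hx1 (h'.eq_one (e1 ▸ hc) (h'.fp.sylU.le hx) (h'.two hx))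
    · apply hexS
      rw [B.zl_zero, mul_one] at e1
      exact ⟨m', c, hm0, hc, e1 ▸ hx⟩
  have hm0 : m' ≠ 0 := by
    rintro rfl
    apply hexL
    rw [B.zs_zero, one_mul] at e1
    exact ⟨r', c, hr0, hc, e1 ▸ hx⟩
  refine ⟨c, hcQ, m', r', hm0, hr0, ?_⟩
  rw [e1]
  exact mem_centralizer_iff.mp hc _ hzK'

/-- **(T1)** -/
theorem hasTyp (hF : 4 ≤ Nat.card F) (hK : KCent B K) (hA : KAut B K) (h : Fr K L Q R) : HasTyp B K Q R := by
  by_cases hne : ∃ x ∈ R, x ∈ K ∧ x ≠ 1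
  · exact hasTyp_of_inf hF hK hA h hne
  push Not at hne
  obtain ⟨k, hk, hn⟩ := exists_normU hK h
  have h' := h.conj hk
  have hRK' : ∀ x ∈ cj k R, x ∈ K → x = 1 := by
    intro x hx hxK
    rw [mem_cj] at hx
    have h1 := hne _ hx (K.mul_mem (K.mul_mem (K.inv_mem hk) hxK) hk)
    calc x = k * (k⁻¹ * x * k) * k⁻¹ := by group
      _ = 1 := by rw [h1]; group
  obtain ⟨x, hx, y, hy, hx2, hy2, hxy, hx1, hy1, hxyne⟩ := h'.exists_four
  obtain ⟨h1, h2⟩ := exists_comm hK (R := cj k R) (fun x hx => nU h' hn hx)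
    (fun x hx hx1 v hv hvx r hr => centU hK h' hRK' hn hx hx1 hv hvx hr) hx hy hx2 hy2 hxy hx1 hy1 hxyne
  obtain ⟨k', hk', hT⟩ := hasTyp_of_comm hF hK hA h' hRK' h1 h2
  refine ⟨k' * k, K.mul_mem hk' hk, ?_⟩
  rw [CommConj.cj_mul]
  exact hT

end Cfsg.Agent.OddHalf.D4.SpFourTOne
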