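import Mathlib
import Cfsg.Agent.OddHalf.D4.SpFourTOne
import Cfsg.Agent.OddHalf.D4.SpFourK
import Cfsg.Agent.OddHalf.D4.Exists
import Cfsg.Agent.StdRank2.B2Inst
import Cfsg.Agent.Schreier.ClassPSp

/-!
# ODD D4, `K = Sp₄(q)`: `Env K`, coordinates, existence of a frame
-/

set_option autoImplicit false
set_option linter.unusedSectionVars false

namespace Cfsg.Agent.OddHalf.D4.SpFourSetup

open Cfsg.Agent.StdSpFour Subgroup Cfsg.Agent.OddHalf.D4 Cfsg.Agent.OddHalf.D4.Basic
open Cfsg.Agent.OddHalf.D4.SpFourDefs Cfsg.Agent.OddHalf.D4.SpFourCent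
open Cfsg.Agent.OddHalf.D4.SpFourU Cfsg.Agent.OddHalf.D4.SpFourFr Cfsg.Agent.OddHalf.D4.SpFourTyp
open Cfsg.Agent.OddHalf.D4.SpFourTOne
open Cfsg.Agent.StdSpFour.Swap (swap)
open Cfsg.Agent.OddHalf.D4.CommConj (cj mem_cj mem_cj_mul card_cj cj_eq_of_mem_normalizer mem_normalizer_of_cj_eq
  Tight MaxE)

universe u

/-! ### `Env K` -/

theorem env_of_std {G : Type u} [Group G] [Finite G] {K : Subgroup G} (hK : Cfsg.IsStandardSubgroup K)
    [hs : IsSimpleGroup ↥K] (hsch : Cfsg.Agent.Schreier.Basic.Sch ↥K)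
    (hrk : ¬ Cfsg.PRankLE 2 1 ↥(centralizer (K : Set G))) : Env K := by
  have ht := EvenPair.tight_of_standard hK
  have hna : ∃ a b : ↥K, a * b ≠ b * a := by
    by_contra hcon
    push Not at hcon
    have h1 : ⁅(⊤ : Subgroup ↥K), (⊤ : Subgroup ↥K)⁆ = ⊤ := hK.1.1.commutator_eq_top
    have h2 : ⁅(⊤ : Subgroup ↥K), (⊤ : Subgroup ↥K)⁆ = ⊥ := by
      rw [commutator_eq_bot_iff_le_centralizer]
      intro x _
      rw [mem_centralizer_iff]
      intro y _
      exact hcon y x
    rw [h1] at h2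
    exact (top_ne_bot (α := Subgroup ↥K)) h2
  have hcen : ∀ x ∈ K, x ∈ centralizer (K : Set G) → x = 1 := by
    intro x hx hxc
    have h1 : (⟨x, hx⟩ : ↥K) ∈ center ↥K := by
      rw [mem_center_iff]
      intro y
      exact Subtype.ext (mem_centralizer_iff.mp hxc y y.2)
    rcases (inferInstance : (center ↥K).Normal).eq_bot_or_eq_top with h2 | h2
    · rw [h2, mem_bot] at h1
      exact congrArg Subtype.val h1
    · exfalso
      obtain ⟨a, b, hab⟩ := hna
      apply hab
      have h3 : b ∈ center ↥K := by rw [h2]; exact mem_top b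
      exact mem_center_iff.mp h3 a
  refine ⟨ht, hcen, ?_, ?_, ?_, ?_, EvenPair.exists_two_of_not_pRankLE hrk⟩
  · intro N hN hn
    have h1 : (N.subgroupOf K).Normal := by
      refine ⟨?_⟩
      intro n hn' g
      rw [mem_subgroupOf] at hn' ⊢
      exact hn g g.2 n hn'
    rcases h1.eq_bot_or_eq_top with h2 | h2
    · left
      rw [eq_bot_iff_forall]
      intro x hx
      have h3 : (⟨x, hN hx⟩ : ↥K) ∈ N.subgroupOf K := mem_subgroupOf.mpr hx
      rw [h2, mem_bot] at h3
      exact congrArg Subtype.val h3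
    · right
      apply le_antisymm hN
      intro x hx
      have h3 : (⟨x, hx⟩ : ↥K) ∈ N.subgroupOf K := by rw [h2]; exact mem_top _
      exact mem_subgroupOf.mp h3
  · rintro rfl
    have := hs.toNontrivial
    exact not_subsingleton ↥(⊥ : Subgroup G) inferInstance
  · intro g hg hcon
    have h1 : K.map (MulAut.conj g).toMonoidHom ≠ K := fun h => hg (mem_normalizer_of_cj_eq h)
    apply hK.2.2.1 g h1
    rw [commutator_eq_bot_iff_le_centralizer]
    intro a ha
    rw [mem_centralizer_iff]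
    rintro _ ⟨b, hb, rfl⟩
    exact (hcon a ha b hb).symm
  · intro P hP hPP
    let f : ↥P →* MulAut ↥K := K.normalizerMonoidHom.comp (inclusion hP)
    have h1 : ⁅f.range, f.range⁆ = f.range := by
      rw [MonoidHom.range_eq_map, ← Subgroup.map_commutator]
      congr 1
      apply Subgroup.map_injective P.subtype_injective
      rw [Subgroup.map_commutator, ← MonoidHom.range_eq_map, Subgroup.range_subtype, hPP]
    have h2 := hsch f.range h1
    intro p hp
    obtain ⟨k, hk⟩ := h2 ⟨⟨p, hp⟩, rfl⟩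
    have h3 : ∀ x ∈ K, p * x * p⁻¹ = (k : G) * x * (k : G)⁻¹ := by
      intro x hx
      have h4 := congrArg (fun f : MulAut ↥K => ((f ⟨x, hx⟩ : ↥K) : G)) hk
      exact h4.symm
    have h4 : (k : G)⁻¹ * p ∈ centralizer (K : Set G) := by
      rw [mem_centralizer_iff]
      intro x hx
      have h5 := h3 x hx
      calc x * ((k : G)⁻¹ * p) = (k : G)⁻¹ * ((k : G) * x * (k : G)⁻¹) * p := by group
        _ = (k : G)⁻¹ * (p * x * p⁻¹) * p := by rw [h5]
        _ = _ := by group
    have e : p = (k : G) * ((k : G)⁻¹ * p) := by group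
    rw [e]
    exact mul_mem_sup k.2 h4

/-! ### Coordinates -/

theorem exists_base {F : Type*} [Field F] [Finite F] [CharP F 2] (hF : 4 ≤ Nat.card F) {G : Type u} [Group G]
    [Finite G] {K : Subgroup G} [IsSimpleGroup ↥K] (hK : Cfsg.IsStandardSubgroup K) (e : ↥K ≃* Cfsg.PSp 2 F)
    {t : G} (ht2 : orderOf t = 2) (ht : t ∈ centralizer (K : Set G)) (htK : t ∉ K) :
    ∃ B : Base F G, B.t = t ∧ KCent B K ∧ KAut B K := by
  obtain ⟨S⟩ := Cfsg.Agent.StdRank2.B2Inst.exists_std_Sp (F := F) (by omega)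
  have hcom : _root_.commutator ↥K = ⊤ := hK.1.1.commutator_eq_top
  have hZ : center ↥K = ⊥ := by
    rcases (inferInstance : (center ↥K).Normal).eq_bot_or_eq_top with h2 | h2
    · exact h2
    · exfalso
      have h3 : _root_.commutator ↥K = ⊥ := by
        rw [_root_.commutator_def, commutator_eq_bot_iff_le_centralizer]
        intro x _
        rw [mem_centralizer_iff]
        intro y _
        have h4 : x ∈ center ↥K := by rw [h2]; exact mem_top x
        exact mem_center_iff.mp h4 y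
      rw [hcom] at h3
      exact (top_ne_bot (α := Subgroup ↥K)) h3
  have e' : ↥K ⧸ center ↥K ≃* Cfsg.PSp 2 F :=
    ((QuotientGroup.quotientMulEquivOfEq hZ).trans QuotientGroup.quotientBot).trans e
  obtain ⟨S', -⟩ := Cfsg.Agent.StdRank2.B2Inst.exists_frame hcom (by rw [hZ, card_bot]; exact odd_one) e' S
  have htt : t * t = 1 := by rw [← pow_two, ← ht2, pow_orderOf_eq_one]
  exact ⟨_, rfl, SpFourK.kCent S' hZ htt ht htK hF, SpFourK.kAut S' hZ htt ht htK hF⟩

variable {F : Type*} [Field F] [CharP F 2] [Finite F] {G : Type u} [Group G] [Finite G]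
variable {B : Base F G} {K L Q R : Subgroup G}

/-- (F1) -/
theorem inner (hK : KCent B K) (hA : KAut B K) {T : Subgroup G} (hT : IsSyl T (normalizer (K : Set G))) {y : G}
    (hy : y ∈ T) (hc : ∀ s ∈ T, s ∈ K → s * y = y * s) :
    ∃ k ∈ centralizer (K : Set G), ∃ s ∈ T, s ∈ K ∧ (∀ u ∈ T, u ∈ K → u * s = s * u) ∧ y = k * s := by
  have hS : IsSyl (T ⊓ K) K := hT.inf le_normalizer hT.le
  obtain ⟨k, hk, hkS⟩ := hK.syl (T ⊓ K) inf_le_right hS.two
  have h1 : ∀ v, IsU B v → k⁻¹ * v * k ∈ T ⊓ K := by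
    have h2 : IsSyl (cj k (T ⊓ K)) K := by
      have h3 := hS.cj k
      rwa [cj_eq_of_mem_normalizer (le_normalizer (H := K) hk)] at h3
    have h3 : UU B ≤ cj k (T ⊓ K) := by
      apply h2.max _ isPGroup_UU
      · intro x hx
        rw [mem_cj] at hx
        obtain ⟨u, s, m, r, e⟩ := hkS _ hx
        have e2 : k * (k⁻¹ * x * k) * k⁻¹ = x := by group
        rw [e2] at e
        exact ⟨u, s, m, r, e⟩
      · intro v hv
        exact isU_memK hK.toKBase hv
    intro v hv
    exact mem_cj.mp (h3 hv)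
  have hyU : ∀ v, IsU B v → Commute (k * y * k⁻¹) v := by
    intro v hv
    have h2 := hc _ (h1 v hv).1 (h1 v hv).2
    show k * y * k⁻¹ * v = v * (k * y * k⁻¹)
    calc k * y * k⁻¹ * v = k * (y * (k⁻¹ * v * k)) * k⁻¹ := by group
      _ = _ := by rw [← h2]; group
  have hyN : k * y * k⁻¹ ∈ normalizer (K : Set G) :=
    mul_mem (mul_mem (le_normalizer (H := K) hk) (hT.le hy)) (inv_mem (le_normalizer (H := K) hk))
  obtain ⟨u, s, m, r, hv⟩ := hA _ hyN (fun w => hyU _ (isU_zs w)) (fun w => hyU _ (isU_zl w))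
  change ∀ x ∈ K, Commute ((nf B u s m r)⁻¹ * (k * y * k⁻¹)) x at hv
  have hvU : IsU B (nf B u s m r) := isU_nf _ _ _ _
  have hvK := isU_memK hK.toKBase hvU
  have hvc : ∀ w, IsU B w → Commute (nf B u s m r) w := by
    intro w hw
    have hv' : Commute ((nf B u s m r)⁻¹ * (k * y * k⁻¹)) w := hv w (isU_memK hK.toKBase hw)
    have h2 := (hyU w hw).mul_left hv'.inv_left
    have e2 : k * y * k⁻¹ * ((nf B u s m r)⁻¹ * (k * y * k⁻¹))⁻¹ = nf B u s m r := by group
    rwa [e2] at h2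
  refine ⟨(nf B u s m r)⁻¹ * (k * y * k⁻¹), ?_, k⁻¹ * nf B u s m r * k, (h1 _ hvU).1, (h1 _ hvU).2, ?_, ?_⟩
  · rw [mem_centralizer_iff]
    intro x hx
    exact (hv x hx).symm.eq
  · intro w hw hwK
    have h2 : IsU B (k * w * k⁻¹) := by
      obtain ⟨u, s, m, r, e⟩ := hkS w ⟨hw, hwK⟩
      exact ⟨u, s, m, r, e⟩
    have h3 := (hvc _ h2).eq
    calc w * (k⁻¹ * nf B u s m r * k) = k⁻¹ * (k * w * k⁻¹ * nf B u s m r) * k := by group
      _ = _ := by rw [← h3]; group
  · have h2 := (hv k hk).eq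
    have h3 := (hv _ (K.mul_mem (K.mul_mem (K.inv_mem hk) hvK) hk)).eq
    rw [h3]
    calc y = k⁻¹ * (k * y * k⁻¹) * k := by group
      _ = k⁻¹ * nf B u s m r * ((nf B u s m r)⁻¹ * (k * y * k⁻¹) * k) := by group
      _ = _ := by rw [h2]; group

end Cfsg.Agent.OddHalf.D4.SpFourSetup
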