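import Cfsg.Agent.OddHalf.D4.LineFilt
import Cfsg.Agent.OddHalf.SpN.SylU
import Cfsg.Agent.LieClassical.SympCenter

/-!
# ODD, D4, (1B): the K-fact `LineFacts` for `PSp_2n(q)`, `q ≥ 4` even (helper368)
-/

set_option autoImplicit false

namespace Cfsg.Agent.OddHalf.D4.LineSp

open Cfsg Subgroup Cfsg.Agent.ClassicalGeometry.SympBasic Cfsg.Agent.ClassicalGeometry.SympAutSemi
  Cfsg.Agent.OddHalf.SpN Cfsg.Agent.OddHalf.D4.Line Cfsg.Agent.OddHalf.D4.LineFilt
open scoped Matrix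

variable {n : ℕ} {F : Type*} [Field F]

/-! ### The star property -/

theorem rho_add (A : Sy n F) (u v : Ix n → F) : rho n F A (u + v) = rho n F A u + rho n F A v := by
  rw [rho_apply, rho_apply, rho_apply, Matrix.mulVec_add]

theorem rho_smul (A : Sy n F) (c : F) (v : Ix n → F) : rho n F A (c • v) = c • rho n F A v := by
  rw [rho_apply, rho_apply, Matrix.mulVec_smul]

variable [CharP F 2]

theorem star_sy {A : Sy n F} {i : Ix n} {a : F} (ha : a ≠ 0) (h : sy i a * A = A * sy i a) (b : F) :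
    sy i b * A = A * sy i b := by
  have key : ∀ v, (rho n F A v (neg i)) • be n F i = (v (neg i)) • rho n F A (be n F i) := by
    intro v
    have h1 := congrArg (fun B => rho n F B v) h
    simp only [map_mul, Equiv.Perm.mul_apply, rho_sy, rho_add, rho_smul] at h1
    have h2 := add_left_cancel h1
    rw [mul_smul, mul_smul] at h2
    exact smul_right_injective _ ha h2
  apply rho_injective
  ext v k
  simp only [map_mul, Equiv.Perm.mul_apply, rho_sy, rho_add, rho_smul]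
  rw [mul_smul, mul_smul, key]

theorem star_sx {A : Sy n F} {i j : Ix n} (hij : Dj i j) {a : F} (ha : a ≠ 0) (h : sx i j a * A = A * sx i j a)
    (b : F) : sx i j b * A = A * sx i j b := by
  have key : ∀ v, (rho n F A v (neg j)) • be n F i + (rho n F A v (neg i)) • be n F j =
      (v (neg j)) • rho n F A (be n F i) + (v (neg i)) • rho n F A (be n F j) := by
    intro v
    have h1 := congrArg (fun B => rho n F B v) h
    simp only [map_mul, Equiv.Perm.mul_apply, rho_sx hij, rho_add, rho_smul] at h1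
    rw [add_assoc, add_assoc] at h1
    have h2 := add_left_cancel h1
    rw [mul_smul, mul_smul, mul_smul, mul_smul, ← smul_add, ← smul_add] at h2
    exact smul_right_injective _ ha h2
  apply rho_injective
  ext v k
  simp only [map_mul, Equiv.Perm.mul_apply, rho_sx hij, rho_add, rho_smul]
  rw [add_assoc, add_assoc, mul_smul, mul_smul, mul_smul, mul_smul, ← smul_add, ← smul_add, key]

/-! ### The root groups -/

/-- the long root group -/
def Ly (i : Ix n) : Subgroup (Sy n F) where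
  carrier := {A | ∃ a, A = sy i a}
  one_mem' := ⟨0, (sy_zero i).symm⟩
  mul_mem' := by
    rintro _ _ ⟨a, rfl⟩ ⟨b, rfl⟩
    exact ⟨a + b, (sy_add i a b).symm⟩
  inv_mem' := by
    rintro _ ⟨a, rfl⟩
    exact ⟨a, inv_eq_of_mul_eq_one_right (sy_sq i a)⟩

/-- the short root group -/
def Lx (i j : Ix n) : Subgroup (Sy n F) where
  carrier := {A | ∃ a, A = sx i j a}
  one_mem' := ⟨0, (sx_zero i j).symm⟩
  mul_mem' := by
    rintro _ _ ⟨a, rfl⟩ ⟨b, rfl⟩
    exact ⟨a + b, (sx_add i j a b).symm⟩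
  inv_mem' := by
    rintro _ ⟨a, rfl⟩
    exact ⟨a, inv_eq_of_mul_eq_one_right (sx_sq i j a)⟩

theorem isLine_Ly [Finite F] (hF : 3 ≤ Nat.card F) (S : Subgroup (Sy n F)) (i : Ix n) : IsLine S (Ly i) where
  sq := by
    rintro _ ⟨a, rfl⟩
    exact sy_sq i a
  card := by
    refine hF.trans (Nat.card_le_card_of_injective (fun a : F => (⟨sy i a, a, rfl⟩ : ↥(Ly (F := F) i))) ?_)
    intro a b hab
    exact sy_inj (congrArg Subtype.val hab)
  star := by
    rintro y - _ ⟨a, rfl⟩ ha hy _ ⟨b, rfl⟩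
    refine star_sy ?_ hy b
    rintro rfl
    exact ha (sy_zero i)

theorem isLine_Lx [Finite F] (hF : 3 ≤ Nat.card F) (S : Subgroup (Sy n F)) {i j : Ix n} (hij : Dj i j) :
    IsLine S (Lx i j) where
  sq := by
    rintro _ ⟨a, rfl⟩
    exact sx_sq i j a
  card := by
    refine hF.trans (Nat.card_le_card_of_injective (fun a : F => (⟨sx i j a, a, rfl⟩ : ↥(Lx (F := F) i j))) ?_)
    intro a b hab
    exact sx_inj hij (congrArg Subtype.val hab)
  star := by
    rintro y - _ ⟨a, rfl⟩ ha hy _ ⟨b, rfl⟩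
    refine star_sx hij ?_ hy b
    rintro rfl
    exact ha (sx_zero i j)

/-! ### Commutators -/

theorem comm_sx {i j k l : Ix n} (hij : Dj i j) (hkl : Dj k l) (hp : 0 < Fd i + Fd j) (hq : 0 < Fd k + Fd l)
    (a b : F) : sx i j a * sx k l b * (sx i j a)⁻¹ * (sx k l b)⁻¹ = 1 ∨
      ∃ r s c, Dj r s ∧ Fd r + Fd s = (Fd i + Fd j) + (Fd k + Fd l) ∧
        sx i j a * sx k l b * (sx i j a)⁻¹ * (sx k l b)⁻¹ = sx r s c := by
  -- one opposite pair of indices: `k = -j`
  have aux : ∀ i j l : Ix n, Dj i j → Dj (neg j) l → 0 < Fd i + Fd j → 0 < Fd (neg j) + Fd l → ∀ a b : F,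
      sx i j a * sx (neg j) l b * (sx i j a)⁻¹ * (sx (neg j) l b)⁻¹ = 1 ∨
      ∃ r s c, Dj r s ∧ Fd r + Fd s = (Fd i + Fd j) + (Fd (neg j) + Fd l) ∧
        sx i j a * sx (neg j) l b * (sx i j a)⁻¹ * (sx (neg j) l b)⁻¹ = sx r s c := by
    intro i j l hij hjl hp hq a b
    have hjl' : Dj j l := dj_neg_left.1 hjl
    rw [Fd_neg] at hq
    have hil : i ≠ neg l := by
      intro e
      rw [e, Fd_neg] at hp
      omega
    by_cases e1 : i = l
    · left
      subst e1
      have hc : Commute (sx i j a) (sx (neg j) i b) := by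
        rw [sx_symm i j]
        exact sx_comm' a b
      rw [hc.eq]; group
    · right
      refine ⟨i, l, a * b, ⟨e1, hil⟩, by rw [Fd_neg]; ring, ?_⟩
      rw [sx_rel hij hjl' ⟨e1, hil⟩]
      group
  by_cases h1 : k = neg j
  · subst h1; exact aux i j l hij hkl hp hq a b
  by_cases h2 : k = neg i
  · subst h2
    rw [sx_symm i j, add_comm (Fd i)]
    exact aux j i l hij.symm hkl (by omega) hq a b
  by_cases h3 : l = neg j
  · subst h3
    rw [sx_symm k, add_comm (Fd k)]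
    exact aux i j k hij hkl.symm hp (by omega) a b
  by_cases h4 : l = neg i
  · subst h4
    rw [sx_symm k, add_comm (Fd k), sx_symm i j, add_comm (Fd i)]
    exact aux j i k hij.symm hkl.symm (by omega) (by omega) a b
  left
  have hc : Commute (sx i j a) (sx k l b) := sx_comm h2 h1 h4 h3 a b
  rw [hc.eq]; group

/-- `[y_i, x_{j k}]` -/
theorem comm_sy_sx {i j k : Ix n} (hjk : Dj j k) (_hi : 0 < Fd i) (hq : 0 < Fd j + Fd k) (a b : F) :
    sy i a * sx j k b * (sy i a)⁻¹ * (sx j k b)⁻¹ = 1 ∨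
      ∃ r c d, Dj i r ∧ Fd i < Fd r ∧ Fd i + Fd r = 2 * Fd i + (Fd j + Fd k) ∧
        sy i a * sx j k b * (sy i a)⁻¹ * (sx j k b)⁻¹ = sx i r c * sy r d := by
  have aux : ∀ k : Ix n, Dj (neg i) k → 0 < Fd (neg i) + Fd k → ∀ b : F,
      ∃ r c d, Dj i r ∧ Fd i < Fd r ∧ Fd i + Fd r = 2 * Fd i + (Fd (neg i) + Fd k) ∧
        sy i a * sx (neg i) k b * (sy i a)⁻¹ * (sx (neg i) k b)⁻¹ = sx i r c * sy r d := by
    intro k hk hk' b
    have hik : Dj i k := dj_neg_left.1 hk
    rw [Fd_neg] at hk'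
    refine ⟨k, a * b, a * b ^ 2, hik, by omega, by rw [Fd_neg]; ring, ?_⟩
    rw [sy_rel hik]
    group
  by_cases h1 : j = neg i
  · subst h1
    exact Or.inr (aux k hjk hq b)
  by_cases h2 : k = neg i
  · subst h2
    rw [sx_symm j, add_comm (Fd j)]
    exact Or.inr (aux j hjk.symm (by omega) b)
  left
  have hc : Commute (sy i a) (sx j k b) := sy_sx_comm h1 h2 a b
  rw [hc.eq]; group

/-! ### The family of the positive root groups -/

/-- the positive roots -/
abbrev Ro (n : ℕ) : Type := {p : Ix n × Ix n // 0 < Fd p.1 + Fd p.2 ∧ (Dj p.1 p.2 ∨ p.1 = p.2)}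

open Classical in
/-- the root groups -/
noncomputable def Yr (F : Type*) [Field F] [CharP F 2] (p : Ro n) : Subgroup (Sy n F) :=
  if p.1.1 = p.1.2 then Ly p.1.1 else Lx p.1.1 p.1.2

/-- the degree -/
def wt (p : Ro n) : ℕ := (Fd p.1.1 + Fd p.1.2).toNat

theorem wt_cast (p : Ro n) : (wt p : ℤ) = Fd p.1.1 + Fd p.1.2 := by
  have := p.2.1
  unfold wt
  omega

theorem sx_mem_V {i j : Ix n} (hij : Dj i j) (h : 0 < Fd i + Fd j) {d : ℕ} (hd : (d : ℤ) ≤ Fd i + Fd j) (a : F) :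
    sx i j a ∈ V (Yr (n := n) F) wt d := by
  have h1 := wt_cast (n := n) ⟨(i, j), h, Or.inl hij⟩
  refine le_V (Y := Yr F) (w := wt) (i := ⟨(i, j), h, Or.inl hij⟩) (by
    have : (wt (n := n) ⟨(i, j), h, Or.inl hij⟩ : ℤ) = Fd i + Fd j := h1
    omega) ?_
  unfold Yr
  rw [if_neg (show ¬ i = j from hij.1)]
  exact ⟨a, rfl⟩

theorem sy_mem_V {i : Ix n} (h : 0 < Fd i) {d : ℕ} (hd : (d : ℤ) ≤ 2 * Fd i) (a : F) :
    sy i a ∈ V (Yr (n := n) F) wt d := by
  have h1 := wt_cast (n := n) ⟨(i, i), by show 0 < Fd i + Fd i; omega, Or.inr rfl⟩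
  refine le_V (Y := Yr F) (w := wt) (i := ⟨(i, i), by show 0 < Fd i + Fd i; omega, Or.inr rfl⟩) (by
    have : (wt (n := n) ⟨(i, i), by show 0 < Fd i + Fd i; omega, Or.inr rfl⟩ : ℤ) = Fd i + Fd i := h1
    omega) ?_
  unfold Yr
  rw [if_pos rfl]
  exact ⟨a, rfl⟩

theorem mem_Yr {p : Ro n} {A : Sy n F} (hA : A ∈ Yr F p) :
    (∃ i a, p.1 = (i, i) ∧ 0 < Fd i ∧ A = sy i a) ∨ (∃ i j a, p.1 = (i, j) ∧ Dj i j ∧ 0 < Fd i + Fd j ∧ A = sx i j a) := by
  obtain ⟨⟨i, j⟩, h1, h2⟩ := p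
  unfold Yr at hA
  simp only at hA h1 h2
  split_ifs at hA with h
  · subst h
    obtain ⟨a, rfl⟩ := hA
    exact Or.inl ⟨i, a, rfl, by omega, rfl⟩
  · obtain ⟨a, rfl⟩ := hA
    exact Or.inr ⟨i, j, a, rfl, h2.resolve_right h, h1, rfl⟩

theorem comm_mem_inv {G : Type*} [Group G] {H : Subgroup G} {a b : G} (h : a * b * a⁻¹ * b⁻¹ ∈ H) :
    b * a * b⁻¹ * a⁻¹ ∈ H := by
  have := inv_mem h
  have e : (a * b * a⁻¹ * b⁻¹)⁻¹ = b * a * b⁻¹ * a⁻¹ := by group
  rwa [e] at this

/-- long-short commutators -/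
theorem comm_mem_ls {i j k : Ix n} (hjk : Dj j k) (hi : 0 < Fd i) (hq : 0 < Fd j + Fd k) (a b : F) {d : ℕ}
    (hd : (d : ℤ) ≤ max (2 * Fd i) (Fd j + Fd k) + 1) :
    sy i a * sx j k b * (sy i a)⁻¹ * (sx j k b)⁻¹ ∈ V (Yr (n := n) F) wt d := by
  rcases comm_sy_sx hjk hi hq a b with h | ⟨r, c, d', hir, hlt, heq, h⟩
  · rw [h]; exact one_mem _
  · rw [h]
    have h1 : max (2 * Fd i) (Fd j + Fd k) + 1 ≤ Fd i + Fd r := by
      rcases le_total (2 * Fd i) (Fd j + Fd k) with h2 | h2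
      · rw [max_eq_right h2]; omega
      · rw [max_eq_left h2]; omega
    exact mul_mem (sx_mem_V hir (by omega) (by omega) c) (sy_mem_V (by omega) (by omega) d')

theorem comm_family (p q : Ro n) : ∀ a ∈ Yr F p, ∀ b ∈ Yr F q, a * b * a⁻¹ * b⁻¹ ∈ V (Yr (n := n) F) wt (wt q + 1) := by
  intro A hA B hB
  have hwp := wt_cast p
  have hwq := wt_cast q
  rcases mem_Yr hA with ⟨i, a, e1, h1, rfl⟩ | ⟨i, j, a, e1, h1, h1', rfl⟩ <;>
    rcases mem_Yr hB with ⟨k, b, e2, h2, rfl⟩ | ⟨k, l, b, e2, h2, h2', rfl⟩ <;>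
      rw [e1] at hwp <;> rw [e2] at hwq <;> simp only at hwp hwq
  · have hne : k ≠ neg i := by
      rintro rfl
      rw [Fd_neg] at h2
      omega
    have hc : Commute (sy i a) (sy k b) := sy_comm hne a b
    have e : sy i a * sy k b * (sy i a)⁻¹ * (sy k b)⁻¹ = 1 := by rw [hc.eq]; group
    rw [e]; exact one_mem _
  · refine comm_mem_ls h2 h1 h2' a b ?_
    have := le_max_right (2 * Fd i) (Fd k + Fd l)
    push_cast
    omega
  · refine comm_mem_inv (comm_mem_ls h1 h2 h1' b a ?_)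
    have := le_max_left (2 * Fd k) (Fd i + Fd j)
    push_cast
    omega
  · rcases comm_sx h1 h2 h1' h2' a b with h | ⟨r, s, c, hrs, heq, h⟩
    · rw [h]; exact one_mem _
    · rw [h]
      exact sx_mem_V hrs (by omega) (by push_cast; omega) c

theorem V_zero : V (Yr (n := n) F) wt 0 = Upos n F := by
  apply le_antisymm
  · refine V_le fun p _ => ?_
    intro A hA
    rcases mem_Yr hA with ⟨i, a, -, h1, rfl⟩ | ⟨i, j, a, -, h1, h1', rfl⟩
    · exact sy_mem_Upos h1 a
    · exact sx_mem_Upos h1 h1' a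
  · rw [Upos, closure_le]
    rintro A (⟨i, j, hij, h, a, rfl⟩ | ⟨i, h, a, rfl⟩)
    · exact sx_mem_V hij h (by push_cast; omega) a
    · exact sy_mem_V h (by push_cast; omega) a

/-- **`Sp_2n(q)`** -/
theorem lineFacts_sy [Finite F] (hF : 3 ≤ Nat.card F) : LineFacts (Sy n F) := by
  have : Fact (Nat.Prime 2) := ⟨Nat.prime_two⟩
  refine lineFacts_of_max (S₀ := Upos n F) (U := V (Yr (n := n) F) wt) isPGroup_Upos ?_ ?_
  · intro Q hQ hle
    have h1 : Odd ((Upos n F).relIndex Q) := by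
      have h2 := Subgroup.relIndex_mul_index hle
      have h3 := odd_index_Upos (n := n) (F := F)
      rw [← h2] at h3
      exact Nat.Odd.of_mul_left h3
    have h2 : ∃ k, (Upos n F).relIndex Q = 2 ^ k := hQ.index _
    obtain ⟨k, hk⟩ := h2
    have h3 : (Upos n F).relIndex Q = 1 := by
      rcases Nat.eq_zero_or_pos k with h4 | h4
      · rw [hk, h4, pow_zero]
      · exfalso
        rw [hk] at h1
        exact (Nat.not_even_iff_odd.2 h1) (even_two.pow_of_ne_zero h4.ne')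
    exact le_antisymm (Subgroup.relIndex_eq_one.1 h3) hle
  · rw [← V_zero]
    refine filt_of_family comm_family ?_ ?_
    · obtain ⟨N, hN⟩ := (Set.finite_range (wt (n := n))).bddAbove
      exact ⟨N + 1, fun i => Nat.lt_succ_of_le (hN ⟨i, rfl⟩)⟩
    · intro p x hx
      refine subset_closure (Or.inl ⟨Yr F p, le_V le_rfl, ?_, hx⟩)
      unfold Yr
      split_ifs with h
      · exact isLine_Ly hF _ _
      · exact isLine_Lx hF _ (p.2.2.resolve_right h)

/-- **`PSp_2n(q)`** -/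
theorem lineFacts_psp {m : ℕ} (hm : 1 ≤ m) [Fintype F] (hF : 3 ≤ Fintype.card F) : LineFacts (Cfsg.PSp m F) := by
  have h1 : Subgroup.center (Sy m F) = ⊥ := by
    rw [Subgroup.eq_bot_iff_card, Cfsg.Agent.LieClassical.SympCenter.card_center hm]
    have h2 : 2 ∣ Fintype.card F := by
      obtain ⟨k, hk, h⟩ := FiniteField.card F 2
      rw [h]
      exact dvd_pow_self 2 k.ne_zero
    have h3 : ¬ 2 ∣ Fintype.card F - 1 := by omega
    exact ((Nat.prime_two.coprime_iff_not_dvd).2 h3)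
  exact lineFacts_of_equiv ((QuotientGroup.quotientMulEquivOfEq h1).trans QuotientGroup.quotientBot).symm
    (lineFacts_sy (n := m) (by rwa [Nat.card_eq_fintype_card]))

end Cfsg.Agent.OddHalf.D4.LineSp
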