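import Mathlib
import Cfsg.Agent.OddHalf.D4.LineR

/-!
# ODD, D4: outer elements of the hull (helper228's LEMMA OUT)

`Γ` acts on the abelian group `V`, `χ : V →* B` is invariant under `Y ≤ Γ`, `E ≤ Y` acts freely on `Γ ⧸ Y` minus the base
point and has norm one on `V`: then `χ` is `Γ`-invariant.
-/

set_option autoImplicit false

namespace Cfsg.Agent.OddHalf.D4.LemmaOut

open Cfsg Subgroup Cfsg.Agent.OddHalf.D4 Cfsg.Agent.OddHalf.D4.Basic Cfsg.Agent.OddHalf.D4.BaryEnd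
open Cfsg.Agent.OddHalf.D4.Line Cfsg.Agent.OddHalf.D4.BaryGen Cfsg.Agent.OddHalf.D4.KMax
open Cfsg.Agent.OddHalf.D4.LineR
open Cfsg.Agent.OddHalf.D4.CommConj (Tight MaxE cj mem_cj mem_cj_mul exists_central_involution)

section Free

variable {E Ω A : Type*} [Group E] [MulAction E Ω] [CommMonoid A]

/-- A product over a free finite `E`-set vanishes if all products over orbits do. -/
theorem prod_free' [Fintype E] [Fintype Ω] (F : Ω → A) (free : ∀ c : Ω, ∀ s : E, s • c = c → s = 1)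
    (norm : ∀ c : Ω, ∏ s : E, F (s • c) = 1) : ∏ c : Ω, F c = 1 := by
  classical
  rw [← Finset.prod_fiberwise_of_maps_to (s := (Finset.univ : Finset Ω))
    (t := (Finset.univ : Finset (MulAction.orbitRel.Quotient E Ω)))
    (g := fun c => (Quotient.mk'' c : MulAction.orbitRel.Quotient E Ω)) (fun _ _ => Finset.mem_univ _)]
  apply Finset.prod_eq_one
  intro ω _
  induction ω using Quotient.inductionOn' with
  | h c0 =>
    have key : ∏ c ∈ (Finset.univ : Finset Ω) with (Quotient.mk'' c : MulAction.orbitRel.Quotient E Ω) =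
        Quotient.mk'' c0, F c = ∏ s : E, F (s • c0) := by
      symm
      apply Finset.prod_bij (fun s _ => s • c0)
      · intro s _
        simp only [Finset.mem_filter, Finset.mem_univ, true_and]
        rw [Quotient.eq'']
        exact ⟨s, rfl⟩
      · intro s _ s' _ h
        have h1 : (s'⁻¹ * s) • c0 = c0 := by
          rw [mul_smul, show s • c0 = s' • c0 from h, ← mul_smul, inv_mul_cancel, one_smul]
        have h2 := free _ _ h1
        exact (inv_mul_eq_one.mp h2).symm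
      · intro c hc
        simp only [Finset.mem_filter, Finset.mem_univ, true_and] at hc
        rw [Quotient.eq''] at hc
        obtain ⟨s, hs⟩ := hc
        exact ⟨s, Finset.mem_univ _, hs⟩
      · intro s _
        rfl
    rw [key, norm c0]

end Free

section Main

variable {Γ V B : Type*} [Group Γ] [CommGroup V] [MulDistribMulAction Γ V] [CommGroup B]

/-- The conjugate of `χ` attached to a coset. -/
def cchi (Y : Subgroup Γ) (χ : V →* B) (hχ : ∀ y ∈ Y, ∀ v, χ (y • v) = χ v) (v : V) (c : Γ ⧸ Y) : B :=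
  Quotient.liftOn' c (fun g => χ (g⁻¹ • v)) (by
    intro g h hgh
    rw [QuotientGroup.leftRel_apply] at hgh
    have h1 : h⁻¹ = (g⁻¹ * h)⁻¹ * g⁻¹ := by group
    show χ (g⁻¹ • v) = χ (h⁻¹ • v)
    rw [h1, mul_smul, hχ _ (inv_mem hgh)])

theorem cchi_mk {Y : Subgroup Γ} {χ : V →* B} (hχ : ∀ y ∈ Y, ∀ v, χ (y • v) = χ v) (v : V) (g : Γ) :
    cchi Y χ hχ v (g : Γ ⧸ Y) = χ (g⁻¹ • v) := rfl

theorem cchi_smul {Y : Subgroup Γ} {χ : V →* B} (hχ : ∀ y ∈ Y, ∀ v, χ (y • v) = χ v) (v : V) (x : Γ)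
    (c : Γ ⧸ Y) : cchi Y χ hχ (x • v) (x • c) = cchi Y χ hχ v c := by
  induction c using Quotient.inductionOn' with
  | h g =>
    change χ ((x * g)⁻¹ • (x • v)) = χ (g⁻¹ • v)
    rw [mul_inv_rev, mul_smul g⁻¹ x⁻¹, inv_smul_smul]

theorem cchi_prod {Y : Subgroup Γ} {χ : V →* B} (hχ : ∀ y ∈ Y, ∀ v, χ (y • v) = χ v) {ι : Type*}
    (s : Finset ι) (f : ι → V) (c : Γ ⧸ Y) : cchi Y χ hχ (∏ i ∈ s, f i) c = ∏ i ∈ s, cchi Y χ hχ (f i) c := by
  induction c using Quotient.inductionOn' with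
  | h g =>
    change χ (g⁻¹ • ∏ i ∈ s, f i) = ∏ i ∈ s, χ (g⁻¹ • f i)
    rw [Finset.smul_prod', map_prod]

/-- **LEMMA OUT.** -/
theorem chi_inv [Finite Γ] {Y E : Subgroup Γ} (hEY : E ≤ Y) {χ : V →* B}
    (hχ : ∀ y ∈ Y, ∀ v, χ (y • v) = χ v) [Fintype ↥E]
    (semi : ∀ g : Γ, g ∉ Y → ∀ s ∈ E, g⁻¹ * s * g ∈ Y → s = 1)
    (norm : ∀ v : V, ∏ s : ↥E, (s : Γ) • v = 1) (g : Γ) (v : V) : χ (g • v) = χ v := by
  classical
  have := Fintype.ofFinite (Γ ⧸ Y)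
  have key : ∀ v : V, ∏ c : Γ ⧸ Y, cchi Y χ hχ v c = χ v := by
    intro v
    rw [Fintype.prod_eq_mul_prod_subtype_ne _ (((1 : Γ) : Γ ⧸ Y))]
    have h1 : cchi Y χ hχ v ((1 : Γ) : Γ ⧸ Y) = χ v := by
      rw [cchi_mk]; simp
    rw [h1]
    have h2 : ∏ c : ↥(Bary.off hEY), cchi Y χ hχ v (c : Γ ⧸ Y) = 1 := by
      apply prod_free' (E := ↥E) (Ω := ↥(Bary.off hEY)) (fun c => cchi Y χ hχ v (c : Γ ⧸ Y))
      · intro c s hsc
        obtain ⟨c, hc⟩ := c
        induction c using Quotient.inductionOn' with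
        | h g =>
          have h4 : (((s : Γ) * g : Γ) : Γ ⧸ Y) = (g : Γ ⧸ Y) := congrArg Subtype.val hsc
          have h5 : g ∉ Y := by
            intro hg
            apply hc
            change (g : Γ ⧸ Y) = ((1 : Γ) : Γ ⧸ Y)
            rw [QuotientGroup.eq]
            simpa using inv_mem hg
          rw [eq_comm, QuotientGroup.eq] at h4
          have h6 : g⁻¹ * (s : Γ) * g ∈ Y := by simpa [mul_assoc] using h4
          exact Subtype.ext (semi g h5 s s.2 h6)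
      · intro c
        have h3 : ∀ s : ↥E, cchi Y χ hχ v ((s • c : ↥(Bary.off hEY)) : Γ ⧸ Y) =
            cchi Y χ hχ (((s : Γ))⁻¹ • v) (c : Γ ⧸ Y) := by
          intro s
          have h4 := cchi_smul hχ (((s : Γ))⁻¹ • v) (s : Γ) (c : Γ ⧸ Y)
          rw [smul_inv_smul] at h4
          exact h4
        simp_rw [h3]
        rw [← cchi_prod hχ]
        have h4 : ∏ s : ↥E, ((s : Γ))⁻¹ • v = 1 := by
          rw [← norm v]
          refine Fintype.prod_equiv (Equiv.inv ↥E) _ _ fun s => ?_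
          simp
        rw [h4]
        have h5 := cchi_prod hχ (∅ : Finset Unit) (fun _ => (1 : V)) (c : Γ ⧸ Y)
        simpa using h5
    have h3 : ∏ c : {c : Γ ⧸ Y // c ≠ ((1 : Γ) : Γ ⧸ Y)}, cchi Y χ hχ v (c : Γ ⧸ Y) = 1 := by
      refine Eq.trans ?_ h2
      exact @Fintype.prod_equiv {c : Γ ⧸ Y // c ≠ ((1 : Γ) : Γ ⧸ Y)} ↥(Bary.off hEY) B _ _ _ (Equiv.refl _) _ _
        fun _ => rfl
    rw [h3, mul_one]
  rw [← key (g • v), ← key v]
  refine (Fintype.prod_equiv (MulAction.toPerm g) (fun c => cchi Y χ hχ v c)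
    (fun c => cchi Y χ hχ (g • v) c) ?_).symm
  intro c
  exact (cchi_smul hχ v g c).symm

end Main

/-! ### The hull -/

/-- **LEMMA OUT for the hull**: `χ` vanishes on `V₀`, hence on `⟨V₀^n⟩`. -/
theorem hull_out {G : Type*} [Group G] [Finite G] {M N V₀ T : Subgroup G} {B : Type*} [CommGroup B] (χ : ↥M →* B)
    (hVM : ∀ v ∈ hull N V₀, v ∈ M)
    (hab : ∀ x ∈ hull N V₀, ∀ y ∈ hull N V₀, x * y = y * x)
    (hCM : ∀ n ∈ N, (∀ v ∈ hull N V₀, n * v = v * n) → n ∈ M)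
    (hχ0 : ∀ v ∈ V₀, ∀ hv : v ∈ M, χ ⟨v, hv⟩ = 1)
    (hTN : T ≤ N) (hTM : T ≤ M)
    (semi : ∀ n ∈ N, n ∉ M → ∀ s ∈ T, n⁻¹ * s * n ∈ M → ∀ v ∈ hull N V₀, s * v = v * s)
    (htr : ∀ v ∈ hull N V₀, ∃ a ∈ T, ∃ b ∈ T,
      (∀ w ∈ hull N V₀, a * a * w = w * (a * a)) ∧ (∀ w ∈ hull N V₀, b * b * w = w * (b * b)) ∧
      (∀ w ∈ hull N V₀, a * b * w * (a * b)⁻¹ = b * a * w * (b * a)⁻¹) ∧
      (∃ w ∈ hull N V₀, a * w ≠ w * a) ∧ (∃ w ∈ hull N V₀, b * w ≠ w * b) ∧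
      (∃ w ∈ hull N V₀, a⁻¹ * b * w ≠ w * (a⁻¹ * b)) ∧
      v * (a * v * a⁻¹) * (b * v * b⁻¹) * (a * b * v * (a * b)⁻¹) = 1) :
    ∀ v ∈ hull N V₀, ∀ hv : v ∈ M, χ ⟨v, hv⟩ = 1 := by
  classical
  set V := hull N V₀ with hV
  have hV₀V : V₀ ≤ V := fun x hx => subset_closure ⟨1, one_mem _, x, hx, by group⟩
  let hcg : CommGroup ↥V := { (inferInstance : Group ↥V) with mul_comm := fun x y => Subtype.ext (hab x x.2 y y.2) }
  let χ' : ↥V →* B :=
    { toFun := fun v => χ ⟨v, hVM v v.2⟩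
      map_one' := by
        have : (⟨((1 : ↥V) : G), hVM _ (1 : ↥V).2⟩ : ↥M) = 1 := rfl
        rw [this, map_one]
      map_mul' := fun x y => by
        have : (⟨((x * y : ↥V) : G), hVM _ (x * y).2⟩ : ↥M) = ⟨x, hVM x x.2⟩ * ⟨y, hVM y y.2⟩ := rfl
        rw [this, map_mul] }
  let hact : MulDistribMulAction ↥N ↥V := conjAct N V (fun n hn v hv => hull_cj hn hv)
  have hsmul : ∀ (n : ↥N) (v : ↥V), ((n • v : ↥V) : G) = n * v * (n : G)⁻¹ := fun _ _ => rfl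
  -- the group of automorphisms
  let φ : ↥N →* MulAut ↥V := MulDistribMulAction.toMulAut ↥N ↥V
  let ψ : ↥N →* ↥φ.range := φ.rangeRestrict
  have hψs : Function.Surjective ψ := φ.rangeRestrict_surjective
  have : Finite ↥φ.range := Finite.of_surjective ψ hψs
  have hψ : ∀ (n : ↥N) (v : ↥V), ψ n • v = n • v := fun _ _ => rfl
  have hker : ∀ n : ↥N, ψ n = 1 ↔ ∀ v ∈ V, (n : G) * v = v * n := by
    intro n
    constructor
    · intro h1 v hv
      have h2 := hψ n ⟨v, hv⟩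
      rw [h1, one_smul] at h2
      have h3 : v = (n : G) * v * (n : G)⁻¹ := congrArg Subtype.val h2
      calc (n : G) * v = (n : G) * v * (n : G)⁻¹ * n := by group
        _ = v * n := by rw [← h3]
    · intro h1
      apply Subtype.ext
      apply MulEquiv.ext
      intro v
      show n • v = v
      apply Subtype.ext
      rw [hsmul, h1 v v.2]
      group
  have hψeq : ∀ a b : ↥N, ψ a = ψ b → ∀ v ∈ V, ((a : G)⁻¹ * b) * v = v * ((a : G)⁻¹ * b) := by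
    intro a b h1
    have h2 : ψ (a⁻¹ * b) = 1 := by rw [map_mul, map_inv, h1, inv_mul_cancel]
    exact (hker _).mp h2
  let Y : Subgroup ↥φ.range := (M.subgroupOf N).map ψ
  let E : Subgroup ↥φ.range := (T.subgroupOf N).map ψ
  let hfE : Fintype ↥E := Fintype.ofFinite _
  have hEY : E ≤ Y := by
    rintro _ ⟨t, ht', rfl⟩
    exact ⟨t, mem_subgroupOf.mpr (hTM (mem_subgroupOf.mp ht')), rfl⟩
  have key := chi_inv (Γ := ↥φ.range) (V := ↥V) (Y := Y) (E := E) hEY (χ := χ') (by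
      rintro _ ⟨y, hy, rfl⟩ v
      have hyM : (y : G) ∈ M := mem_subgroupOf.mp hy
      have e : (⟨((ψ y • v : ↥V) : G), hVM _ (ψ y • v : ↥V).2⟩ : ↥M) =
          ⟨y, hyM⟩ * ⟨v, hVM v v.2⟩ * ⟨y, hyM⟩⁻¹ := rfl
      show χ ⟨((ψ y • v : ↥V) : G), hVM _ (ψ y • v : ↥V).2⟩ = χ ⟨v, hVM v v.2⟩
      rw [e, map_mul, map_mul, map_inv, mul_comm (χ ⟨(y : G), hyM⟩), mul_assoc, mul_inv_cancel, mul_one]) (by
      intro g hg s hs hgs
      obtain ⟨g, rfl⟩ := hψs g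
      obtain ⟨s, hs, rfl⟩ := hs
      obtain ⟨y, hy, hyg⟩ := hgs
      have h1 : ψ y = ψ (g⁻¹ * s * g) := by rw [hyg, map_mul, map_mul, map_inv]
      have h2 := hψeq _ _ h1
      have h3 : ((y : G))⁻¹ * ((g⁻¹ * s * g : ↥N) : G) ∈ M :=
        hCM _ (mul_mem (inv_mem y.2) (g⁻¹ * s * g : ↥N).2) h2
      have h4 : (g : G)⁻¹ * s * g ∈ M := by
        have h5 := mul_mem (mem_subgroupOf.mp hy) h3
        have e : (y : G) * ((y : G)⁻¹ * ((g⁻¹ * s * g : ↥N) : G)) = (g : G)⁻¹ * s * g := by push_cast; group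
        rwa [e] at h5
      have h5 : (g : G) ∉ M := fun h => hg ⟨g, mem_subgroupOf.mpr h, rfl⟩
      exact (hker s).mpr (semi _ g.2 h5 _ (mem_subgroupOf.mp hs) h4)) (by
      intro v
      obtain ⟨a, ha, b, hb, ha2, hb2, hab', ⟨w₁, hw₁, hne₁⟩, ⟨w₂, hw₂, hne₂⟩, ⟨w₃, hw₃, hne₃⟩, htr'⟩ :=
        htr v v.2
      have haN : a ∈ N := hTN ha
      have hbN : b ∈ N := hTN hb
      let a' : ↥E := ⟨ψ ⟨a, haN⟩, ⟨⟨a, haN⟩, mem_subgroupOf.mpr ha, rfl⟩⟩
      let b' : ↥E := ⟨ψ ⟨b, hbN⟩, ⟨⟨b, hbN⟩, mem_subgroupOf.mpr hb, rfl⟩⟩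
      have ha3 : a' * a' = 1 := by
        apply Subtype.ext
        show ψ ⟨a, haN⟩ * ψ ⟨a, haN⟩ = 1
        rw [← map_mul]
        exact (hker _).mpr ha2
      have hb3 : b' * b' = 1 := by
        apply Subtype.ext
        show ψ ⟨b, hbN⟩ * ψ ⟨b, hbN⟩ = 1
        rw [← map_mul]
        exact (hker _).mpr hb2
      have hab3 : a' * b' = b' * a' := by
        apply Subtype.ext
        show ψ ⟨a, haN⟩ * ψ ⟨b, hbN⟩ = ψ ⟨b, hbN⟩ * ψ ⟨a, haN⟩
        rw [← map_mul, ← map_mul]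
        apply Subtype.ext
        apply MulEquiv.ext
        intro w
        exact Subtype.ext (hab' w w.2)
      have htr3 : v * a' • v * b' • v * (a' * b') • v = 1 := by
        apply Subtype.ext
        show (v : G) * (a * v * a⁻¹) * (b * v * b⁻¹) * (a * (b * v * b⁻¹) * a⁻¹) = 1
        rw [← htr']
        group
      refine prod_smul_eq_one (Y := ↥E) (V := ↥V) (a := a') (b := b') ha3 hb3 hab3 ?_ ?_ ?_
        (v := v) htr3
      · intro h
        exact hne₁ ((hker ⟨a, haN⟩).mp (congrArg Subtype.val h) w₁ hw₁)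
      · intro h
        exact hne₂ ((hker ⟨b, hbN⟩).mp (congrArg Subtype.val h) w₂ hw₂)
      · intro h
        exact hne₃ (hψeq ⟨a, haN⟩ ⟨b, hbN⟩ (congrArg Subtype.val h) w₃ hw₃))
  -- conclusion
  have key2 : ∀ (n : ↥N) (v : ↥V), χ' (n • v) = χ' v := fun n v => by
    rw [← hψ]; exact key _ v
  intro v hv
  have hv' : v ∈ closure {y | ∃ n ∈ N, ∃ x ∈ V₀, y = n * x * n⁻¹} := hv
  have key3 : ∀ v ∈ closure {y | ∃ n ∈ N, ∃ x ∈ V₀, y = n * x * n⁻¹}, ∀ hv : v ∈ M, χ ⟨v, hv⟩ = 1 := by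
    intro v hv
    induction hv using closure_induction with
    | mem x hx =>
      obtain ⟨n, hn, y, hy, rfl⟩ := hx
      intro hx'
      have h1 := key2 (⟨n, hn⟩ : ↥N) ⟨y, hV₀V hy⟩
      have h2 : χ' ((⟨n, hn⟩ : ↥N) • (⟨y, hV₀V hy⟩ : ↥V)) = χ ⟨n * y * n⁻¹, hx'⟩ := rfl
      have h3 : χ' ⟨y, hV₀V hy⟩ = 1 := hχ0 y hy _
      rw [← h2, h1, h3]
    | one =>
      intro h
      have : (⟨1, h⟩ : ↥M) = 1 := rfl
      rw [this, map_one]
    | mul x y hx hy hx' hy' =>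
      intro h
      have hxM : x ∈ M := hVM x hx
      have hyM : y ∈ M := hVM y hy
      have : (⟨x * y, h⟩ : ↥M) = ⟨x, hxM⟩ * ⟨y, hyM⟩ := rfl
      rw [this, map_mul, hx' hxM, hy' hyM, one_mul]
    | inv x hx hx' =>
      intro h
      have hxM : x ∈ M := hVM x hx
      have : (⟨x⁻¹, h⟩ : ↥M) = ⟨x, hxM⟩⁻¹ := rfl
      rw [this, map_inv, hx' hxM, inv_one]
  exact key3 v hv'

end Cfsg.Agent.OddHalf.D4.LemmaOut
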