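import Mathlib
import Cfsg.Agent.OddHalf.D4.NoGraph

/-!
# ODD, D4, (1B): `F` may induce graph automorphisms

`F` a maximal 2-subgroup with `N(F) ≰ N(K)` and maximal `K`-part, `U = S ∩ K` with a filtration generated by relative
lines with base points fixed by `F` modulo the next term, `P` the normal subgroup of `N(K)` of the elements without
field part (`F ∩ P = C_F(Z(U))`), `F ∩ P` centralizes the lines modulo the next term. Then `F ∩ P` is normal in `N(F)`,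
and the barycentre lemma gives a contradiction, if the involutions of `Z(F ∩ P)` in conjugates of `C(K)` are inner.
-/

set_option autoImplicit false

namespace Cfsg.Agent.OddHalf.D4.Graph

open Cfsg Subgroup Cfsg.Agent.OddHalf.D4 Cfsg.Agent.OddHalf.D4.Basic Cfsg.Agent.OddHalf.D4.BaryEnd
open Cfsg.Agent.OddHalf.D4.Line Cfsg.Agent.OddHalf.D4.BaryGen Cfsg.Agent.OddHalf.D4.KMax
open Cfsg.Agent.OddHalf.D4.LineR Cfsg.Agent.OddHalf.D4.NoGraph
open Cfsg.Agent.OddHalf.D4.CommConj (Tight MaxE cj mem_cj mem_cj_mul)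

variable {G : Type*} [Group G] [Finite G] {K F Q S P : Subgroup G}

/-- **(1B) with graph part.** -/
theorem core (ht : TightAt K) (hcen : ∀ x ∈ K, x ∈ centralizer (K : Set G) → x = 1) (h : KMaxE K F)
    (hQ : IsSyl Q (centralizer (K : Set G))) (hQF : Q ≤ F) (hS : IsPGroup 2 ↥S)
    (hSM : S ≤ normalizer (K : Set G)) (hFS : F ≤ S)
    {U : ℕ → Subgroup G} {L : ℕ → Set (Subgroup G)} (hU : Flt K S F U L)
    (hPM : ∀ m ∈ normalizer (K : Set G), ∀ x ∈ P, m * x * m⁻¹ ∈ P) (hCP : centralizer (K : Set G) ≤ P) (hKP : K ≤ P)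
    (hZ : ∀ e ∈ F, (∀ z ∈ zc K S, e * z = z * e) ↔ e ∈ P)
    (hUP : ∀ j, ∀ l ∈ L j, ∀ x ∈ l, ∀ e ∈ F, e ∈ P → e * x * e⁻¹ * x⁻¹ ∈ U (j + 1))
    (hinn : ∃ n ∈ normalizer (F : Set G), n ∉ normalizer (K : Set G) ∧ ∃ v ∈ F, orderOf v = 2 ∧
      n⁻¹ * v * n ∈ centralizer (K : Set G) ∧ (∀ e ∈ F, e * v = v * e) ∧
      ∃ c ∈ centralizer (K : Set G), ∃ k ∈ K, v = c * k)
    (hA : ∀ j, U (j + 1) ≤ F → zc K S ≤ F → ∀ n ∈ normalizer (F : Set G), n ∉ normalizer (K : Set G) →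
      ∀ z ∈ zc K S, ∀ u ∈ U (j + 1), u * (n * z * n⁻¹) = n * z * n⁻¹ * u)
    (hG1 : ∀ D l : Subgroup G, IsLineR (S ⊓ K) D l → IsPGroup 2 ↥l → l ≤ K →
      l ≤ normalizer ((F ⊓ P : Subgroup G) : Set G) → (∀ t ∈ l, t ∈ F → t ∈ D) → D ≤ F ⊓ P →
      ∀ n ∈ normalizer ((F ⊓ P : Subgroup G) : Set G), n ∉ normalizer (K : Set G) →
      ∀ v ∈ omegaZ (F ⊓ P) (centralizer (K : Set G)),
      ∃ c ∈ centralizer (K : Set G), ∃ k ∈ K, n * v * n⁻¹ = c * k)
    (hUF : ¬ S ⊓ K ≤ F) : False := by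
  classical
  set M := normalizer (K : Set G) with hM
  set C := centralizer (K : Set G) with hC
  set N := normalizer (F : Set G) with hN
  have hF2 : IsPGroup 2 ↥F := h.maxE.isPGroup
  have hcomm : ∀ k ∈ K, ∀ c ∈ C, k * c = c * k := fun k hk c hc => mem_centralizer_iff.mp hc k hk
  have hcjF : ∀ n ∈ N, ∀ x ∈ F, n⁻¹ * x * n ∈ F := fun n hn x hx => (mem_normalizer_iff''.mp hn x).mp hx
  have hcjF' : ∀ n ∈ N, ∀ x ∈ F, n * x * n⁻¹ ∈ F := fun n hn x hx => (mem_normalizer_iff.mp hn x).mp hx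
  obtain ⟨n₀, hn₀, hn₀M, v, hvF, hv2, hvC, hvc, c₀, hc₀, k₀, hk₀, hvck⟩ := hinn
  have hSF : ∀ n ∈ N, n ∉ M → ∀ s ∈ S, n⁻¹ * s * n ∈ M → s ∈ F := fun n hn hnM s hs hns =>
    mem_of_conj h.maxE hS hSM hFS hn hnM hs hns
  have hc₀Q : c₀ ∈ Q := comp_mem_Q hcen hF2 hQ hQF hc₀ hk₀ (by rw [← hvck]; exact hvF)
  have hk₀F : k₀ ∈ F := by
    have e : k₀ = c₀⁻¹ * v := by rw [hvck]; group
    rw [e]; exact mul_mem (inv_mem (hQF hc₀Q)) hvF
  have hk₀U : k₀ ∈ S ⊓ K := ⟨hFS hk₀F, hk₀⟩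
  -- commuting with `k₀` gives membership in `F`
  have hkF : ∀ x ∈ S, x ∈ K → x * k₀ = k₀ * x → x ∈ F := by
    intro x hxS hxK hx
    have h1 : x * v = v * x := by
      rw [hvck]
      calc x * (c₀ * k₀) = (x * c₀) * k₀ := by group
        _ = (c₀ * x) * k₀ := by rw [hcomm x hxK c₀ hc₀]
        _ = c₀ * (x * k₀) := by group
        _ = c₀ * (k₀ * x) := by rw [hx]
        _ = c₀ * k₀ * x := by group
    exact hSF n₀ hn₀ hn₀M x hxS (Tight.mem_of_comm ht hvC hv2 h1)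
  have hZF : zc K S ≤ F := by
    intro z hz
    rw [mem_zc] at hz
    exact hkF z hz.1.1 hz.1.2 (hz.2 k₀ hk₀U).symm
  -- the level
  have hex : ∃ j, U j ≤ F := by
    obtain ⟨n, hn⟩ := hU.bot
    exact ⟨n, by rw [hn]; exact bot_le⟩
  have h1 := Nat.find_spec hex
  have h2 : Nat.find hex ≠ 0 := by
    intro h0
    rw [h0, hU.zero] at h1
    exact hUF h1
  obtain ⟨i, hi⟩ := Nat.exists_eq_succ_of_ne_zero h2
  rw [hi] at h1
  have h3 : ¬ U i ≤ F := Nat.find_min hex (by omega)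
  obtain ⟨l, hlL, hlF⟩ : ∃ l ∈ L i, ¬ l ≤ F := by
    by_contra hcon
    push Not at hcon
    apply h3
    intro u hu
    have h5 := hU.gen i u hu
    have h6 : closure ({x | ∃ l ∈ L i, x ∈ l} ∪ (U (i + 1) : Set G)) ≤ F := by
      rw [closure_le]
      rintro x (⟨l, hl, hx⟩ | hx)
      · exact hcon l hl hx
      · exact h1 hx
    exact h6 h5
  have hlU : l ≤ U i := hU.line_le i l hlL
  have hlS : l ≤ S ⊓ K := hlU.trans (hU.le_zero i)
  have hline := hU.line i l hlL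
  obtain ⟨b, hbl, hb1, hbF⟩ := hU.base i l hlL
  have hbS : b ∈ S ⊓ K := hlS hbl
  have hbK : b ∈ K := hbS.2
  have hl2 : IsPGroup 2 ↥l := hS.to_le (hlS.trans inf_le_left)
  have hb2 : ∃ k : ℕ, b ^ 2 ^ k = 1 := by
    obtain ⟨k, hk⟩ := hl2 ⟨b, hbl⟩
    exact ⟨k, congrArg Subtype.val hk⟩
  have hlFD : ∀ t ∈ l, t ∈ F → t ∈ U (i + 1) := by
    intro t htl htF
    by_contra htU
    apply hlF
    intro x hx
    have htK : t ∈ K := (hlS htl).2
    have h5 : t * k₀ = k₀ * t := by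
      have h6 := hvc t htF
      rw [hvck] at h6
      have h7 : c₀ * (t * k₀) = c₀ * (k₀ * t) := by
        calc c₀ * (t * k₀) = (c₀ * t) * k₀ := by group
          _ = t * c₀ * k₀ := by rw [hcomm t htK c₀ hc₀]
          _ = t * (c₀ * k₀) := by group
          _ = c₀ * k₀ * t := h6
          _ = c₀ * (k₀ * t) := by group
      exact mul_left_cancel h7
    exact hkF x (hlS hx).1 (hlS hx).2 (hline.star k₀ hk₀U t htl htU h5 x hx)
  have hbnF : b ∉ F := fun hbF' => hb1 (hlFD b hbl hbF')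
  have hbN : b ∈ N := by
    apply mem_normalizer_fintype
    intro e he
    have h5 := h1 (hbF e he)
    have e1 : b * e * b⁻¹ = (e * b * e⁻¹ * b⁻¹)⁻¹ * e := by group
    rw [e1]
    exact mul_mem (inv_mem h5) he
  have hbM : b ∈ M := le_normalizer hbK
  -- commutators with `b⁻¹`
  have hbF' : ∀ e ∈ F, e * b⁻¹ * e⁻¹ * b ∈ U (i + 1) := by
    intro e he
    have h5 := hbF e he
    have h6 := hU.comm (i + 1) _ h5 b⁻¹ (inv_mem hbS)
    have h7 := hU.le (i + 1) h6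
    have h8 : b⁻¹ * (e * b * e⁻¹ * b⁻¹) * b ∈ U (i + 1) := by
      have h9 := mul_mem h7 h5
      have e1 : b⁻¹ * (e * b * e⁻¹ * b⁻¹) * b⁻¹⁻¹ * (e * b * e⁻¹ * b⁻¹)⁻¹ * (e * b * e⁻¹ * b⁻¹) =
          b⁻¹ * (e * b * e⁻¹ * b⁻¹) * b := by group
      rwa [e1] at h9
    have h9 := inv_mem h8
    have e1 : (b⁻¹ * (e * b * e⁻¹ * b⁻¹) * b)⁻¹ = e * b⁻¹ * e⁻¹ * b := by group
    rwa [e1] at h9
  -- the predicate
  let R : G → G → Prop := fun n e => e ∈ F ∧ ∀ z ∈ zc K S, e * (n * z * n⁻¹) = n * z * n⁻¹ * e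
  have hRmul : ∀ g ∈ N, ∀ n e, R (g * n) e ↔ R n (g⁻¹ * e * g) := by
    intro g hg n e
    constructor
    · rintro ⟨he, hz⟩
      refine ⟨hcjF g hg e he, fun z hz' => ?_⟩
      have h5 := hz z hz'
      calc g⁻¹ * e * g * (n * z * n⁻¹) = g⁻¹ * (e * (g * n * z * (g * n)⁻¹)) * g := by group
        _ = g⁻¹ * (g * n * z * (g * n)⁻¹ * e) * g := by rw [h5]
        _ = n * z * n⁻¹ * (g⁻¹ * e * g) := by group
    · rintro ⟨he, hz⟩
      have he' : e ∈ F := by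
        have h5 := hcjF' g hg _ he
        have e1 : g * (g⁻¹ * e * g) * g⁻¹ = e := by group
        rwa [e1] at h5
      refine ⟨he', fun z hz' => ?_⟩
      have h5 := hz z hz'
      calc e * (g * n * z * (g * n)⁻¹) = g * (g⁻¹ * e * g * (n * z * n⁻¹)) * g⁻¹ := by group
        _ = g * (n * z * n⁻¹ * (g⁻¹ * e * g)) * g⁻¹ := by rw [h5]
        _ = g * n * z * (g * n)⁻¹ * e := by group
  have hR1 : ∀ e, R 1 e ↔ e ∈ F ⊓ P := by
    intro e
    constructor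
    · rintro ⟨he, hz⟩
      refine ⟨he, (hZ e he).mp fun z hz' => ?_⟩
      simpa using hz z hz'
    · rintro ⟨he, hep⟩
      refine ⟨he, fun z hz' => ?_⟩
      simpa using (hZ e he).mpr hep z hz'
  have hinnM : ∀ m ∈ N, m ∈ M → ∀ e ∈ F ⊓ P, m⁻¹ * e * m ∈ F ⊓ P := by
    rintro m hm hmM e ⟨he, hep⟩
    refine ⟨hcjF m hm _ he, ?_⟩
    have h5 := hPM m⁻¹ (inv_mem hmM) e hep
    rwa [inv_inv] at h5
  have hRM : ∀ m ∈ N, m ∈ M → ∀ e, R m e ↔ R 1 e := by
    intro m hm hmM e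
    have h5 := hRmul m hm 1 e
    rw [mul_one] at h5
    rw [h5, hR1, hR1]
    constructor
    · intro h6
      have h7 := hinnM m⁻¹ (inv_mem hm) (inv_mem hmM) _ h6
      have e1 : m⁻¹⁻¹ * (m⁻¹ * e * m) * m⁻¹ = e := by group
      rwa [e1] at h7
    · exact hinnM m hm hmM e
  -- `b` preserves the predicate
  have hRb : ∀ n ∈ N, ∀ e, R (b * n) e ↔ R n e := by
    intro n hn e
    by_cases hnM : n ∈ M
    · rw [hRM _ (mul_mem hbN hn) (mul_mem hbM hnM), hRM n hn hnM]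
    · rw [hRmul b hbN n e]
      have key : ∀ u ∈ U (i + 1), ∀ e ∈ F, (∀ z ∈ zc K S, e * (n * z * n⁻¹) = n * z * n⁻¹ * e) →
          ∀ z ∈ zc K S, e * u * (n * z * n⁻¹) = n * z * n⁻¹ * (e * u) := by
        intro u hu e _ hz z hz'
        have h6 := hA i h1 hZF n hn hnM z hz' _ hu
        have h7 := hz z hz'
        calc e * u * (n * z * n⁻¹) = e * (u * (n * z * n⁻¹)) := by group
          _ = e * (n * z * n⁻¹ * u) := by rw [h6]
          _ = (e * (n * z * n⁻¹)) * u := by group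
          _ = (n * z * n⁻¹ * e) * u := by rw [h7]
          _ = n * z * n⁻¹ * (e * u) := by group
      constructor
      · rintro ⟨he, hz⟩
        have he' : e ∈ F := by
          have h5 := hcjF' b hbN _ he
          have e1 : b * (b⁻¹ * e * b) * b⁻¹ = e := by group
          rwa [e1] at h5
        refine ⟨he', fun z hz' => ?_⟩
        have h4 : b⁻¹ * e * b ∈ F := he
        have h5 := key _ (hbF (b⁻¹ * e * b)⁻¹ (inv_mem h4)) _ he hz z hz'
        have e1 : b⁻¹ * e * b * ((b⁻¹ * e * b)⁻¹ * b * (b⁻¹ * e * b)⁻¹⁻¹ * b⁻¹) = e := by group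
        rwa [e1] at h5
      · rintro ⟨he, hz⟩
        refine ⟨hcjF b hbN e he, fun z hz' => ?_⟩
        have h5 := key _ (hbF' e⁻¹ (inv_mem he)) e he hz z hz'
        have e1 : e * (e⁻¹ * b⁻¹ * e⁻¹⁻¹ * b) = b⁻¹ * e * b := by group
        rwa [e1] at h5
  -- the stabilizer of the predicate
  let H : Subgroup ↥N :=
    { carrier := {x | ∀ n ∈ N, ∀ e, R (x * n) e ↔ R n e}
      one_mem' := by
        intro n _ e
        simp
      mul_mem' := by
        intro x y hx hy n hn e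
        have e1 : ((x * y : ↥N) : G) * n = x * (y * n) := by push_cast; group
        rw [e1, hx _ (mul_mem y.2 hn), hy n hn]
      inv_mem' := by
        intro x hx n hn e
        have h5 := hx ((x⁻¹ : ↥N) * n) (mul_mem (x⁻¹ : ↥N).2 hn) e
        have e1 : (x : G) * (((x⁻¹ : ↥N) : G) * n) = n := by push_cast; group
        rw [e1] at h5
        exact h5.symm }
  have hHn : H.Normal := by
    refine ⟨?_⟩
    intro x hx g n hn e
    have e1 : ((g * x * g⁻¹ : ↥N) : G) * n = g * (x * ((g : G)⁻¹ * n)) := by push_cast; group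
    rw [e1, hRmul g g.2, hx _ (mul_mem (inv_mem g.2) hn), ← hRmul g g.2]
    have e2 : (g : G) * ((g : G)⁻¹ * n) = n := by group
    rw [e2]
  have hbH : (⟨b, hbN⟩ : ↥N) ∈ H := fun n hn e => hRb n hn e
  have htrans := fun g : ↥N => gleason (Y := M.subgroupOf N) (B := H) hHn hbH (mem_subgroupOf.mpr hbM)
    (by obtain ⟨k, hk⟩ := hb2; exact ⟨k, Subtype.ext hk⟩) (by
      intro g hg hgb
      apply hbnF
      exact h.maxE.mem_of_conj g.2 (fun h' => hg (mem_subgroupOf.mpr h')) hbN hbM hb2 (mem_subgroupOf.mp hgb)) g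
  have hRall : ∀ g ∈ N, ∀ e, R g e ↔ R 1 e := by
    intro g hg e
    obtain ⟨x, hx, hxg⟩ := htrans ⟨g, hg⟩
    have h5 : (x : G)⁻¹ * g ∈ M := mem_subgroupOf.mp hxg
    have h6 : (x : G)⁻¹ * g ∈ N := mul_mem (inv_mem x.2) hg
    have h7 := hx _ h6 e
    have e1 : (x : G) * ((x : G)⁻¹ * g) = g := by group
    rw [e1] at h7
    rw [h7]
    exact hRM _ h6 h5 e
  -- `N(F)` normalizes `F ⊓ P`
  have hNE : N ≤ normalizer ((F ⊓ P : Subgroup G) : Set G) := by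
    intro g hg
    apply mem_normalizer_fintype
    intro e he
    have h5 := hRmul g⁻¹ (inv_mem hg) 1 e
    rw [mul_one, inv_inv] at h5
    exact (hR1 _).mp (h5.mp ((hRall _ (inv_mem hg) e).mpr ((hR1 e).mpr he)))
  have hlK : l ≤ K := hlS.trans inf_le_right
  have hlN : l ≤ normalizer ((F ⊓ P : Subgroup G) : Set G) := by
    intro x hx
    apply mem_normalizer_fintype
    rintro e ⟨he, hep⟩
    have h5 := hUP i l hlL x hx e he hep
    have e1 : x * e * x⁻¹ = (e * x * e⁻¹ * x⁻¹)⁻¹ * e := by group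
    rw [e1]
    have h6 : e * x * e⁻¹ * x⁻¹ ∈ P := hKP ((hU.le_zero (i + 1)) h5).2
    exact mem_inf.mpr ⟨F.mul_mem (F.inv_mem (h1 h5)) he, P.mul_mem (P.inv_mem h6) hep⟩
  have hUFP : U (i + 1) ≤ F ⊓ P := fun x hx => ⟨h1 hx, hKP ((hU.le_zero _ hx).2)⟩
  -- conclusion
  refine KMaxE.false_of_lineR_omegaZ h (E₁ := F ⊓ P) (Q := Q) (l := l) (D := U (i + 1)) ht hcen hQ ?_
    inf_le_left ?_ ⟨n₀, hNE hn₀, hn₀M⟩ ?_ ?_ hl2 hlK hlN ?_ hUFP
  · intro q hq
    exact ⟨hQF hq, hCP (hQ.le hq)⟩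
  · intro x hx
    exact ⟨hx.1, hKP hx.2⟩
  · intro n hn v hv
    by_cases hnM : n ∈ M
    · exact ⟨n * v * n⁻¹, ht.norm n hnM v hv.2.1, 1, one_mem _, by simp⟩
    · exact hG1 _ l hline hl2 hlK hlN hlFD hUFP n hn hnM v hv
  · exact hline.mono fun y hy => ⟨hFS hy.1.1, hy.2⟩
  · intro hle
    exact hlF (hle.trans inf_le_left)

end Cfsg.Agent.OddHalf.D4.Graph
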