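import Mathlib
import Cfsg.Agent.OddHalf.D4.Graph

/-!
# ODD, D4, (1B): LEMMA OUT

A homomorphism `χ : N(K) → B`, `B` abelian, `χ(C(K)) = 1`; `l` a (relative) line of `K` normalizing `E₁ ≤ F`. The
product of the conjugates of `χ` is `N(E₁)`-invariant and equal to `χ` on the hull of `Ω₁(Z(E₁)) ∩ C(K)`, so `χ = 1`
on the hull. Hence the involutions of the hull are inner on `K`, if the 2-elements of `ker χ` are inner.
-/

set_option autoImplicit false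

namespace Cfsg.Agent.OddHalf.D4.Out

open Cfsg Subgroup Cfsg.Agent.OddHalf.D4 Cfsg.Agent.OddHalf.D4.Basic Cfsg.Agent.OddHalf.D4.BaryEnd
open Cfsg.Agent.OddHalf.D4.Line Cfsg.Agent.OddHalf.D4.BaryGen Cfsg.Agent.OddHalf.D4.KMax
open Cfsg.Agent.OddHalf.D4.LineR Cfsg.Agent.OddHalf.D4.NoGraph
open Cfsg.Agent.OddHalf.D4.CommConj (Tight MaxE cj mem_cj mem_cj_mul)

section Free

variable {E Ω B : Type*} [Group E] [MulAction E Ω] [CommGroup B]

/-- The product of a function over a free finite `E`-set is the product of the products over the orbits. -/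
theorem prod_free' [Fintype E] [Fintype Ω] (F : Ω → B) (free : ∀ c : Ω, ∀ s : E, s • c = c → s = 1)
    (norm : ∀ c : Ω, ∏ s : E, F (s • c) = 1) : ∏ c : Ω, F c = 1 := by
  classical
  rw [← Finset.prod_fiberwise_of_maps_to (s := (Finset.univ : Finset Ω))
    (t := (Finset.univ : Finset (MulAction.orbitRel.Quotient E Ω)))
    (g := fun c => (Quotient.mk'' c : MulAction.orbitRel.Quotient E Ω)) (fun _ _ => Finset.mem_univ _)]
  apply Finset.prod_eq_one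
  intro ω _
  induction ω using Quotient.inductionOn' with
  | h c0 =>
    have key : ∏ c ∈ (Finset.univ : Finset Ω) with (Quotient.mk'' c : MulAction.orbitRel.Quotient E Ω) =
        Quotient.mk'' c0, F c = ∏ s : E, F (s • c0) := by
      symm
      apply Finset.prod_bij (fun s _ => s • c0)
      · intro s _
        simp only [Finset.mem_filter, Finset.mem_univ, true_and]
        rw [Quotient.eq'']
        exact ⟨s, rfl⟩
      · intro s _ s' _ h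
        have h1 : (s'⁻¹ * s) • c0 = c0 := by
          rw [mul_smul, show s • c0 = s' • c0 from h, ← mul_smul, inv_mul_cancel, one_smul]
        have h2 := free _ _ h1
        exact (inv_mul_eq_one.mp h2).symm
      · intro c hc
        simp only [Finset.mem_filter, Finset.mem_univ, true_and] at hc
        rw [Quotient.eq''] at hc
        obtain ⟨s, hs⟩ := hc
        exact ⟨s, Finset.mem_univ _, hs⟩
      · intro s _
        rfl
    rw [key]
    exact norm c0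

end Free

section Main

variable {Γ A B : Type*} [Group Γ] [CommGroup A] [MulDistribMulAction Γ A] [CommGroup B]

/-- The character attached to a coset. -/
def ct (Y : Subgroup Γ) (χ : A →* B) (hχ : ∀ y ∈ Y, ∀ a, χ (y • a) = χ a) (a : A) (c : Γ ⧸ Y) : B :=
  Quotient.liftOn' c (fun g => χ (g⁻¹ • a)) (by
    intro g h hgh
    rw [QuotientGroup.leftRel_apply] at hgh
    have h1 : h⁻¹ = (g⁻¹ * h)⁻¹ * g⁻¹ := by group
    show χ (g⁻¹ • a) = χ (h⁻¹ • a)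
    rw [h1, mul_smul, hχ _ (inv_mem hgh)])

theorem ct_smul {Y : Subgroup Γ} {χ : A →* B} (hχ : ∀ y ∈ Y, ∀ a, χ (y • a) = χ a) (a : A) (x : Γ)
    (c : Γ ⧸ Y) : ct Y χ hχ (x • a) (x • c) = ct Y χ hχ a c := by
  induction c using Quotient.inductionOn' with
  | h g =>
    change χ ((x * g)⁻¹ • (x • a)) = χ (g⁻¹ • a)
    rw [mul_inv_rev, mul_smul g⁻¹ x⁻¹, inv_smul_smul]

/-- The character attached to a coset, as a homomorphism. -/
def cth (Y : Subgroup Γ) (χ : A →* B) (hχ : ∀ y ∈ Y, ∀ a, χ (y • a) = χ a) (c : Γ ⧸ Y) : A →* B where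
  toFun a := ct Y χ hχ a c
  map_one' := by
    induction c using Quotient.inductionOn' with
    | h g => change χ (g⁻¹ • (1 : A)) = 1; rw [smul_one, map_one]
  map_mul' a b := by
    induction c using Quotient.inductionOn' with
    | h g => change χ (g⁻¹ • (a * b)) = χ (g⁻¹ • a) * χ (g⁻¹ • b); rw [smul_mul', map_mul]

variable [Finite Γ]

/-- **LEMMA OUT, abstract form.** -/
theorem chi_smul {Y E : Subgroup Γ} (hEY : E ≤ Y) {χ : A →* B} (hχ : ∀ y ∈ Y, ∀ a, χ (y • a) = χ a)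
    [Fintype ↥E] (semi : ∀ g : Γ, g ∉ Y → ∀ s ∈ E, g⁻¹ * s * g ∈ Y → s = 1)
    (norm : ∀ a : A, ∏ s : ↥E, (s : Γ) • a = 1) (g : Γ) (a : A) : χ (g • a) = χ a := by
  classical
  have := Fintype.ofFinite (Γ ⧸ Y)
  let X : A → B := fun a => ∏ c : Γ ⧸ Y, ct Y χ hχ a c
  have hX1 : ∀ (x : Γ) (a : A), X (x • a) = X a := by
    intro x a
    refine (Fintype.prod_equiv (MulAction.toPerm x) (fun c => ct Y χ hχ a c)
      (fun c => ct Y χ hχ (x • a) c) ?_).symm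
    intro c
    exact (ct_smul hχ a x c).symm
  have hX2 : ∀ a : A, X a = χ a := by
    intro a
    show ∏ c : Γ ⧸ Y, ct Y χ hχ a c = χ a
    rw [Fintype.prod_eq_mul_prod_subtype_ne _ (((1 : Γ) : Γ ⧸ Y))]
    have h1 : ct Y χ hχ a ((1 : Γ) : Γ ⧸ Y) = χ a := by
      change χ ((1 : Γ)⁻¹ • a) = χ a
      simp
    rw [h1]
    have h2 : ∏ c : ↥(Bary.off hEY), ct Y χ hχ a (c : Γ ⧸ Y) = 1 := by
      apply prod_free' (E := ↥E) (Ω := ↥(Bary.off hEY)) (fun c => ct Y χ hχ a (c : Γ ⧸ Y))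
      · intro c s hsc
        obtain ⟨c, hc⟩ := c
        induction c using Quotient.inductionOn' with
        | h g =>
          have h4 : (((s : Γ) * g : Γ) : Γ ⧸ Y) = (g : Γ ⧸ Y) := congrArg Subtype.val hsc
          have h5 : g ∉ Y := by
            intro hg
            apply hc
            change (g : Γ ⧸ Y) = ((1 : Γ) : Γ ⧸ Y)
            rw [QuotientGroup.eq]
            simpa using inv_mem hg
          rw [eq_comm, QuotientGroup.eq] at h4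
          have h6 : g⁻¹ * (s : Γ) * g ∈ Y := by simpa [mul_assoc] using h4
          exact Subtype.ext (semi g h5 s s.2 h6)
      · intro c
        have h3 : ∀ s : ↥E, ct Y χ hχ a (((s • c : ↥(Bary.off hEY))) : Γ ⧸ Y) =
            cth Y χ hχ (c : Γ ⧸ Y) (((s⁻¹ : ↥E) : Γ) • a) := by
          intro s
          have h4 := ct_smul hχ (((s⁻¹ : ↥E) : Γ) • a) (s : Γ) (c : Γ ⧸ Y)
          have h5 : (s : Γ) • (((s⁻¹ : ↥E) : Γ) • a) = a := by
            rw [← mul_smul]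
            have : (s : Γ) * ((s⁻¹ : ↥E) : Γ) = 1 := by simp
            rw [this, one_smul]
          rw [h5] at h4
          exact h4
        simp_rw [h3]
        rw [← map_prod]
        have h4 : ∏ s : ↥E, ((s⁻¹ : ↥E) : Γ) • a = ∏ s : ↥E, (s : Γ) • a :=
          Fintype.prod_equiv (Equiv.inv ↥E) _ _ fun _ => rfl
        rw [h4, norm, map_one]
    have h3 : ∏ c : {c : Γ ⧸ Y // c ≠ ((1 : Γ) : Γ ⧸ Y)}, ct Y χ hχ a (c : Γ ⧸ Y) = 1 := by
      refine Eq.trans ?_ h2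
      exact @Fintype.prod_equiv {c : Γ ⧸ Y // c ≠ ((1 : Γ) : Γ ⧸ Y)} ↥(Bary.off hEY) B _ _ _ (Equiv.refl _) _ _
        fun _ => rfl
    rw [h3, mul_one]
  rw [← hX2, hX1, hX2]

end Main

/-! ### The hull -/

/-- **LEMMA OUT** for the hull: the action of `T` on the hull only. -/
theorem hull_chi {G : Type*} [Group G] [Finite G] {M N V₀ T : Subgroup G} {B : Type*} [CommGroup B]
    (χ : ↥M →* B) (hVM : hull N V₀ ≤ M)
    (hab : ∀ x ∈ hull N V₀, ∀ y ∈ hull N V₀, x * y = y * x)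
    (hCM : ∀ n ∈ N, (∀ v ∈ hull N V₀, n * v = v * n) → n ∈ M)
    (hTN : T ≤ N) (hTM : T ≤ M)
    (semi : ∀ n ∈ N, n ∉ M → ∀ s ∈ T, n⁻¹ * s * n ∈ M → ∀ v ∈ hull N V₀, s * v = v * s)
    (htr : ∀ v ∈ hull N V₀, ∃ a ∈ T, ∃ b ∈ T,
      (∀ w ∈ hull N V₀, a * a * w = w * (a * a)) ∧ (∀ w ∈ hull N V₀, b * b * w = w * (b * b)) ∧
      (∀ w ∈ hull N V₀, a * b * w * (a * b)⁻¹ = b * a * w * (b * a)⁻¹) ∧
      (∃ w ∈ hull N V₀, a * w ≠ w * a) ∧ (∃ w ∈ hull N V₀, b * w ≠ w * b) ∧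
      (∃ w ∈ hull N V₀, a⁻¹ * b * w ≠ w * (a⁻¹ * b)) ∧
      v * (a * v * a⁻¹) * (b * v * b⁻¹) * (a * b * v * (a * b)⁻¹) = 1)
    {n v : G} (hn : n ∈ N) (hv : v ∈ hull N V₀) :
    χ ⟨n * v * n⁻¹, hVM (hull_cj hn hv)⟩ = χ ⟨v, hVM hv⟩ := by
  classical
  set V := hull N V₀ with hV
  let hcg : CommGroup ↥V := { (inferInstance : Group ↥V) with mul_comm := fun x y => Subtype.ext (hab x x.2 y y.2) }
  let p : ↥V →* B :=
    { toFun := fun v => χ ⟨v, hVM v.2⟩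
      map_one' := by
        have : (⟨((1 : ↥V) : G), hVM (1 : ↥V).2⟩ : ↥M) = 1 := rfl
        rw [this, map_one]
      map_mul' := fun x y => by
        have : (⟨((x * y : ↥V) : G), hVM (x * y).2⟩ : ↥M) = ⟨x, hVM x.2⟩ * ⟨y, hVM y.2⟩ := rfl
        rw [this, map_mul] }
  let hact : MulDistribMulAction ↥N ↥V := conjAct N V (fun n hn v hv => hull_cj hn hv)
  have hsmul : ∀ (n : ↥N) (v : ↥V), ((n • v : ↥V) : G) = n * v * (n : G)⁻¹ := fun _ _ => rfl
  have hp : ∀ y ∈ M.subgroupOf N, ∀ a : ↥V, p (y • a) = p a := by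
    intro y hy a
    have hyM : (y : G) ∈ M := mem_subgroupOf.mp hy
    show χ ⟨((y • a : ↥V) : G), _⟩ = χ ⟨a, _⟩
    have h1 : (⟨((y • a : ↥V) : G), hVM (y • a).2⟩ : ↥M) = ⟨y, hyM⟩ * ⟨a, hVM a.2⟩ * (⟨y, hyM⟩)⁻¹ := rfl
    rw [h1, map_mul, map_mul, map_inv, mul_comm (χ ⟨y, hyM⟩), mul_inv_cancel_right]
  let φ : ↥N →* MulAut ↥V := MulDistribMulAction.toMulAut ↥N ↥V
  let ψ : ↥N →* ↥φ.range := φ.rangeRestrict
  have hψs : Function.Surjective ψ := φ.rangeRestrict_surjective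
  have : Finite ↥φ.range := Finite.of_surjective ψ hψs
  have hψ : ∀ (n : ↥N) (v : ↥V), ψ n • v = n • v := fun _ _ => rfl
  have hker : ∀ n : ↥N, ψ n = 1 ↔ ∀ v ∈ V, (n : G) * v = v * n := by
    intro n
    constructor
    · intro h1 v hv
      have h2 := hψ n ⟨v, hv⟩
      rw [h1, one_smul] at h2
      have h3 : v = (n : G) * v * (n : G)⁻¹ := congrArg Subtype.val h2
      calc (n : G) * v = (n : G) * v * (n : G)⁻¹ * n := by group
        _ = v * n := by rw [← h3]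
    · intro h1
      apply Subtype.ext
      apply MulEquiv.ext
      intro v
      show n • v = v
      apply Subtype.ext
      rw [hsmul, h1 v v.2]
      group
  have hψeq : ∀ a b : ↥N, ψ a = ψ b → ∀ v ∈ V, ((a : G)⁻¹ * b) * v = v * ((a : G)⁻¹ * b) := by
    intro a b h1
    have h2 : ψ (a⁻¹ * b) = 1 := by rw [map_mul, map_inv, h1, inv_mul_cancel]
    exact (hker _).mp h2
  let Y : Subgroup ↥φ.range := (M.subgroupOf N).map ψ
  let E : Subgroup ↥φ.range := (T.subgroupOf N).map ψ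
  let hfE : Fintype ↥E := Fintype.ofFinite _
  have hEY : E ≤ Y := by
    rintro _ ⟨t, ht', rfl⟩
    exact ⟨t, mem_subgroupOf.mpr (hTM (mem_subgroupOf.mp ht')), rfl⟩
  have key := chi_smul (Γ := ↥φ.range) (A := ↥V) (Y := Y) (E := E) hEY (χ := p) (by
      rintro _ ⟨y, hy, rfl⟩ a
      exact hp y hy a) (by
      intro g hg s hs hgs
      obtain ⟨g, rfl⟩ := hψs g
      obtain ⟨s, hs, rfl⟩ := hs
      obtain ⟨y, hy, hyg⟩ := hgs
      have h1 : ψ y = ψ (g⁻¹ * s * g) := by rw [hyg, map_mul, map_mul, map_inv]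
      have h2 := hψeq _ _ h1
      have h3 : ((y : G))⁻¹ * ((g⁻¹ * s * g : ↥N) : G) ∈ M :=
        hCM _ (mul_mem (inv_mem y.2) (g⁻¹ * s * g : ↥N).2) h2
      have h4 : (g : G)⁻¹ * s * g ∈ M := by
        have h5 := mul_mem (mem_subgroupOf.mp hy) h3
        have e : (y : G) * ((y : G)⁻¹ * ((g⁻¹ * s * g : ↥N) : G)) = (g : G)⁻¹ * s * g := by push_cast; group
        rwa [e] at h5
      have h5 : (g : G) ∉ M := fun h => hg ⟨g, mem_subgroupOf.mpr h, rfl⟩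
      exact (hker s).mpr (semi _ g.2 h5 _ (mem_subgroupOf.mp hs) h4)) (by
      intro v
      obtain ⟨a, ha, b, hb, ha2, hb2, hab', ⟨w₁, hw₁, hne₁⟩, ⟨w₂, hw₂, hne₂⟩, ⟨w₃, hw₃, hne₃⟩, htr'⟩ :=
        htr v v.2
      have haN : a ∈ N := hTN ha
      have hbN : b ∈ N := hTN hb
      let a' : ↥E := ⟨ψ ⟨a, haN⟩, ⟨⟨a, haN⟩, mem_subgroupOf.mpr ha, rfl⟩⟩
      let b' : ↥E := ⟨ψ ⟨b, hbN⟩, ⟨⟨b, hbN⟩, mem_subgroupOf.mpr hb, rfl⟩⟩
      have ha3 : a' * a' = 1 := by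
        apply Subtype.ext
        show ψ ⟨a, haN⟩ * ψ ⟨a, haN⟩ = 1
        rw [← map_mul]
        exact (hker _).mpr ha2
      have hb3 : b' * b' = 1 := by
        apply Subtype.ext
        show ψ ⟨b, hbN⟩ * ψ ⟨b, hbN⟩ = 1
        rw [← map_mul]
        exact (hker _).mpr hb2
      have hab3 : a' * b' = b' * a' := by
        apply Subtype.ext
        show ψ ⟨a, haN⟩ * ψ ⟨b, hbN⟩ = ψ ⟨b, hbN⟩ * ψ ⟨a, haN⟩
        rw [← map_mul, ← map_mul]
        apply Subtype.ext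
        apply MulEquiv.ext
        intro w
        exact Subtype.ext (hab' w w.2)
      have htr3 : v * a' • v * b' • v * (a' * b') • v = 1 := by
        apply Subtype.ext
        show (v : G) * (a * v * a⁻¹) * (b * v * b⁻¹) * (a * (b * v * b⁻¹) * a⁻¹) = 1
        rw [← htr']
        group
      refine prod_smul_eq_one (Y := ↥E) (V := ↥V) (a := a') (b := b') ha3 hb3 hab3 ?_ ?_ ?_
        (v := v) htr3
      · intro h
        exact hne₁ ((hker ⟨a, haN⟩).mp (congrArg Subtype.val h) w₁ hw₁)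
      · intro h
        exact hne₂ ((hker ⟨b, hbN⟩).mp (congrArg Subtype.val h) w₂ hw₂)
      · intro h
        exact hne₃ (hψeq ⟨a, haN⟩ ⟨b, hbN⟩ (congrArg Subtype.val h) w₃ hw₃)) (ψ ⟨n, hn⟩) ⟨v, hv⟩
  exact key

/-! ### Lines -/

section

variable {G : Type*} [Group G] [Finite G] {K F E₁ Q : Subgroup G}

/-- **LEMMA OUT** for a relative line normalizing `E₁`: no hypothesis on the action of the hull on `K`. -/
theorem KMaxE.chi_eq_one (h : KMaxE K F) (ht : TightAt K) (hle : E₁ ≤ F) (hFK : F ⊓ K ≤ E₁)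
    (hend : ∃ n ∈ normalizer (E₁ : Set G), n ∉ normalizer (K : Set G))
    {V₀ : Subgroup G} (hV₀E : V₀ ≤ E₁) (hV₀C : V₀ ≤ centralizer (K : Set G)) (hV₀ : V₀ ≠ ⊥)
    (hV2 : ∀ v ∈ hull (normalizer (E₁ : Set G)) V₀, v * v = 1)
    (hab : ∀ x ∈ hull (normalizer (E₁ : Set G)) V₀, ∀ y ∈ hull (normalizer (E₁ : Set G)) V₀, x * y = y * x)
    {D l : Subgroup G} (hl : IsLineR (E₁ ⊓ K) D l) (hl2 : IsPGroup 2 ↥l) (hlK : l ≤ K)
    (hlN : l ≤ normalizer (E₁ : Set G)) (hlD : ∀ t ∈ l, t ∈ E₁ → t ∈ D)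
    (hD : ∀ d ∈ D, ∀ v ∈ hull (normalizer (E₁ : Set G)) V₀, d * v = v * d)
    {B : Type*} [CommGroup B] (χ : ↥(normalizer (K : Set G)) →* B)
    (hχ : ∀ c (hc : c ∈ normalizer (K : Set G)), c ∈ centralizer (K : Set G) → χ ⟨c, hc⟩ = 1) :
    ∀ v (hv : v ∈ normalizer (K : Set G)), v ∈ hull (normalizer (E₁ : Set G)) V₀ → χ ⟨v, hv⟩ = 1 := by
  set N := normalizer (E₁ : Set G) with hN
  set C := centralizer (K : Set G) with hC
  have hcjE : ∀ n ∈ N, ∀ x ∈ E₁, n * x * n⁻¹ ∈ E₁ := fun n hn x hx => (mem_normalizer_iff.mp hn x).mp hx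
  have hVE : hull N V₀ ≤ E₁ := by
    unfold hull
    rw [closure_le]
    rintro _ ⟨n, hn, x, hx, rfl⟩
    exact hcjE n hn x (hV₀E hx)
  have hEM : E₁ ≤ normalizer (K : Set G) := hle.trans h.maxE.le
  have hVM : hull N V₀ ≤ normalizer (K : Set G) := hVE.trans hEM
  have hV₀V : V₀ ≤ hull N V₀ := fun x hx => subset_closure ⟨1, one_mem _, x, hx, by group⟩
  have hv2 : ∀ v ∈ V₀, v * v = 1 := fun v hv => hV2 v (hV₀V hv)
  have hKM : ∀ m ∈ normalizer (K : Set G), ∀ k ∈ K, m * k * m⁻¹ ∈ K :=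
    fun m hm k hk => (mem_normalizer_iff.mp hm k).mp hk
  have hl2' : ∀ x ∈ l, ∃ k : ℕ, x ^ 2 ^ k = 1 := by
    intro x hx
    obtain ⟨k, hk⟩ := hl2 ⟨x, hx⟩
    exact ⟨k, congrArg Subtype.val hk⟩
  have hbr : ∀ v ∈ hull N V₀, ∀ x ∈ l, v * x * v⁻¹ * x⁻¹ ∈ hull N V₀ ∧ v * x * v⁻¹ * x⁻¹ ∈ E₁ ⊓ K := by
    intro v hv x hx
    have h1 : v * x * v⁻¹ * x⁻¹ ∈ hull N V₀ := by
      have e : v * x * v⁻¹ * x⁻¹ = v * (x * v⁻¹ * x⁻¹) := by group
      rw [e]
      exact mul_mem hv (hull_cj (hlN hx) (inv_mem hv))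
    refine ⟨h1, hVE h1, ?_⟩
    exact K.mul_mem (hKM v (hVM hv) x (hlK hx)) (K.inv_mem (hlK hx))
  -- squares act trivially
  have hsq : ∀ x ∈ l, ∀ v ∈ hull N V₀, x * x * v = v * (x * x) := fun x hx v hv => hD _ (hl.sq x hx) v hv
  -- `[v, x]` commutes with `x`
  have hself : ∀ v ∈ hull N V₀, ∀ x ∈ l, x * (v * x * v⁻¹ * x⁻¹) = (v * x * v⁻¹ * x⁻¹) * x := by
    intro v hv x hx
    have hvv := hV2 v hv
    have e1 : v⁻¹ = v := inv_eq_of_mul_eq_one_right hvv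
    have h4 : x * v * x⁻¹ * v = v * (x * v * x⁻¹) := hab _ (hull_cj (hlN hx) hv) v hv
    have h5 := hsq x hx v hv
    have h6 : x * (x * v * x⁻¹) * x⁻¹ = v := by
      calc x * (x * v * x⁻¹) * x⁻¹ = x * x * v * (x * x)⁻¹ := by group
        _ = v := by rw [h5]; group
    rw [e1]
    calc x * (v * x * v * x⁻¹) = x * v * x⁻¹ * (x * (x * v * x⁻¹) * x⁻¹) * x := by group
      _ = x * v * x⁻¹ * v * x := by rw [h6]
      _ = v * (x * v * x⁻¹) * x := by rw [h4]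
      _ = v * x * v * x⁻¹ * x := by group
  have hquad : ∀ v ∈ hull N V₀, ∀ x ∈ l, ∀ x' ∈ l,
      x' * (v * x * v⁻¹ * x⁻¹) = (v * x * v⁻¹ * x⁻¹) * x' := by
    intro v hv x hx x' hx'
    by_cases hxD : x ∈ D
    · have h1 : v * x * v⁻¹ * x⁻¹ = 1 := by
        rw [← hD x hxD v hv]; group
      rw [h1]; simp
    · exact hl.star _ (hbr v hv x hx).2 x hx hxD (hself v hv x hx) x' hx'
  obtain ⟨z, hz, hz1⟩ := (Subgroup.bot_or_exists_ne_one V₀).resolve_left hV₀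
  have hz2 : orderOf z = 2 := orderOf_eq_prime (by rw [pow_two]; exact hv2 z hz) hz1
  have hinv : ∃ x ∈ E₁, x ∈ C ∧ orderOf x = 2 := ⟨z, hV₀E hz, hV₀C hz, hz2⟩
  -- elements of `l` in conjugates of `N(K)`
  have hsemi : ∀ n ∈ N, n ∉ normalizer (K : Set G) → ∀ s ∈ l, n⁻¹ * s * n ∈ normalizer (K : Set G) → s ∈ D :=
    fun n hn hnM s hs hns => hlD s hs (h.semi hle hFK hinv hn hnM (hlN hs) (hlK hs) (hl2' s hs) hns)
  -- elements outside `D` act nontrivially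
  have hnt : ∀ t ∈ l, t ∉ D → ∃ v ∈ hull N V₀, t * v ≠ v * t := by
    intro t htl htD
    by_contra hcon
    push Not at hcon
    obtain ⟨n, hn, hnM⟩ := hend
    have hv : n * z * n⁻¹ ∈ hull N V₀ := hull_cj hn (hV₀V hz)
    apply htD
    refine hsemi n hn hnM t htl ?_
    have h1 : n⁻¹ * (n * z * n⁻¹) * n ∈ C := by
      have e : n⁻¹ * (n * z * n⁻¹) * n = z := by group
      rw [e]; exact hV₀C hz
    refine Tight.mem_of_comm ht h1 ?_ (hcon _ hv)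
    rw [Basic.orderOf_conj]; exact hz2
  obtain ⟨a, ha, b, hb, haD, hbD, habD⟩ := hl.pair
  have htr : ∀ v ∈ hull N V₀, ∃ a ∈ l, ∃ b ∈ l,
      (∀ w ∈ hull N V₀, a * a * w = w * (a * a)) ∧ (∀ w ∈ hull N V₀, b * b * w = w * (b * b)) ∧
      (∀ w ∈ hull N V₀, a * b * w * (a * b)⁻¹ = b * a * w * (b * a)⁻¹) ∧
      (∃ w ∈ hull N V₀, a * w ≠ w * a) ∧ (∃ w ∈ hull N V₀, b * w ≠ w * b) ∧
      (∃ w ∈ hull N V₀, a⁻¹ * b * w ≠ w * (a⁻¹ * b)) ∧
      v * (a * v * a⁻¹) * (b * v * b⁻¹) * (a * b * v * (a * b)⁻¹) = 1 := by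
    intro v hv
    have hcab : ∀ w ∈ hull N V₀, a * b * w * (a * b)⁻¹ = b * a * w * (b * a)⁻¹ := by
      intro w hw
      have h1 : a * b * (a * b) * w = w * (a * b * (a * b)) := hsq _ (mul_mem ha hb) w hw
      have h2 := hsq a ha
      have h3 := hsq b hb
      have h4 : a * b * (b * a * w * (b * a)⁻¹) * (a * b)⁻¹ = w := by
        have h5 : a * w * a⁻¹ ∈ hull N V₀ := hull_cj (hlN ha) hw
        calc a * b * (b * a * w * (b * a)⁻¹) * (a * b)⁻¹ = a * (b * b * (a * w * a⁻¹) * (b * b)⁻¹) * a⁻¹ := by group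
          _ = a * (a * w * a⁻¹) * a⁻¹ := by rw [h3 _ h5]; group
          _ = a * a * w * (a * a)⁻¹ := by group
          _ = w := by rw [h2 w hw]; group
      have h6 : a * b * (a * b * w * (a * b)⁻¹) * (a * b)⁻¹ = w := by
        calc a * b * (a * b * w * (a * b)⁻¹) * (a * b)⁻¹ = a * b * (a * b) * w * (a * b * (a * b))⁻¹ := by group
          _ = w := by rw [h1]; group
      have h7 : a * b * (a * b * w * (a * b)⁻¹) * (a * b)⁻¹ = a * b * (b * a * w * (b * a)⁻¹) * (a * b)⁻¹ := by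
        rw [h6, h4]
      exact mul_left_cancel (mul_right_cancel h7)
    refine ⟨a, ha, b, hb, hsq a ha, hsq b hb, hcab, hnt a ha haD, hnt b hb hbD,
      hnt _ (mul_mem (inv_mem ha) hb) habD, ?_⟩
    have hvv := hV2 v hv
    have e1 : v⁻¹ = v := inv_eq_of_mul_eq_one_right hvv
    have h5 : b * (v * a * v⁻¹ * a⁻¹) = v * a * v⁻¹ * a⁻¹ * b := hquad v hv a ha b hb
    rw [e1] at h5
    have h6 : (v * a * v * a⁻¹) * (v * a * v * a⁻¹) = 1 := by
      have h7 := hV2 _ (hbr v hv a ha).1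
      rwa [e1] at h7
    have hba : (b * v * b⁻¹) * (a * b * v * (a * b)⁻¹) = b * (v * (a * v * a⁻¹)) * b⁻¹ := by
      rw [hcab v hv]; group
    rw [mul_assoc (v * (a * v * a⁻¹)), hba]
    calc v * (a * v * a⁻¹) * (b * (v * (a * v * a⁻¹)) * b⁻¹)
        = (v * a * v * a⁻¹) * (b * (v * a * v * a⁻¹)) * b⁻¹ := by group
      _ = (v * a * v * a⁻¹) * (v * a * v * a⁻¹ * b) * b⁻¹ := by rw [h5]
      _ = (v * a * v * a⁻¹) * (v * a * v * a⁻¹) := by group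
      _ = 1 := h6
  have key := fun {n v : G} (hn : n ∈ N) (hv : v ∈ hull N V₀) =>
    hull_chi (M := normalizer (K : Set G)) (N := N) (V₀ := V₀) (T := l) χ hVM hab (by
      intro n _ hnc
      have h1 : (1 : G)⁻¹ * z * 1 ∈ C := by simpa using hV₀C hz
      have h2 := Tight.mem_of_comm ht h1 hz2 (hnc z (hV₀V hz))
      simpa using h2) hlN (hlK.trans le_normalizer) (by
      intro n hn hnM s hs hns
      exact hD s (hsemi n hn hnM s hs hns)) htr hn hv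
  -- conclusion
  have hfin : hull N V₀ ≤ (χ.ker).map (normalizer (K : Set G)).subtype := by
    refine (Subgroup.closure_le _).mpr ?_
    rintro _ ⟨n, hn, x, hx, rfl⟩
    refine ⟨⟨n * x * n⁻¹, hVM (hull_cj hn (hV₀V hx))⟩, ?_, rfl⟩
    show χ _ = 1
    rw [key hn (hV₀V hx)]
    exact hχ x _ (hV₀C hx)
  intro v hv hvV
  obtain ⟨w, hw, hwv⟩ := hfin hvV
  have h1 : w = ⟨v, hv⟩ := Subtype.ext hwv
  rw [← h1]
  exact hw

/-- `Ω₁(Z(E₁)) ∩ C(K) ≠ 1` -/
theorem omegaZ_ne_bot (h : KMaxE K F) (ht : TightAt K) (hle : E₁ ≤ F)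
    (hQ : IsSyl Q (centralizer (K : Set G))) (hQE : Q ≤ E₁) : omegaZ E₁ (centralizer (K : Set G)) ≠ ⊥ := by
  have hE2 : IsPGroup 2 ↥E₁ := h.maxE.isPGroup.to_le hle
  have hEM : E₁ ≤ normalizer (K : Set G) := hle.trans h.maxE.le
  obtain ⟨x, hx, hxC, hx2⟩ := h.maxE.exists_inv
  -- an involution of `Q`
  obtain ⟨m, hm, hmq⟩ := hQ.conj_into (Q := zpowers x) (by
    rw [IsPGroup.iff_card]; exact ⟨1, by rw [Nat.card_zpowers, hx2]; norm_num⟩) (zpowers_le.mpr hxC)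
  have hy := hmq x (mem_zpowers x)
  have hy2 : orderOf (m * x * m⁻¹) = 2 := by rw [Basic.orderOf_conj]; exact hx2
  obtain ⟨z, hzE, hzC, hz2, hzc⟩ := CommConj.exists_central_involution (S := E₁)
    (N := E₁ ⊓ centralizer (K : Set G)) hE2 (by
      intro s hs n hn
      exact mem_inf.mpr ⟨mul_mem (mul_mem hs hn.1) (inv_mem hs), ht.norm s (hEM hs) n hn.2⟩)
    ⟨_, hQE hy, ⟨hQE hy, hQ.le hy⟩, by
      intro h1
      rw [h1, orderOf_one] at hy2; exact absurd hy2 (by norm_num)⟩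
  intro hbot
  have hz : z ∈ omegaZ E₁ (centralizer (K : Set G)) :=
    ⟨hzE, hzC.2, by rw [← pow_two, ← hz2]; exact pow_orderOf_eq_one z, hzc⟩
  rw [hbot, mem_bot] at hz
  rw [hz, orderOf_one] at hz2
  exact absurd hz2 (by norm_num)

/-- **(1B) with graph part, from `Out(K)`**: `χ : N(K) → B`, `B` abelian, trivial on `C(K)`, 2-elements of the kernel
are inner. -/
theorem core {S P : Subgroup G} (ht : TightAt K) (hcen : ∀ x ∈ K, x ∈ centralizer (K : Set G) → x = 1)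
    (h : KMaxE K F) (hQ : IsSyl Q (centralizer (K : Set G))) (hQF : Q ≤ F) (hS : IsPGroup 2 ↥S)
    (hSM : S ≤ normalizer (K : Set G)) (hFS : F ≤ S)
    {U : ℕ → Subgroup G} {L : ℕ → Set (Subgroup G)} (hU : Flt K S F U L)
    (hPM : ∀ m ∈ normalizer (K : Set G), ∀ x ∈ P, m * x * m⁻¹ ∈ P) (hCP : centralizer (K : Set G) ≤ P) (hKP : K ≤ P)
    (hZ : ∀ e ∈ F, (∀ z ∈ zc K S, e * z = z * e) ↔ e ∈ P)
    (hUP : ∀ j, ∀ l ∈ L j, ∀ x ∈ l, ∀ e ∈ F, e ∈ P → e * x * e⁻¹ * x⁻¹ ∈ U (j + 1))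
    (hinn : ∃ n ∈ normalizer (F : Set G), n ∉ normalizer (K : Set G) ∧ ∃ v ∈ F, orderOf v = 2 ∧
      n⁻¹ * v * n ∈ centralizer (K : Set G) ∧ (∀ e ∈ F, e * v = v * e) ∧
      ∃ c ∈ centralizer (K : Set G), ∃ k ∈ K, v = c * k)
    (hA : ∀ j, U (j + 1) ≤ F → zc K S ≤ F → ∀ n ∈ normalizer (F : Set G), n ∉ normalizer (K : Set G) →
      ∀ z ∈ zc K S, ∀ u ∈ U (j + 1), u * (n * z * n⁻¹) = n * z * n⁻¹ * u)
    {B : Type*} [CommGroup B] (χ : ↥(normalizer (K : Set G)) →* B)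
    (hχ : ∀ c (hc : c ∈ normalizer (K : Set G)), c ∈ centralizer (K : Set G) → χ ⟨c, hc⟩ = 1)
    (hχ2 : ∀ v (hv : v ∈ normalizer (K : Set G)), (∃ k : ℕ, v ^ 2 ^ k = 1) → χ ⟨v, hv⟩ = 1 →
      ∃ c ∈ centralizer (K : Set G), ∃ k ∈ K, v = c * k)
    (hUF : ¬ S ⊓ K ≤ F) : False := by
  refine Graph.core ht hcen h hQ hQF hS hSM hFS hU hPM hCP hKP hZ hUP hinn hA ?_ hUF
  intro D l hline hl2 hlK hlN hlFD hDFP n hn hnM v hv
  have hVZ := hull_omegaZ (C := centralizer (K : Set G)) (E := F ⊓ P)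
  have hQE : Q ≤ F ⊓ P := le_inf hQF (hQ.le.trans hCP)
  have hvh : n * v * n⁻¹ ∈ hull (normalizer ((F ⊓ P : Subgroup G) : Set G)) (omegaZ (F ⊓ P) (centralizer (K : Set G))) :=
    hull_cj hn (subset_closure ⟨1, one_mem _, v, hv, by group⟩)
  have hvM : n * v * n⁻¹ ∈ normalizer (K : Set G) := h.maxE.le (hVZ _ hvh).1.1
  refine hχ2 _ hvM ⟨1, by rw [pow_one, pow_two]; exact (hVZ _ hvh).2.1⟩ ?_
  exact KMaxE.chi_eq_one h ht (E₁ := F ⊓ P) inf_le_left (fun x hx => ⟨hx.1, hKP hx.2⟩) ⟨n, hn, hnM⟩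
    (V₀ := omegaZ (F ⊓ P) (centralizer (K : Set G))) (fun x hx => hx.1) (fun x hx => hx.2.1)
    (omegaZ_ne_bot h ht inf_le_left hQ hQE) (fun v hv => (hVZ v hv).2.1)
    (fun x hx y hy => (hVZ y hy).2.2 x (hVZ x hx).1) (hline.mono fun y hy => ⟨hFS hy.1.1, hy.2⟩) hl2 hlK hlN
    (fun t htl ht' => hlFD t htl ht'.1) (fun d hd v hv => (hVZ v hv).2.2 d (hDFP hd)) χ hχ _ hvM hvh

end

end Cfsg.Agent.OddHalf.D4.Out
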