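import Mathlib
import Cfsg.Agent.OddHalf.D4.Out

/-!
# ODD, D4, (1B): the centre of `S ∩ K` lies in `F`, and `Z(F)` contains an inner involution of a conjugate of `C(K)`

(228 (L2)). `D = C(K)^n`, `n ∈ N(F) ∖ N(K)`, `R = F ∩ D` contains a four-group, one of whose involutions centralizes
`Z = Z(S ∩ K)`; so `Z ≤ N(K)^n ∩ S = F`. If `R ∩ C(K)K = 1` then `[R, F] ≤ R ∩ ker χ = 1`, so `R ≤ Z(F)` centralizes
`Z`, and `R` has at most one involution.
-/

set_option autoImplicit false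

namespace Cfsg.Agent.OddHalf.D4.Hinn

open Cfsg Subgroup Cfsg.Agent.OddHalf.D4 Cfsg.Agent.OddHalf.D4.Basic Cfsg.Agent.OddHalf.D4.BaryEnd
open Cfsg.Agent.OddHalf.D4.KMax Cfsg.Agent.OddHalf.D4.NoGraph
open Cfsg.Agent.OddHalf.D4.CommConj (Tight MaxE cj mem_cj mem_cj_mul)

variable {G : Type*} [Group G] [Finite G] {K F Q S : Subgroup G}

/-- two commuting distinct involutions of `C(K)` in `Q` -/
theorem rk_syl (hrk : ∃ a b : G, a ∈ centralizer (K : Set G) ∧ b ∈ centralizer (K : Set G) ∧ orderOf a = 2 ∧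
      orderOf b = 2 ∧ a * b = b * a ∧ a ≠ b) (hQ : IsSyl Q (centralizer (K : Set G))) :
    ∃ a ∈ Q, ∃ b ∈ Q, orderOf a = 2 ∧ orderOf b = 2 ∧ a * b = b * a ∧ a ≠ b := by
  obtain ⟨a, b, ha, hb, ha2, hb2, hab, hne⟩ := hrk
  have hp : ∀ x : G, orderOf x = 2 → IsPGroup 2 ↥(zpowers x) := fun x hx => by
    rw [IsPGroup.iff_card]; exact ⟨1, by rw [Nat.card_zpowers, hx]; norm_num⟩
  have hbn : zpowers b ≤ normalizer ((zpowers a : Subgroup G) : Set G) := by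
    rw [zpowers_le]
    apply mem_normalizer_fintype
    rintro _ ⟨k, rfl⟩
    have h1 : b * a ^ k * b⁻¹ = a ^ k := by
      have h2 : Commute b (a ^ k) := (show Commute b a from hab.symm).zpow_right k
      rw [h2.eq]; group
    rw [h1]
    exact ⟨k, rfl⟩
  have h2 : IsPGroup 2 ↥(zpowers a ⊔ zpowers b) := (hp a ha2).to_sup_of_normal_left' (hp b hb2) hbn
  obtain ⟨m, hm, hmq⟩ := hQ.conj_into h2 (sup_le (zpowers_le.mpr ha) (zpowers_le.mpr hb))
  refine ⟨m * a * m⁻¹, hmq a (mem_sup_left (mem_zpowers a)), m * b * m⁻¹, hmq b (mem_sup_right (mem_zpowers b)),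
    ?_, ?_, ?_, ?_⟩
  · rw [Basic.orderOf_conj, ha2]
  · rw [Basic.orderOf_conj, hb2]
  · calc m * a * m⁻¹ * (m * b * m⁻¹) = m * (a * b) * m⁻¹ := by group
      _ = m * b * m⁻¹ * (m * a * m⁻¹) := by rw [hab]; group
  · intro h
    exact hne (mul_left_cancel (mul_right_cancel h))

variable {n : G}

/-- two commuting distinct involutions of `C(K)^n` in `F`, one centralizes `Z(S ∩ K)` -/
theorem zc_le (ht : TightAt K) (h : KMaxE K F) (hQ : IsSyl Q (centralizer (K : Set G))) (hQF : Q ≤ F)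
    (hS : IsPGroup 2 ↥S) (hSM : S ≤ normalizer (K : Set G)) (hFS : F ≤ S)
    (hrk : ∃ a b : G, a ∈ centralizer (K : Set G) ∧ b ∈ centralizer (K : Set G) ∧ orderOf a = 2 ∧
      orderOf b = 2 ∧ a * b = b * a ∧ a ≠ b)
    (hcyc : ∀ a ∈ F, ∀ b ∈ F, a * a = 1 → b * b = 1 → a * b = b * a →
      (∀ z ∈ zc K S, a * z = z * a) ∨ (∀ z ∈ zc K S, b * z = z * b) ∨ (∀ z ∈ zc K S, a * b * z = z * (a * b)))
    (hn : n ∈ normalizer (F : Set G)) (hnM : n ∉ normalizer (K : Set G)) : zc K S ≤ F := by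
  obtain ⟨a, ha, b, hb, ha2, hb2, hab, hne⟩ := rk_syl hrk hQ
  have hcj : ∀ x ∈ Q, n * x * n⁻¹ ∈ F := fun x hx => (mem_normalizer_iff.mp hn x).mp (hQF hx)
  have hsq : ∀ x : G, orderOf x = 2 → x * x = 1 := fun x hx => by rw [← pow_two, ← hx]; exact pow_orderOf_eq_one x
  have hsq' : ∀ x : G, orderOf x = 2 → n * x * n⁻¹ * (n * x * n⁻¹) = 1 := fun x hx => by
    calc n * x * n⁻¹ * (n * x * n⁻¹) = n * (x * x) * n⁻¹ := by group
      _ = 1 := by rw [hsq x hx]; group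
  have key : ∀ r ∈ centralizer (K : Set G), orderOf r = 2 → (∀ z ∈ zc K S, n * r * n⁻¹ * z = z * (n * r * n⁻¹)) →
      zc K S ≤ F := by
    intro r hr hr2 hrz z hz
    have hzS : z ∈ S := ((mem_zc.mp hz).1).1
    refine mem_of_conj h.maxE hS hSM hFS hn hnM hzS ?_
    refine Tight.mem_of_comm ht (r := n * r * n⁻¹) ?_ ?_ (hrz z hz).symm
    · have e : n⁻¹ * (n * r * n⁻¹) * n = r := by group
      rw [e]; exact hr
    · rw [Basic.orderOf_conj]; exact hr2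
  rcases hcyc _ (hcj a ha) _ (hcj b hb) (hsq' a ha2) (hsq' b hb2) (by
    calc n * a * n⁻¹ * (n * b * n⁻¹) = n * (a * b) * n⁻¹ := by group
      _ = n * b * n⁻¹ * (n * a * n⁻¹) := by rw [hab]; group) with h1 | h1 | h1
  · exact key a (hQ.le ha) ha2 h1
  · exact key b (hQ.le hb) hb2 h1
  · refine key (a * b) (mul_mem (hQ.le ha) (hQ.le hb)) (orderOf_eq_prime ?_ ?_) ?_
    · have h2 := hsq a ha2
      have h3 := hsq b hb2
      rw [pow_two]
      calc a * b * (a * b) = a * (b * a) * b := by group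
        _ = (a * a) * (b * b) := by rw [← hab]; group
        _ = 1 := by rw [h2, h3, one_mul]
    · intro h2
      apply hne
      have h3 : a = b⁻¹ := eq_inv_of_mul_eq_one_left h2
      rw [h3]
      exact inv_eq_of_mul_eq_one_right (hsq b hb2)
    · intro z hz
      have h2 := h1 z hz
      have e : n * (a * b) * n⁻¹ = n * a * n⁻¹ * (n * b * n⁻¹) := by group
      rw [e]; exact h2

/-- **`hinn`**. -/
theorem hinn {B : Type*} [CommGroup B] (ht : TightAt K) (h : KMaxE K F)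
    (hQ : IsSyl Q (centralizer (K : Set G))) (hQF : Q ≤ F)
    (hS : IsPGroup 2 ↥S) (hSM : S ≤ normalizer (K : Set G)) (hFS : F ≤ S)
    (hrk : ∃ a b : G, a ∈ centralizer (K : Set G) ∧ b ∈ centralizer (K : Set G) ∧ orderOf a = 2 ∧
      orderOf b = 2 ∧ a * b = b * a ∧ a ≠ b)
    (hcyc : ∀ a ∈ F, ∀ b ∈ F, a * a = 1 → b * b = 1 → a * b = b * a →
      (∀ z ∈ zc K S, a * z = z * a) ∨ (∀ z ∈ zc K S, b * z = z * b) ∨ (∀ z ∈ zc K S, a * b * z = z * (a * b)))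
    (χ : ↥(normalizer (K : Set G)) →* B)
    (hχ2 : ∀ v (hv : v ∈ normalizer (K : Set G)), (∃ k : ℕ, v ^ 2 ^ k = 1) → χ ⟨v, hv⟩ = 1 →
      ∃ c ∈ centralizer (K : Set G), ∃ k ∈ K, v = c * k)
    (hK2 : ∀ a ∈ F, ∀ b ∈ F, (∀ z ∈ zc K S, a * z = z * a) → (∀ z ∈ zc K S, b * z = z * b) →
      a * a = 1 → b * b = 1 → a * b = b * a →
      (∃ c ∈ centralizer (K : Set G), ∃ k ∈ K, a = c * k) ∨ (∃ c ∈ centralizer (K : Set G), ∃ k ∈ K, b = c * k) ∨
      (∃ c ∈ centralizer (K : Set G), ∃ k ∈ K, a * b = c * k)) :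
    ∃ n ∈ normalizer (F : Set G), n ∉ normalizer (K : Set G) ∧ ∃ v ∈ F, orderOf v = 2 ∧
      n⁻¹ * v * n ∈ centralizer (K : Set G) ∧ (∀ e ∈ F, e * v = v * e) ∧
      ∃ c ∈ centralizer (K : Set G), ∃ k ∈ K, v = c * k := by
  obtain ⟨n, hn, hnM⟩ := h.maxE.exists_norm
  have hZF := zc_le ht h hQ hQF hS hSM hFS hrk hcyc hn hnM
  have hF2 : IsPGroup 2 ↥F := h.maxE.isPGroup
  have hcomm : ∀ k ∈ K, ∀ c ∈ centralizer (K : Set G), k * c = c * k :=
    fun k hk c hc => mem_centralizer_iff.mp hc k hk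
  have hKM : ∀ m ∈ normalizer (K : Set G), ∀ k ∈ K, m * k * m⁻¹ ∈ K :=
    fun m hm k hk => (mem_normalizer_iff.mp hm k).mp hk
  have hcj : ∀ x ∈ F, n * x * n⁻¹ ∈ F := fun x hx => (mem_normalizer_iff.mp hn x).mp hx
  have hcj' : ∀ x ∈ F, n⁻¹ * x * n ∈ F := fun x hx => (mem_normalizer_iff''.mp hn x).mp hx
  -- the inner part of `F ∩ C(K)^n`
  let I : Subgroup G := inn K F ⊓ cj n (centralizer (K : Set G))
  have hmemI : ∀ x, x ∈ I ↔ x ∈ inn K F ∧ n⁻¹ * x * n ∈ centralizer (K : Set G) := by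
    intro x
    show x ∈ inn K F ⊓ cj n (centralizer (K : Set G)) ↔ _
    rw [mem_inf, mem_cj]
  -- `F` normalizes `C(K)^n`
  have hFC : ∀ e ∈ F, ∀ x, n⁻¹ * x * n ∈ centralizer (K : Set G) →
      n⁻¹ * (e * x * e⁻¹) * n ∈ centralizer (K : Set G) := by
    intro e he x hx
    have h1 := ht.norm _ (h.maxE.le (hcj' e he)) _ hx
    have e1 : n⁻¹ * e * n * (n⁻¹ * x * n) * (n⁻¹ * e * n)⁻¹ = n⁻¹ * (e * x * e⁻¹) * n := by group
    rwa [e1] at h1
  have hFI : ∀ e ∈ F, ∀ x ∈ inn K F, e * x * e⁻¹ ∈ inn K F := by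
    rintro e he x ⟨hx, c, hc, k, hk, rfl⟩
    refine ⟨F.mul_mem (F.mul_mem he hx) (F.inv_mem he), e * c * e⁻¹, ht.norm e (h.maxE.le he) c hc,
      e * k * e⁻¹, hKM e (h.maxE.le he) k hk, by group⟩
  have hne : ∃ x ∈ F, x ∈ I ∧ x ≠ 1 := by
    by_contra hcon
    push Not at hcon
    obtain ⟨a, ha, b, hb, ha2, hb2, hab, hne⟩ := rk_syl hrk hQ
    have hsq : ∀ x : G, orderOf x = 2 → x * x = 1 := fun x hx => by
      rw [← pow_two, ← hx]; exact pow_orderOf_eq_one x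
    -- elements of `F ∩ C(K)^n` are central in `F`
    have hcen' : ∀ x ∈ F, n⁻¹ * x * n ∈ centralizer (K : Set G) → ∀ e ∈ F, e * x = x * e := by
      intro x hx hxn e he
      have h1 : e * x * e⁻¹ * x⁻¹ ∈ F := F.mul_mem (F.mul_mem (F.mul_mem he hx) (F.inv_mem he)) (F.inv_mem hx)
      have h2 : n⁻¹ * (e * x * e⁻¹ * x⁻¹) * n ∈ centralizer (K : Set G) := by
        have h3 := mul_mem (hFC e he x hxn) (inv_mem hxn)
        have e1 : n⁻¹ * (e * x * e⁻¹) * n * (n⁻¹ * x * n)⁻¹ = n⁻¹ * (e * x * e⁻¹ * x⁻¹) * n := by group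
        rwa [e1] at h3
      have h3 : χ ⟨e * x * e⁻¹ * x⁻¹, h.maxE.le h1⟩ = 1 := by
        have e1 : (⟨e * x * e⁻¹ * x⁻¹, h.maxE.le h1⟩ : ↥(normalizer (K : Set G))) =
            ⟨e, h.maxE.le he⟩ * ⟨x, h.maxE.le hx⟩ * (⟨e, h.maxE.le he⟩)⁻¹ * (⟨x, h.maxE.le hx⟩)⁻¹ := rfl
        rw [e1, map_mul, map_mul, map_mul, map_inv, map_inv, mul_comm (χ ⟨e, _⟩), mul_inv_cancel_right,
          mul_inv_cancel]
      obtain ⟨j, hj⟩ := hF2 ⟨_, h1⟩
      obtain ⟨c, hc, k, hk, hck⟩ := hχ2 _ (h.maxE.le h1) ⟨j, congrArg Subtype.val hj⟩ h3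
      have h4 := hcon _ h1 ((hmemI _).mpr ⟨⟨h1, c, hc, k, hk, hck⟩, h2⟩)
      calc e * x = e * x * e⁻¹ * x⁻¹ * (x * e) := by group
        _ = x * e := by rw [h4, one_mul]
    have hxn : ∀ x ∈ Q, n⁻¹ * (n * x * n⁻¹) * n ∈ centralizer (K : Set G) := by
      intro x hx
      have e : n⁻¹ * (n * x * n⁻¹) * n = x := by group
      rw [e]; exact hQ.le hx
    have hZ : ∀ x ∈ Q, ∀ z ∈ zc K S, n * x * n⁻¹ * z = z * (n * x * n⁻¹) := by
      intro x hx z hz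
      exact (hcen' _ (hcj x (hQF hx)) (hxn x hx) z (hZF hz)).symm
    have hsq' : ∀ x : G, orderOf x = 2 → n * x * n⁻¹ * (n * x * n⁻¹) = 1 := fun x hx => by
      calc n * x * n⁻¹ * (n * x * n⁻¹) = n * (x * x) * n⁻¹ := by group
        _ = 1 := by rw [hsq x hx]; group
    have hnot : ∀ x ∈ Q, x ≠ 1 → ¬ ∃ c ∈ centralizer (K : Set G), ∃ k ∈ K, n * x * n⁻¹ = c * k := by
      intro x hx hx1 hck
      have h1 := hcon _ (hcj x (hQF hx)) ((hmemI _).mpr ⟨⟨hcj x (hQF hx), hck⟩, hxn x hx⟩)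
      apply hx1
      calc x = n⁻¹ * (n * x * n⁻¹) * n := by group
        _ = 1 := by rw [h1]; group
    have ha1 : a ≠ 1 := by rintro rfl; rw [orderOf_one] at ha2; exact absurd ha2 (by norm_num)
    have hb1 : b ≠ 1 := by rintro rfl; rw [orderOf_one] at hb2; exact absurd hb2 (by norm_num)
    rcases hK2 _ (hcj a (hQF ha)) _ (hcj b (hQF hb)) (hZ a ha) (hZ b hb) (hsq' a ha2) (hsq' b hb2) (by
      calc n * a * n⁻¹ * (n * b * n⁻¹) = n * (a * b) * n⁻¹ := by group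
        _ = n * b * n⁻¹ * (n * a * n⁻¹) := by rw [hab]; group) with h1 | h1 | h1
    · exact hnot a ha ha1 h1
    · exact hnot b hb hb1 h1
    · refine hnot (a * b) (mul_mem ha hb) ?_ ?_
      · intro h2
        apply hne
        have h3 : a = b⁻¹ := eq_inv_of_mul_eq_one_left h2
        rw [h3]
        exact inv_eq_of_mul_eq_one_right (hsq b hb2)
      · have e : n * (a * b) * n⁻¹ = n * a * n⁻¹ * (n * b * n⁻¹) := by group
        rw [e]; exact h1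
  obtain ⟨v, hvF, hvI, hv2, hvc⟩ := CommConj.exists_central_involution (S := F) (N := I) hF2 (by
    intro e he x hx
    rw [hmemI] at hx ⊢
    exact ⟨hFI e he x hx.1, hFC e he x hx.2⟩) hne
  rw [hmemI] at hvI
  exact ⟨n, hn, hnM, v, hvF, hv2, hvI.2, hvc, hvI.1.2⟩

end Cfsg.Agent.OddHalf.D4.Hinn
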