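import Mathlib
import Cfsg.Agent.OddHalf.D4.Hinn
import Cfsg.Agent.OddHalf.D4.BFacts

/-!
# ODD, D4, (1B): the hypothesis `hA`, and the end of case (1B)

`Z = Z(S ∩ K)`, `Z' = Z^n`, `n ∈ N(F) ∖ N(K)`. `F / C_F(Z)` cyclic. `hA_of_half`: `q ≥ 8`. `comm_of_four`:
`[Z, Z'] = 1` if `q = 4`; `hA`: then every line in `F` centralizes `Z'`. `hA_of_four`: `q = 4`. `hA_of_flt`: both.
-/

set_option autoImplicit false

namespace Cfsg.Agent.OddHalf.D4.HA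

open Cfsg Subgroup Cfsg.Agent.OddHalf.D4 Cfsg.Agent.OddHalf.D4.Basic Cfsg.Agent.OddHalf.D4.BaryEnd
open Cfsg.Agent.OddHalf.D4.KMax Cfsg.Agent.OddHalf.D4.NoGraph Cfsg.Agent.OddHalf.D4.LineR
open Cfsg.Agent.OddHalf.D4.CommConj (Tight MaxE cj mem_cj mem_cj_mul)

variable {G : Type*} [Group G] [Finite G] {K F Q S : Subgroup G}

/-- `F / C_F(Z)` is cyclic, `Z = Z(S ∩ K)`: of two elements whose squares centralize `Z`, one or the product
centralizes `Z`. -/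
def Cyc (K S F : Subgroup G) : Prop :=
  ∀ a ∈ F, ∀ b ∈ F, (∀ z ∈ zc K S, a * a * z = z * (a * a)) → (∀ z ∈ zc K S, b * b * z = z * (b * b)) →
    (∀ z ∈ zc K S, a * z = z * a) ∨ (∀ z ∈ zc K S, b * z = z * b) ∨ (∀ z ∈ zc K S, a * b * z = z * (a * b))

omit [Finite G] in
theorem Cyc.conj (h : Cyc K S F) {n : G} (hn : n ∈ normalizer (F : Set G)) {a b : G} (ha : a ∈ F) (hb : b ∈ F)
    (ha2 : ∀ z ∈ zc K S, a * a * (n * z * n⁻¹) = n * z * n⁻¹ * (a * a))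
    (hb2 : ∀ z ∈ zc K S, b * b * (n * z * n⁻¹) = n * z * n⁻¹ * (b * b)) :
    (∀ z ∈ zc K S, a * (n * z * n⁻¹) = n * z * n⁻¹ * a) ∨ (∀ z ∈ zc K S, b * (n * z * n⁻¹) = n * z * n⁻¹ * b) ∨
      (∀ z ∈ zc K S, a * b * (n * z * n⁻¹) = n * z * n⁻¹ * (a * b)) := by
  have hcj : ∀ x ∈ F, n⁻¹ * x * n ∈ F := fun x hx => (mem_normalizer_iff''.mp hn x).mp hx
  have key : ∀ x z : G, x * (n * z * n⁻¹) = n * z * n⁻¹ * x ↔ n⁻¹ * x * n * z = z * (n⁻¹ * x * n) := by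
    intro x z
    constructor
    · intro h1
      calc n⁻¹ * x * n * z = n⁻¹ * (x * (n * z * n⁻¹)) * n := by group
        _ = n⁻¹ * (n * z * n⁻¹ * x) * n := by rw [h1]
        _ = z * (n⁻¹ * x * n) := by group
    · intro h1
      calc x * (n * z * n⁻¹) = n * (n⁻¹ * x * n * z) * n⁻¹ := by group
        _ = n * (z * (n⁻¹ * x * n)) * n⁻¹ := by rw [h1]
        _ = n * z * n⁻¹ * x := by group
  have e : ∀ x y : G, n⁻¹ * x * n * (n⁻¹ * y * n) = n⁻¹ * (x * y) * n := fun x y => by group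
  rcases h _ (hcj a ha) _ (hcj b hb) (fun z hz => by rw [e]; exact (key _ _).mp (ha2 z hz))
    (fun z hz => by rw [e]; exact (key _ _).mp (hb2 z hz)) with h1 | h1 | h1
  · exact Or.inl fun z hz => (key _ _).mpr (h1 z hz)
  · exact Or.inr (Or.inl fun z hz => (key _ _).mpr (h1 z hz))
  · refine Or.inr (Or.inr fun z hz => (key _ _).mpr ?_)
    have h2 := h1 z hz
    rwa [e] at h2

omit [Finite G] in
/-- downward induction along the filtration -/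
theorem induct {U : ℕ → Subgroup G} {L : ℕ → Set (Subgroup G)} (hU : Flt K S F U L) (hcyc : Cyc K S F) {j : ℕ}
    (hj : U (j + 1) ≤ F) {n : G} (hn : n ∈ normalizer (F : Set G))
    (hstep : ∀ i, ∀ l ∈ L i, ∀ z ∈ zc K S, (∀ d ∈ U (i + 1), d * (n * z * n⁻¹) = n * z * n⁻¹ * d) →
      (∀ a ∈ l, ∀ b ∈ l, (∀ z ∈ zc K S, a * (n * z * n⁻¹) = n * z * n⁻¹ * a) ∨
        (∀ z ∈ zc K S, b * (n * z * n⁻¹) = n * z * n⁻¹ * b) ∨
        (∀ z ∈ zc K S, a * b * (n * z * n⁻¹) = n * z * n⁻¹ * (a * b))) →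
      ∀ x ∈ l, x * (n * z * n⁻¹) = n * z * n⁻¹ * x) :
    ∀ z ∈ zc K S, ∀ u ∈ U (j + 1), u * (n * z * n⁻¹) = n * z * n⁻¹ * u := by
  let H : Subgroup G := centralizer {y | ∃ z ∈ zc K S, y = n * z * n⁻¹}
  have hH : ∀ u, u ∈ H ↔ ∀ z ∈ zc K S, u * (n * z * n⁻¹) = n * z * n⁻¹ * u := by
    intro u
    show u ∈ centralizer _ ↔ _
    rw [mem_centralizer_iff]
    constructor
    · intro h z hz
      exact (h _ ⟨z, hz, rfl⟩).symm
    · rintro h _ ⟨z, hz, rfl⟩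
      exact (h z hz).symm
  obtain ⟨m, hm⟩ := hU.bot
  have key : ∀ d i, j + 1 ≤ i → m ≤ i + d → U i ≤ H := by
    intro d
    induction d with
    | zero =>
      intro i _ hi
      have h1 : U i ≤ U m := hU.anti (by omega)
      rw [hm] at h1
      exact h1.trans bot_le
    | succ d ih =>
      intro i hji hi
      have hnext : U (i + 1) ≤ H := ih (i + 1) (by omega) (by omega)
      intro u hu
      have h1 : closure ({x | ∃ l ∈ L i, x ∈ l} ∪ (U (i + 1) : Set G)) ≤ H := by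
        rw [closure_le]
        rintro x (⟨l, hl, hx⟩ | hx)
        · have hlF : l ≤ F := (hU.line_le i l hl).trans ((hU.anti hji).trans hj)
          have hsq : ∀ x ∈ l, ∀ z ∈ zc K S, x * x * (n * z * n⁻¹) = n * z * n⁻¹ * (x * x) :=
            fun x hx => (hH _).mp (hnext ((hU.line i l hl).sq x hx))
          refine (hH x).mpr fun z hz => ?_
          refine hstep i l hl z hz (fun d hd => (hH d).mp (hnext hd) z hz) ?_ x hx
          intro a ha b hb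
          exact hcyc.conj hn (hlF ha) (hlF hb) (hsq a ha) (hsq b hb)
        · exact hnext hx
      exact h1 (hU.gen i u hu)
  intro z hz u hu
  exact (hH u).mp (key m (j + 1) le_rfl (by omega) hu) z hz

omit [Finite G] in
/-- **`hA` from `[Z, Z^n] = 1`** -/
theorem hA {U : ℕ → Subgroup G} {L : ℕ → Set (Subgroup G)} (hU : Flt K S F U L) (hcyc : Cyc K S F)
    (hZ2 : ∀ z ∈ zc K S, z * z = 1)
    (hstar : ∀ j, ∀ l ∈ L j, ∀ y ∈ F, y * y = 1 → (∀ z ∈ zc K S, y * z = z * y) →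
      (∀ d ∈ U (j + 1), d * y = y * d) → ∀ x ∈ l, x ∉ U (j + 1) → x * y = y * x → ∀ x' ∈ l, x' * y = y * x')
    (hZZ : zc K S ≤ F → ∀ n ∈ normalizer (F : Set G), n ∉ normalizer (K : Set G) → ∀ z ∈ zc K S, ∀ z' ∈ zc K S,
      z * (n * z' * n⁻¹) = n * z' * n⁻¹ * z) :
    ∀ j, U (j + 1) ≤ F → zc K S ≤ F → ∀ n ∈ normalizer (F : Set G), n ∉ normalizer (K : Set G) →
      ∀ z ∈ zc K S, ∀ u ∈ U (j + 1), u * (n * z * n⁻¹) = n * z * n⁻¹ * u := by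
  intro j hj hZF n hn hnM
  have hcj : ∀ x ∈ F, n * x * n⁻¹ ∈ F := fun x hx => (mem_normalizer_iff.mp hn x).mp hx
  refine induct hU hcyc hj hn ?_
  intro i l hl z hz hd hab x hx
  obtain ⟨a, ha, b, hb, haD, hbD, habD⟩ := (hU.line i l hl).pair
  obtain ⟨x₀, hx₀, hx₀D, hx₀c⟩ : ∃ x₀ ∈ l, x₀ ∉ U (i + 1) ∧
      ∀ z ∈ zc K S, x₀ * (n * z * n⁻¹) = n * z * n⁻¹ * x₀ := by
    rcases hab a⁻¹ (inv_mem ha) b hb with h2 | h2 | h2
    · refine ⟨a, ha, haD, fun z hz => ?_⟩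
      have h3 := h2 z hz
      calc a * (n * z * n⁻¹) = a * (n * z * n⁻¹ * a⁻¹) * a := by group
        _ = a * (a⁻¹ * (n * z * n⁻¹)) * a := by rw [h3]
        _ = n * z * n⁻¹ * a := by group
    · exact ⟨b, hb, hbD, h2⟩
    · exact ⟨a⁻¹ * b, mul_mem (inv_mem ha) hb, habD, h2⟩
  refine hstar i l hl (n * z * n⁻¹) (hcj z (hZF hz)) ?_ (fun z' hz' => ?_) hd x₀ hx₀ hx₀D (hx₀c z hz) x hx
  · calc n * z * n⁻¹ * (n * z * n⁻¹) = n * (z * z) * n⁻¹ := by group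
      _ = 1 := by rw [hZ2 z hz]; group
  · exact (hZZ hZF n hn hnM z' hz' z hz).symm

omit [Finite G] in
/-- **`hA`, `q ≥ 8`** -/
theorem hA_of_half {U : ℕ → Subgroup G} {L : ℕ → Set (Subgroup G)} (hU : Flt K S F U L) (hcyc : Cyc K S F)
    (hZ2 : ∀ z ∈ zc K S, z * z = 1) (hhalf : CaseB.Half F U L) :
    ∀ j, U (j + 1) ≤ F → zc K S ≤ F → ∀ n ∈ normalizer (F : Set G), n ∉ normalizer (K : Set G) →
      ∀ z ∈ zc K S, ∀ u ∈ U (j + 1), u * (n * z * n⁻¹) = n * z * n⁻¹ * u := by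
  intro j hj hZF n hn _
  have hcj : ∀ x ∈ F, n * x * n⁻¹ ∈ F := fun x hx => (mem_normalizer_iff.mp hn x).mp hx
  refine induct hU hcyc hj hn ?_
  intro i l hl z hz hd hab x hx
  refine hhalf i l hl (n * z * n⁻¹) (hcj z (hZF hz)) ?_ hd ?_ x hx
  · calc n * z * n⁻¹ * (n * z * n⁻¹) = n * (z * z) * n⁻¹ := by group
      _ = 1 := by rw [hZ2 z hz]; group
  · intro a ha b hb
    rcases hab a ha b hb with h2 | h2 | h2
    · exact Or.inl (h2 z hz)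
    · exact Or.inr (Or.inl (h2 z hz))
    · exact Or.inr (Or.inr (h2 z hz))

omit [Finite G] in
/-- **`[Z, Z^n] = 1`, `q ≥ 8`**: a nontrivial automorphism of `Z` induced by `F` does not fix a subgroup of index two -/
theorem comm_of_half (hcyc : Cyc K S F) (hZ2 : ∀ z ∈ zc K S, z * z = 1)
    (hhalf : ∀ y ∈ F, (∀ a ∈ zc K S, ∀ b ∈ zc K S, a * y = y * a ∨ b * y = y * b ∨ a * b * y = y * (a * b)) →
      ∀ z ∈ zc K S, z * y = y * z) :
    zc K S ≤ F → ∀ n ∈ normalizer (F : Set G), n ∉ normalizer (K : Set G) → ∀ z ∈ zc K S, ∀ z' ∈ zc K S,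
      z * (n * z' * n⁻¹) = n * z' * n⁻¹ * z := by
  intro hZF n hn _ z hz z' hz'
  refine hhalf (n * z' * n⁻¹) ((mem_normalizer_iff.mp hn z').mp (hZF hz')) ?_ z hz
  intro a ha b hb
  have h1 : ∀ x ∈ zc K S, ∀ z ∈ zc K S, x * x * (n * z * n⁻¹) = n * z * n⁻¹ * (x * x) := by
    intro x hx z _
    rw [hZ2 x hx]; group
  rcases hcyc.conj hn (hZF ha) (hZF hb) (h1 a ha) (h1 b hb) with h2 | h2 | h2
  · exact Or.inl (h2 z' hz')
  · exact Or.inr (Or.inl (h2 z' hz'))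
  · exact Or.inr (Or.inr (h2 z' hz'))

/-- **`[Z, Z^n] = 1`, `q = 4`**: `|Z| = 4`, and (LR4): if the involution `x ∈ S ∩ K` is not central in `S ∩ K`,
`y ∈ F` commutes with `x` and does not centralize `Z`, then `[C_{S ∩ K}(x), y] ≰ Z`. -/
theorem comm_of_four (hcen : ∀ x ∈ K, x ∈ centralizer (K : Set G) → x = 1) (hF : IsPGroup 2 ↥F)
    (hFM : F ≤ normalizer (K : Set G)) (hFS : F ≤ S) (hZ2 : ∀ z ∈ zc K S, z * z = 1)
    (hZ4 : Nat.card ↥(zc K S) = 4)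
    (hLR : ∀ x ∈ S ⊓ K, x * x = 1 → (∃ u ∈ S ⊓ K, u * x ≠ x * u) → ∀ y ∈ S, y * y = 1 → ¬ CaseB.CZ K S y →
      x * y = y * x → ∃ w ∈ S ⊓ K, w * x = x * w ∧ w * y * w⁻¹ * y⁻¹ ∉ zc K S)
    (hin : ∀ n ∈ normalizer (F : Set G), n ∉ normalizer (K : Set G) → ∃ c ∈ centralizer (K : Set G), ∃ k ∈ K,
      c * k ∈ F ∧ k ∈ F ∧ k * k = 1 ∧ (∃ u ∈ S ⊓ K, u * k ≠ k * u) ∧ (∀ e ∈ F, e * (c * k) = c * k * e) ∧
      (∀ x ∈ S ⊓ K, x * k = k * x → x ∈ F)) :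
    zc K S ≤ F → ∀ n ∈ normalizer (F : Set G), n ∉ normalizer (K : Set G) → ∀ z ∈ zc K S, ∀ z' ∈ zc K S,
      z * (n * z' * n⁻¹) = n * z' * n⁻¹ * z := by
  classical
  intro hZF n hn hnM z hz z' hz'
  by_contra hne
  have hcomm : ∀ k ∈ K, ∀ c ∈ centralizer (K : Set G), k * c = c * k :=
    fun k hk c hc => mem_centralizer_iff.mp hc k hk
  have hKM : ∀ m ∈ normalizer (K : Set G), ∀ k ∈ K, m * k * m⁻¹ ∈ K :=
    fun m hm k hk => (mem_normalizer_iff.mp hm k).mp hk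
  have hcj : ∀ x ∈ F, n * x * n⁻¹ ∈ F := fun x hx => (mem_normalizer_iff.mp hn x).mp hx
  have hcj' : ∀ x ∈ F, n⁻¹ * x * n ∈ F := fun x hx => (mem_normalizer_iff''.mp hn x).mp hx
  -- `F` normalizes `Z`
  have hFZ : ∀ e ∈ F, ∀ x ∈ zc K S, e * x * e⁻¹ ∈ zc K S := by
    intro e he x hx
    rw [mem_zc] at hx ⊢
    refine ⟨⟨S.mul_mem (S.mul_mem (hFS he) hx.1.1) (S.inv_mem (hFS he)), hKM e (hFM he) x hx.1.2⟩, ?_⟩
    intro u hu
    have h1 : e⁻¹ * u * e ∈ S ⊓ K := by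
      refine mem_inf.mpr ⟨S.mul_mem (S.mul_mem (S.inv_mem (hFS he)) hu.1) (hFS he), ?_⟩
      have h2 := hKM e⁻¹ (inv_mem (hFM he)) u hu.2
      rwa [inv_inv] at h2
    have h2 := hx.2 _ h1
    calc u * (e * x * e⁻¹) = e * (e⁻¹ * u * e * x) * e⁻¹ := by group
      _ = e * (x * (e⁻¹ * u * e)) * e⁻¹ := by rw [h2]
      _ = e * x * e⁻¹ * u := by group
  -- the group `Z' = Z^n`
  let Z' : Subgroup G := cj n (zc K S)
  have hZ' : ∀ x, x ∈ Z' ↔ n⁻¹ * x * n ∈ zc K S := fun x => mem_cj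
  have hFZ' : ∀ e ∈ F, ∀ x ∈ Z', e * x * e⁻¹ ∈ Z' := by
    intro e he x hx
    rw [hZ'] at hx ⊢
    have h1 := hFZ _ (hcj' e he) _ hx
    have e1 : n⁻¹ * e * n * (n⁻¹ * x * n) * (n⁻¹ * e * n)⁻¹ = n⁻¹ * (e * x * e⁻¹) * n := by group
    rwa [e1] at h1
  have hy : n * z' * n⁻¹ ∈ Z' := by
    rw [hZ']
    have e : n⁻¹ * (n * z' * n⁻¹) * n = z' := by group
    rw [e]; exact hz'
  have hyF : n * z' * n⁻¹ ∈ F := hcj z' (hZF hz')
  set y := n * z' * n⁻¹ with hydef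
  have hZ'F : Z' ≤ F := by
    intro x hx
    rw [hZ'] at hx
    have h1 := hcj _ (hZF hx)
    have e : n * (n⁻¹ * x * n) * n⁻¹ = x := by group
    rwa [e] at h1
  have hZ'4 : Nat.card ↥Z' = 4 := by
    show Nat.card ↥(cj n (zc K S)) = 4
    rw [CommConj.card_cj]; exact hZ4
  have hy1 : y ≠ 1 := by
    intro h
    apply hne
    rw [h]; simp
  obtain ⟨z₀, hz₀F, hz₀Z, hz₀2, hz₀c⟩ := CommConj.exists_central_involution (S := F) (N := Z') hF hFZ' ⟨y, hyF, hy, hy1⟩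
  -- `[F, Z'] ≤ ⟨z₀⟩`
  have hidx : ((zpowers z₀).subgroupOf Z').index = 2 := by
    have h1 : Nat.card ↥((zpowers z₀).subgroupOf Z') = 2 := by
      rw [Nat.card_congr (subgroupOfEquivOfLe (zpowers_le.mpr hz₀Z)).toEquiv, Nat.card_zpowers, hz₀2]
    have h2 := ((zpowers z₀).subgroupOf Z').card_mul_index
    rw [h1, hZ'4] at h2
    omega
  have hbr : ∀ e ∈ F, ∀ x ∈ Z', e * x * e⁻¹ * x⁻¹ ∈ zpowers z₀ := by
    intro e he x hx
    have h1 := Subgroup.mul_mem_iff_of_index_two hidx (a := ⟨e * x * e⁻¹, hFZ' e he x hx⟩)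
      (b := (⟨x, hx⟩ : ↥Z')⁻¹)
    have h2 : (⟨e * x * e⁻¹, hFZ' e he x hx⟩ : ↥Z') ∈ (zpowers z₀).subgroupOf Z' ↔
        ((⟨x, hx⟩ : ↥Z')⁻¹) ∈ (zpowers z₀).subgroupOf Z' := by
      rw [inv_mem_iff, mem_subgroupOf, mem_subgroupOf]
      show e * x * e⁻¹ ∈ zpowers z₀ ↔ x ∈ zpowers z₀
      have hcz : ∀ w ∈ zpowers z₀, ∀ e ∈ F, e * w * e⁻¹ = w := by
        rintro _ ⟨k, rfl⟩ e he
        have h3 : Commute e (z₀ ^ k) := (show Commute e z₀ from hz₀c e he).zpow_right k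
        show e * z₀ ^ k * e⁻¹ = z₀ ^ k
        rw [h3.eq]; group
      constructor
      · intro h3
        have h4 := hcz _ h3 e⁻¹ (F.inv_mem he)
        have e1 : e⁻¹ * (e * x * e⁻¹) * e⁻¹⁻¹ = x := by group
        rw [e1] at h4
        rw [h4]; exact h3
      · intro h3
        rw [hcz _ h3 e he]; exact h3
    exact mem_subgroupOf.mp (h1.mpr h2)
  -- `z₀ ∈ Z`
  have hz₀sq : z₀ * z₀ = 1 := by rw [← pow_two, ← hz₀2]; exact pow_orderOf_eq_one z₀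
  have hzp : ∀ w ∈ zpowers z₀, w = 1 ∨ w = z₀ := by
    rintro _ ⟨k, rfl⟩
    show z₀ ^ k = 1 ∨ z₀ ^ k = z₀
    rcases Int.even_or_odd' k with ⟨m, rfl | rfl⟩
    · left
      rw [zpow_mul, zpow_two, hz₀sq, one_zpow]
    · right
      rw [zpow_add, zpow_mul, zpow_two, hz₀sq, one_zpow, zpow_one, one_mul]
  have hz₀mem : z₀ ∈ zc K S := by
    have h1 := hbr z (hZF hz) y hy
    have h2 : z * y * z⁻¹ * y⁻¹ ≠ 1 := by
      intro h
      apply hne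
      calc z * y = z * y * z⁻¹ * y⁻¹ * (y * z) := by group
        _ = y * z := by rw [h, one_mul]
    have h3 : z * y * z⁻¹ * y⁻¹ = z₀ := (hzp _ h1).resolve_left h2
    have h4 : z * (y * z⁻¹ * y⁻¹) ∈ zc K S := mul_mem hz (hFZ y hyF _ (inv_mem hz))
    have e : z * (y * z⁻¹ * y⁻¹) = z * y * z⁻¹ * y⁻¹ := by group
    rw [e, h3] at h4
    exact h4
  -- the inner involution
  obtain ⟨c, hc, k, hk, hckF, hkF, hkk, hknc, hckc, hkC⟩ := hin n hn hnM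
  have hyk : k * y = y * k := by
    have h1 := hckc y hyF
    have hyM := hFM hyF
    -- `y (c k) y⁻¹ = c k`
    have h2 : y * c * y⁻¹ * (y * k * y⁻¹) = c * k := by
      calc y * c * y⁻¹ * (y * k * y⁻¹) = y * (c * k) * y⁻¹ := by group
        _ = c * k * y * y⁻¹ := by rw [h1]
        _ = c * k := by group
    have hyc : y * c * y⁻¹ ∈ centralizer (K : Set G) := by
      rw [mem_centralizer_iff]
      intro x hx
      have h3 : y⁻¹ * x * y ∈ K := by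
        have := hKM y⁻¹ (inv_mem hyM) x hx
        rwa [inv_inv] at this
      have h4 := mem_centralizer_iff.mp hc _ h3
      calc x * (y * c * y⁻¹) = y * (y⁻¹ * x * y * c) * y⁻¹ := by group
        _ = y * (c * (y⁻¹ * x * y)) * y⁻¹ := by rw [h4]
        _ = y * c * y⁻¹ * x := by group
    have h3 : c⁻¹ * (y * c * y⁻¹) = k * (y * k * y⁻¹)⁻¹ := by
      calc c⁻¹ * (y * c * y⁻¹) = c⁻¹ * (y * c * y⁻¹ * (y * k * y⁻¹)) * (y * k * y⁻¹)⁻¹ := by group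
        _ = c⁻¹ * (c * k) * (y * k * y⁻¹)⁻¹ := by rw [h2]
        _ = k * (y * k * y⁻¹)⁻¹ := by group
    have h4 : k * (y * k * y⁻¹)⁻¹ = 1 := by
      apply hcen
      · exact mul_mem hk (inv_mem (hKM y hyM k hk))
      · rw [← h3]; exact mul_mem (inv_mem hc) hyc
    have h5 : k = y * k * y⁻¹ := mul_inv_eq_one.mp h4
    calc k * y = y * k * y⁻¹ * y := by rw [← h5]
      _ = y * k := by group
  obtain ⟨w, hw, hwk, hwZ⟩ := hLR k (mem_inf.mpr ⟨hFS hkF, hk⟩) hkk hknc y (hFS hyF) (by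
    rw [hydef]
    calc n * z' * n⁻¹ * (n * z' * n⁻¹) = n * (z' * z') * n⁻¹ := by group
      _ = 1 := by rw [hZ2 z' hz']; group) (fun h => hne (h z hz).symm) hyk
  apply hwZ
  have hwF : w ∈ F := hkC w hw hwk
  have h1 := hbr w hwF y hy
  rcases hzp _ h1 with h3 | h3
  · rw [h3]; exact one_mem _
  · rw [h3]; exact hz₀mem

/-- the hypothesis `hin` of `comm_of_four`, from `hinn` -/
theorem hin_of_hinn (ht : TightAt K) (hcen : ∀ x ∈ K, x ∈ centralizer (K : Set G) → x = 1) (h : KMaxE K F)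
    (hQ : IsSyl Q (centralizer (K : Set G))) (hQF : Q ≤ F) (hS : IsPGroup 2 ↥S)
    (hSM : S ≤ normalizer (K : Set G)) (hFS : F ≤ S)
    (hinn : ∃ n ∈ normalizer (F : Set G), n ∉ normalizer (K : Set G) ∧ ∃ v ∈ F, orderOf v = 2 ∧
      n⁻¹ * v * n ∈ centralizer (K : Set G) ∧ (∀ e ∈ F, e * v = v * e) ∧
      ∃ c ∈ centralizer (K : Set G), ∃ k ∈ K, v = c * k)
    (hUF : ¬ S ⊓ K ≤ F) : ∃ c ∈ centralizer (K : Set G), ∃ k ∈ K,
      c * k ∈ F ∧ k ∈ F ∧ k * k = 1 ∧ (∃ u ∈ S ⊓ K, u * k ≠ k * u) ∧ (∀ e ∈ F, e * (c * k) = c * k * e) ∧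
      (∀ x ∈ S ⊓ K, x * k = k * x → x ∈ F) := by
  have hcomm : ∀ k ∈ K, ∀ c ∈ centralizer (K : Set G), k * c = c * k :=
    fun k hk c hc => mem_centralizer_iff.mp hc k hk
  have hF2 : IsPGroup 2 ↥F := h.maxE.isPGroup
  obtain ⟨n, hn, hnM, v, hvF, hv2, hvC, hvc, c, hc, k, hk, rfl⟩ := hinn
  have hcQ : c ∈ Q := comp_mem_Q hcen hF2 hQ hQF hc hk hvF
  have hkF : k ∈ F := by
    have e : k = c⁻¹ * (c * k) := by group
    rw [e]; exact mul_mem (inv_mem (hQF hcQ)) hvF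
  have hvv : c * k * (c * k) = 1 := by rw [← pow_two, ← hv2]; exact pow_orderOf_eq_one _
  have hkk : k * k = 1 := by
    apply hcen _ (mul_mem hk hk)
    have h1 : k * k = (c * c)⁻¹ := by
      apply eq_inv_of_mul_eq_one_right
      calc c * c * (k * k) = c * (c * k) * k := by group
        _ = c * (k * c) * k := by rw [hcomm k hk c hc]
        _ = c * k * (c * k) := by group
        _ = 1 := hvv
    rw [h1]
    exact inv_mem (mul_mem hc hc)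
  have hkC : ∀ x ∈ S ⊓ K, x * k = k * x → x ∈ F := by
    intro x hx hxk
    refine mem_of_conj h.maxE hS hSM hFS hn hnM hx.1 (Tight.mem_of_comm ht hvC hv2 ?_)
    calc x * (c * k) = (x * c) * k := by group
      _ = (c * x) * k := by rw [hcomm x hx.2 c hc]
      _ = c * (x * k) := by group
      _ = c * (k * x) := by rw [hxk]
      _ = c * k * x := by group
  refine ⟨c, hc, k, hk, hvF, hkF, hkk, ?_, hvc, hkC⟩
  by_contra hcon
  push Not at hcon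
  exact hUF fun x hx => hkC x hx (hcon x hx)

/-- **`hA`, `q = 4`** -/
theorem hA_of_four {U : ℕ → Subgroup G} {L : ℕ → Set (Subgroup G)} (ht : TightAt K)
    (hcen : ∀ x ∈ K, x ∈ centralizer (K : Set G) → x = 1) (h : KMaxE K F)
    (hQ : IsSyl Q (centralizer (K : Set G))) (hQF : Q ≤ F) (hS : IsPGroup 2 ↥S)
    (hSM : S ≤ normalizer (K : Set G)) (hFS : F ≤ S) (hU : Flt K S F U L) (hcyc : Cyc K S F)
    (hZ2 : ∀ z ∈ zc K S, z * z = 1)
    (hinn : ∃ n ∈ normalizer (F : Set G), n ∉ normalizer (K : Set G) ∧ ∃ v ∈ F, orderOf v = 2 ∧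
      n⁻¹ * v * n ∈ centralizer (K : Set G) ∧ (∀ e ∈ F, e * v = v * e) ∧
      ∃ c ∈ centralizer (K : Set G), ∃ k ∈ K, v = c * k)
    (hUF : ¬ S ⊓ K ≤ F) (hfour : CaseB.Four K S F U L) :
    ∀ j, U (j + 1) ≤ F → zc K S ≤ F → ∀ n ∈ normalizer (F : Set G), n ∉ normalizer (K : Set G) →
      ∀ z ∈ zc K S, ∀ u ∈ U (j + 1), u * (n * z * n⁻¹) = n * z * n⁻¹ * u :=
  hA hU hcyc hZ2 (fun j l hl y hy hyy hyZ hd => hfour.star j l hl y hy hyy hyZ hd)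
    (comm_of_four hcen h.maxE.isPGroup h.maxE.le hFS hZ2 hfour.card hfour.lr
      fun _ _ _ => hin_of_hinn ht hcen h hQ hQF hS hSM hFS hinn hUF)

end Cfsg.Agent.OddHalf.D4.HA
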