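import Mathlib
import Cfsg.Agent.OddHalf.D4.BFacts
import Cfsg.Agent.OddHalf.D4.Hinn
import Cfsg.Agent.OddHalf.D4.HA
import Cfsg.Agent.OddHalf.D4.Out
import Cfsg.Agent.OddHalf.D4.Exists

/-!
# ODD, D4, (1B): assembly

`exists_fullPair_syl`: if `BFacts K S` for the Sylow 2-subgroups `S` of `N(K)`, there is a full pair `K`, `L` such that
a Sylow 2-subgroup of `K` normalises `L` (the hypothesis of `Input.Inp.root_pair`).
-/

set_option autoImplicit false

namespace Cfsg.Agent.OddHalf.D4.CaseB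

open Cfsg Subgroup Cfsg.Agent.OddHalf.D4 Cfsg.Agent.OddHalf.D4.Basic
open scoped commutatorElement
open Cfsg.Agent.OddHalf.D4.KMax Cfsg.Agent.OddHalf.D4.LineR Cfsg.Agent.OddHalf.D4.NoGraph
open Cfsg.Agent.OddHalf.D4.CommConj (Tight MaxE cj mem_cj mem_cj_mul exists_central_involution
  cj_eq_of_mem_normalizer)

universe u

/-! ### Cyclic groups -/

/-- A cyclic group contains at most one involution. -/
theorem zpow_two {Γ : Type*} [Group Γ] {g : Γ} {m n : ℤ} (h1 : g ^ (2 * m) = 1) (h2 : g ^ (2 * n) = 1) :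
    g ^ m = 1 ∨ g ^ n = 1 ∨ g ^ (m + n) = 1 := by
  rw [← orderOf_dvd_iff_zpow_eq_one] at h1 h2 ⊢
  rw [← orderOf_dvd_iff_zpow_eq_one, ← orderOf_dvd_iff_zpow_eq_one]
  generalize (orderOf g : ℤ) = d at *
  rcases Int.even_or_odd' d with ⟨k, rfl | rfl⟩
  · have h3 : k ∣ m := (mul_dvd_mul_iff_left (by norm_num : (2 : ℤ) ≠ 0)).mp h1
    have h4 : k ∣ n := (mul_dvd_mul_iff_left (by norm_num : (2 : ℤ) ≠ 0)).mp h2
    obtain ⟨s, rfl⟩ := h3
    obtain ⟨t, rfl⟩ := h4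
    rcases Int.even_or_odd' s with ⟨s, rfl | rfl⟩
    · left; exact ⟨s, by ring⟩
    rcases Int.even_or_odd' t with ⟨t, rfl | rfl⟩
    · right; left; exact ⟨t, by ring⟩
    · right; right; exact ⟨s + t + 1, by ring⟩
  · left
    have h3 : IsCoprime (2 * k + 1) 2 := ⟨1, -k, by ring⟩
    exact h3.dvd_of_dvd_mul_left h1

section CZ

variable {G : Type u} [Group G] {K S : Subgroup G}

theorem CZ.mul {a b : G} (ha : CZ K S a) (hb : CZ K S b) : CZ K S (a * b) := by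
  intro z hz
  rw [mul_assoc, hb z hz, ← mul_assoc, ha z hz, mul_assoc]

theorem CZ.inv {a : G} (ha : CZ K S a) : CZ K S a⁻¹ := by
  intro z hz
  have := ha z hz
  calc a⁻¹ * z = a⁻¹ * (z * a) * a⁻¹ := by group
    _ = a⁻¹ * (a * z) * a⁻¹ := by rw [this]
    _ = z * a⁻¹ := by group

/-- `S` normalises `Z(S ∩ K)`. -/
theorem zc_conj (hSM : S ≤ normalizer (K : Set G)) {s z : G} (hs : s ∈ S) (hz : z ∈ zc K S) :
    s * z * s⁻¹ ∈ zc K S := by
  rw [mem_zc] at hz ⊢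
  refine ⟨⟨S.mul_mem (S.mul_mem hs hz.1.1) (S.inv_mem hs), (mem_normalizer_iff.mp (hSM hs) z).mp hz.1.2⟩, ?_⟩
  intro u hu
  have h1 : s⁻¹ * u * s ∈ S ⊓ K :=
    ⟨S.mul_mem (S.mul_mem (S.inv_mem hs) hu.1) hs, (mem_normalizer_iff''.mp (hSM hs) u).mp hu.2⟩
  have h2 := hz.2 _ h1
  calc u * (s * z * s⁻¹) = s * ((s⁻¹ * u * s) * z) * s⁻¹ := by group
    _ = s * (z * (s⁻¹ * u * s)) * s⁻¹ := by rw [h2]
    _ = s * z * s⁻¹ * u := by group

theorem CZ.conj (hSM : S ≤ normalizer (K : Set G)) {s e : G} (hs : s ∈ S) (he : CZ K S e) :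
    CZ K S (s * e * s⁻¹) := by
  intro z hz
  have h1 := he _ (zc_conj hSM (inv_mem hs) hz)
  rw [inv_inv] at h1
  calc s * e * s⁻¹ * z = s * (e * (s⁻¹ * z * s)) * s⁻¹ := by group
    _ = s * (s⁻¹ * z * s * e) * s⁻¹ := by rw [h1]
    _ = z * (s * e * s⁻¹) := by group

/-- the form of `cyc` used in `Hinn` -/
theorem cyc_two (hSM : S ≤ normalizer (K : Set G)) (hcyc : ∃ g ∈ S, ∀ s ∈ S, ∃ m : ℤ, CZ K S (g ^ m * s))
    {a b : G} (ha : a ∈ S) (hb : b ∈ S) (ha2 : CZ K S (a * a)) (hb2 : CZ K S (b * b)) :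
    CZ K S a ∨ CZ K S b ∨ CZ K S (a * b) := by
  obtain ⟨g, hg, hgen⟩ := hcyc
  let N : Subgroup ↥S :=
    { carrier := {s | CZ K S s}
      one_mem' := fun z _ => by simp
      mul_mem' := fun h1 h2 => h1.mul h2
      inv_mem' := fun h1 => h1.inv }
  have hN : N.Normal := ⟨fun n hn s => CZ.conj hSM s.2 hn⟩
  have hmem : ∀ s : ↥S, (QuotientGroup.mk' N s = 1) ↔ CZ K S s := by
    intro s
    rw [QuotientGroup.mk'_apply, QuotientGroup.eq_one_iff]
    rfl
  obtain ⟨m, hm⟩ := hgen a ha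
  obtain ⟨n, hn⟩ := hgen b hb
  set γ := QuotientGroup.mk' N ⟨g, hg⟩ with hγ
  set α := QuotientGroup.mk' N ⟨a, ha⟩ with hα
  set β := QuotientGroup.mk' N ⟨b, hb⟩ with hβ
  have h1 : γ ^ m * α = 1 := by
    rw [hγ, hα, ← map_zpow, ← map_mul, hmem]
    exact hm
  have h2 : γ ^ n * β = 1 := by
    rw [hγ, hβ, ← map_zpow, ← map_mul, hmem]
    exact hn
  have h3 : α * α = 1 := by
    rw [hα, ← map_mul, hmem]
    exact ha2
  have h4 : β * β = 1 := by
    rw [hβ, ← map_mul, hmem]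
    exact hb2
  have h1' : γ ^ m = α := by
    have : γ ^ m = α⁻¹ := eq_inv_of_mul_eq_one_left h1
    rw [this]
    exact inv_eq_of_mul_eq_one_left h3
  have h2' : γ ^ n = β := by
    have : γ ^ n = β⁻¹ := eq_inv_of_mul_eq_one_left h2
    rw [this]
    exact inv_eq_of_mul_eq_one_left h4
  have h5 : γ ^ (2 * m) = 1 := by rw [two_mul, zpow_add, h1', h3]
  have h6 : γ ^ (2 * n) = 1 := by rw [two_mul, zpow_add, h2', h4]
  rcases zpow_two h5 h6 with h | h | h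
  · left
    rw [h1', hα, hmem] at h
    exact h
  · right; left
    rw [h2', hβ, hmem] at h
    exact h
  · right; right
    rw [zpow_add, h1', h2', hα, hβ, ← map_mul, hmem] at h
    exact h

end CZ

section Main

variable {G : Type u} [Group G] [Finite G] {K F Q S : Subgroup G}

/-- `S ∩ K` is a Sylow 2-subgroup of `K` -/
theorem syl_inf (hS : IsSyl S (normalizer (K : Set G))) : IsSyl (S ⊓ K) K := by
  apply hS.inf le_normalizer
  intro s hs
  apply mem_normalizer_fintype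
  intro c hc
  exact (mem_normalizer_iff.mp (hS.le hs) c).mp hc

/-- `S ∩ C(K)` is a Sylow 2-subgroup of `C(K)` -/
theorem syl_cen (ht : TightAt K) (hS : IsSyl S (normalizer (K : Set G))) :
    IsSyl (S ⊓ centralizer (K : Set G)) (centralizer (K : Set G)) := by
  apply hS.inf ht.le
  intro s hs
  apply mem_normalizer_fintype
  intro c hc
  exact ht.norm s (hS.le hs) c hc

/-- `S ∩ C(K)K` centralises `Z(S ∩ K)` -/
theorem cz_of_inn (hcen : ∀ x ∈ K, x ∈ centralizer (K : Set G) → x = 1) (hS : IsSyl S (normalizer (K : Set G)))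
    {s : G} (hs : s ∈ S) (h : Inn K s) : CZ K S s := by
  obtain ⟨c, hc, k, hk, rfl⟩ := h
  have hcomm : ∀ k ∈ K, ∀ c ∈ centralizer (K : Set G), k * c = c * k :=
    fun k hk c hc => mem_centralizer_iff.mp hc k hk
  have hkS : k ∈ S ⊓ K := by
    obtain ⟨j, hj⟩ := hS.two ⟨_, hs⟩
    have hj' : (c * k) ^ 2 ^ j = 1 := congrArg Subtype.val hj
    have hkc : Commute c k := (hcomm k hk c hc).symm
    rw [hkc.mul_pow] at hj'
    have h1 : k ^ 2 ^ j = 1 := by
      have h3 : k ^ 2 ^ j = (c ^ 2 ^ j)⁻¹ := (inv_eq_of_mul_eq_one_right hj').symm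
      apply hcen
      · exact pow_mem hk _
      · rw [h3]; exact inv_mem (pow_mem hc _)
    apply BaryEnd.mem_of_syl (syl_inf hS) hk ⟨j, h1⟩
    intro q hq
    have hkqk : k * q * k⁻¹ ∈ K := mul_mem (mul_mem hk hq.2) (inv_mem hk)
    have h6 : c * k * q * (c * k)⁻¹ = k * q * k⁻¹ := by
      calc c * k * q * (c * k)⁻¹ = c * (k * q * k⁻¹) * c⁻¹ := by group
        _ = (k * q * k⁻¹) * c * c⁻¹ := by rw [hcomm _ hkqk c hc]
        _ = _ := by group
    refine mem_inf.mpr ⟨?_, hkqk⟩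
    rw [← h6]
    exact mul_mem (mul_mem hs hq.1) (inv_mem hs)
  intro z hz
  rw [mem_zc] at hz
  have h1 := hz.2 k hkS
  calc c * k * z = c * (k * z) := by group
    _ = (c * z) * k := by rw [h1]; group
    _ = z * (c * k) := by rw [← hcomm z hz.1.2 c hc]; group

/-- **the subgroup of the elements without field part** -/
theorem exists_P (hcen : ∀ x ∈ K, x ∈ centralizer (K : Set G) → x = 1) (hperf : K ≤ ⁅K, K⁆)
    (hS : IsSyl S (normalizer (K : Set G))) {B : Type*} [CommGroup B] (χ : ↥(normalizer (K : Set G)) →* B)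
    (hχ : ∀ c (hc : c ∈ normalizer (K : Set G)), c ∈ centralizer (K : Set G) → χ ⟨c, hc⟩ = 1)
    (hχ2 : ∀ v (hv : v ∈ normalizer (K : Set G)), (∃ k : ℕ, v ^ 2 ^ k = 1) → χ ⟨v, hv⟩ = 1 → Inn K v) :
    ∃ P : Subgroup G, (∀ m ∈ normalizer (K : Set G), ∀ x ∈ P, m * x * m⁻¹ ∈ P) ∧
      centralizer (K : Set G) ≤ P ∧ K ≤ P ∧ ∀ e ∈ S, CZ K S e ↔ e ∈ P := by
  let S₀ : Subgroup ↥(normalizer (K : Set G)) :=
    { carrier := {s | (s : G) ∈ S ∧ CZ K S s}
      one_mem' := ⟨S.one_mem, fun z _ => by simp⟩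
      mul_mem' := fun h1 h2 => ⟨S.mul_mem h1.1 h2.1, h1.2.mul h2.2⟩
      inv_mem' := fun h1 => ⟨S.inv_mem h1.1, h1.2.inv⟩ }
  have hmem : ∀ x (hx : x ∈ normalizer (K : Set G)), (∃ s, ∃ hs : s ∈ S, CZ K S s ∧ χ ⟨s, hS.le hs⟩ = χ ⟨x, hx⟩) ↔
      x ∈ ((S₀.map χ).comap χ).map (normalizer (K : Set G)).subtype := by
    intro x hx
    constructor
    · rintro ⟨s, hs, hsz, e⟩
      exact ⟨⟨x, hx⟩, ⟨⟨s, hS.le hs⟩, ⟨hs, hsz⟩, e⟩, rfl⟩
    · rintro ⟨y, ⟨s, hs, e⟩, rfl⟩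
      exact ⟨s, hs.1, hs.2, e⟩
  refine ⟨((S₀.map χ).comap χ).map (normalizer (K : Set G)).subtype, ?_, ?_, ?_, ?_⟩
  · rintro m hm x hx
    have hxM : x ∈ normalizer (K : Set G) := by
      obtain ⟨y, -, rfl⟩ := hx
      exact y.2
    rw [← hmem x hxM] at hx
    obtain ⟨s, hs, hsz, e⟩ := hx
    rw [← hmem _ (mul_mem (mul_mem hm hxM) (inv_mem hm))]
    refine ⟨s, hs, hsz, ?_⟩
    have h1 : (⟨m * x * m⁻¹, mul_mem (mul_mem hm hxM) (inv_mem hm)⟩ : ↥(normalizer (K : Set G))) = ⟨m, hm⟩ * ⟨x, hxM⟩ * ⟨m, hm⟩⁻¹ := rfl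
    rw [h1, map_mul, map_mul, map_inv, e, mul_comm (χ ⟨m, hm⟩), mul_inv_cancel_right]
  · intro c hc
    have hcM : c ∈ normalizer (K : Set G) := Subgroup.centralizer_le_normalizer (K : Set G) hc
    rw [← hmem c hcM]
    exact ⟨1, one_mem _, fun z _ => by simp, by
      rw [hχ c hcM hc]
      exact map_one χ⟩
  · have hK : K ≤ (χ.ker).map (normalizer (K : Set G)).subtype := by
      refine hperf.trans ?_
      rw [commutator_le]
      intro a ha b hb
      refine ⟨⁅(⟨a, le_normalizer ha⟩ : ↥(normalizer (K : Set G))), ⟨b, le_normalizer hb⟩⁆, ?_, rfl⟩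
      show χ _ = 1
      rw [map_commutatorElement, commutatorElement_eq_one_iff_mul_comm, mul_comm]
    intro k hk
    obtain ⟨y, hy, e⟩ := hK hk
    have hkM : k ∈ normalizer (K : Set G) := le_normalizer hk
    rw [← hmem k hkM]
    refine ⟨1, one_mem _, fun z _ => by simp, ?_⟩
    have h1 : (⟨k, hkM⟩ : ↥(normalizer (K : Set G))) = y := Subtype.ext e.symm
    rw [h1, MonoidHom.mem_ker.mp hy]
    exact map_one χ
  · intro e he
    rw [← hmem e (hS.le he)]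
    constructor
    · intro h
      exact ⟨e, he, h, rfl⟩
    · rintro ⟨s, hs, hsz, h⟩
      have h1 : χ ⟨s⁻¹ * e, hS.le (mul_mem (inv_mem hs) he)⟩ = 1 := by
        have h2 : (⟨s⁻¹ * e, hS.le (mul_mem (inv_mem hs) he)⟩ : ↥(normalizer (K : Set G))) = ⟨s, hS.le hs⟩⁻¹ * ⟨e, hS.le he⟩ := rfl
        rw [h2, map_mul, map_inv, h, inv_mul_cancel]
      obtain ⟨j, hj⟩ := hS.two ⟨_, mul_mem (inv_mem hs) he⟩
      have h3 := hχ2 _ (hS.le (mul_mem (inv_mem hs) he)) ⟨j, congrArg Subtype.val hj⟩ h1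
      have h4 := cz_of_inn hcen hS (mul_mem (inv_mem hs) he) h3
      have h5 := hsz.mul h4
      have e1 : s * (s⁻¹ * e) = e := by group
      rwa [e1] at h5

/-- a maximal member of the family contains a Sylow 2-subgroup of `C(K)` -/
theorem le_of_maxE {E : Subgroup G} (tight : TightAt K)
    (cen : ∀ x ∈ K, x ∈ centralizer (K : Set G) → x = 1)
    (inner : ∀ T : Subgroup G, IsSyl T (normalizer (K : Set G)) → ∀ y ∈ T,
      (∀ s ∈ T, s ∈ K → s * y = y * s) →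
      ∃ k ∈ centralizer (K : Set G), ∃ s ∈ T, s ∈ K ∧ (∀ u ∈ T, u ∈ K → u * s = s * u) ∧ y = k * s)
    (h : MaxE (centralizer (K : Set G)) (normalizer (K : Set G)) E) (hS : IsSyl S (normalizer (K : Set G)))
    (hES : E ≤ S) : S ⊓ centralizer (K : Set G) ≤ E := by
  have hcomm : ∀ k ∈ K, ∀ c ∈ centralizer (K : Set G), k * c = c * k :=
    fun k hk c hc => mem_centralizer_iff.mp hc k hk
  obtain ⟨a, ha, haM⟩ := h.exists_norm
  by_contra hne
  obtain ⟨h1, h2⟩ := h.main tight hS.two hS.le hES hne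
    (fun m hm k hk => (mem_normalizer_iff.mp hm k).mp hk) hcomm
    (fun x hx hxc h2 => by
      rw [cen x hx hxc, orderOf_one] at h2
      exact absurd h2 (by norm_num))
  obtain ⟨x, hxE, hxC, hx2⟩ := h.exists_inv
  obtain ⟨r, hrE, hrC, hr2, hrc⟩ := exists_central_involution (S := E)
    (N := E ⊓ cj a (centralizer (K : Set G)))
    h.isPGroup (by
      intro s hs n hn
      refine Subgroup.mem_inf.mpr ⟨mul_mem (mul_mem hs hn.1) (inv_mem hs), ?_⟩
      rw [mem_cj]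
      have h1 : a⁻¹ * s * a ∈ E := (mem_normalizer_iff''.mp ha s).mp hs
      have h2 := tight.norm _ (h.le h1) _ (mem_cj.mp hn.2)
      have h3 : a⁻¹ * s * a * (a⁻¹ * n * a) * (a⁻¹ * s * a)⁻¹ = a⁻¹ * (s * n * s⁻¹) * a := by
        group
      rwa [h3] at h2)
    ⟨a * x * a⁻¹, (mem_normalizer_iff.mp ha x).mp hxE,
      ⟨(mem_normalizer_iff.mp ha x).mp hxE, mem_cj_mul hxC⟩, by
        intro h1
        have h2 := Basic.orderOf_conj a x
        rw [h1, orderOf_one, hx2] at h2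
        exact absurd h2 (by norm_num)⟩
  obtain ⟨k, hk, s, hsS, hsK, -, hrks⟩ := inner S hS r (hES hrE)
    (fun s hs hsK => hrc s (h1 ⟨hs, hsK⟩))
  have h3 : k = r * s⁻¹ := by rw [hrks]; group
  have h4 : k ∈ S := by
    rw [h3]
    exact S.mul_mem (hES hrE) (S.inv_mem hsS)
  exact h2 a ha haM r hrE hr2 (mem_cj.mp hrC.2) k ⟨h4, hk⟩ s ⟨hsS, hsK⟩ hrks

/-- **(1B)** -/
theorem exists_fullPair_syl (tight : TightAt K)
    (cen : ∀ x ∈ K, x ∈ centralizer (K : Set G) → x = 1)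
    (inner : ∀ T : Subgroup G, IsSyl T (normalizer (K : Set G)) → ∀ y ∈ T,
      (∀ s ∈ T, s ∈ K → s * y = y * s) →
      ∃ k ∈ centralizer (K : Set G), ∃ s ∈ T, s ∈ K ∧ (∀ u ∈ T, u ∈ K → u * s = s * u) ∧ y = k * s)
    (hrk : ∃ a b : G, a ∈ centralizer (K : Set G) ∧ b ∈ centralizer (K : Set G) ∧ orderOf a = 2 ∧
      orderOf b = 2 ∧ a * b = b * a ∧ a ≠ b)
    (hperf : K ≤ ⁅K, K⁆) (hB : ∀ S : Subgroup G, IsSyl S (normalizer (K : Set G)) → BFacts K S)
    (hpair : ∃ (F : Subgroup G) (g : G), Pair K F g) :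
    ∃ L Q U S' : Subgroup G, FullPair K L Q U ∧ IsSyl S' K ∧ S' ≤ normalizer (L : Set G) := by
  obtain ⟨F', g', hF'⟩ := hpair
  obtain ⟨F, h⟩ := exists_kmaxE hF'
  obtain ⟨S, hS, hFS⟩ := exists_isSyl h.maxE.isPGroup h.maxE.le
  have hQ := syl_cen tight hS
  have hQF := le_of_maxE tight cen inner h.maxE hS hFS
  by_cases hUF : S ⊓ K ≤ F
  · obtain ⟨a, ha, haM⟩ := h.maxE.exists_norm
    have hFL : F ≤ cj a (normalizer (K : Set G)) := by
      intro x hx
      rw [mem_cj]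
      exact h.maxE.le ((mem_normalizer_iff''.mp ha x).mp hx)
    refine ⟨cj a K, S ⊓ centralizer (K : Set G), cj a (S ⊓ centralizer (K : Set G)), S ⊓ K,
      ⟨⟨a, haM, rfl⟩, hQ, ?_, ?_⟩, syl_inf hS, ?_⟩
    · rw [centralizer_cj]
      exact hQ.cj a
    · intro q hq u hu
      have hu' := mem_cj.mp hu
      refine h.maxE.comm_of_mem tight ha haM (hQF hq) hq.2 ?_ hu'.2
      have h1 := (mem_normalizer_iff.mp ha _).mp (hQF hu')
      have h2 : a * (a⁻¹ * u * a) * a⁻¹ = u := by group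
      rwa [h2] at h1
    · rw [normalizer_cj]
      exact hUF.trans hFL
  · exfalso
    obtain ⟨⟨B, _, χ, hχ, hχ2⟩, hsq, hcyc, htwo, hflt⟩ := hB S hS
    obtain ⟨P, hPM, hCP, hKP, hP⟩ := exists_P cen hperf hS χ hχ hχ2
    obtain ⟨U, L, hU, hUP, hHF⟩ := hflt F hFS
    have hinn := Hinn.hinn tight h hQ hQF hS.two hS.le hFS hrk
      (fun a ha b hb ha2 hb2 _ => cyc_two hS.le hcyc (hFS ha) (hFS hb)
        (by rw [ha2]; exact fun z _ => by simp) (by rw [hb2]; exact fun z _ => by simp)) χ hχ2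
      (fun a ha b hb hza hzb _ _ _ => htwo a (hFS ha) b (hFS hb) hza hzb)
    have hC : HA.Cyc K S F := fun a ha b hb ha2 hb2 => cyc_two hS.le hcyc (hFS ha) (hFS hb) ha2 hb2
    refine Out.core tight cen h hQ hQF hS.two hS.le hFS hU hPM hCP hKP (fun e he => hP e (hFS he))
      (fun j l hl x hx e he heP => hUP j l hl x hx e he ((hP e (hFS he)).mpr heP)) hinn ?_ χ hχ hχ2 hUF
    rcases hHF with hHF | hHF
    · exact HA.hA_of_half hU hC hsq hHF
    · exact HA.hA_of_four tight cen h hQ hQF hS.two hS.le hFS hU hC hsq hinn hUF hHF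

/-- the family of `KMax` is not empty -/
theorem exists_pair [IsSimpleGroup G] (h1173 : EvenPair.H1173 G) (tight : TightAt K)
    (even : Even (Nat.card ↥(centralizer (K : Set G)))) (hne : K ≠ ⊥) (hp : ⁅K, K⁆ = K) :
    ∃ (F : Subgroup G) (g : G), Pair K F g := by
  obtain ⟨g, hg, r, hr, hr2, hrg⟩ := EvenPair.exists_even h1173 tight even hne hp
    (fun k hk c hc => mem_centralizer_iff.mp hc k hk)
  obtain ⟨E, hE⟩ := tight.exists_maxE hg hr hr2 hrg
  obtain ⟨a, ha, haM⟩ := hE.exists_norm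
  exact ⟨E, a, pair_of_normalizer hE.isPGroup hE.le ha haM hE.exists_inv⟩

/-- **(1B)** in a simple group -/
theorem exists_syl [IsSimpleGroup G] (h1173 : EvenPair.H1173 G) (tight : TightAt K)
    (even : Even (Nat.card ↥(centralizer (K : Set G)))) (cen : ∀ x ∈ K, x ∈ centralizer (K : Set G) → x = 1)
    (inner : ∀ T : Subgroup G, IsSyl T (normalizer (K : Set G)) → ∀ y ∈ T,
      (∀ s ∈ T, s ∈ K → s * y = y * s) →
      ∃ k ∈ centralizer (K : Set G), ∃ s ∈ T, s ∈ K ∧ (∀ u ∈ T, u ∈ K → u * s = s * u) ∧ y = k * s)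
    (hrk : ∃ a b : G, a ∈ centralizer (K : Set G) ∧ b ∈ centralizer (K : Set G) ∧ orderOf a = 2 ∧
      orderOf b = 2 ∧ a * b = b * a ∧ a ≠ b) (hne : K ≠ ⊥) (hp : ⁅K, K⁆ = K)
    (hB : ∀ S : Subgroup G, IsSyl S (normalizer (K : Set G)) → BFacts K S) :
    ∃ L Q U S' : Subgroup G, FullPair K L Q U ∧ IsSyl S' K ∧ S' ≤ normalizer (L : Set G) :=
  exists_fullPair_syl tight cen inner hrk hp.ge hB (exists_pair h1173 tight even hne hp)

end Main

end Cfsg.Agent.OddHalf.D4.CaseB
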