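import Mathlib
import Cfsg.Agent.OddHalf.D4.CaseB
import Cfsg.Agent.OddHalf.D4.KPairG
import Cfsg.Agent.OddHalf.D4.Start
import Cfsg.Agent.OddHalf.D4.Spor.Row
import Cfsg.Agent.OddHalf.DblR.InpEnd

/-!
# ODD, D4: the start of every row in characteristic 2 over a field with at least 4 elements

`DataQ K`: what the K-free part gives for a standard component `K` with `Z(K) = 1`, `m_2(C(K)) ≥ 2`, without facts on `K`
(`AutFacts.uniq` is false for these groups), including the fields `std`, `simp`, `core` of `Input.Inp`.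

* `row_of`: a row from a contradiction from `DataQ K`;
* **`row_of_caseB`**: a row from `InnSyl`, `Inp` with `EndHyp`, and `CaseB.BFacts`.
-/

set_option autoImplicit false

namespace Cfsg.Agent.OddHalf.D4.StartQ

open Cfsg Subgroup Cfsg.Agent.OddHalf.D4 Cfsg.Agent.OddHalf.D4.Basic
open Cfsg.Agent.OddHalf.D4.CommConj (Tight cj mem_cj mem_normalizer_of_cj_eq)

universe u

/-- the odd order theorem (S0205) -/
abbrev FTT : Prop := Spor.FTT.{u}

/-- What the K-free part gives. -/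
structure DataQ {G : Type u} [Group G] (K : Subgroup G) : Prop where
  tight : TightAt K
  even : Even (Nat.card ↥(centralizer (K : Set G)))
  cen : ∀ x ∈ K, x ∈ centralizer (K : Set G) → x = 1
  /-- `K` does not commute with its conjugates -/
  std : ∀ g : G, ¬ ∀ k ∈ K, ∀ l ∈ cj g K, k * l = l * k
  simp : ∀ N : Subgroup G, N ≤ K → (∀ k ∈ K, ∀ y ∈ N, k * y * k⁻¹ ∈ N) → N = ⊥ ∨ N = K
  core : ∀ Q : Subgroup G, IsSyl Q (centralizer (K : Set G)) → ∀ P : Subgroup G, P ≤ centralizer (K : Set G) →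
    (∀ x ∈ P, ∀ q ∈ Q, x * q = q * x) → P ≤ ⁅P, P⁆ → P = ⊥
  nocore : NoCore K
  rk : Rk2 K
  nrk : ¬ PRankLE 2 1 ↥(centralizer (K : Set G))
  bal : ∀ t : G, orderOf t = 2 → centralizerPPrimeCore 2 t = ⊥
  stdK : IsStandardSubgroup K
  simple : IsSimpleGroup ↥K
  na : ∃ a ∈ K, ∃ b ∈ K, a * b ≠ b * a
  perf : ⁅K, K⁆ = K
  ne : K ≠ ⊥

/-- `O(C(K)) = 1` -/
theorem nocore_of {G : Type u} [Group G] [Finite G] {K : Subgroup G} (ht : TightAt K)
    (hbal : ∀ t : G, orderOf t = 2 → centralizerPPrimeCore 2 t = ⊥) (hrk : Rk2 K) : NoCore K := by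
  obtain ⟨a, b, ha, hb, ha2, hb2, hab, hne⟩ := hrk
  intro N hN hn hodd
  set C := centralizer (K : Set G) with hC
  let O : Subgroup G := (pPrimeCore 2 ↥C).map C.subtype
  have hOodd : Odd (Nat.card ↥O) := by
    have h1 : Nat.card ↥O = Nat.card ↥(pPrimeCore 2 ↥C) :=
      (Nat.card_congr ((pPrimeCore 2 ↥C).equivMapOfInjective _ C.subtype_injective).toEquiv).symm
    rw [h1]
    exact Nat.coprime_two_right.mp (Cfsg.Agent.Lib.Cores.pPrimeCore_coprime 2)
  have hOM : ∀ m ∈ normalizer (K : Set G), ∀ o ∈ O, m * o * m⁻¹ ∈ O := by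
    intro m hm o ho
    have hnorm : ∀ m ∈ normalizer (K : Set G), ∀ c ∈ C, m * c * m⁻¹ ∈ C := ht.norm
    let e : ↥C ≃* ↥C :=
      { toFun := fun c => ⟨m * c * m⁻¹, hnorm m hm c c.2⟩
        invFun := fun c => ⟨m⁻¹ * c * m, by
          have := hnorm m⁻¹ (inv_mem hm) c c.2
          rwa [inv_inv] at this⟩
        left_inv := fun c => Subtype.ext (by show m⁻¹ * (m * (c : G) * m⁻¹) * m = c; group)
        right_inv := fun c => Subtype.ext (by show m * (m⁻¹ * (c : G) * m) * m⁻¹ = c; group)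
        map_mul' := fun c d => Subtype.ext (by
          show m * ((c : G) * d) * m⁻¹ = m * c * m⁻¹ * (m * d * m⁻¹)
          group) }
    obtain ⟨c, hc, rfl⟩ := ho
    have h1 : e c ∈ pPrimeCore 2 ↥C := by
      rw [← Cfsg.Agent.Lib.Cores.map_equiv_pPrimeCore e 2]
      exact ⟨c, hc, rfl⟩
    exact ⟨e c, h1, rfl⟩
  have hO : O = ⊥ := EvenPair.eq_bot_of_odd ht hbal hOM hOodd ha ha2 hb hb2 hab hne
  have hNn : (N.subgroupOf C).Normal := by
    refine ⟨?_⟩
    intro n hn' g
    rw [mem_subgroupOf] at hn' ⊢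
    exact hn g g.2 n hn'
  have hcard : Nat.card ↥(N.subgroupOf C) = Nat.card ↥N := Nat.card_congr (subgroupOfEquivOfLe hN).toEquiv
  have h1 := Cfsg.Agent.Lib.Cores.le_pPrimeCore (p := 2) hNn (by
    rw [hcard]; exact Nat.coprime_two_right.mpr hodd)
  rw [eq_bot_iff_forall]
  intro x hx
  have h2 : x ∈ O := ⟨⟨x, hN hx⟩, h1 (mem_subgroupOf.mpr hx), rfl⟩
  rw [hO, mem_bot] at h2
  exact h2

theorem dataQ_of_std (hFT : FTT.{u}) {G : Type u} [Group G] [Finite G]
    (hbal : ∀ t : G, orderOf t = 2 → centralizerPPrimeCore 2 t = ⊥) {K : Subgroup G}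
    (hK : IsStandardSubgroup K) (hs : IsSimpleGroup ↥K)
    (hrk : ¬ PRankLE 2 1 ↥(centralizer (K : Set G))) : DataQ K := by
  have ht := EvenPair.tight_of_standard hK
  have hperf : ⁅K, K⁆ = K := by
    have h1 : ⁅(⊤ : Subgroup ↥K), (⊤ : Subgroup ↥K)⁆ = ⊤ := hK.1.1.commutator_eq_top
    have h2 := congrArg (Subgroup.map K.subtype) h1
    rw [Subgroup.map_commutator, ← MonoidHom.range_eq_map, Subgroup.range_subtype] at h2
    exact h2
  have hne : K ≠ ⊥ := by
    rintro rfl
    have := hs.toNontrivial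
    exact not_subsingleton ↥(⊥ : Subgroup G) inferInstance
  have hna : ∃ a ∈ K, ∃ b ∈ K, a * b ≠ b * a := by
    by_contra hcon
    push Not at hcon
    apply hne
    rw [← hperf, commutator_eq_bot_iff_le_centralizer]
    intro x hx
    rw [mem_centralizer_iff]
    intro y hy
    exact hcon y hy x hx
  have hsimp : ∀ N : Subgroup G, N ≤ K → (∀ k ∈ K, ∀ y ∈ N, k * y * k⁻¹ ∈ N) → N = ⊥ ∨ N = K := by
    intro N hN hn
    have h1 : (N.subgroupOf K).Normal := by
      refine ⟨?_⟩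
      intro n hn' g
      rw [mem_subgroupOf] at hn' ⊢
      exact hn g g.2 n hn'
    rcases h1.eq_bot_or_eq_top with h2 | h2
    · left
      rw [eq_bot_iff_forall]
      intro x hx
      have h3 : (⟨x, hN hx⟩ : ↥K) ∈ N.subgroupOf K := mem_subgroupOf.mpr hx
      rw [h2, mem_bot] at h3
      exact congrArg Subtype.val h3
    · right
      apply le_antisymm hN
      intro x hx
      have h3 : (⟨x, hx⟩ : ↥K) ∈ N.subgroupOf K := by rw [h2]; exact mem_top _
      exact mem_subgroupOf.mp h3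
  have hcen : ∀ x ∈ K, x ∈ centralizer (K : Set G) → x = 1 := by
    intro x hx hxc
    rcases hsimp (K ⊓ centralizer (K : Set G)) inf_le_left (by
      rintro k hk y ⟨hy, hyc⟩
      have h1 : k * y * k⁻¹ = y := by
        rw [mem_centralizer_iff.mp hyc k hk]; group
      rw [h1]
      exact ⟨hy, hyc⟩) with h1 | h1
    · have h2 : x ∈ K ⊓ centralizer (K : Set G) := ⟨hx, hxc⟩
      rwa [h1, mem_bot] at h2
    · exfalso
      obtain ⟨a, ha, b, hb, hab⟩ := hna
      have h2 : b ∈ K ⊓ centralizer (K : Set G) := by rw [h1]; exact hb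
      exact hab (mem_centralizer_iff.mp h2.2 a ha)
  have hrk2 : Rk2 K := by
    obtain ⟨a, b, ha, hb, ha2, hb2, hab, hne2⟩ := EvenPair.exists_two_of_not_pRankLE hrk
    exact ⟨a, b, ha, hb, ha2, hb2, hab, hne2⟩
  refine ⟨ht, hK.2.1.1, hcen, ?_, hsimp, ?_, nocore_of ht hbal hrk2, hrk2, hrk, hbal, hK, hs, hna, hperf, hne⟩
  · intro g hg
    by_cases h1 : K.map (MulAut.conj g).toMonoidHom = K
    · obtain ⟨a, ha, b, hb, hab⟩ := hna
      apply hab
      have h2 : b ∈ cj g K := by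
        show b ∈ K.map (MulAut.conj g).toMonoidHom
        rw [h1]; exact hb
      exact hg a ha b h2
    · apply hK.2.2.1 g h1
      rw [commutator_eq_bot_iff_le_centralizer]
      intro a ha
      rw [mem_centralizer_iff]
      intro b hb
      exact (hg a ha b hb).symm
  · intro Q hQ P hP hc hPP
    exact Spor.eq_bot_of_perfect hFT hQ le_rfl (by omega) hP hc (le_antisymm (commutator_le_self P) hPP)

theorem dataQ (hFT : FTT.{u}) {G : Type u} [Group G] (hG : Iface.Ctx G) {K : Subgroup G} (hK : Iface.Std G K)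
    (hrk : ¬ PRankLE 2 1 ↥(centralizer (K : Set G))) (hz : center ↥K = ⊥) : DataQ K := by
  have := hG.fin
  exact dataQ_of_std hFT hG.bal hK.std (Start.isSimple_of_center hK.simple hz) hrk

/-- (F1) in `G` -/
theorem inner_of_innSyl {G : Type u} [Group G] [Finite G] {K : Subgroup G} (hF : KPairG.InnSyl ↥K) :
    ∀ T : Subgroup G, IsSyl T (normalizer (K : Set G)) → ∀ y ∈ T, (∀ s ∈ T, s ∈ K → s * y = y * s) →
      ∃ k ∈ centralizer (K : Set G), ∃ s ∈ T, s ∈ K ∧ (∀ u ∈ T, u ∈ K → u * s = s * u) ∧ y = k * s :=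
  fun _ hT _ hy hc => KPairG.innerIn hF hT hy hc

theorem h1173_of (h1173 : Start.P1173.{u}) {G : Type u} [Group G] (hG : Iface.Ctx G) {K : Subgroup G}
    (hD : DataQ K) : EvenPair.H1173 G := by
  have := hG.fin
  have := hG.simple
  obtain ⟨a, b, -, -, ha2, -⟩ := hD.rk
  exact h1173 G (Start.oddCore_eq_bot ha2)

/-- existence of a full pair -/
theorem DataQ.fullPair (h1173 : Start.P1173.{u}) {G : Type u} [Group G] (hG : Iface.Ctx G) {K : Subgroup G}
    (hD : DataQ K) (hF : KPairG.InnSyl ↥K) : ∃ L Q U : Subgroup G, FullPair K L Q U := by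
  have := hG.fin
  have := hG.simple
  exact KPairG.exists_fullPair (h1173_of h1173 hG hD) hD.tight hD.even hD.cen hF hD.ne hD.perf

/-- **a row from a contradiction from `DataQ`** -/
theorem row_of (hFT : FTT.{u}) {P : (K : Type u) → [Group K] → Prop}
    (h : ∀ (G : Type u) [Group G], Iface.Ctx G → ∀ K : Subgroup G, Iface.Std G K → DataQ K → P ↥K → False) :
    Cut.Row1.{u} P :=
  fun G _ hG K hK hrk hz hP => h G hG K hK (dataQ hFT hG hK hrk hz) hP

/-- **a row from a contradiction for full pairs** -/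
theorem row_of_pair (h1173 : Start.P1173.{u}) (hFT : FTT.{u}) {P : (K : Type u) → [Group K] → Prop}
    (hF : ∀ (X : Type u) [Group X] [Finite X] [IsSimpleGroup X], P X → KPairG.InnSyl X)
    (h : ∀ (G : Type u) [Group G], Iface.Ctx G → ∀ K L Q U : Subgroup G, Iface.Std G K → DataQ K →
      FullPair K L Q U → P ↥K → False) : Cut.Row1.{u} P := by
  refine row_of hFT ?_
  intro G _ hG K hK hD hP
  have := hG.fin
  have := hD.simple
  obtain ⟨L, Q, U, hp⟩ := hD.fullPair h1173 hG (hF ↥K hP)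
  exact h G hG K L Q U hK hD hp hP

/-- **a row from `BFacts`, `Inp` and the end** -/
theorem row_of_caseB (h1173 : Start.P1173.{u}) (hFT : FTT.{u}) {P : (K : Type u) → [Group K] → Prop}
    (hF : ∀ (X : Type u) [Group X] [Finite X] [IsSimpleGroup X], P X → KPairG.InnSyl X)
    (hend : ∀ (G : Type u) [Group G], Iface.Ctx G → ∀ K : Subgroup G, Iface.Std G K → DataQ K → P ↥K →
      ∃ S X H : Subgroup G, Input.Inp K S X H ∧ Input.EndHyp K X)
    (hB : ∀ (G : Type u) [Group G], Iface.Ctx G → ∀ K : Subgroup G, Iface.Std G K → DataQ K → P ↥K →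
      ∀ S : Subgroup G, IsSyl S (normalizer (K : Set G)) → CaseB.BFacts K S) : Cut.Row1.{u} P := by
  refine row_of hFT ?_
  intro G _ hG K hK hD hP
  have := hG.fin
  have := hG.simple
  have := hD.simple
  obtain ⟨S, X, H, hI, hE⟩ := hend G hG K hK hD hP
  obtain ⟨L, Q, U, S', hp, hS', hS'L⟩ := CaseB.exists_syl (h1173_of h1173 hG hD) hD.tight hD.even hD.cen
    (inner_of_innSyl (hF ↥K hP)) hD.rk hD.ne hD.perf (hB G hG K hK hD hP)
  exact hI.no_full hE hD.nrk hp hS' hS'L

end Cfsg.Agent.OddHalf.D4.StartQ
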