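import Mathlib
import Cfsg.Agent.OddHalf.D4.StartQ
import Cfsg.Agent.OddHalf.D4.Free.Main
import Cfsg.Agent.OddHalf.D4.Free.AutFacts

/-!
# ODD, D4: rows in characteristic 2 over a field with at least 4 elements, from the free pair theorem

* **`row_of_free`**: a row from `InnSyl`, `Inp` with `EndHyp`, and `Free.BFacts`;
* **`row_of_aFacts`**: the same with `Free.AFacts` for one Sylow 2-subgroup of the abstract group.
-/

set_option autoImplicit false

namespace Cfsg.Agent.OddHalf.D4.StartQ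

open Cfsg Subgroup Cfsg.Agent.OddHalf.D4 Cfsg.Agent.OddHalf.D4.Basic
open Cfsg.Agent.OddHalf.D4.CommConj (cj mem_cj)

universe u

/-- **a row from `Free.BFacts` and "no full pair with a Sylow 2-subgroup of `K` in `N(L)`"** -/
theorem row_of_free' (h1173 : Start.P1173.{u}) (hFT : FTT.{u}) {P : (K : Type u) → [Group K] → Prop}
    (hF : ∀ (X : Type u) [Group X] [Finite X] [IsSimpleGroup X], P X → KPairG.InnSyl X)
    (hend : ∀ (G : Type u) [Group G], Iface.Ctx G → ∀ K : Subgroup G, Iface.Std G K → DataQ K → P ↥K → Free.Inp K)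
    (hB : ∀ (G : Type u) [Group G], Iface.Ctx G → ∀ K : Subgroup G, Iface.Std G K → DataQ K → P ↥K →
      ∀ g : G, Free.BFacts (cj g K)) : Cut.Row1.{u} P := by
  refine row_of_pair h1173 hFT hF ?_
  intro G _ hG K L Q U hK hD hp hP
  have := hG.fin
  exact Free.no_fullPair hD.tight hD.cen hD.rk (hB G hG K hK hD hP) (hend G hG K hK hD hP) hp

/-- `Free.Inp` from `Inp` and `EndHyp` -/
theorem inp_of {G : Type u} [Group G] [Finite G] {K S X H : Subgroup G} (hD : DataQ K)
    (hI : Input.Inp K S X H) (hE : Input.EndHyp K X) : Free.Inp K :=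
  fun _ _ _ hp _ hS hSL => hI.no_full hE hD.nrk hp hS hSL

/-- **a row from `Free.BFacts`, `Inp` and the end** -/
theorem row_of_free (h1173 : Start.P1173.{u}) (hFT : FTT.{u}) {P : (K : Type u) → [Group K] → Prop}
    (hF : ∀ (X : Type u) [Group X] [Finite X] [IsSimpleGroup X], P X → KPairG.InnSyl X)
    (hend : ∀ (G : Type u) [Group G], Iface.Ctx G → ∀ K : Subgroup G, Iface.Std G K → DataQ K → P ↥K →
      ∃ S X H : Subgroup G, Input.Inp K S X H ∧ Input.EndHyp K X)
    (hB : ∀ (G : Type u) [Group G], Iface.Ctx G → ∀ K : Subgroup G, Iface.Std G K → DataQ K → P ↥K →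
      ∀ g : G, Free.BFacts (cj g K)) : Cut.Row1.{u} P := by
  refine row_of_free' h1173 hFT hF ?_ hB
  intro G _ hG K hK hD hP
  have := hG.fin
  obtain ⟨S, X, H, hI, hE⟩ := hend G hG K hK hD hP
  exact inp_of hD hI hE

/-- the conjugate -/
theorem bFacts_cj {G : Type u} [Group G] [Finite G] {K : Subgroup G} {X : Type*} [Group X] (e : X ≃* ↥K)
    {T : Sylow 2 X} (h : Free.AFacts T) (g : G) : Free.BFacts (cj g K) :=
  h.bfacts (e.trans (K.equivMapOfInjective (MulAut.conj g).toMonoidHom (MulAut.conj g).injective))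

/-- **a row from `Free.AFacts`, `Inp` and the end** -/
theorem row_of_aFacts (h1173 : Start.P1173.{u}) (hFT : FTT.{u}) {P : (K : Type u) → [Group K] → Prop}
    (hF : ∀ (X : Type u) [Group X] [Finite X] [IsSimpleGroup X], P X → KPairG.InnSyl X)
    (hend : ∀ (G : Type u) [Group G], Iface.Ctx G → ∀ K : Subgroup G, Iface.Std G K → DataQ K → P ↥K →
      ∃ S X H : Subgroup G, Input.Inp K S X H ∧ Input.EndHyp K X)
    (hA : ∀ (X : Type u) [Group X] [Finite X] [IsSimpleGroup X], P X → ∃ T : Sylow 2 X, Free.AFacts T) :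
    Cut.Row1.{u} P := by
  refine row_of_free h1173 hFT hF hend ?_
  intro G _ hG K hK hD hP g
  have := hG.fin
  have := hD.simple
  obtain ⟨T, hT⟩ := hA ↥K hP
  exact bFacts_cj (MulEquiv.refl _) hT g

end Cfsg.Agent.OddHalf.D4.StartQ
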