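import Cfsg.Agent.OddHalf.D4.StarTw

/-!
# ODD, D4, (1B): the star property for `²E₆(q)`, `q` even (helper128)

* `star_x`: an element of `U` commuting with `x_z(a)`, `a ≠ 0`, `z > 0`, commutes with `x_z(t a)`, `t ∈ F_q`;
* `star`: the same for `g * x_i(a) * g⁻¹`, `g` a representative of the Weyl group.
-/

set_option autoImplicit false
set_option linter.unusedSectionVars false

namespace Cfsg.Agent.OddHalf.D4.StarESix

open CoxeterSystem Cfsg.Agent.ChevalleyStructure.CoxeterGeom Cfsg.Agent.Tits.Core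
  Cfsg.Agent.Nodes.BNOf Cfsg.Agent.Nodes.Reps Cfsg.Agent.Nodes.RGDTwGen Cfsg.Agent.Nodes.RGDChev
  Cfsg.Agent.Nodes.RGDFold
  Cfsg.Agent.Nodes.RGDFoldSL Cfsg.Agent.Nodes.RGDTwE6 Cfsg.Agent.Nodes.RGDTwTab Cfsg.Agent.Nodes.RGDTwCoordE6
  Cfsg.Agent.Nodes.RGDTwCoord Cfsg.Agent.Nodes.RGDTwComE6 Cfsg.Agent.Nodes.RGDTwActE6
open Cfsg.Agent.Tits.Roots hiding ht
open Cfsg.Lie Cfsg.Agent.ChevalleyStructure
open Cfsg.Agent.ChevalleyStructure.TwE6Basic (sg)
open Cfsg.Agent.KFacts.RgdBorelTits Cfsg.Agent.KFacts.RgdFilt Cfsg.Agent.OddHalf.D4.StarLoc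
  Cfsg.Agent.OddHalf.D4.LineRgd
open scoped commutatorElement

universe u

/-- The class of a vector. -/
local notation "cl" => Cfsg.Agent.Nodes.RGDTwCoord.cl chevE6 J O

variable {K : Type u} [Field K] {q : ℕ} {φ : K →+* K}
  {W : Type*} [Group W] {cs : CoxeterSystem CoxeterMatrix.F₄ W} {z w : Fin 4 → ℤ}

variable [Fintype K] (hφ : ∀ x, φ x = x ^ q) (hqq : ∀ t : K, (t ^ q) ^ q = t)

include hφ hqq

/-- The structure constants are signs. -/
theorem N_sq (hz : IsRoot cs isCartan z) (hw : IsRoot cs isCartan w) (hzw : IsRoot cs isCartan (z + w))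
    (hne : ¬ (St z ∧ Lg w)) : N z w * N z w = 1 := by
  have hlz : ∀ r ∈ cl z, r < chevE6.nroots := fun r hr => (V_of_mem hz hr).1
  have hlw : ∀ r ∈ cl w, r < chevE6.nroots := fun r hr => (V_of_mem hw hr).1
  rcases long_or_short hz with lz | sz
  · rcases long_or_short hw with lw | sw
    · obtain ⟨k, -, -, h3⟩ := facts_long hz hw (kd_long hz hw hzw lz lw)
      exact StarTw.NN_of_tm (twC hφ hqq) hlz hlw (k₀ := k) (i := 0) (j := 0) (by rw [h3]; exact List.mem_cons_self)
    · obtain ⟨r, s₀, s₁, u₀, u₁, v, e1, e2, -, -, -, -, h5, h6, -⟩ := facts_quad hz hw (kd_quad hz hw hzw lz sw)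
      rw [h6]
      have h7 : 2 ≤ dgE6 r s₀ := by
        unfold okQ sumB at h5
        simp only [Bool.and_eq_true, decide_eq_true_eq] at h5
        exact h5.1.1.1.1.1.1.2
      exact (twC hφ hqq).NN_sq (hlz r (by rw [e1]; exact List.mem_cons_self))
        (hlw s₀ (by rw [e2]; exact List.mem_cons_self)) h7
  · rcases long_or_short hw with lw | sw
    · exact absurd ⟨sz, lw⟩ hne
    · rcases kd_ss hz hw hzw sz sw with hk | hk
      · obtain ⟨k, -, -, h3⟩ := facts_trace hz hw hk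
        exact StarTw.NN_of_tm (twC hφ hqq) hlz hlw (k₀ := k) (i := 0) (j := 1) (by rw [h3]; exact List.mem_cons_self)
      · obtain ⟨u₀, u₁, -, -, h3⟩ := facts_short hz hw hk
        exact StarTw.NN_of_tm (twC hφ hqq) hlz hlw (k₀ := u₀) (i := 1) (j := 1)
          (by rw [h3]; exact List.mem_cons_self)

theorem N_ne_zero (hz : IsRoot cs isCartan z) (hw : IsRoot cs isCartan w) (hzw : IsRoot cs isCartan (z + w))
    (hne : ¬ (St z ∧ Lg w)) : ((N z w : ℤ) : K) ≠ 0 := by
  intro h0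
  have h1 := congrArg (Int.cast : ℤ → K) (N_sq hφ hqq hz hw hzw hne)
  rw [Int.cast_mul, h0, mul_zero, Int.cast_one] at h1
  exact zero_ne_one h1

theorem abel (hz : IsRoot cs isCartan z) : ∀ a ∈ X φ q z, ∀ b ∈ X φ q z, a * b = b * a := by
  intro a ha b hb
  obtain ⟨a, ha', rfl⟩ := (mem_X hφ hqq hz a).1 ha
  obtain ⟨b, hb', rfl⟩ := (mem_X hφ hqq hz b).1 hb
  rw [← x_add hφ hqq hz ha' hb', ← x_add hφ hqq hz hb' ha', add_comm]

theorem intComm : IntComm cs isCartan (X φ q : (Fin 4 → ℤ) → Subgroup ↥(twistedE6 K q)) := by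
  obtain ⟨p, hp'⟩ := CharP.exists K
  have : Fact p.Prime := ⟨CharP.char_is_prime K p⟩
  exact StarTw.intComm_sub cs isCartan foldData (foldGrp hφ hqq) p

/-- **The star property of `²E₆(q)`.** -/
theorem star_x [Finite W] (hz : z ∈ RGD.Pos cs isCartan) {a : K} (ha : Ok chevE6 J O φ z a) (ha0 : a ≠ 0)
    {u : ↥(twistedE6 K q)} (hu : u ∈ RGD.Sup (X φ q) (RGD.Pos cs isCartan))
    (hux : u * x φ q z a = x φ q z a * u) {t : K} (ht : φ t = t) :
    u * x φ q z (t * a) = x φ q z (t * a) * u := by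
  obtain ⟨p, hp'⟩ := CharP.exists K
  have : Fact p.Prime := ⟨CharP.char_is_prime K p⟩
  have R := rgd cs hφ hqq p
  have hI : IntComm cs isCartan (X φ q : (Fin 4 → ℤ) → Subgroup ↥(twistedE6 K q)) := intComm hφ hqq
  have hok : ∀ {t : K}, φ t = t → Ok chevE6 J O φ z (t * a) := fun ht => StarTw.ok_mul_fix ha ht
  refine star_of_loc hI (x := x φ q z a) (l := {y | ∃ t, φ t = t ∧ y = x φ q z (t * a)})
    ⟨1, map_one φ, by rw [one_mul]⟩ ?_ u hu hux _ ⟨t, ht, rfl⟩
  intro s hs y hy v hv hc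
  have hlead := lead R hI hs hz (abel hφ hqq hz.1) (x_mem hφ hqq hz.1 ha) hy hv hc
  obtain ⟨b, hb, rfl⟩ := (mem_X hφ hqq hs.1 y).1 hy
  by_cases hsz : IsRoot cs isCartan (s + z)
  swap
  · rintro _ ⟨t, ht', rfl⟩
    by_cases hne : z = -s
    · exact absurd hne (ne_neg hz hs)
    · exact comm_nil hφ hqq hs.1 hz.1 hsz hne b (t * a)
  have hszP : s + z ∈ RGD.Pos cs isCartan := ⟨hsz, fun i => add_nonneg (hs.2 i) (hz.2 i)⟩
  have hht : LineRgd.ht s + LineRgd.ht z = LineRgd.ht (s + z) := (map_add _ _ _).symm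
  rw [hht] at hlead
  -- it is enough that the coordinate is zero
  have hzero : b = 0 → ∀ x' ∈ {y | ∃ t, φ t = t ∧ y = x φ q z (t * a)}, x φ q s b * x' = x' * x φ q s b := by
    rintro rfl x' _
    rw [x_zero hφ hqq hs.1, one_mul, mul_one]
  have hfin : ∀ {c : K}, Ok chevE6 J O φ (s + z) c → ∀ {y' : ↥(twistedE6 K q)},
      y' ∈ RGD.Sup (X φ q) (Gt cs isCartan (LineRgd.ht (s + z))) →
      x φ q (s + z) c * y' ∈ RGD.Sup (X φ q) (Gt cs isCartan (LineRgd.ht (s + z))) → c = 0 := by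
    intro c hc' y' hy' h1
    exact (x_eq_one_iff hφ hqq hsz hc').1 (eq_one_of_gt R hI hszP (x_mem hφ hqq hsz hc') hy' h1)
  rcases long_or_short hs.1 with ls | ss
  · have hN := N_ne_zero hφ hqq hs.1 hz.1 hsz (fun h => not_both ls h.1)
    have hb' : φ b = b := (ok_iff_long hs.1 ls).1 hb
    rcases long_or_short hz.1 with lz | sz
    · -- long, long
      have ha' : φ a = a := (ok_iff_long hz.1 lz).1 ha
      obtain ⟨h1, h2⟩ := comm_long hφ hqq hs.1 hz.1 hsz ls lz hb' ha'
      rw [h2] at hlead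
      have h3 := hfin (c := ((N s z : ℤ) : K) * (b * a)) (y' := 1)
        (ok_long hsz h1 (by rw [map_mul, map_mul, map_intCast, ha', hb'])) (one_mem _) (by rwa [mul_one])
      exact hzero ((mul_eq_zero.1 ((mul_eq_zero.1 h3).resolve_left hN)).resolve_right ha0)
    · -- long, short
      obtain ⟨h1, h2, h3, h4⟩ := comm_quad hφ hqq hs.1 hz.1 hsz ls sz hb' a
      rw [h4] at hlead
      have h5 : x φ q (s + (2 : ℤ) • z) (((N2 s z : ℤ) : K) * (b * (a * φ a))) ∈
          RGD.Sup (X φ q) (Gt cs isCartan (LineRgd.ht (s + z))) := by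
        refine RGD.le_Sup (S := Gt cs isCartan (LineRgd.ht (s + z))) (z := s + (2 : ℤ) • z) ⟨⟨h2, fun i => ?_⟩, ?_⟩
          (x_mem hφ hqq h2 (ok_long h2 h3 ?_))
        · exact add_nonneg (hs.2 i) (mul_nonneg (by norm_num) (hz.2 i))
        · have := ht_pos' hz
          rw [map_add, map_add, map_zsmul, smul_eq_mul]
          omega
        · rw [map_mul, map_mul, map_mul, map_intCast, phi_phi hφ hqq, hb', mul_comm (φ a) a]
      have h6 := hfin (ok_short hφ hqq hsz h1 _) h5 hlead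
      exact hzero ((mul_eq_zero.1 ((mul_eq_zero.1 h6).resolve_left hN)).resolve_right ha0)
  · rcases long_or_short hz.1 with lz | sz
    · -- short, long
      have ha' : φ a = a := (ok_iff_long hz.1 lz).1 ha
      have hzs : IsRoot cs isCartan (z + s) := by rwa [add_comm]
      have hN := N_ne_zero hφ hqq hz.1 hs.1 hzs (fun h => not_both lz h.1)
      obtain ⟨h1, h2, h3, h4⟩ := comm_quad hφ hqq hz.1 hs.1 hzs lz ss ha' b
      have hlead' : ⁅x φ q z a, x φ q s b⁆ ∈ RGD.Sup (X φ q) (Gt cs isCartan (LineRgd.ht (s + z))) := by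
        have := inv_mem hlead
        rwa [commutatorElement_inv] at this
      rw [h4, add_comm z s] at hlead'
      rw [add_comm z s] at h1
      have h5 : x φ q (z + (2 : ℤ) • s) (((N2 z s : ℤ) : K) * (a * (b * φ b))) ∈
          RGD.Sup (X φ q) (Gt cs isCartan (LineRgd.ht (s + z))) := by
        refine RGD.le_Sup (S := Gt cs isCartan (LineRgd.ht (s + z))) (z := z + (2 : ℤ) • s) ⟨⟨h2, fun i => ?_⟩, ?_⟩
          (x_mem hφ hqq h2 (ok_long h2 h3 ?_))
        · exact add_nonneg (hz.2 i) (mul_nonneg (by norm_num) (hs.2 i))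
        · have := ht_pos' hs
          rw [map_add, map_add, map_zsmul, smul_eq_mul]
          omega
        · rw [map_mul, map_mul, map_mul, map_intCast, phi_phi hφ hqq, ha', mul_comm (φ b) b]
      have h6 := hfin (ok_short hφ hqq hsz h1 _) h5 hlead'
      exact hzero ((mul_eq_zero.1 ((mul_eq_zero.1 h6).resolve_left hN)).resolve_left ha0)
    · have hN := N_ne_zero hφ hqq hs.1 hz.1 hsz (fun h => not_both h.2 sz)
      rcases long_or_short hsz with lsz | ssz
      · -- the trace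
        have h1 := comm_trace hφ hqq hs.1 hz.1 hsz ss sz lsz b a
        rw [h1] at hlead
        have h3 := hfin (c := ((N s z : ℤ) : K) * (b * φ a + φ b * a)) (y' := 1) (ok_long hsz lsz (by
          rw [map_mul, map_add, map_mul, map_mul, map_intCast, phi_phi hφ hqq, phi_phi hφ hqq, add_comm]))
          (one_mem _) (by rwa [mul_one])
        have h4 := (mul_eq_zero.1 h3).resolve_left hN
        rintro _ ⟨t, ht', rfl⟩
        rw [← commutatorElement_eq_one_iff_mul_comm, comm_trace hφ hqq hs.1 hz.1 hsz ss sz lsz b (t * a)]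
        have h5 : b * φ (t * a) + φ b * (t * a) = 0 := by
          rw [map_mul, ht']
          linear_combination t * h4
        rw [h5, mul_zero, x_zero hφ hqq hsz]
      · -- short, short, short
        have h1 := comm_short hφ hqq hs.1 hz.1 hsz ss sz ssz b a
        rw [h1] at hlead
        have h3 := hfin (y' := 1) (ok_short hφ hqq hsz ssz _) (one_mem _) (by rwa [mul_one])
        have h4 := (map_eq_zero φ).1 ((mul_eq_zero.1 h3).resolve_left hN)
        exact hzero ((mul_eq_zero.1 h4).resolve_right ha0)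

/-- **The star property of `²E₆(q)`**, for the conjugates of the root elements of the nodes. -/
theorem star [Finite W] (p : ℕ) [Fact p.Prime] [CharP K p] {v : W} {g : ↥(twistedE6 K q)}
    (hg : Rp cs (rgd cs hφ hqq p).nsys v g) (hz : IsRoot cs isCartan z)
    (hv : rep cs isCartan v z ∈ RGD.Pos cs isCartan) {a : K}
    (ha : Ok chevE6 J O φ z a) (ha0 : a ≠ 0) {u : ↥(twistedE6 K q)}
    (hu : u ∈ RGD.Sup (X φ q) (RGD.Pos cs isCartan))
    (hux : u * (g * x φ q z a * g⁻¹) = g * x φ q z a * g⁻¹ * u) {t : K} (ht : φ t = t) :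
    u * (g * x φ q z (t * a) * g⁻¹) = g * x φ q z (t * a) * g⁻¹ * u :=
  StarTw.rp_star cs isCartan (twC hφ hqq) p (rgd cs hφ hqq p).nsys (u := u)
    (fun _ hz' _ ha' ha0' hux' _ ht' => star_x hφ hqq hz' ha' ha0' hu hux' ht') hg hz hv ha ha0 hux ht

end Cfsg.Agent.OddHalf.D4.StarESix
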