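import Mathlib
import Cfsg.Agent.OddHalf.D4.Free.AutFacts

/-!
# ODD, D4, (1B): filtrations by lines, one step at a time (helper917)

`LineA T A D l` : `l` is a line relative to `D`. `Good T A D` : the subgroup `D` has a filtration by lines.
`Good.exists_flt` : the filtration `FltA`.
-/

set_option autoImplicit false

namespace Cfsg.Agent.OddHalf.D4.TwGood

open Cfsg Subgroup Cfsg.Agent.OddHalf.D4 Cfsg.Agent.OddHalf.D4.Free

variable {X : Type*} [Group X]

/-- a line relative to `D` -/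
structure LineA (T : Sylow 2 X) (A : Subgroup (MulAut X)) (D l : Subgroup X) : Prop where
  sq : ∀ x ∈ l, x * x ∈ D
  pair : ∃ a ∈ l, ∃ b ∈ l, a ∉ D ∧ b ∉ D ∧ a⁻¹ * b ∉ D
  star : ∀ y ∈ A, FixZ T y → y * y = 1 → ∀ x ∈ l, x ∉ D → y x = x → ∀ x' ∈ l, y x' = x'
  fix : ∀ x ∈ l, ∀ e ∈ A, FixZ T e → e x * x⁻¹ ∈ D

/-- `D` has a filtration by lines. -/
inductive Good (T : Sylow 2 X) (A : Subgroup (MulAut X)) : Subgroup X → Prop
  | bot : Good T A ⊥
  | step (D D' l : Subgroup X) (hD : Good T A D) (hle : D ≤ D') (gen : D' ≤ l ⊔ D) (line_le : l ≤ D')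
      (line : LineA T A D l) : Good T A D'

variable {T : Sylow 2 X} {A : Subgroup (MulAut X)} {D : Subgroup X}

theorem Good.exists_seq (h : Good T A D) : ∃ (U : ℕ → Subgroup X) (L : ℕ → Set (Subgroup X)), U 0 = D ∧
    (∃ n, U n = ⊥) ∧ (∀ j, U (j + 1) ≤ U j) ∧
    (∀ j, ∀ u ∈ U j, u ∈ closure ({x | ∃ l ∈ L j, x ∈ l} ∪ (U (j + 1) : Set X))) ∧
    (∀ j, ∀ l ∈ L j, l ≤ U j) ∧ (∀ j, ∀ l ∈ L j, LineA T A (U (j + 1)) l) := by
  induction h with
  | bot =>
    refine ⟨fun _ => ⊥, fun _ => ∅, rfl, ⟨0, rfl⟩, fun _ => le_rfl, ?_, ?_, ?_⟩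
    · intro _ u hu
      exact subset_closure (Or.inr hu)
    all_goals intro _ l hl; exact absurd hl (Set.notMem_empty l)
  | step D D' l hD hle gen line_le line ih =>
    obtain ⟨U, L, h0, ⟨m, hm⟩, h2, h4, h5, h6⟩ := ih
    refine ⟨fun j => Nat.casesOn j D' U, fun j => Nat.casesOn j {l} L, rfl, ⟨m + 1, hm⟩, ?_, ?_, ?_, ?_⟩
    · rintro (_ | j)
      · show U 0 ≤ D'
        rw [h0]; exact hle
      · exact h2 j
    · rintro (_ | j)
      · show ∀ u ∈ D', u ∈ closure ({x | ∃ l' ∈ ({l} : Set (Subgroup X)), x ∈ l'} ∪ (U 0 : Set X))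
        intro u hu
        rw [h0]
        have h9 : l ⊔ D ≤ closure ({x | ∃ l' ∈ ({l} : Set (Subgroup X)), x ∈ l'} ∪ (D : Set X)) :=
          sup_le (fun x hx => subset_closure (Or.inl ⟨l, rfl, hx⟩)) fun x hx => subset_closure (Or.inr hx)
        exact h9 (gen hu)
      · exact h4 j
    · rintro (_ | j)
      · rintro _ rfl
        exact line_le
      · exact h5 j
    · rintro (_ | j)
      · rintro _ rfl
        show LineA T A (U 0) _
        rw [h0]; exact line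
      · exact h6 j

/-- **The filtration.** -/
theorem Good.exists_flt (h : Good T A (T : Subgroup X)) : ∃ (U : ℕ → Subgroup X) (L : ℕ → Set (Subgroup X)),
    FltA T A U L := by
  obtain ⟨U, L, h0, h1, h2, h4, h5, h6⟩ := h.exists_seq
  exact ⟨U, L, h0, h1, h2, h4, h5, fun j l hl => (h6 j l hl).sq, fun j l hl => (h6 j l hl).pair,
    fun j l hl => (h6 j l hl).star, fun j l hl => (h6 j l hl).fix⟩

end Cfsg.Agent.OddHalf.D4.TwGood
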