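import Cfsg.Agent.OddHalf.D4.LineRgd

/-!
# ODD, D4, (1B): independence of the root groups in the height filtration (helper368)

`X_inf_V`: `X a ⊓ ⟨X b : ht b > ht a⟩ = 1` for a positive root `a`, if the Chevalley commutator formula holds.
-/

set_option autoImplicit false
set_option linter.unusedSectionVars false

namespace Cfsg.Agent.OddHalf.D4.LineRgd

open Subgroup CoxeterSystem Cfsg.Agent.ChevalleyStructure.CoxeterGeom Cfsg.Agent.Tits.Roots Cfsg.Agent.Tits.Core
  Cfsg.Agent.Nodes.Reps Cfsg.Agent.Nodes.BNOf Cfsg.Agent.Nodes.Bruhat Cfsg.Agent.Nodes.OppDec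
  Cfsg.Agent.Nodes.NormalForm Cfsg.Agent.Nodes.Coroot Cfsg.Agent.Nodes
  Cfsg.Agent.KFacts.RgdPar Cfsg.Agent.KFacts.RgdTI Cfsg.Agent.KFacts.RgdFilt Cfsg.Agent.KFacts.RgdBorelTits
  Cfsg.Agent.OddHalf.D4.Line Cfsg.Agent.OddHalf.D4.LineFilt
open scoped commutatorElement

variable {I W Y : Type*} [Fintype I] [DecidableEq I] [Group W] [Group Y] {M : CoxeterMatrix I}
  {cs : CoxeterSystem M W} {A : I → I → ℤ} {h : IsCartan M A} {p : ℕ} {T : Subgroup Y} {n : I → Y}
  {X : (I → ℤ) → Subgroup Y}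

/-- **Independence.** -/
theorem X_inf_V [Finite W] (R : RGD cs h p T n X) (hI : IntComm cs h X) {a : I → ℤ} (ha : a ∈ RGD.Pos cs h) {d : ℕ}
    (hd : ht a < d) : X a ⊓ V (Yp (cs := cs) (h := h) X) wt d = ⊥ := by
  have hPS : PS' cs h (1 : W) = RGD.Pos cs h := by
    ext x
    simp [PS', RGD.Pos]
  have h1 := inf_w R (G := cut {a} X) (G' := cut {x | (d : ℤ) ≤ ht x} X) (1 : W) ?_ ?_ ?_ ?_
  · rw [hPS] at h1
    rw [eq_bot_iff]
    intro g hg
    have h2 : g ∈ FS (cut {a} X) (RGD.Pos cs h) := by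
      have h3 := le_FS (G := cut {a} X) (S := RGD.Pos cs h) ha
      rw [cut_pos (Set.mem_singleton a)] at h3
      exact h3 hg.1
    have h3 : g ∈ FS (cut {x | (d : ℤ) ≤ ht x} X) (RGD.Pos cs h) := by
      have h4 : V (Yp (cs := cs) (h := h) X) wt d ≤ FS (cut {x | (d : ℤ) ≤ ht x} X) (RGD.Pos cs h) := by
        refine V_le fun i hi => ?_
        have h5 : (d : ℤ) ≤ ht i.1 := by
          have := wt_cast i
          omega
        have h6 := le_FS (G := cut {x | (d : ℤ) ≤ ht x} X) (S := RGD.Pos cs h) i.2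
        rw [cut_pos (show i.1 ∈ {x | (d : ℤ) ≤ ht x} from h5)] at h6
        exact h6
      exact h4 hg.2
    have h4 := h1 ⟨h2, h3⟩
    refine (FS_le fun z _ => ?_ : FS (fun x => cut {a} X x ⊓ cut {x | (d : ℤ) ≤ ht x} X x) (RGD.Pos cs h) ≤ ⊥) h4
    by_cases hz : z = a
    · have h5 : z ∉ {x : I → ℤ | (d : ℤ) ≤ ht x} := by
        rw [hz]
        intro h6
        have h7 : (d : ℤ) ≤ ht a := h6
        omega
      rw [cut_neg h5, inf_bot_eq]
    · rw [cut_neg (show z ∉ ({a} : Set (I → ℤ)) from hz), bot_inf_eq]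
  · intro x _ y _ hxy u hu v hv
    by_cases hx : x = a
    · have hy : y ∉ ({a} : Set (I → ℤ)) := fun e => hxy (by rw [hx]; exact (Set.mem_singleton_iff.1 e).symm)
      rw [cut_neg hy, Subgroup.mem_bot] at hv
      rw [hv, commutatorElement_one_right]
      exact one_mem _
    · rw [cut_neg (show x ∉ ({a} : Set (I → ℤ)) from hx), Subgroup.mem_bot] at hu
      rw [hu, commutatorElement_one_left]
      exact one_mem _
  · intro x hx y hy hxy u hu v hv
    rw [hPS] at hx hy
    by_cases hx' : x ∈ {x : I → ℤ | (d : ℤ) ≤ ht x}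
    · by_cases hy' : y ∈ {x : I → ℤ | (d : ℤ) ≤ ht x}
      · rw [cut_pos hx'] at hu
        rw [cut_pos hy'] at hv
        have hxn := ht_pos hx.2 hx.1.ne_zero
        have hyn := ht_pos hy.2 hy.1.ne_zero
        have hxy' : x ≠ -y := by
          rintro rfl
          rw [map_neg] at hxn
          omega
        refine FS_mono (fun z hz _ => ?_) (hI x y hx.1 hy.1 hxy hxy' u hu v hv)
        have hz' : IB cs h x y z := hz
        refine ⟨hz'.btwn, ?_⟩
        obtain ⟨-, i, j, hi, hj, rfl⟩ := hz'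
        have h5 : (i • x + j • y) ∈ {x : I → ℤ | (d : ℤ) ≤ ht x} := by
          show (d : ℤ) ≤ ht (i • x + j • y)
          have h6 : (d : ℤ) ≤ ht x := hx'
          rw [map_add, map_zsmul, map_zsmul, smul_eq_mul, smul_eq_mul]
          nlinarith
        rw [cut_pos h5]
      · rw [cut_neg hy', Subgroup.mem_bot] at hv
        rw [hv, commutatorElement_one_right]
        exact one_mem _
    · rw [cut_neg hx', Subgroup.mem_bot] at hu
      rw [hu, commutatorElement_one_left]
      exact one_mem _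
  · intro x _
    exact cut_le _ _ _
  · intro x _
    exact cut_le _ _ _

end Cfsg.Agent.OddHalf.D4.LineRgd
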