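import Mathlib
import Cfsg.Agent.OddHalf.D4.TwWt
import Cfsg.Agent.KFacts.RgdNodes
import Cfsg.Agent.KFacts.RgdGraph
import Cfsg.Agent.KFacts.Mult.OEightInner

/-!
# ODD, D4, (1B): linear root group data (helper917)

`Lin R k Kf x χ wt ρ` : the simple root group `X_i` is coordinatised by the subfield `Kf i` of `L`, `k ≤ Kf i`; all frame
automorphisms fix the diagram and act on the coordinates by one field automorphism of `L`; `star` : an element of `U`
centralising one nontrivial element of a line `k a` of a root group centralises the line.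

* `Lin.lam : MulAut Y →* (L ≃+* L)` : the field automorphism, trivial on inner automorphisms; 2-elements of the kernel
  are inner.
-/

set_option autoImplicit false
set_option linter.unusedSectionVars false

namespace Cfsg.Agent.OddHalf.D4.TwLin

open Subgroup CoxeterSystem Cfsg.Agent.ChevalleyStructure.CoxeterGeom Cfsg.Agent.Tits.Roots Cfsg.Agent.Tits.Core
  Cfsg.Agent.Tits.Exchange Cfsg.Agent.Nodes.Reps Cfsg.Agent.Nodes.BNOf Cfsg.Agent.Nodes.StabComb
  Cfsg.Agent.Nodes.Bruhat Cfsg.Agent.Nodes.OppDec Cfsg.Agent.Nodes.LeviDec Cfsg.Agent.Nodes.NormalForm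
  Cfsg.Agent.KFacts.RgdOpp Cfsg.Agent.KFacts.RgdAut Cfsg.Agent.KFacts.RgdDiag Cfsg.Agent.KFacts.RgdRigid
  Cfsg.Agent.KFacts.RgdField Cfsg.Agent.KFacts.RgdTau Cfsg.Agent.KFacts.RgdNodes Cfsg.Agent.OddHalf.D4.TwWt
open scoped commutatorElement

variable {I W Y : Type*} [Fintype I] [DecidableEq I] [Group W] [Group Y] {M : CoxeterMatrix I}
  {cs : CoxeterSystem M W} {A : I → I → ℤ} {h : IsCartan M A} {T : Subgroup Y} {n : I → Y}
  {X : (I → ℤ) → Subgroup Y} {L : Type*} [Field L] {k : Subfield L} {Kf : I → Subfield L}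
  {x : ∀ i, Kf i → Y} {χ : ∀ i, Y → Kf i} {wt : (I → ℤ) → ℕ} {ρ : I → ℤ}

/-- Linear root group data. -/
structure Lin (R : RGD cs h 2 T n X) (k : Subfield L) (Kf : I → Subfield L) (x : ∀ i, Kf i → Y)
    (χ : ∀ i, Y → Kf i) (wt : (I → ℤ) → ℕ) (ρ : I → ℤ) : Prop where
  gen : RGD.Sup X {z | IsRoot cs h z} = ⊤
  coord : ∀ i, Coord T (X (sr i)) (x i) (χ i)
  le : ∀ i, k ≤ Kf i
  top : ∃ i, Kf i = ⊤
  one : ∀ (β : MulAut Y) (σ : Equiv.Perm I), Diag T X β σ → σ = 1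
  tau : ∀ β : MulAut Y, Diag T X β 1 → ∃ τ : L ≃+* L, ∀ i, ∀ t ∈ T, (χ i (β t) : L) = τ (χ i t)
  wts : Wts cs h X wt
  star : ∀ w i g, Rp cs R.nsys w g → rep cs h w (sr i) ∈ RGD.Pos cs h → ∀ a : Kf i, a ≠ 0 →
    ∀ u ∈ RGD.Sup X (RGD.Pos cs h), u * (g * x i a * g⁻¹) = g * x i a * g⁻¹ * u → ∀ t : Kf i, (t : L) ∈ k →
      u * (g * x i (t * a) * g⁻¹) = g * x i (t * a) * g⁻¹ * u
  rho : ∃ w i, rep cs h w (sr i) = ρ ∧ Kf i = k
  rho_pos : ρ ∈ RGD.Pos cs h
  cen : ∀ z ∈ RGD.Sup X (RGD.Pos cs h), (∀ u ∈ RGD.Sup X (RGD.Pos cs h), u * z = z * u) ↔ z ∈ X ρ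

/-- The field automorphism of a frame automorphism. -/
structure LTau (T : Subgroup Y) (X : (I → ℤ) → Subgroup Y) (χ : ∀ i, Y → Kf i) (β : MulAut Y) (τ : L ≃+* L) :
    Prop where
  diag : Diag T X β 1
  char : ∀ i, ∀ t ∈ T, (χ i (β t) : L) = τ (χ i t)

theorem LTau.one : LTau T X χ (1 : MulAut Y) (1 : L ≃+* L) := ⟨Diag.one, fun _ _ _ => rfl⟩

theorem LTau.mul {β β' : MulAut Y} {τ τ' : L ≃+* L} (S : LTau T X χ β τ) (S' : LTau T X χ β' τ') :
    LTau T X χ (β * β') (τ * τ') where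
  diag := by
    have := S.diag.mul S'.diag
    rwa [mul_one] at this
  char i t ht := by
    rw [MulAut.mul_apply, S.char _ _ ((S'.diag.tor t).2 ht), S'.char i t ht]
    rfl

theorem LTau.inv {β : MulAut Y} {τ : L ≃+* L} (S : LTau T X χ β τ) : LTau T X χ β⁻¹ τ⁻¹ where
  diag := by
    have := S.diag.inv
    rwa [inv_one] at this
  char i t ht := by
    have h2 := S.char i (β⁻¹ t) ((S.diag.tor.inv t).2 ht)
    rw [MulAut.apply_inv_self] at h2
    rw [h2]
    exact (τ.symm_apply_apply _).symm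

theorem LTau.pow {β : MulAut Y} {τ : L ≃+* L} (S : LTau T X χ β τ) (m : ℕ) : LTau T X χ (β ^ m) (τ ^ m) := by
  induction m with
  | zero => rw [pow_zero, pow_zero]; exact LTau.one
  | succ m ih => rw [pow_succ, pow_succ]; exact ih.mul S

section

variable {R : RGD cs h 2 T n X} (Λ : Lin R k Kf x χ wt ρ)

include Λ

/-- uniqueness -/
theorem LTau.unique {β : MulAut Y} {τ τ' : L ≃+* L} (S : LTau T X χ β τ) (S' : LTau T X χ β τ') : τ = τ' := by
  obtain ⟨i, hi⟩ := Λ.top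
  have C := Λ.coord i
  have h1 : AddSubgroup.closure (χ i '' (T : Set Y)) ≤
      (AddMonoidHom.eqLocus (τ : L →+ L) (τ' : L →+ L)).comap ((Kf i).subtype : Kf i →+ L) := by
    rw [AddSubgroup.closure_le]
    rintro _ ⟨t, ht, rfl⟩
    show τ (χ i t) = τ' (χ i t)
    rw [← S.char i t ht, ← S'.char i t ht]
  rw [C.span, top_le_iff] at h1
  ext a
  have h2 : (⟨a, by rw [hi]; exact Subfield.mem_top a⟩ : Kf i) ∈
      (AddMonoidHom.eqLocus (τ : L →+ L) (τ' : L →+ L)).comap ((Kf i).subtype : Kf i →+ L) := by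
    rw [h1]; exact AddSubgroup.mem_top _
  exact h2

theorem exists_ltau {β : MulAut Y} {σ : Equiv.Perm I} (D : Diag T X β σ) : ∃ τ : L ≃+* L, LTau T X χ β τ := by
  have h1 := Λ.one β σ D
  subst h1
  obtain ⟨τ, hτ⟩ := Λ.tau β D
  exact ⟨τ, D, hτ⟩

/-- the semilinear action on the simple root groups -/
theorem LTau.semi {β : MulAut Y} {τ : L ≃+* L} (S : LTau T X χ β τ) (i : I) :
    ∃ (τ' : Kf i ≃+* Kf i) (c : Kf i), c ≠ 0 ∧ (∀ a, (τ' a : L) = τ a) ∧ ∀ a, β (x i a) = x i (c * τ' a) := by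
  have C := Λ.coord i
  obtain ⟨τ', c, hc, hx, hchar⟩ := C.exists_semi C S.diag.tor (S.diag.pos i)
  refine ⟨τ', c, hc, fun a => ?_, hx⟩
  have h1 : AddSubgroup.closure (χ i '' (T : Set Y)) ≤
      AddMonoidHom.eqLocus (((Kf i).subtype : Kf i →+ L).comp (τ' : Kf i →+ Kf i))
        ((τ : L →+ L).comp ((Kf i).subtype : Kf i →+ L)) := by
    rw [AddSubgroup.closure_le]
    rintro _ ⟨t, ht, rfl⟩
    show (τ' (χ i t) : L) = τ (χ i t)
    rw [← hchar t ht, S.char i t ht]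
  rw [C.span, top_le_iff] at h1
  have h2 : a ∈ AddMonoidHom.eqLocus (((Kf i).subtype : Kf i →+ L).comp (τ' : Kf i →+ Kf i))
      ((τ : L →+ L).comp ((Kf i).subtype : Kf i →+ L)) := by
    rw [h1]; exact AddSubgroup.mem_top _
  exact h2

omit Λ in
theorem hat_one (hσ : ∀ i j, M ((1 : Equiv.Perm I) i) ((1 : Equiv.Perm I) j) = M i j) (w : W) :
    hat cs (1 : Equiv.Perm I) hσ w = w := by
  obtain ⟨ω, rfl⟩ := cs.wordProd_surjective w
  induction ω with
  | nil => rw [wordProd_nil, map_one]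
  | cons i ω ih => rw [wordProd_cons, map_mul, hat_simple, ih, Equiv.Perm.one_apply]

/-- the action on all root groups -/
theorem LTau.root [Finite W] {β : MulAut Y} {τ : L ≃+* L} (S : LTau T X χ β τ) (i : I) {w : W} {g : Y}
    (hg : Rp cs R.nsys w g) : ∃ (τ' : Kf i ≃+* Kf i) (c : Kf i), c ≠ 0 ∧ (∀ a, (τ' a : L) = τ a) ∧
      ∀ a, β (g * x i a * g⁻¹) = g * x i (c * τ' a) * g⁻¹ := by
  obtain ⟨τ', c, hc, h1, h2⟩ := LTau.semi Λ S i
  have h3 : Rp cs R.nsys w (β g) := by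
    have hσ : ∀ i j, M ((1 : Equiv.Perm I) i) ((1 : Equiv.Perm I) j) = M i j := fun _ _ => rfl
    have h4 := S.diag.rp' (R := R) hσ hg
    exact (congrArg (fun v => Rp cs R.nsys v (β g)) (hat_one hσ w)).mp h4
  obtain ⟨t, ht⟩ : ∃ t, t = g⁻¹ * β g := ⟨_, rfl⟩
  have htT : t ∈ T := by rw [ht]; exact hg.unique h3
  have e1 : β g = g * t := by rw [ht]; group
  have C := Λ.coord i
  refine ⟨τ', χ i t * c, mul_ne_zero (C.chi_ne_zero htT) hc, h1, fun a => ?_⟩
  rw [map_mul, map_mul, map_inv, h2, e1, mul_assoc (χ i t), ← C.act t htT]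
  group

end

end Cfsg.Agent.OddHalf.D4.TwLin
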