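import Mathlib
import Cfsg.Agent.OddHalf.D4.TwLin
import Cfsg.Agent.OddHalf.D4.TwGood

/-!
# ODD, D4, (1B): the filtration of `U` for linear root group data (helper917)

`Ctx` : `A` is a 2-subgroup of `Aut Y` normalising `U`, whose elements centralising `Z(U)` have the form `conj u * β`,
`β ∈ {1, β₀}`, `β₀` an involutory frame automorphism with trivial action on `k`. `Ctx.flt` : the filtration `FltA`.
-/

set_option autoImplicit false
set_option linter.unusedSectionVars false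

namespace Cfsg.Agent.OddHalf.D4.TwFlt

open Subgroup CoxeterSystem Cfsg.Agent.ChevalleyStructure.CoxeterGeom Cfsg.Agent.Tits.Roots Cfsg.Agent.Tits.Core
  Cfsg.Agent.Tits.Exchange Cfsg.Agent.Nodes.Reps Cfsg.Agent.Nodes.BNOf Cfsg.Agent.Nodes.StabComb
  Cfsg.Agent.Nodes.Bruhat Cfsg.Agent.Nodes.OppDec Cfsg.Agent.Nodes.LeviDec Cfsg.Agent.Nodes.NormalForm
  Cfsg.Agent.KFacts.RgdOpp Cfsg.Agent.KFacts.RgdAut Cfsg.Agent.KFacts.RgdDiag Cfsg.Agent.KFacts.RgdRigid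
  Cfsg.Agent.KFacts.RgdField Cfsg.Agent.KFacts.RgdTau Cfsg.Agent.KFacts.RgdNodes Cfsg.Agent.OddHalf.D4.TwWt
  Cfsg.Agent.OddHalf.D4.TwLin Cfsg.Agent.OddHalf.D4.Free
open scoped commutatorElement

variable {I W Y : Type*} [Fintype I] [DecidableEq I] [Group W] [Group Y] {M : CoxeterMatrix I}
  {cs : CoxeterSystem M W} {A : I → I → ℤ} {h : IsCartan M A} {T : Subgroup Y} {n : I → Y}
  {X : (I → ℤ) → Subgroup Y} {L : Type*} [Field L] {k : Subfield L} {Kf : I → Subfield L}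
  {x : ∀ i, Kf i → Y} {χ : ∀ i, Y → Kf i} {wt : (I → ℤ) → ℕ} {ρ : I → ℤ}

/-! ### The subgroups `z(N)` -/

section Z

variable {i : I} (C : Coord T (X (sr i)) (x i) (χ i)) (g : Y)

/-- `g x_i(a) g⁻¹`, a homomorphism -/
def zhom : Multiplicative (Kf i) →* Y :=
  MonoidHom.mk' (fun a => g * x i (Multiplicative.toAdd a) * g⁻¹) (by
    intro a b
    rw [toAdd_mul, C.add]
    group)

/-- `z(N)` -/
def zS (N : AddSubgroup (Kf i)) : Subgroup Y := (AddSubgroup.toSubgroup N).map (zhom C g)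

theorem mem_zS {N : AddSubgroup (Kf i)} {y : Y} : y ∈ zS C g N ↔ ∃ a ∈ N, g * x i a * g⁻¹ = y := by
  constructor
  · rintro ⟨a, ha, rfl⟩
    exact ⟨Multiplicative.toAdd a, ha, rfl⟩
  · rintro ⟨a, ha, rfl⟩
    exact ⟨Multiplicative.ofAdd a, ha, rfl⟩

theorem zS_mono {N N' : AddSubgroup (Kf i)} (h : N ≤ N') : zS C g N ≤ zS C g N' := by
  intro y hy
  obtain ⟨a, ha, rfl⟩ := (mem_zS C g).1 hy
  exact (mem_zS C g).2 ⟨a, h ha, rfl⟩

theorem zS_sup {N N' : AddSubgroup (Kf i)} : zS C g (N ⊔ N') ≤ zS C g N' ⊔ zS C g N := by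
  intro y hy
  obtain ⟨a, ha, rfl⟩ := (mem_zS C g).1 hy
  obtain ⟨b, hb, c, hc, rfl⟩ := AddSubgroup.mem_sup.1 ha
  have e : g * x i (b + c) * g⁻¹ = (g * x i b * g⁻¹) * (g * x i c * g⁻¹) := by rw [C.add]; group
  rw [e]
  exact mul_mem (mem_sup_right ((mem_zS C g).2 ⟨b, hb, rfl⟩)) (mem_sup_left ((mem_zS C g).2 ⟨c, hc, rfl⟩))

theorem zS_bot : zS C g ⊥ = ⊥ := by
  rw [eq_bot_iff]
  intro y hy
  obtain ⟨a, ha, rfl⟩ := (mem_zS C g).1 hy
  rw [AddSubgroup.mem_bot] at ha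
  rw [ha, C.zero, mem_bot]
  group

include C

theorem z_inj {a b : Kf i} (h : g * x i a * g⁻¹ = g * x i b * g⁻¹) : a = b :=
  C.inj (mul_left_cancel (mul_right_cancel h))

theorem z_sub (a b : Kf i) : (g * x i a * g⁻¹) * (g * x i b * g⁻¹)⁻¹ = g * x i (a - b) * g⁻¹ := by
  have h1 : x i (a - b) * x i b = x i a := by rw [← C.add, sub_add_cancel]
  rw [← h1]
  group

theorem z_sub' (a b : Kf i) : (g * x i a * g⁻¹)⁻¹ * (g * x i b * g⁻¹) = g * x i (b - a) * g⁻¹ := by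
  have h1 : x i a * x i (b - a) = x i b := by rw [← C.add, add_sub_cancel]
  rw [← h1]
  group

end Z

/-- the `k`-line of `b` -/
def kl (k : Subfield L) {K : Subfield L} (b : K) : AddSubgroup K where
  carrier := {a | ∃ t : K, (t : L) ∈ k ∧ t * b = a}
  add_mem' := by
    rintro _ _ ⟨t, ht, rfl⟩ ⟨s, hs, rfl⟩
    exact ⟨t + s, k.add_mem ht hs, add_mul _ _ _⟩
  zero_mem' := ⟨0, k.zero_mem, zero_mul _⟩
  neg_mem' := by
    rintro _ ⟨t, ht, rfl⟩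
    exact ⟨-t, k.neg_mem ht, neg_mul _ _⟩

theorem mem_kl {K : Subfield L} {a b : K} : a ∈ kl k b ↔ ∃ t : K, (t : L) ∈ k ∧ t * b = a := Iff.rfl

/-- the root `r` with its coordinates -/
structure Root (R : RGD cs h 2 T n X) (r : I → ℤ) (i : I) (w : W) (g : Y) : Prop where
  rp : Rp cs R.nsys w g
  eq : rep cs h w (sr i) = r
  pos : r ∈ RGD.Pos cs h

section

variable {R : RGD cs h 2 T n X}

theorem exists_root {r : I → ℤ} (hr : r ∈ RGD.Pos cs h) : ∃ i w g, Root R r i w g := by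
  obtain ⟨w, i, e⟩ := id hr.1
  obtain ⟨g, hg⟩ := exists_rp cs R.nsys w
  exact ⟨i, w, g, hg, e.symm, hr⟩

variable (Λ : Lin R k Kf x χ wt ρ)

include Λ

theorem zS_top {r : I → ℤ} {i : I} {w : W} {g : Y} (Q : Root R r i w g) : zS (Λ.coord i) g ⊤ = X r := by
  ext y
  rw [mem_zS]
  have h1 := isRoot_sr cs h i
  constructor
  · rintro ⟨a, -, rfl⟩
    have h2 := R.conj_mem Q.rp h1 (((Λ.coord i).mem _).2 ⟨a, rfl⟩)
    rwa [Q.eq] at h2
  · intro hy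
    rw [← Q.eq, ← R.conj_rp Q.rp h1] at hy
    have e : g * (g⁻¹ * y * g) * g⁻¹ = y := by group
    rw [← e, conj_mem_cj] at hy
    obtain ⟨a, ha⟩ := ((Λ.coord i).mem _).1 hy
    exact ⟨a, AddSubgroup.mem_top _, by rw [ha]; group⟩

theorem z_mem {r : I → ℤ} {i : I} {w : W} {g : Y} (Q : Root R r i w g) (a : Kf i) : g * x i a * g⁻¹ ∈ X r := by
  rw [← zS_top Λ Q]
  exact (mem_zS _ _).2 ⟨a, AddSubgroup.mem_top _, rfl⟩

/-- the action of a frame automorphism trivial on `k` on the coordinates -/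
theorem exists_m [Finite W] {β : MulAut Y} {τ : L ≃+* L} (S : LTau T X χ β τ) (hτ : ∀ a ∈ k, τ a = a)
    {r : I → ℤ} {i : I} {w : W} {g : Y} (Q : Root R r i w g) :
    ∃ m : Kf i → Kf i, (∀ a, β (g * x i a * g⁻¹) = g * x i (m a) * g⁻¹) ∧ (∀ a b, m (a + b) = m a + m b) ∧
      ∀ t a : Kf i, (t : L) ∈ k → m (t * a) = t * m a := by
  obtain ⟨τ', c, hc, h1, h2⟩ := LTau.root Λ S i Q.rp
  refine ⟨fun a => c * τ' a, h2, fun a b => by
    show c * τ' (a + b) = c * τ' a + c * τ' b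
    rw [map_add, mul_add], fun t a ht => ?_⟩
  have h3 : τ' t = t := Subtype.ext (by rw [h1, hτ _ ht])
  show c * τ' (t * a) = t * (c * τ' a)
  rw [map_mul, h3]
  ring

end

section

variable {R : RGD cs h 2 T n X} {Ω : Set (I → ℤ)}

theorem X_norm (Ws : Wts cs h X wt) (hΩ : Up cs h wt Ω) {r : I → ℤ} (hr : r ∈ RGD.Pos cs h) (hrΩ : r ∉ Ω)
    (hmax : ∀ s ∈ RGD.Pos cs h, s ∉ Ω → wt s ≤ wt r) {u y : Y} (hu : u ∈ RGD.Sup X (RGD.Pos cs h))
    (hy : y ∈ X r ⊔ RGD.Sup X Ω) : u * y * u⁻¹ * y⁻¹ ∈ RGD.Sup X Ω := by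
  have h1 := hΩ.between (X := X) hr hrΩ hmax
  exact h1.1 (VV_comm Ws _ hu (sup_le (X_le_VV hr le_rfl) h1.2 hy))

variable (Λ : Lin R k Kf x χ wt ρ)

include Λ

theorem mem_of_z_mem [Finite W] (hΩ : Up cs h wt Ω) {r : I → ℤ} {i : I} {w : W} {g : Y} (Q : Root R r i w g)
    (hrΩ : r ∉ Ω) (hmax : ∀ s ∈ RGD.Pos cs h, s ∉ Ω → wt s ≤ wt r) {N : AddSubgroup (Kf i)} {a : Kf i}
    (ha : g * x i a * g⁻¹ ∈ zS (Λ.coord i) g N ⊔ RGD.Sup X Ω) : a ∈ N := by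
  have C := Λ.coord i
  have hU : ∀ y ∈ X r, y ∈ RGD.Sup X (RGD.Pos cs h) := fun y hy => RGD.le_Sup Q.pos hy
  have hn : zS C g N ≤ normalizer (RGD.Sup X Ω : Set Y) := by
    have hle : ∀ y ∈ zS C g N, ∀ d ∈ RGD.Sup X Ω, y * d * y⁻¹ ∈ RGD.Sup X Ω := by
      intro y hy d hd
      obtain ⟨a, -, rfl⟩ := (mem_zS _ _).1 hy
      have h2 := X_norm Λ.wts hΩ Q.pos hrΩ hmax (hU _ (z_mem Λ Q a)) (mem_sup_right hd : d ∈ X r ⊔ RGD.Sup X Ω)
      have h3 := mul_mem h2 hd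
      rwa [inv_mul_cancel_right] at h3
    intro y hy
    rw [mem_normalizer_iff]
    intro d
    refine ⟨hle y hy d, fun hd => ?_⟩
    have h2 := hle _ (inv_mem hy) _ hd
    have e : y⁻¹ * (y * d * y⁻¹) * y⁻¹⁻¹ = d := by group
    rwa [e] at h2
  have h1 : g * x i a * g⁻¹ ∈ ((zS C g N ⊔ RGD.Sup X Ω : Subgroup Y) : Set Y) := ha
  rw [coe_mul_of_left_le_normalizer_right _ _ hn] at h1
  obtain ⟨y, hy, d, hd, e⟩ := h1
  obtain ⟨a', ha', rfl⟩ := (mem_zS _ _).1 hy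
  have e2 : d = (g * x i a' * g⁻¹)⁻¹ * (g * x i a * g⁻¹) := by
    rw [← e]
    show d = (g * x i a' * g⁻¹)⁻¹ * ((g * x i a' * g⁻¹) * d)
    rw [inv_mul_cancel_left]
  have h2 : d ∈ X r := by
    rw [e2]
    exact mul_mem (inv_mem (z_mem Λ Q _)) (z_mem Λ Q _)
  have h3 : d ∈ X r ⊓ RGD.Sup X Ω := ⟨h2, hd⟩
  rw [inf_eq R Λ.wts hΩ Q.pos hrΩ, mem_bot] at h3
  rw [h3] at e2
  have e3 : g * x i a' * g⁻¹ = g * x i a * g⁻¹ := inv_mul_eq_one.1 e2.symm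
  rw [← z_inj C g e3]
  exact ha'

/-- the group acting -/
structure Ctx (k : Subfield L) (χ : ∀ i, Y → Kf i) (h : IsCartan M A) (T : Subgroup Y) (X : (I → ℤ) → Subgroup Y)
    (cs : CoxeterSystem M W) (T₀ : Sylow 2 Y) (B : Subgroup (MulAut Y)) (β₀ : MulAut Y) : Prop where
  syl : (T₀ : Subgroup Y) = RGD.Sup X (RGD.Pos cs h)
  lt : ∃ τ₀ : L ≃+* L, LTau T X χ β₀ τ₀ ∧ ∀ a ∈ k, τ₀ a = a
  sq : β₀ * β₀ = 1
  dec : ∀ e ∈ B, FixZ T₀ e → ∃ u ∈ RGD.Sup X (RGD.Pos cs h), e = MulAut.conj u ∨ e = MulAut.conj u * β₀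

variable {T₀ : Sylow 2 Y} {B : Subgroup (MulAut Y)} {β₀ : MulAut Y}

/-- **The line of one root.** -/
theorem lineA [Finite W] [CharP L 2] (Cx : Ctx k χ h T X cs T₀ B β₀) (hk : ∃ s ∈ k, s ≠ 0 ∧ s ≠ 1)
    (hΩ : Up cs h wt Ω) {r : I → ℤ} {i : I} {w : W} {g : Y} (Q : Root R r i w g)
    (hrΩ : r ∉ Ω) (hmax : ∀ s ∈ RGD.Pos cs h, s ∉ Ω → wt s ≤ wt r) {N : AddSubgroup (Kf i)}
    (hN : ∀ t : Kf i, (t : L) ∈ k → ∀ a ∈ N, t * a ∈ N) {m : Kf i → Kf i}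
    (hm : ∀ a, β₀ (g * x i a * g⁻¹) = g * x i (m a) * g⁻¹) (hmk : ∀ t a : Kf i, (t : L) ∈ k → m (t * a) = t * m a)
    {b : Kf i} (hb : b ∉ N) (hmb : m b - b ∈ N) :
    TwGood.LineA T₀ B (zS (Λ.coord i) g N ⊔ RGD.Sup X Ω) (zS (Λ.coord i) g (kl k b)) := by
  have C := Λ.coord i
  -- elements of the line outside `N`
  have hout : ∀ t : Kf i, (t : L) ∈ k → t ≠ 0 → t * b ∉ N := by
    intro t ht ht0 h1
    have h2 := hN t⁻¹ (by
      show ((t⁻¹ : Kf i) : L) ∈ k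
      rw [Subfield.coe_inv]
      exact k.inv_mem ht) _ h1
    rw [inv_mul_cancel_left₀ ht0] at h2
    exact hb h2
  have hadd : ∀ a : Kf i, a + a = 0 := fun a => CharTwo.add_self_eq_zero a
  -- the elements of `B` fixing `Z(U)`
  have hB : ∀ e ∈ B, FixZ T₀ e → ∃ u ∈ RGD.Sup X (RGD.Pos cs h), ∃ (β : MulAut Y) (m' : Kf i → Kf i),
      e = MulAut.conj u * β ∧ (∀ a, β (g * x i a * g⁻¹) = g * x i (m' a) * g⁻¹) ∧
      (∀ t a : Kf i, (t : L) ∈ k → m' (t * a) = t * m' a) ∧ m' b - b ∈ N := by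
    intro e he hf
    obtain ⟨u, hu, h1 | h1⟩ := Cx.dec e he hf
    · exact ⟨u, hu, 1, id, by rw [mul_one, h1], fun a => rfl, fun t a _ => rfl, by
        rw [id, sub_self]; exact N.zero_mem⟩
    · exact ⟨u, hu, β₀, m, h1, hm, hmk, hmb⟩
  -- commutators
  have hcom : ∀ u ∈ RGD.Sup X (RGD.Pos cs h), ∀ a : Kf i,
      u * (g * x i a * g⁻¹) * u⁻¹ * (g * x i a * g⁻¹)⁻¹ ∈ RGD.Sup X Ω := fun u hu a =>
    X_norm Λ.wts hΩ Q.pos hrΩ hmax hu (mem_sup_left (z_mem Λ Q a))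
  constructor
  · -- squares
    intro y hy
    obtain ⟨a, -, rfl⟩ := (mem_zS _ _).1 hy
    have e : (g * x i a * g⁻¹) * (g * x i a * g⁻¹) = g * x i (a + a) * g⁻¹ := by rw [C.add]; group
    rw [e, hadd, C.zero]
    have e2 : g * 1 * g⁻¹ = 1 := by group
    rw [e2]
    exact one_mem _
  · -- three cosets
    obtain ⟨s, hs, hs0, hs1⟩ := hk
    have hs' : s ∈ Kf i := Λ.le i hs
    refine ⟨g * x i b * g⁻¹, (mem_zS _ _).2 ⟨b, ⟨1, by rw [OneMemClass.coe_one]; exact k.one_mem, one_mul _⟩, rfl⟩,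
      g * x i (⟨s, hs'⟩ * b) * g⁻¹, (mem_zS _ _).2 ⟨_, ⟨⟨s, hs'⟩, hs, rfl⟩, rfl⟩, ?_, ?_, ?_⟩
    · exact fun h1 => hb (mem_of_z_mem Λ hΩ Q hrΩ hmax h1)
    · exact fun h1 => hout ⟨s, hs'⟩ hs (fun h2 => hs0 (congrArg Subtype.val h2))
        (mem_of_z_mem Λ hΩ Q hrΩ hmax h1)
    · intro h1
      rw [z_sub' C] at h1
      have h2 := mem_of_z_mem Λ hΩ Q hrΩ hmax h1
      have e : (⟨s, hs'⟩ : Kf i) * b - b = (⟨s, hs'⟩ - 1) * b := by ring
      rw [e] at h2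
      refine hout (⟨s, hs'⟩ - 1) ?_ ?_ h2
      · show s - ((1 : Kf i) : L) ∈ k
        rw [OneMemClass.coe_one]
        exact k.sub_mem hs k.one_mem
      · intro h3
        exact hs1 (congrArg Subtype.val (sub_eq_zero.1 h3))
  · -- star
    intro e he hf _ y hy hyD hey y' hy'
    obtain ⟨u, hu, β, m', rfl, h1, h2, h3⟩ := hB e he hf
    obtain ⟨_, ⟨t, ht, rfl⟩, rfl⟩ := (mem_zS _ _).1 hy
    obtain ⟨_, ⟨t', ht', rfl⟩, rfl⟩ := (mem_zS _ _).1 hy'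
    have h4 : u * (g * x i (m' (t * b)) * g⁻¹) * u⁻¹ = g * x i (t * b) * g⁻¹ := by
      have := hey
      rw [MulAut.mul_apply, h1, MulAut.conj_apply] at this
      exact this
    have h5 := hcom u hu (m' (t * b))
    rw [h4, z_sub C] at h5
    have h6 : g * x i (t * b - m' (t * b)) * g⁻¹ ∈ zS C g ⊥ ⊔ RGD.Sup X Ω := mem_sup_right h5
    have h7 := mem_of_z_mem Λ hΩ Q hrΩ hmax h6
    rw [AddSubgroup.mem_bot, sub_eq_zero] at h7
    have ht0 : t ≠ 0 := by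
      rintro rfl
      apply hyD
      rw [zero_mul]
      exact mem_sup_left ((mem_zS _ _).2 ⟨0, N.zero_mem, rfl⟩)
    have h8 : m' b = b := by
      rw [h2 _ _ ht] at h7
      exact (mul_left_cancel₀ ht0 h7).symm
    have hb0 : b ≠ 0 := by
      rintro rfl
      exact hb N.zero_mem
    have h9 : u * (g * x i (t * b) * g⁻¹) = g * x i (t * b) * g⁻¹ * u := by
      rw [← h7] at h4
      exact mul_inv_eq_iff_eq_mul.1 h4
    have hpos : rep cs h w (sr i) ∈ RGD.Pos cs h := by rw [Q.eq]; exact Q.pos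
    have h10 := Λ.star w i g Q.rp hpos (t * b) (mul_ne_zero ht0 hb0) u hu h9 (t' * t⁻¹) (by
      show ((t' * t⁻¹ : Kf i) : L) ∈ k
      rw [MulMemClass.coe_mul, Subfield.coe_inv]
      exact k.mul_mem ht' (k.inv_mem ht))
    have e3 : t' * t⁻¹ * (t * b) = t' * b := by field_simp
    rw [e3] at h10
    rw [MulAut.mul_apply, h1, MulAut.conj_apply, h2 _ _ ht', h8, h10, mul_inv_cancel_right]
  · -- fixed modulo `D`
    intro y hy e he hf
    obtain ⟨u, hu, β, m', rfl, h1, h2, h3⟩ := hB e he hf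
    obtain ⟨_, ⟨t, ht, rfl⟩, rfl⟩ := (mem_zS _ _).1 hy
    rw [MulAut.mul_apply, h1, MulAut.conj_apply]
    have h5 := hcom u hu (m' (t * b))
    have h6 : g * x i (m' (t * b) - t * b) * g⁻¹ ∈ zS C g N := by
      rw [h2 _ _ ht, ← mul_sub]
      exact (mem_zS _ _).2 ⟨_, hN t ht _ h3, rfl⟩
    rw [← z_sub C] at h6
    have h7 := mul_mem (mem_sup_right h5 : _ ∈ zS C g N ⊔ RGD.Sup X Ω) (mem_sup_left h6)
    have e4 : u * (g * x i (m' (t * b)) * g⁻¹) * u⁻¹ * (g * x i (m' (t * b)) * g⁻¹)⁻¹ *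
        ((g * x i (m' (t * b)) * g⁻¹) * (g * x i (t * b) * g⁻¹)⁻¹) =
        u * (g * x i (m' (t * b)) * g⁻¹) * u⁻¹ * (g * x i (t * b) * g⁻¹)⁻¹ := by
      rw [mul_assoc (u * (g * x i (m' (t * b)) * g⁻¹) * u⁻¹), inv_mul_cancel_left]
    rwa [e4] at h7

/-- **One root.** -/
theorem good_root [Finite W] [CharP L 2] [Finite L] (Cx : Ctx k χ h T X cs T₀ B β₀) (hk : ∃ s ∈ k, s ≠ 0 ∧ s ≠ 1)
    (hΩ : Up cs h wt Ω) {r : I → ℤ} (hr : r ∈ RGD.Pos cs h)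
    (hrΩ : r ∉ Ω) (hmax : ∀ s ∈ RGD.Pos cs h, s ∉ Ω → wt s ≤ wt r)
    (h0 : TwGood.Good T₀ B (RGD.Sup X Ω)) : TwGood.Good T₀ B (RGD.Sup X (Insert.insert r Ω)) := by
  obtain ⟨i, w, g, Q⟩ := exists_root (R := R) hr
  have C := Λ.coord i
  obtain ⟨τ₀, hτ, hτk⟩ := Cx.lt
  obtain ⟨m, hm, hma, hmk⟩ := exists_m Λ hτ hτk Q
  have hmm : ∀ a, m (m a) = a := by
    intro a
    apply z_inj C g
    rw [← hm, ← hm, ← MulAut.mul_apply, Cx.sq, MulAut.one_apply]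
  have hadd : ∀ a : Kf i, a + a = 0 := fun a => CharTwo.add_self_eq_zero a
  have key : ∀ j : ℕ, ∃ N : AddSubgroup (Kf i), (∀ t : Kf i, (t : L) ∈ k → ∀ a ∈ N, t * a ∈ N) ∧
      (∀ a ∈ N, m a ∈ N) ∧ TwGood.Good T₀ B (zS (Λ.coord i) g N ⊔ RGD.Sup X Ω) ∧ (N = ⊤ ∨ j ≤ Nat.card N) := by
    intro j
    induction j with
    | zero =>
      have hm0 : m 0 = 0 := by
        have := hma 0 0
        rw [add_zero, hadd] at this
        exact this
      refine ⟨⊥, fun t _ a ha => ?_, fun a ha => ?_, ?_, Or.inr (Nat.zero_le _)⟩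
      · rw [AddSubgroup.mem_bot] at ha ⊢
        rw [ha, mul_zero]
      · rw [AddSubgroup.mem_bot] at ha ⊢
        rw [ha, hm0]
      · rw [zS_bot, bot_sup_eq]
        exact h0
    | succ j ih =>
      obtain ⟨N, hN, hNm, hG, h1⟩ := ih
      by_cases hT : N = ⊤
      · exact ⟨N, hN, hNm, hG, Or.inl hT⟩
      obtain ⟨b, hb, hmb⟩ : ∃ b, b ∉ N ∧ m b - b ∈ N := by
        by_cases hall : ∀ v, m v - v ∈ N
        · obtain ⟨b, hb⟩ : ∃ b, b ∉ N := by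
            by_contra hcon
            push Not at hcon
            exact hT (top_le_iff.1 fun b _ => hcon b)
          exact ⟨b, hb, hall b⟩
        · push Not at hall
          obtain ⟨v, hv⟩ := hall
          refine ⟨m v - v, hv, ?_⟩
          have e : m (m v - v) - (m v - v) = 0 := by
            rw [CharTwo.sub_eq_add, CharTwo.sub_eq_add, hma, hmm, add_comm v (m v), hadd]
          rw [e]
          exact N.zero_mem
      have hbN : b ∈ N ⊔ kl k b := AddSubgroup.mem_sup_right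
        (⟨1, by rw [OneMemClass.coe_one]; exact k.one_mem, one_mul _⟩ : b ∈ kl k b)
      refine ⟨N ⊔ kl k b, fun t ht a ha => ?_, fun a ha => ?_, ?_, Or.inr ?_⟩
      · obtain ⟨y, hy, _, ⟨s, hs, rfl⟩, rfl⟩ := AddSubgroup.mem_sup.1 ha
        rw [mul_add]
        refine add_mem (AddSubgroup.mem_sup_left (hN t ht y hy)) (AddSubgroup.mem_sup_right ⟨t * s, ?_, ?_⟩)
        · rw [MulMemClass.coe_mul]; exact k.mul_mem ht hs
        · rw [mul_assoc]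
      · obtain ⟨y, hy, _, ⟨s, hs, rfl⟩, rfl⟩ := AddSubgroup.mem_sup.1 ha
        rw [hma, hmk _ _ hs]
        refine add_mem (AddSubgroup.mem_sup_left (hNm y hy)) ?_
        have e : s * m b = s * (m b - b) + s * b := by ring
        rw [e]
        exact add_mem (AddSubgroup.mem_sup_left (hN s hs _ hmb)) (AddSubgroup.mem_sup_right ⟨s, hs, rfl⟩)
      · refine TwGood.Good.step _ _ _ hG ?_ ?_ ?_ (lineA Λ Cx hk hΩ Q hrΩ hmax hN hm hmk hb hmb)
        · exact sup_le (le_sup_of_le_left (zS_mono _ _ le_sup_left)) le_sup_right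
        · refine sup_le ((zS_sup _ _).trans (sup_le le_sup_left ?_)) ?_
          · exact le_sup_of_le_right le_sup_left
          · exact le_sup_of_le_right le_sup_right
        · exact le_sup_of_le_left (zS_mono _ _ le_sup_right)
      · have h2 := h1.resolve_left hT
        have h3 : N < N ⊔ kl k b := lt_of_le_of_ne le_sup_left fun h4 => hb (by rw [h4]; exact hbN)
        have h4 : Nat.card N < Nat.card ↥(N ⊔ kl k b) := by
          by_contra h5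
          push Not at h5
          exact h3.ne (AddSubgroup.eq_of_le_of_card_ge h3.le h5)
        omega
  obtain ⟨N, -, -, hG, h1⟩ := key (Nat.card (Kf i) + 1)
  have hN : N = ⊤ := by
    rcases h1 with h1 | h1
    · exact h1
    · exfalso
      have := AddSubgroup.card_le_card_addGroup N
      omega
  rw [hN, zS_top Λ Q] at hG
  have e : RGD.Sup X (Insert.insert r Ω) = X r ⊔ RGD.Sup X Ω := by
    apply le_antisymm
    · refine RGD.Sup_le ?_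
      rintro s (rfl | hs)
      · exact le_sup_left
      · exact le_sup_of_le_right (RGD.le_Sup hs)
    · exact sup_le (RGD.le_Sup (Set.mem_insert _ _)) (RGD.Sup_mono (Set.subset_insert _ _))
  rw [e]
  exact hG

/-- **The filtration.** -/
theorem Ctx.flt [Finite W] [CharP L 2] [Finite L] (Cx : Ctx k χ h T X cs T₀ B β₀) (hk : ∃ s ∈ k, s ≠ 0 ∧ s ≠ 1) :
    ∃ U Ls, FltA T₀ B U Ls := by
  apply TwGood.Good.exists_flt
  rw [Cx.syl]
  refine Up.induction (wt := wt) (Q := fun Ω => TwGood.Good T₀ B (RGD.Sup X Ω)) ?_ ?_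
  · have e : RGD.Sup X ∅ = ⊥ := by
      rw [eq_bot_iff]
      exact RGD.Sup_le fun z hz => absurd hz (Set.notMem_empty z)
    rw [e]
    exact TwGood.Good.bot
  · intro Ω hΩ hQ r hr hrΩ hmax
    exact good_root Λ Cx hk hΩ hr hrΩ hmax hQ

end

end Cfsg.Agent.OddHalf.D4.TwFlt
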