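import Mathlib
import Cfsg.Agent.OddHalf.D4.TwFlt
import Cfsg.Agent.OddHalf.D4.Free.KTwo

/-!
# ODD, D4, (1B): `AFacts` for linear root group data (helper917)

* `field_aut` : (k2) of `AFacts` for every finite group with trivial centre;
* `Lin.afacts` : `Lin`, `4 ≤ |k|`, `Gal(L/k)` has no element of order 4, (k5) ⟹ `AFacts U`;
* `Lin.outA` : (k5)(c2) if all involutions of `Aut L` are trivial on `k`;
* `Lin.bfacts` : `BFacts K` for `K ≅ Y`.
-/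

set_option autoImplicit false
set_option linter.unusedSectionVars false

namespace Cfsg.Agent.OddHalf.D4.TwAFacts

open Subgroup CoxeterSystem Cfsg.Agent.ChevalleyStructure.CoxeterGeom Cfsg.Agent.Tits.Roots Cfsg.Agent.Tits.Core
  Cfsg.Agent.Tits.Exchange Cfsg.Agent.Nodes.Reps Cfsg.Agent.Nodes.BNOf Cfsg.Agent.Nodes.StabComb
  Cfsg.Agent.Nodes.Bruhat Cfsg.Agent.Nodes.OppDec Cfsg.Agent.Nodes.LeviDec Cfsg.Agent.Nodes.NormalForm
  Cfsg.Agent.KFacts.RgdOpp Cfsg.Agent.KFacts.RgdAut Cfsg.Agent.KFacts.RgdDiag Cfsg.Agent.KFacts.RgdRigid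
  Cfsg.Agent.KFacts.RgdField Cfsg.Agent.KFacts.RgdTau Cfsg.Agent.KFacts.RgdNodes Cfsg.Agent.OddHalf.D4.TwWt
  Cfsg.Agent.OddHalf.D4.TwLin Cfsg.Agent.OddHalf.D4.TwFlt Cfsg.Agent.OddHalf.D4.Free
  Cfsg.Agent.OddHalf.D4.Basic
open scoped commutatorElement

/-! ### (k2) -/

section Field

variable {X : Type*} [Group X]

theorem conj_inj (hc : center X = ⊥) : Function.Injective (MulAut.conj : X →* MulAut X) := by
  rw [injective_iff_map_eq_one]
  intro x hx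
  have h1 : x ∈ center X := by
    rw [mem_center_iff]
    intro y
    have h2 : x * y * x⁻¹ = y := congrArg (fun f : MulAut X => f y) hx
    exact (mul_inv_eq_iff_eq_mul.1 h2).symm
  rwa [hc, mem_bot] at h1

theorem aut_conj (a : MulAut X) (x : X) : a * MulAut.conj x * a⁻¹ = MulAut.conj (a x) := by
  ext y
  simp only [MulAut.mul_apply, MulAut.conj_apply, map_mul, map_inv, MulAut.apply_inv_self]

theorem comm_iff (hc : center X = ⊥) (a : MulAut X) (x : X) :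
    MulAut.conj x * a = a * MulAut.conj x ↔ a x = x := by
  rw [← (conj_inj hc).eq_iff, ← aut_conj, mul_inv_eq_iff_eq_mul]
  exact eq_comm

variable [Finite X]

theorem good_conj (hc : center X = ⊥) (T : Sylow 2 X) {A : Subgroup (MulAut X)} (hA : GoodA T A) :
    Good (MulAut.conj : X →* MulAut X).range A ∧
      A ⊓ (MulAut.conj : X →* MulAut X).range = (T : Subgroup X).map MulAut.conj := by
  have hinf : A ⊓ (MulAut.conj : X →* MulAut X).range = (T : Subgroup X).map MulAut.conj := by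
    ext a
    constructor
    · rintro ⟨h1, ⟨x, rfl⟩⟩
      have h2 : x ∈ normalizer ((T : Subgroup X) : Set X) := by
        rw [mem_normalizer_iff]
        intro y
        constructor
        · exact fun hy => hA.norm _ h1 y hy
        · intro hy
          have h3 := hA.norm _ (inv_mem h1) _ hy
          rw [← map_inv, MulAut.conj_apply] at h3
          have e : x⁻¹ * (x * y * x⁻¹) * x⁻¹⁻¹ = y := by group
          rwa [e] at h3
      obtain ⟨m, hm⟩ := hA.two ⟨_, h1⟩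
      have h3 : x ^ 2 ^ m = 1 := by
        apply conj_inj hc
        rw [map_pow, map_one]
        exact congrArg Subtype.val hm
      exact ⟨x, mem_of_norm (M := ⊤) ⟨T.2, le_top, fun Q hQ hle _ => (T.3 hQ hle).le⟩ (mem_top x) h2 h3, rfl⟩
    · rintro ⟨t, ht, rfl⟩
      exact ⟨hA.inn t ht, ⟨t, rfl⟩⟩
  refine ⟨⟨hA.two, ?_, ?_⟩, hinf⟩
  · intro a _
    rw [mem_normalizer_iff]
    intro b
    constructor
    · rintro ⟨x, rfl⟩
      exact ⟨a x, (aut_conj a x).symm⟩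
    · rintro ⟨x, hx⟩
      refine ⟨a⁻¹ x, ?_⟩
      rw [← aut_conj, hx]
      group
  · rw [hinf]
    refine ⟨T.2.map _, ?_, ?_⟩
    · rintro _ ⟨t, _, rfl⟩
      exact ⟨t, rfl⟩
    · intro Q hQ hle hQK
      have h1 : Q.comap MulAut.conj = (T : Subgroup X) := by
        refine T.3 (hQ.comap_of_injective _ (conj_inj hc)) ?_
        intro t ht
        exact hle ⟨t, ht, rfl⟩
      intro q hq
      obtain ⟨x, rfl⟩ := hQK hq
      exact ⟨x, by rw [← h1]; exact hq, rfl⟩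

/-- **(k2) of `AFacts`** -/
theorem field_aut (hc : center X = ⊥) (T : Sylow 2 X) {A : Subgroup (MulAut X)} (hA : GoodA T A) {e : MulAut X}
    (he : e ∈ A) (g : X) (hg : ∀ z, InZ T z → e (g * z * g⁻¹) = g * z * g⁻¹) : FixZ T e := by
  obtain ⟨h1, hinf⟩ := good_conj hc T hA
  have : Finite (MulAut X) := inferInstance
  -- `Z(T)`
  have hz : ∀ z, z ∈ zc (MulAut.conj : X →* MulAut X).range A ↔ ∃ x, InZ T x ∧ MulAut.conj x = z := by
    intro z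
    rw [mem_zc, ← mem_inf, hinf]
    constructor
    · rintro ⟨⟨x, hx, rfl⟩, h2⟩
      refine ⟨x, ⟨hx, fun t ht => ?_⟩, rfl⟩
      apply conj_inj hc
      rw [map_mul, map_mul]
      exact h2 _ ⟨t, ht, rfl⟩
    · rintro ⟨x, ⟨hx, h2⟩, rfl⟩
      refine ⟨⟨x, hx, rfl⟩, ?_⟩
      rintro _ ⟨t, ht, rfl⟩
      rw [← map_mul, ← map_mul, h2 t ht]
  have hcjK : CommConj.cj (MulAut.conj g) (MulAut.conj : X →* MulAut X).range =
      (MulAut.conj : X →* MulAut X).range :=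
    CommConj.cj_eq_of_mem_normalizer (le_normalizer ⟨g, rfl⟩)
  have h2 := h1.cj (MulAut.conj g)
  rw [hcjK] at h2
  have h3 : e ∈ cz (MulAut.conj : X →* MulAut X).range (CommConj.cj (MulAut.conj g) A) := by
    rw [mem_cz]
    intro z hz'
    rw [← hcjK, zc_cj, CommConj.mem_cj] at hz'
    obtain ⟨x, hx, ex⟩ := (hz _).1 hz'
    have e1 : z = MulAut.conj (g * x * g⁻¹) := by
      rw [map_mul, map_mul, map_inv, ex]
      group
    rw [e1]
    exact (comm_iff hc e _).2 (hg x hx)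
  have h4 := field_free h2 h1 he h3
  intro z hz'
  rw [mem_cz] at h4
  exact (comm_iff hc e z).1 (h4 _ ((hz _).2 ⟨z, hz', rfl⟩))

end Field

/-! ### Frame automorphisms -/

variable {I W Y : Type*} [Fintype I] [DecidableEq I] [Group W] [Group Y] {M : CoxeterMatrix I}
  {cs : CoxeterSystem M W} {A : I → I → ℤ} {h : IsCartan M A} {T : Subgroup Y} {n : I → Y}
  {X : (I → ℤ) → Subgroup Y} {L : Type*} [Field L] {k : Subfield L} {Kf : I → Subfield L}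
  {x : ∀ i, Kf i → Y} {χ : ∀ i, Y → Kf i} {wt : (I → ℤ) → ℕ} {ρ : I → ℤ}
  {R : RGD cs h 2 T n X}

theorem eq_one_of_pow [CharP L 2] {K : Subfield L} {c : K} {m : ℕ} (h : c ^ 2 ^ m = 1) : c = 1 := by
  have : Fact (Nat.Prime 2) := ⟨Nat.prime_two⟩
  have : ExpChar K 2 := ExpChar.prime Nat.prime_two
  have h5 : (c - 1) ^ 2 ^ m = 0 := by rw [sub_pow_expChar_pow, h, one_pow, sub_self]
  exact sub_eq_zero.1 ((pow_eq_zero_iff (pow_ne_zero _ two_ne_zero)).1 h5)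

section

variable (Λ : Lin R k Kf x χ wt ρ)

include Λ

/-- a 2-element acting with a trivial field automorphism of `K_i` fixes the root group pointwise -/
theorem root_fix [Finite W] [CharP L 2] {β : MulAut Y} {τ : L ≃+* L} (S : LTau T X χ β τ) {m : ℕ}
    (hm : β ^ 2 ^ m = 1) {i : I} {w : W} {g : Y} (hg : Rp cs R.nsys w g) (hτ : ∀ a ∈ Kf i, τ a = a) (a : Kf i) :
    β (g * x i a * g⁻¹) = g * x i a * g⁻¹ := by
  obtain ⟨τ', c, hc, h1, h2⟩ := LTau.root Λ S i hg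
  have h3 : ∀ a, τ' a = a := fun a => Subtype.ext (by rw [h1, hτ _ a.2])
  have h4 : ∀ j a, (β ^ j) (g * x i a * g⁻¹) = g * x i (c ^ j * a) * g⁻¹ := by
    intro j
    induction j with
    | zero => intro a; rw [pow_zero, pow_zero, one_mul]; rfl
    | succ j ih =>
      intro a
      rw [pow_succ, MulAut.mul_apply, h2, ih, h3, pow_succ, mul_assoc (c ^ j)]
  have h5 := h4 (2 ^ m) 1
  rw [hm, MulAut.one_apply, mul_one] at h5
  have h6 : c = 1 := eq_one_of_pow (m := m) (z_inj (Λ.coord i) g h5).symm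
  rw [h2, h6, h3, one_mul]

theorem LTau.eq_one [Finite W] [CharP L 2] {β : MulAut Y} (S : LTau T X χ β (1 : L ≃+* L)) {m : ℕ}
    (hm : β ^ 2 ^ m = 1) : β = 1 := by
  apply Diag.eq_one R Λ.gen S.diag
  intro i y hy
  obtain ⟨a, rfl⟩ := ((Λ.coord i).mem y).1 hy
  have h1 := root_fix Λ S hm (rp_of_mem (cs := cs) (hN := R.nsys) (one_mem T)) (fun _ _ => rfl) a
  rw [one_mul, inv_one, mul_one] at h1
  exact h1

theorem fix_rho_iff [Finite W] [CharP L 2] {β : MulAut Y} {τ : L ≃+* L} (S : LTau T X χ β τ) {m : ℕ}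
    (hm : β ^ 2 ^ m = 1) : (∀ z ∈ X ρ, β z = z) ↔ ∀ a ∈ k, τ a = a := by
  obtain ⟨w, i, e, hk⟩ := Λ.rho
  obtain ⟨g, hg⟩ := exists_rp cs R.nsys w
  have Q : Root R ρ i w g := ⟨hg, e, Λ.rho_pos⟩
  constructor
  · intro h1 a ha
    obtain ⟨τ', c, hc, h2, h3⟩ := LTau.root Λ S i hg
    have h4 : ∀ a, c * τ' a = a := fun a => z_inj (Λ.coord i) g (by rw [← h3, h1 _ (z_mem Λ Q a)])
    have h5 := h4 1
    rw [map_one, mul_one] at h5
    have h6 := h4 ⟨a, by rw [hk]; exact ha⟩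
    rw [h5, one_mul] at h6
    rw [← h2 ⟨a, by rw [hk]; exact ha⟩, h6]
  · intro h1 z hz
    rw [← zS_top Λ Q] at hz
    obtain ⟨a, -, rfl⟩ := (mem_zS _ _).1 hz
    exact root_fix Λ S hm hg (fun a ha => h1 a (by rwa [hk] at ha)) a

end

/-! ### The group `A` -/

/-- the frame projection of `B` with its field automorphism -/
structure Proj (k : Subfield L) (χ : ∀ i, Y → Kf i) (h : IsCartan M A) (T : Subgroup Y) (X : (I → ℤ) → Subgroup Y)
    (cs : CoxeterSystem M W) (T₀ : Sylow 2 Y) (B : Subgroup (MulAut Y)) (q : ↥B →* MulAut Y)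
    (φ : ↥B →* (L ≃+* L)) : Prop where
  lt : ∀ a, LTau T X χ (q a) (φ a)
  two : ∀ a, ∃ m : ℕ, (q a) ^ 2 ^ m = 1 ∧ (φ a) ^ 2 ^ m = 1
  eq : ∀ a : ↥B, ∃ u ∈ RGD.Sup X (RGD.Pos cs h), q a = MulAut.conj u * a.1
  one : ∀ a : ↥B, q a = 1 → ∃ u ∈ RGD.Sup X (RGD.Pos cs h), a.1 = MulAut.conj u
  fix : ∀ a : ↥B, FixZ T₀ a.1 ↔ ∀ c ∈ k, φ a c = c
  inj : ∀ a : ↥B, φ a = 1 → q a = 1

section

variable (Λ : Lin R k Kf x χ wt ρ)

include Λ

theorem inZ_iff {T₀ : Sylow 2 Y} (hT : (T₀ : Subgroup Y) = RGD.Sup X (RGD.Pos cs h)) (z : Y) :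
    InZ T₀ z ↔ z ∈ X ρ := by
  have hmem : ∀ y, y ∈ T₀ ↔ y ∈ RGD.Sup X (RGD.Pos cs h) := fun y => by rw [← hT]; rfl
  constructor
  · rintro ⟨h1, h2⟩
    exact (Λ.cen z ((hmem z).1 h1)).1 fun u hu => h2 u ((hmem u).2 hu)
  · intro h1
    have h2 : z ∈ RGD.Sup X (RGD.Pos cs h) := RGD.le_Sup Λ.rho_pos h1
    exact ⟨(hmem z).2 h2, fun u hu => (Λ.cen z h2).2 h1 u ((hmem u).1 hu)⟩

theorem exists_proj [Finite W] [CharP L 2] {T₀ : Sylow 2 Y}
    (hT : (T₀ : Subgroup Y) = RGD.Sup X (RGD.Pos cs h)) {B : Subgroup (MulAut Y)} (hB : GoodA T₀ B) :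
    ∃ q φ, Proj k χ h T X cs T₀ B q φ := by
  have hG := GG_eq_top (T := T) Λ.gen
  have hmem : ∀ y, y ∈ T₀ ↔ y ∈ RGD.Sup X (RGD.Pos cs h) := fun y => by rw [← hT]; rfl
  have hfix : ∀ α ∈ B, Fix α (RGD.Sup X (RGD.Pos cs h)) := by
    intro α hα y
    constructor
    · intro h1
      have h2 := hB.norm _ (inv_mem hα) _ ((hmem _).2 h1)
      rw [MulAut.inv_apply_self] at h2
      exact (hmem _).1 h2
    · intro h1
      exact (hmem _).1 (hB.norm _ hα _ ((hmem _).2 h1))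
  obtain ⟨q, hq⟩ := exists_toFrame R hG B hfix
  have h1 : ∀ a : ↥B, ∃ τ : L ≃+* L, LTau T X χ (q a) τ := fun a => by
    obtain ⟨σ, D⟩ := exists_diag R hG (hq a).1.1 (hq a).1.2
    exact exists_ltau Λ D
  choose φ hφ using h1
  have huniq : ∀ a τ, LTau T X χ (q a) τ → φ a = τ := fun a τ h2 => LTau.unique Λ (hφ a) h2
  let φ' : ↥B →* (L ≃+* L) := MonoidHom.mk' φ fun a b => huniq _ _ (by
    rw [map_mul]
    exact (hφ a).mul (hφ b))
  have hφ' : ∀ a, LTau T X χ (q a) (φ' a) := hφ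
  have htwo : ∀ a, ∃ m : ℕ, (q a) ^ 2 ^ m = 1 ∧ (φ' a) ^ 2 ^ m = 1 := by
    intro a
    obtain ⟨m, hm⟩ := hB.two a
    exact ⟨m, by rw [← map_pow, hm, map_one], by rw [← map_pow, hm, map_one]⟩
  refine ⟨q, φ', hφ', htwo, fun a => (hq a).2.1, fun a ha => ((hq a).2.2.2.1).1 ha, fun a => ?_, fun a ha => ?_⟩
  · obtain ⟨m, hm, -⟩ := htwo a
    rw [← fix_rho_iff Λ (hφ' a) hm]
    obtain ⟨u, hu, e⟩ := (hq a).2.1
    have h3 : ∀ z ∈ X ρ, (a.1 z = z ↔ q a z = z) := by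
      intro z hz
      have h4 := (inZ_iff Λ hT z).2 hz
      have h5 : u * z * u⁻¹ = z := by rw [h4.2 u ((hmem u).2 hu), mul_inv_cancel_right]
      rw [e, MulAut.mul_apply, MulAut.conj_apply]
      constructor
      · intro h6; rw [h6, h5]
      · intro h6
        have h7 : a.1 z = u⁻¹ * (u * a.1 z * u⁻¹) * u := by group
        rw [h7, h6]
        have h8 : u⁻¹ * z * u = u⁻¹ * (u * z * u⁻¹) * u := by rw [h5]
        rw [h8]; group
    constructor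
    · exact fun h4 z hz => (h3 z hz).1 (h4 z ((inZ_iff Λ hT z).2 hz))
    · exact fun h4 z hz => (h3 z ((inZ_iff Λ hT z).1 hz)).2 (h4 z ((inZ_iff Λ hT z).1 hz))
  · obtain ⟨m, hm, -⟩ := htwo a
    have := hφ' a
    rw [ha] at this
    exact LTau.eq_one Λ this hm

omit Λ in
/-- involutions of `Aut L` -/
theorem cyc_aux [Finite L] [CharP L 2] {σ τ : L ≃+* L} (hσ : σ * σ = 1) (hτ : τ * τ = 1) :
    σ = 1 ∨ τ = 1 ∨ σ = τ := by
  by_cases h1 : σ = 1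
  · exact Or.inl h1
  by_cases h2 : τ = 1
  · exact Or.inr (Or.inl h2)
  exact Or.inr (Or.inr (StdRank2.OutField.unique_invol hσ hτ h1 h2))

theorem exists_ctx [Finite W] [Finite L] [CharP L 2] {T₀ : Sylow 2 Y}
    (hT : (T₀ : Subgroup Y) = RGD.Sup X (RGD.Pos cs h)) {B : Subgroup (MulAut Y)} {q : ↥B →* MulAut Y}
    {φ : ↥B →* (L ≃+* L)} (P : Proj k χ h T X cs T₀ B q φ)
    (hgal : ∀ τ : L ≃+* L, (∀ a ∈ k, τ a = a) → (∃ m : ℕ, τ ^ 2 ^ m = 1) → τ * τ = 1) :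
    ∃ β₀, Ctx k χ h T X cs T₀ B β₀ := by
  have hsq : ∀ a : ↥B, FixZ T₀ a.1 → φ a * φ a = 1 := fun a ha => by
    obtain ⟨m, -, hm⟩ := P.two a
    exact hgal _ ((P.fix a).1 ha) ⟨m, hm⟩
  by_cases hex : ∃ a : ↥B, FixZ T₀ a.1 ∧ q a ≠ 1
  · obtain ⟨a, ha, ha1⟩ := hex
    refine ⟨q a, hT, ⟨φ a, P.lt a, (P.fix a).1 ha⟩, ?_, fun e he hf => ?_⟩
    · rw [← map_mul]
      apply P.inj
      rw [map_mul]
      exact hsq a ha
    · obtain ⟨u, hu, eu⟩ := P.eq ⟨e, he⟩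
      have e1 : e = MulAut.conj u⁻¹ * q ⟨e, he⟩ := by
        rw [eu, map_inv, inv_mul_cancel_left]
      refine ⟨u⁻¹, inv_mem hu, ?_⟩
      rcases cyc_aux (hsq ⟨e, he⟩ hf) (hsq a ha) with h1 | h1 | h1
      · left
        rw [e1, P.inj _ h1, mul_one]
      · exact absurd (P.inj _ h1) ha1
      · right
        have h2 : q (⟨e, he⟩ * a⁻¹) = 1 := P.inj _ (by rw [map_mul, map_inv, h1, mul_inv_cancel])
        rw [map_mul, map_inv, mul_inv_eq_one] at h2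
        rw [e1, h2]
  · push Not at hex
    refine ⟨1, hT, ⟨1, LTau.one, fun _ _ => rfl⟩, one_mul 1, fun e he hf => ?_⟩
    obtain ⟨u, hu, eu⟩ := P.one ⟨e, he⟩ (hex ⟨e, he⟩ hf)
    exact ⟨u, hu, Or.inl eu⟩

/-- **`AFacts`.** -/
theorem afacts [Finite W] [Finite L] [CharP L 2] [Finite Y] (hc : center Y = ⊥)
    (hk : ∃ s ∈ k, s ≠ 0 ∧ s ≠ 1) {T₀ : Sylow 2 Y} (hT : (T₀ : Subgroup Y) = RGD.Sup X (RGD.Pos cs h))
    (hgal : ∀ τ : L ≃+* L, (∀ a ∈ k, τ a = a) → (∃ m : ℕ, τ ^ 2 ^ m = 1) → τ * τ = 1)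
    (hout : OutA T₀) : AFacts T₀ := by
  refine ⟨fun z hz => ?_, fun B hB a ha b hb haa hbb => ?_, fun B hB e he g hg => field_aut hc T₀ hB he g hg,
    fun B hB => ?_, fun B hB a ha b hb haz hbz => ?_, hout⟩
  · -- (k0)
    rw [inZ_iff Λ hT] at hz
    obtain ⟨i, w, g, Q⟩ := exists_root (R := R) Λ.rho_pos
    rw [← zS_top Λ Q] at hz
    obtain ⟨a, -, rfl⟩ := (mem_zS _ _).1 hz
    have e : (g * x i a * g⁻¹) * (g * x i a * g⁻¹) = g * x i (a + a) * g⁻¹ := by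
      rw [(Λ.coord i).add]; group
    rw [e, CharTwo.add_self_eq_zero, (Λ.coord i).zero]
    group
  · -- (k1)
    obtain ⟨q, φ, P⟩ := exists_proj Λ hT hB
    obtain ⟨w, i, -, hki⟩ := Λ.rho
    have hres : ∀ c : ↥B, ∃ τ' : Kf i ≃+* Kf i, ∀ a, (τ' a : L) = φ c a := fun c => by
      obtain ⟨τ', _, _, h1, _⟩ := LTau.semi Λ (P.lt c) i
      exact ⟨τ', h1⟩
    obtain ⟨σ, hσ⟩ := hres ⟨a, ha⟩
    obtain ⟨τ, hτ⟩ := hres ⟨b, hb⟩
    have hsq : ∀ (c : ↥B) (τ' : Kf i ≃+* Kf i), (∀ a, (τ' a : L) = φ c a) → FixZ T₀ (c.1 * c.1) → τ' * τ' = 1 := by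
      intro c τ' h1 h2
      have h3 := (P.fix (c * c)).1 h2
      ext v
      have h4 := h3 v (by rw [← hki]; exact v.2)
      rw [map_mul] at h4
      show ((τ' (τ' v) : Kf i) : L) = v
      rw [h1, h1]
      exact h4
    have hfixk : ∀ (c : ↥B) (τ' : Kf i ≃+* Kf i), (∀ a, (τ' a : L) = φ c a) → τ' = 1 → FixZ T₀ c.1 := by
      intro c τ' h1 h2
      rw [P.fix]
      intro v hv
      have h3 := h1 ⟨v, by rw [hki]; exact hv⟩
      rw [h2] at h3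
      exact h3.symm
    have h1 := hsq _ σ hσ haa
    have h2 := hsq _ τ hτ hbb
    by_cases h3 : σ = 1
    · exact Or.inl (hfixk _ σ hσ h3)
    by_cases h4 : τ = 1
    · exact Or.inr (Or.inl (hfixk _ τ hτ h4))
    refine Or.inr (Or.inr ?_)
    have h5 := StdRank2.OutField.unique_invol h1 h2 h3 h4
    have h6 : FixZ T₀ ((⟨a, ha⟩⁻¹ * ⟨b, hb⟩ : ↥B) : MulAut Y) := by
      rw [P.fix]
      intro v hv
      have h7 : φ ⟨a, ha⟩ v = φ ⟨b, hb⟩ v := by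
        rw [← hσ ⟨v, by rw [hki]; exact hv⟩, ← hτ ⟨v, by rw [hki]; exact hv⟩, h5]
      rw [map_mul, map_inv, RingAut.mul_apply, ← h7]
      exact (φ ⟨a, ha⟩).symm_apply_apply v
    exact h6
  · -- (k3)
    obtain ⟨q, φ, P⟩ := exists_proj Λ hT hB
    obtain ⟨β₀, Cx⟩ := exists_ctx Λ hT P hgal
    exact Ctx.flt Λ Cx hk
  · -- (k4)
    obtain ⟨q, φ, P⟩ := exists_proj Λ hT hB
    have hsq : ∀ c : ↥B, FixZ T₀ c.1 → φ c * φ c = 1 := fun c hc => by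
      obtain ⟨m, -, hm⟩ := P.two c
      exact hgal _ ((P.fix c).1 hc) ⟨m, hm⟩
    have hinn : ∀ c : ↥B, φ c = 1 → c.1 ∈ (MulAut.conj : Y →* MulAut Y).range := by
      intro c hc
      obtain ⟨u, -, e⟩ := P.one c (P.inj c hc)
      exact ⟨u, e.symm⟩
    rcases cyc_aux (hsq ⟨a, ha⟩ haz) (hsq ⟨b, hb⟩ hbz) with h1 | h1 | h1
    · exact Or.inl (hinn _ h1)
    · exact Or.inr (Or.inl (hinn _ h1))
    · exact Or.inr (Or.inr (hinn (⟨a, ha⟩⁻¹ * ⟨b, hb⟩) (by rw [map_mul, map_inv, h1, inv_mul_cancel])))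

/-- **(k5)(c2)** -/
theorem outA [Finite W] [Finite L] [CharP L 2] {T₀ : Sylow 2 Y}
    (hT : (T₀ : Subgroup Y) = RGD.Sup X (RGD.Pos cs h))
    (hinv : ∀ τ : L ≃+* L, τ * τ = 1 → ∀ a ∈ k, τ a = a) : OutA T₀ := by
  refine Or.inr (Or.inl fun B hB e he hee => ?_)
  obtain ⟨q, φ, P⟩ := exists_proj Λ hT hB
  refine (P.fix ⟨e, he⟩).2 (hinv _ ?_)
  rw [← map_mul]
  have h1 : (⟨e, he⟩ * ⟨e, he⟩ : ↥B) = 1 := Subtype.ext hee
  rw [h1, map_one]

/-- **`BFacts K` for `K ≅ Y`.** -/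
theorem bfacts [Finite W] [Finite L] [CharP L 2] [Finite Y] (hc : center Y = ⊥)
    (hk : ∃ s ∈ k, s ≠ 0 ∧ s ≠ 1)
    (hgal : ∀ τ : L ≃+* L, (∀ a ∈ k, τ a = a) → (∃ m : ℕ, τ ^ 2 ^ m = 1) → τ * τ = 1)
    (hinv : ∀ τ : L ≃+* L, τ * τ = 1 → ∀ a ∈ k, τ a = a) {G : Type*} [Group G] [Finite G] {K : Subgroup G}
    (e : Y ≃* ↥K) : BFacts K := by
  have hG := GG_eq_top (T := T) Λ.gen
  have : Fact (Nat.Prime 2) := ⟨Nat.prime_two⟩
  obtain ⟨P, hP⟩ := R.isPGroup_Upos.exists_le_sylow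
  have hT := Nodes.NormalForm.eq_U_of_isPGroup R P.isPGroup' hP (by rw [hG]; exact le_top)
  exact (afacts Λ hc hk hT hgal (outA Λ hT hinv)).bfacts e

end

end Cfsg.Agent.OddHalf.D4.TwAFacts
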