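import Mathlib
import Cfsg.Agent.StdRank2.OutField

/-!
# ODD, D4, (1B): the field facts for `L/k` quadratic (helper917)

`hgal`, `hinv` : the two field hypotheses of `TwAFacts.bfacts` for `|L| = |k|²`, characteristic two.
-/

set_option autoImplicit false

namespace Cfsg.Agent.OddHalf.D4.TwQuad

variable {L : Type*} [Field L] [Finite L] {k : Subfield L}

theorem finrank_eq (hc : Nat.card L = Nat.card k ^ 2) : Module.finrank k L = 2 := by
  have h1 : Nat.card L = Nat.card k ^ Module.finrank k L := Module.natCard_eq_pow_finrank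
  rw [hc] at h1
  have h2 : 1 < Nat.card k := Finite.one_lt_card
  exact (Nat.pow_right_injective h2 h1).symm

theorem hgal (hc : Nat.card L = Nat.card k ^ 2) (τ : L ≃+* L) (hτ : ∀ a ∈ k, τ a = a) : τ * τ = 1 := by
  let σ : L ≃ₐ[k] L := AlgEquiv.ofRingEquiv (f := τ) (fun a => hτ _ a.2)
  have h1 : Nat.card (L ≃ₐ[k] L) = 2 := by
    rw [IsGalois.card_aut_eq_finrank, finrank_eq hc]
  have h2 : σ ^ 2 = 1 := by
    rw [← h1]
    exact pow_card_eq_one'
  ext a
  exact congrArg (fun f : L ≃ₐ[k] L => f a) (pow_two σ ▸ h2)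

theorem hinv [CharP L 2] (hc : Nat.card L = Nat.card k ^ 2) (τ : L ≃+* L) (hτ : τ * τ = 1) :
    ∀ a ∈ k, τ a = a := by
  by_cases h0 : τ = 1
  · rw [h0]
    exact fun a _ => rfl
  have h1 : Nat.card (L ≃ₐ[k] L) = 2 := by
    rw [IsGalois.card_aut_eq_finrank, finrank_eq hc]
  obtain ⟨σ, hσ⟩ : ∃ σ : L ≃ₐ[k] L, σ ≠ 1 := by
    by_contra hcon
    push Not at hcon
    have h2 : Nat.card (L ≃ₐ[k] L) ≤ 1 := by
      have : Subsingleton (L ≃ₐ[k] L) := ⟨fun a b => by rw [hcon a, hcon b]⟩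
      exact Finite.card_le_one_iff_subsingleton.2 this
    omega
  have h2 : σ.toRingEquiv * σ.toRingEquiv = 1 := hgal hc _ fun a ha => σ.commutes ⟨a, ha⟩
  have h3 : σ.toRingEquiv ≠ 1 := by
    intro h4
    apply hσ
    ext a
    exact congrArg (fun f : L ≃+* L => f a) h4
  rw [StdRank2.OutField.unique_invol hτ h2 h0 h3]
  exact fun a ha => σ.commutes ⟨a, ha⟩

end Cfsg.Agent.OddHalf.D4.TwQuad
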