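import Mathlib
import Cfsg.Agent.OddHalf.D4.TwAFacts
import Cfsg.Agent.OddHalf.D4.TwQuad
import Cfsg.Agent.OddHalf.D4.StarESix
import Cfsg.Agent.KFacts.TwESix.OutTwo
import Cfsg.Agent.KFacts.TwESix.Faith
import Cfsg.Agent.OddHalf.DblR.SheetTwE6

/-!
# ODD, D4, (1B): `BFacts` for `²E₆(q)`, `q = 2^a ≥ 4` (helper917)

* `lin` : the root group datum of `²E₆(q)`, `q` even, is linear (`TwLin.Lin`), `k = F_q`, `ρ` the highest root;
* **`bfacts`** : `BFacts K` for `K ≅ ²E₆(2^a)`, `a ≥ 2`.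
-/

set_option autoImplicit false
set_option linter.unusedSectionVars false

namespace Cfsg.Agent.OddHalf.D4.LinESix

open Subgroup CoxeterSystem Cfsg.Agent.ChevalleyStructure.CoxeterGeom Cfsg.Agent.Tits.Core
  Cfsg.Agent.Tits.Exchange Cfsg.Agent.Nodes.Reps Cfsg.Agent.Nodes.BNOf Cfsg.Agent.Nodes.StabComb
  Cfsg.Agent.Nodes.Bruhat Cfsg.Agent.Nodes.OppDec Cfsg.Agent.Nodes.RGDTwGen Cfsg.Agent.Nodes.RGDChev
  Cfsg.Agent.Nodes.RGDFold Cfsg.Agent.Nodes.RGDFoldSL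
open Cfsg.Agent.KFacts.RgdOpp Cfsg.Agent.KFacts.RgdAut Cfsg.Agent.KFacts.RgdDiag Cfsg.Agent.KFacts.RgdRigid
  Cfsg.Agent.KFacts.RgdField Cfsg.Agent.KFacts.RgdTau Cfsg.Agent.KFacts.RgdNodes
open Cfsg.Agent.Tits.Roots hiding ht
open Cfsg.Lie Cfsg.Agent.ChevalleyStructure
open Cfsg.Agent.ChevalleyStructure.SL2Hom (up lo)
open Cfsg.Agent.KFacts.TwESix.NodeCoord Cfsg.Agent.KFacts.TwESix.Out Cfsg.Agent.KFacts.TwESix.OutTwo
  Cfsg.Agent.KFacts.TwESix.Comb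
open Cfsg.Agent.Nodes.RGDTwE6 Cfsg.Agent.Nodes.RGDTwNode.E6
open Cfsg.Agent.Nodes.RGDTwCoordE6 (O dl)
open Cfsg.Agent.OddHalf.D4.TwLin Cfsg.Agent.OddHalf.D4.TwWt

universe u

variable {K : Type u} [Field K] {q : ℕ} {φ : K →+* K}

/-! ### Coordinates -/

theorem cl_sr : ∀ i : Fin 4, Cfsg.Agent.Nodes.RGDTwCoord.cl chevE6 J O (sr i) = rep i :: rest i := by
  decide +kernel

theorem dl_one : ∀ i : Fin 4, ∀ s ∈ rep i :: rest i, dl s = 1 := by decide +kernel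

theorem yv_congr {xx yy : ℕ → K → GL chevE6.Idx K} : ∀ {o : List ℕ}, (∀ s ∈ o, ∀ t, xx s t = yy s t) → ∀ t,
    yv xx φ o t = yv yy φ o t
  | [], _, _ => rfl
  | s :: o, h, t => by
    show xx s t * yv xx φ o (φ t) = yy s t * yv yy φ o (φ t)
    rw [h s List.mem_cons_self, yv_congr (fun s' hs' => h s' (List.mem_cons_of_mem _ hs'))]

variable [Fintype K] (hφ : ∀ x, φ x = x ^ q) (hqq : ∀ t : K, (t ^ q) ^ q = t)

theorem ok_sr (i : Fin 4) (a : KF φ i) : Cfsg.Agent.Nodes.RGDTwCoord.Ok chevE6 J O φ (sr i) (a : K) := by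
  unfold Cfsg.Agent.Nodes.RGDTwCoord.Ok
  rw [cl_sr]
  exact mem_Fx.1 a.2

theorem PhiE_eq {W : Type*} [Group W] (cs : CoxeterSystem CoxeterMatrix.F₄ W) (i : Fin 4) (a : KF φ i) :
    PhiE hφ hqq i (up a) = Cfsg.Agent.Nodes.RGDTwComE6.x φ q (sr i) (a : K) := by
  apply Subtype.ext
  rw [Cfsg.Agent.Nodes.RGDTwComE6.coe_x hφ hqq (isRoot_sr cs isCartan i) (ok_sr i a)]
  refine (coe_Phi_up (foldGrp hφ hqq) (nodeOK i) (hf i) a).trans ?_
  show _ = yv (Cfsg.Agent.Nodes.RGDTwCoord.xs hp dl) φ (Cfsg.Agent.Nodes.RGDTwCoord.cl chevE6 J O (sr i)) (a : K)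
  rw [cl_sr]
  apply yv_congr
  intro s hs t
  unfold Cfsg.Agent.Nodes.RGDTwCoord.xs
  rw [dl_one i s hs, Int.cast_one, one_mul]

theorem F1_le (i : Fin 4) : Fx φ 1 ≤ KF φ i := by
  have hi : i = 0 ∨ i = 1 ∨ i = 2 ∨ i = 3 := by fin_cases i <;> simp
  rcases hi with rfl | rfl | rfl | rfl
  · exact le_rfl
  · exact le_rfl
  · exact F1_le_F2
  · exact F1_le_F2

/-- **`²E₆(q)` is linear.** -/
theorem lin {W : Type*} [Group W] (cs : CoxeterSystem CoxeterMatrix.F₄ W) [Finite W] [CharP K 2]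
    (hq : IsPrimePow q) (hK : Fintype.card K = q ^ 2) :
    Lin (rgd cs hφ hqq 2) (Fx φ 1) (KF φ) (fun i a => PhiE hφ hqq i (up a)) (chE hφ hqq)
      (fun z => (LineRgd.ht z).toNat) rho := by
  have : Fact (Nat.Prime 2) := ⟨Nat.prime_two⟩
  have hq1 := hq.one_lt
  have R := rgd cs hφ hqq 2
  have D := Cfsg.Agent.KFacts.TwESix.Dat.dat cs hφ hqq hK hq1
  have hN := Cfsg.Agent.OddHalf.DblR.SheetTwE6.noCent cs hφ hqq hq hK
  have hG1 := G1_top cs hφ hqq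
  have hpos : rho ∈ RGD.Pos cs isCartan := ⟨rho_root cs, fun i => by fin_cases i <;> simp [rho]⟩
  refine ⟨hG1, coordE hφ hqq, F1_le, ⟨2, F2_eq_top hφ hqq⟩, ?_, ?_, ?_, ?_, ?_, hpos, ?_⟩
  · -- one
    intro β σ D
    apply perm_F4 σ (D.matrix R)
    intro h3
    have h4 := Diag.card_eq D 0
    rw [h3] at h4
    exact card_ne hφ hqq hK hq1 h4
  · -- tau
    intro β D
    obtain ⟨τ, S⟩ := exists_ftau hφ hqq cs 2 D
    exact ⟨τ, S.char⟩
  · -- wts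
    exact Wts.of_ht (StarESix.intComm hφ hqq) fun a ha u hu v hv => StarESix.abel hφ hqq ha.1 u hu v hv
  · -- star
    intro w i g hg hpos a ha u hu hux t ht
    have ha' : (a : K) ≠ 0 := fun h => ha (Subtype.ext h)
    rw [PhiE_eq hφ hqq cs] at hux
    rw [PhiE_eq hφ hqq cs]
    have ht' : φ (t : K) = t := by
      rw [mem_Fx, Function.iterate_one] at ht
      exact ht
    exact StarESix.star hφ hqq 2 hg (isRoot_sr cs isCartan i) hpos (ok_sr i a) ha' hu hux ht'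
  · -- rho
    obtain ⟨w, hw⟩ := exists_rep_long cs (rho_root cs) rho_long
    exact ⟨w, 0, hw, rfl⟩
  · -- cen
    intro z hz
    constructor
    · intro h1
      refine Cfsg.Agent.KFacts.TwESix.Faith.cent_Q D hN (by rw [GG_eq_top hG1]; exact mem_top z) fun v hv => ?_
      have hle : Cfsg.Agent.KFacts.TwESix.QRho.QQ cs (X φ q) ≤ RGD.Sup (X φ q) (RGD.Pos cs isCartan) :=
        Cfsg.Agent.KFacts.TwESix.QRho.QQ_le fun b hb h2 => RGD.le_Sup ⟨hb, by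
          rcases hb.pos_or_neg with h3 | h3
          · exact h3
          · have h4 : b 0 ≤ 0 := h3 0
            omega⟩
      exact (h1 v (hle hv)).symm
    · intro h1 u hu
      have hle : RGD.Sup (X φ q) (RGD.Pos cs isCartan) ≤ Cfsg.Agent.KFacts.TwESix.QRho.PP cs (X φ q) :=
        RGD.Sup_le fun b hb => Cfsg.Agent.KFacts.TwESix.QRho.le_PP hb.1 (hb.2 0)
      exact (Cfsg.Agent.KFacts.TwESix.QRho.cen_PP D h1 (hle hu)).symm

/-- **`BFacts` for `²E₆(2^a)`, `a ≥ 2`.** -/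
theorem bfacts {G : Type*} [Group G] [Finite G] {H : Subgroup G} {F : Type u} [Field F] [Fintype F] {a : ℕ}
    (ha : 2 ≤ a) (hF : Fintype.card F = 4 ^ a) (e : ↥(twistedE6 F (2 ^ a)) ≃* ↥H) : Free.BFacts H := by
  have hF' : Fintype.card F = (2 ^ a) ^ 2 := by rw [hF, ← pow_mul, mul_comm, pow_mul]; norm_num
  have hq : IsPrimePow (2 ^ a) := (Nat.prime_two.isPrimePow).pow (by omega)
  have : Fact (Nat.Prime 2) := ⟨Nat.prime_two⟩
  have hc : CharP F 2 := charP_of_card_eq_prime_pow (f := 2 * a) (by rw [hF, pow_mul]; norm_num)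
  obtain ⟨φ, hφ, hqq⟩ := Cfsg.Agent.ChevalleyStructure.TwE6Basic.exists_frob hq hF'
  have hW : Finite CoxeterMatrix.F₄.Group := finiteW CoxeterMatrix.F₄.toCoxeterSystem
  have hcard : Nat.card (Fx φ 1) = 2 ^ a := by
    have h1 := card_of_coord (coordE hφ hqq 0)
    rw [Cfsg.Agent.KFacts.TwESix.Tor.card_long CoxeterMatrix.F₄.toCoxeterSystem hφ hqq hF' hq.one_lt
      (isRoot_sr _ isCartan 0) (by decide +kernel)] at h1
    exact h1.symm
  have hcard' : Nat.card F = Nat.card (Fx φ 1) ^ 2 := by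
    rw [hcard, Nat.card_eq_fintype_card, hF']
  have hk : ∃ s ∈ Fx φ 1, s ≠ 0 ∧ s ≠ 1 := by
    by_contra hcon
    push Not at hcon
    have h1 : Nat.card (Fx φ 1) ≤ 2 := by
      have h2 : Set.univ ⊆ ({0, 1} : Set (Fx φ 1)) := by
        rintro ⟨s, hs⟩ -
        by_cases h0 : s = 0
        · exact Or.inl (Subtype.ext h0)
        · exact Or.inr (Subtype.ext (hcon s hs h0))
      have h3 := Set.ncard_le_ncard h2
      rw [Set.ncard_univ] at h3
      have h4 := Set.ncard_insert_le (0 : Fx φ 1) {1}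
      rw [Set.ncard_singleton] at h4
      exact h3.trans h4
    have h4 : 2 ^ 2 ≤ 2 ^ a := Nat.pow_le_pow_right (by norm_num) ha
    omega
  exact TwAFacts.bfacts (lin hφ hqq CoxeterMatrix.F₄.toCoxeterSystem hq hF')
    (Cfsg.Agent.OddHalf.DblR.SheetTwE6.center_eq_bot hq hF') hk
    (fun τ h1 _ => TwQuad.hgal hcard' τ h1) (TwQuad.hinv hcard') e

end Cfsg.Agent.OddHalf.D4.LinESix
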