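import Mathlib
import Cfsg.Agent.OddHalf.D4.KP
import Cfsg.Agent.S0215
import Cfsg.Agent.Lib.Cores

/-!
# ODD, D4: the `Z*` step for a full pair

`D = K ∩ N(L)`, `N = K ∩ C(L)` (a configuration `Conf α β D N`), `O(N) = 1` (`NoOdd N`).

* `central_of_iso` : `e` an involution normalising `N` such that `e * e ^ n` of 2-power order only if `e ^ n = e`:
  then `e` centralises `N`;
* `eq_pair_of_self` : `w ∈ N` an involution with `C_N(w) = {1, w}`: then `N = {1, w}`;
* `fix_of_odd` : `e ∈ D` an involution such that `e * f` has odd order for the conjugates `f` of `e` under `N` and for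
  `f = γ e`, if `e * f ∈ N`: then `γ e = e`;
* `fix_of_conf` : so the involutions of a class `Sig` which are centralised by one of `α`, `β`, `α β` are centralised by all
  of them;
-/

set_option autoImplicit false

namespace Cfsg.Agent.OddHalf.D4.SigmaEnd

open Subgroup

variable {G : Type*} [Group G]

/-- `O(N) = 1`. -/
def NoOdd (N : Subgroup G) : Prop :=
  ∀ X : Subgroup G, X ≤ N → (∀ n ∈ N, ∀ x ∈ X, n * x * n⁻¹ ∈ X) → Odd (Nat.card ↥X) → X = ⊥

/-- `N ⟨e⟩`. -/
def adj (N : Subgroup G) (e : G) (he : e * e = 1) (hn : ∀ n ∈ N, e * n * e⁻¹ ∈ N) : Subgroup G where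
  carrier := {h | h ∈ N ∨ h * e ∈ N}
  one_mem' := Or.inl N.one_mem
  mul_mem' := by
    have hei : e⁻¹ = e := inv_eq_of_mul_eq_one_left he
    rintro a b (ha | ha) (hb | hb)
    · exact Or.inl (N.mul_mem ha hb)
    · right
      show a * b * e ∈ N
      rw [mul_assoc]
      exact N.mul_mem ha hb
    · right
      show a * b * e ∈ N
      have h1 : a * b * e = (a * e) * (e * b * e⁻¹) := by
        calc a * b * e = a * (e * e) * b * e := by rw [he, mul_one]
          _ = (a * e) * (e * b * e) := by group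
          _ = _ := by rw [hei]
      rw [h1]
      exact N.mul_mem ha (hn b hb)
    · left
      show a * b ∈ N
      have h1 : a * b = (a * e) * (e * (b * e) * e⁻¹) := by
        calc a * b = a * (e * e) * b * (e * e⁻¹) := by rw [he]; group
          _ = _ := by group
      rw [h1]
      exact N.mul_mem ha (hn _ hb)
  inv_mem' := by
    have hei : e⁻¹ = e := inv_eq_of_mul_eq_one_left he
    rintro a (ha | ha)
    · exact Or.inl (N.inv_mem ha)
    · right
      show a⁻¹ * e ∈ N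
      have h1 : a⁻¹ * e = e * (a * e)⁻¹ * e⁻¹ := by
        calc a⁻¹ * e = (e * e⁻¹) * a⁻¹ * e := by group
          _ = (e * e⁻¹) * a⁻¹ * e⁻¹ := by rw [hei]
          _ = _ := by group
      rw [h1]
      exact hn _ (N.inv_mem ha)

theorem mem_adj {N : Subgroup G} {e : G} {he : e * e = 1} {hn : ∀ n ∈ N, e * n * e⁻¹ ∈ N} {h : G} :
    h ∈ adj N e he hn ↔ h ∈ N ∨ h * e ∈ N := Iff.rfl

theorem mem_of_sq [Finite G] {N : Subgroup G} {x : G} (hx : Odd (orderOf x)) (h : x * x ∈ N) : x ∈ N := by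
  obtain ⟨k, hk⟩ := hx
  have h1 : x = (x * x) ^ (k + 1) := by
    rw [← pow_two, ← pow_mul]
    have h2 : 2 * (k + 1) = orderOf x + 1 := by omega
    rw [h2, pow_succ, pow_orderOf_eq_one, one_mul]
  rw [h1]
  exact N.pow_mem h _

/-- **The `Z*` step.** -/
theorem central_of_iso [Finite G] {N : Subgroup G} {e : G} (he : e * e = 1) (he1 : e ≠ 1)
    (hn : ∀ n ∈ N, e * n * e⁻¹ ∈ N) (hO : NoOdd N)
    (hiso : ∀ n ∈ N, (∃ k : ℕ, (e * (n * e * n⁻¹)) ^ 2 ^ k = 1) → n * e * n⁻¹ = e) :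
    ∀ n ∈ N, n * e = e * n := by
  have hei : e⁻¹ = e := inv_eq_of_mul_eq_one_left he
  set H := adj N e he hn with hH
  have heH : e ∈ H := Or.inr (by rw [he]; exact N.one_mem)
  have hNH : N ≤ H := fun n hn => Or.inl hn
  set u : ↥H := ⟨e, heH⟩ with hu
  have hu2 : orderOf u = 2 := by
    apply orderOf_eq_prime
    · rw [pow_two]; exact Subtype.ext he
    · intro h; exact he1 (congrArg Subtype.val h)
  have hp : IsPGroup 2 ↥(zpowers u) := by
    rw [IsPGroup.iff_card]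
    exact ⟨1, by rw [Nat.card_zpowers, hu2]; norm_num⟩
  obtain ⟨P, hP⟩ := hp.exists_le_sylow
  have huP : u ∈ P := hP (mem_zpowers u)
  have key : ∀ g : ↥H, ∃ n ∈ N, ((g * u * g⁻¹ : ↥H) : G) = n * e * n⁻¹ := by
    rintro ⟨g, hg | hg⟩
    · exact ⟨g, hg, rfl⟩
    · refine ⟨g * e, hg, ?_⟩
      show g * e * g⁻¹ = g * e * e * (g * e)⁻¹
      group
  obtain ⟨Nn, hNn, hodd, hcomm⟩ := Cfsg.Agent.S0215.result P u hu2 huP (by
    intro g hg
    obtain ⟨n, hnN, h1⟩ := key g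
    have h2 : u * (g * u * g⁻¹) ∈ P := P.mul_mem huP hg
    obtain ⟨k, hk⟩ := P.2 ⟨_, h2⟩
    have h3 : (u * (g * u * g⁻¹)) ^ 2 ^ k = 1 := congrArg Subtype.val hk
    have h4 : (e * (n * e * n⁻¹)) ^ 2 ^ k = 1 := by
      rw [← h1]
      exact congrArg Subtype.val h3
    apply Subtype.ext
    rw [h1]
    exact hiso n hnN ⟨k, h4⟩)
  have hXN : Nn.map H.subtype ≤ N := by
    rintro _ ⟨x, hx, rfl⟩
    have hxo : Odd (orderOf (x : G)) := by
      rw [Subgroup.orderOf_coe]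
      have h1 : orderOf (⟨x, hx⟩ : ↥Nn) ∣ Nat.card ↥Nn := orderOf_dvd_natCard _
      rw [Subgroup.orderOf_mk] at h1
      exact Odd.of_dvd_nat hodd h1
    rcases x.2 with h1 | h1
    · exact h1
    · apply mem_of_sq hxo
      have h2 : (x : G) * x = ((x : G) * e) * (e * ((x : G) * e) * e⁻¹) := by
        calc (x : G) * x = x * (e * e) * x * (e * e⁻¹) := by rw [he]; group
          _ = _ := by group
      show (x : G) * x ∈ N
      rw [h2]
      exact N.mul_mem h1 (hn _ h1)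
  have hX := hO (Nn.map H.subtype) hXN (by
    rintro n hnN _ ⟨x, hx, rfl⟩
    exact ⟨(⟨n, hNH hnN⟩ : ↥H) * x * (⟨n, hNH hnN⟩ : ↥H)⁻¹, hNn.conj_mem x hx _, rfl⟩) (by
    rw [Nat.card_congr (Nn.equivMapOfInjective _ H.subtype_injective).toEquiv.symm]
    exact hodd)
  intro n hnN
  have h1 := hcomm ⟨n, hNH hnN⟩
  have h2 : e * n * e⁻¹ * n⁻¹ ∈ Nn.map H.subtype := ⟨_, h1, rfl⟩
  rw [hX, mem_bot] at h2
  calc n * e = (e * n * e⁻¹ * n⁻¹) * n * e := by rw [h2, one_mul]
    _ = e * n := by group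

/-- The involutions in a 2-power chain. -/
theorem exists_pow_two {x : G} (hx : x ≠ 1) {k : ℕ} (hk : x ^ 2 ^ k = 1) :
    ∃ j : ℕ, x ^ j ≠ 1 ∧ x ^ j * x ^ j = 1 := by
  induction k with
  | zero => exact absurd (by simpa using hk) hx
  | succ k ih =>
    by_cases h : x ^ 2 ^ k = 1
    · exact ih h
    · exact ⟨2 ^ k, h, by rw [← pow_add, ← two_mul, ← pow_succ']; exact hk⟩

/-- An involution `w` of `N` with `C_N(w) = {1, w}`. -/
theorem eq_pair_of_self [Finite G] {N : Subgroup G} {w : G} (hw : w ∈ N) (hw2 : w * w = 1) (hw1 : w ≠ 1)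
    (hC : ∀ n ∈ N, n * w = w * n → n = 1 ∨ n = w) (hO : NoOdd N) : ∀ n ∈ N, n = 1 ∨ n = w := by
  have hwi : w⁻¹ = w := inv_eq_of_mul_eq_one_left hw2
  have h := central_of_iso hw2 hw1 (fun n hn => N.mul_mem (N.mul_mem hw hn) (N.inv_mem hw)) hO (by
    rintro n hn ⟨k, hk⟩
    set w' := n * w * n⁻¹ with hw'
    have hw'N : w' ∈ N := N.mul_mem (N.mul_mem hn hw) (N.inv_mem hn)
    have hw'2 : w' * w' = 1 := by
      calc w' * w' = n * (w * w) * n⁻¹ := by rw [hw']; group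
        _ = 1 := by rw [hw2]; group
    have hw'i : w'⁻¹ = w' := inv_eq_of_mul_eq_one_left hw'2
    set x := w * w' with hx
    by_cases hx1 : x = 1
    · have : w' = w⁻¹ := eq_inv_of_mul_eq_one_right hx1
      rw [this, hwi]
    obtain ⟨j, hj1, hj2⟩ := exists_pow_two hx1 hk
    have hxN : x ∈ N := N.mul_mem hw hw'N
    have hinv : w * x * w⁻¹ = x⁻¹ := by
      calc w * x * w⁻¹ = (w * w) * w' * w⁻¹ := by rw [hx]; group
        _ = w'⁻¹ * w⁻¹ := by rw [hw2, one_mul, hw'i]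
        _ = x⁻¹ := by rw [hx]; group
    have hz : x ^ j * w = w * x ^ j := by
      have h1 : w * x ^ j * w⁻¹ = (x ^ j)⁻¹ := by
        rw [← conj_pow, hinv, inv_pow]
      have h2 : (x ^ j)⁻¹ = x ^ j := inv_eq_of_mul_eq_one_left hj2
      rw [h2] at h1
      calc x ^ j * w = (w * x ^ j * w⁻¹) * w := by rw [h1]
        _ = w * x ^ j := by group
    have hzw : x ^ j = w := (hC _ (N.pow_mem hxN j) hz).resolve_left hj1
    have hxw : x * w = w * x := by
      rw [← hzw]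
      exact (pow_succ' x j).symm.trans (pow_succ x j)
    have hw'w : w' * w = w * w' := by
      have h1 : w' = w * x := by rw [hx, ← mul_assoc, hw2, one_mul]
      rw [h1, mul_assoc, hxw]
    rcases hC w' hw'N hw'w with h3 | h3
    · exfalso
      apply hw1
      have h4 : w = n⁻¹ * w' * n := by rw [hw']; group
      rw [h4, h3]; group
    · exact h3)
  intro n hn
  exact hC n hn (h n hn)

/-- An involution `e` centralised "up to odd order". -/
theorem fix_of_odd [Finite G] {N : Subgroup G} {e e' : G} (he : e * e = 1) (he1 : e ≠ 1)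
    (hn : ∀ n ∈ N, e * n * e⁻¹ ∈ N) (hO : NoOdd N)
    (hodd : ∀ n ∈ N, e * (n * e * n⁻¹) ∈ N → Odd (orderOf (e * (n * e * n⁻¹))))
    (he' : e' * e' = 1) (hN : e * e' ∈ N) (ho : Odd (orderOf (e * e'))) : e' = e := by
  have hei : e⁻¹ = e := inv_eq_of_mul_eq_one_left he
  have hei' : e'⁻¹ = e' := inv_eq_of_mul_eq_one_left he'
  have h1 := central_of_iso he he1 hn hO (by
    rintro n hnN ⟨k, hk⟩
    have h2 : e * (n * e * n⁻¹) ∈ N := by
      have h3 : e * (n * e * n⁻¹) = (e * n * e⁻¹) * n⁻¹ := by rw [hei]; group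
      rw [h3]
      exact N.mul_mem (hn n hnN) (N.inv_mem hnN)
    have h4 := hodd n hnN h2
    have h5 : e * (n * e * n⁻¹) = 1 := by
      rw [← orderOf_eq_one_iff]
      have h6 : orderOf (e * (n * e * n⁻¹)) ∣ 2 ^ k := orderOf_dvd_of_pow_eq_one hk
      rcases (Nat.dvd_prime_pow Nat.prime_two).1 h6 with ⟨m, _, hm⟩
      rw [hm] at h4 ⊢
      rcases Nat.eq_zero_or_pos m with h7 | h7
      · rw [h7, pow_zero]
      · exfalso
        exact (Nat.not_odd_iff_even.2 ((even_two).pow_of_ne_zero (by omega))) h4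
    have h6 := eq_inv_of_mul_eq_one_right h5
    rw [h6, hei])
  have h2 := h1 _ hN
  have h3 : (e * e') * (e * e') = 1 := by
    have h4 : e' * e = e * e' := by
      calc e' * e = (e⁻¹ * e) * e' * e := by group
        _ = e⁻¹ * ((e * e') * e) := by group
        _ = e⁻¹ * (e * (e * e')) := by rw [h2]
        _ = e * e' := by group
    calc (e * e') * (e * e') = e * (e' * e) * e' := by group
      _ = e * (e * e') * e' := by rw [h4]
      _ = (e * e) * (e' * e') := by group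
      _ = 1 := by rw [he, he', one_mul]
  have h4 : e * e' = 1 := by
    obtain ⟨k, hk⟩ := ho
    have h5 : (e * e') ^ orderOf (e * e') = 1 := pow_orderOf_eq_one _
    rw [hk, pow_succ, pow_mul, pow_two, h3, one_pow, one_mul] at h5
    exact h5
  have := eq_inv_of_mul_eq_one_right h4
  rw [this, hei]

/-- **The class `Sig`**: all elements of `Sig` centralised by one of `α`, `β`, `α β` are centralised by the others. -/
theorem fix_of_conf {M : Type*} [Group M] [Finite M] {α β : MulAut M} {D N : Subgroup M} (h : Conf α β D N)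
    (hO : NoOdd N) (Sig : Set M) (hinv : ∀ e ∈ Sig, e * e = 1 ∧ e ≠ 1)
    (haut : ∀ γ : MulAut M, (γ = α ∨ γ = β ∨ γ = α * β) → ∀ e ∈ Sig, γ e ∈ Sig)
    (hconj : ∀ n ∈ N, ∀ e ∈ Sig, n * e * n⁻¹ ∈ Sig)
    (hprod : ∀ e ∈ Sig, ∀ f ∈ Sig, e * f ∈ N → Odd (orderOf (e * f)))
    {γ γ' : MulAut M} (hγ : γ = α ∨ γ = β ∨ γ = α * β) (hγ' : γ' = α ∨ γ' = β ∨ γ' = α * β) {e : M} (he : e ∈ Sig)
    (hfix : γ e = e) : γ' e = e := by
  have heD : e ∈ D := h.cen γ hγ e hfix
  obtain ⟨he2, he1⟩ := hinv e he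
  have hei : e⁻¹ = e := inv_eq_of_mul_eq_one_left he2
  have hN : e * γ' e ∈ N := by
    have h1 := N.inv_mem (h.comm γ' hγ' e heD)
    have h2 : (γ' e * e⁻¹)⁻¹ = e * (γ' e)⁻¹ := by group
    rw [h2, ← map_inv, hei] at h1
    exact h1
  refine fix_of_odd he2 he1 (h.norm e heD) hO (fun n hn hm => hprod e he _ (hconj n hn e he) hm) ?_ hN
    (hprod e he _ (haut γ' hγ' e he) hN)
  rw [← map_mul, he2, map_one]

/-- `C_N(γ) = 1` for `γ = α, β, α β` gives `O(N) = 1`. -/
theorem noOdd_of_conf {M : Type*} [Group M] [Finite M] {α β : MulAut M} {D N : Subgroup M} (h : Conf α β D N)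
    (hK : ∀ γ : MulAut M, (γ = α ∨ γ = β ∨ γ = α * β) → ∀ X : Subgroup M, (∀ x ∈ X, γ x = x) →
      (∀ g, γ g = g → ∀ x ∈ X, g * x * g⁻¹ ∈ X) → Odd (Nat.card ↥X) → X = ⊥) : NoOdd N := by
  set O : Subgroup M := (Cfsg.pPrimeCore 2 ↥N).map N.subtype with hOdef
  have hON : O ≤ N := by
    rintro _ ⟨x, _, rfl⟩
    exact x.2
  have hcardO : Odd (Nat.card ↥O) := by
    have h1 : Nat.card ↥O = Nat.card ↥(Cfsg.pPrimeCore 2 ↥N) :=
      Nat.card_congr ((Cfsg.pPrimeCore 2 ↥N).equivMapOfInjective N.subtype N.subtype_injective).toEquiv.symm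
    rw [h1]
    exact Nat.coprime_two_right.1 (Cfsg.Agent.Lib.Cores.pPrimeCore_coprime (G := ↥N) 2)
  -- invariance under automorphisms normalising `N`
  have hinv : ∀ φ : MulAut M, (∀ n ∈ N, φ n ∈ N) → (∀ n ∈ N, φ⁻¹ n ∈ N) → ∀ x ∈ O, φ x ∈ O := by
    intro φ h1 h2
    let e : ↥N ≃* ↥N :=
      { toFun := fun n => ⟨φ n, h1 n n.2⟩
        invFun := fun n => ⟨φ⁻¹ n, h2 n n.2⟩
        left_inv := fun n => Subtype.ext (MulAut.inv_apply_self M φ n)
        right_inv := fun n => Subtype.ext (MulAut.apply_inv_self M φ n)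
        map_mul' := fun a b => Subtype.ext (map_mul φ _ _) }
    rintro _ ⟨x, hx, rfl⟩
    have h3 : e x ∈ Cfsg.pPrimeCore 2 ↥N := by
      rw [← Cfsg.Agent.Lib.Cores.map_equiv_pPrimeCore e 2]
      exact ⟨x, hx, rfl⟩
    exact ⟨e x, h3, rfl⟩
  have hOD : ∀ d ∈ D, ∀ x ∈ O, d * x * d⁻¹ ∈ O := by
    intro d hd x hx
    have h1 : ∀ n ∈ N, d⁻¹ * n * d ∈ N := by
      intro n hn
      have := h.norm d⁻¹ (D.inv_mem hd) n hn
      rwa [inv_inv] at this
    have := hinv (MulAut.conj d) (fun n hn => by rw [MulAut.conj_apply]; exact h.norm d hd n hn)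
      (fun n hn => by rw [MulAut.conj_inv_apply]; exact h1 n hn) x hx
    rwa [MulAut.conj_apply] at this
  have hsq : ∀ γ : MulAut M, (γ = α ∨ γ = β ∨ γ = α * β) → γ * γ = 1 := by
    rintro γ (rfl | rfl | rfl)
    · exact h.aa
    · exact h.bb
    · calc α * β * (α * β) = α * (β * α) * β := by group
        _ = α * (α * β) * β := by rw [h.ab]
        _ = (α * α) * (β * β) := by group
        _ = 1 := by rw [h.aa, h.bb, one_mul]
  have hγN : ∀ γ : MulAut M, (γ = α ∨ γ = β ∨ γ = α * β) → ∀ n ∈ N, γ n ∈ N := by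
    intro γ hγ n hn
    have h1 := N.mul_mem (h.comm γ hγ n (h.le hn)) hn
    rwa [inv_mul_cancel_right] at h1
  have hOγ : ∀ γ : MulAut M, (γ = α ∨ γ = β ∨ γ = α * β) → ∀ x ∈ O, γ x ∈ O := by
    intro γ hγ
    apply hinv γ (hγN γ hγ)
    have h1 : γ⁻¹ = γ := inv_eq_of_mul_eq_one_left (hsq γ hγ)
    rw [h1]
    exact hγN γ hγ
  -- fixed points
  have hfix : ∀ γ : MulAut M, (γ = α ∨ γ = β ∨ γ = α * β) → ∀ x ∈ O, γ x = x → x = 1 := by
    intro γ hγ x hx hfx
    let X : Subgroup M :=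
      { carrier := {x | x ∈ O ∧ γ x = x}
        one_mem' := ⟨O.one_mem, map_one γ⟩
        mul_mem' := fun {a b} ha hb => ⟨O.mul_mem ha.1 hb.1, by rw [map_mul, ha.2, hb.2]⟩
        inv_mem' := fun {a} ha => ⟨O.inv_mem ha.1, by rw [map_inv, ha.2]⟩ }
    have hXO : X ≤ O := fun x hx => hx.1
    have h1 := hK γ hγ X (fun x hx => hx.2) (fun g hg x hx =>
      ⟨hOD g (h.cen γ hγ g hg) x hx.1, by rw [map_mul, map_mul, map_inv, hg, hx.2]⟩)
      (Odd.of_dvd_nat hcardO (card_dvd_of_le hXO))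
    have h2 : x ∈ X := ⟨hx, hfx⟩
    rw [h1, mem_bot] at h2
    exact h2
  have hinvert : ∀ γ : MulAut M, (γ = α ∨ γ = β ∨ γ = α * β) → ∀ x ∈ O, γ x = x⁻¹ := by
    intro γ hγ
    let φ : ↥O →* ↥O :=
      { toFun := fun x => ⟨γ x, hOγ γ hγ x x.2⟩
        map_one' := Subtype.ext (map_one γ)
        map_mul' := fun a b => Subtype.ext (map_mul γ _ _) }
    have h1 : MonoidHom.FixedPointFree φ := by
      intro x hx
      exact Subtype.ext (hfix γ hγ x x.2 (congrArg Subtype.val hx))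
    have h2 : Function.Involutive φ := by
      intro x
      apply Subtype.ext
      show γ (γ x) = x
      exact congrArg (fun f : MulAut M => f x) (hsq γ hγ)
    have h3 := h1.coe_eq_inv_of_involutive h2
    intro x hx
    exact congrArg Subtype.val (congrFun h3 ⟨x, hx⟩)
  have hObot : O = ⊥ := by
    rw [eq_bot_iff]
    intro x hx
    rw [mem_bot]
    apply hfix (α * β) (Or.inr (Or.inr rfl)) x hx
    show α (β x) = x
    rw [hinvert β (Or.inr (Or.inl rfl)) x hx, hinvert α (Or.inl rfl) _ (O.inv_mem hx), inv_inv]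
  intro X hXN hXn hXo
  have h1 : (X.subgroupOf N).Normal := by
    refine ⟨fun n hn g => ?_⟩
    rw [mem_subgroupOf] at hn ⊢
    exact hXn g g.2 n hn
  have h2 : X.subgroupOf N ≤ Cfsg.pPrimeCore 2 ↥N := by
    apply Cfsg.Agent.Lib.Cores.le_pPrimeCore h1
    rw [Nat.coprime_two_right, Nat.card_congr (subgroupOfEquivOfLe hXN).toEquiv]
    exact hXo
  rw [eq_bot_iff]
  intro x hx
  have h3 : x ∈ O := ⟨⟨x, hXN hx⟩, h2 (mem_subgroupOf.2 hx), rfl⟩
  rwa [hObot] at h3

end Cfsg.Agent.OddHalf.D4.SigmaEnd
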