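import Mathlib
import Cfsg.Agent.OddHalf.D4.Facts

/-!
# ODD, D4: `AutFacts` from one Sylow 2-subgroup, transport of `AutFacts`
-/

set_option autoImplicit false

namespace Cfsg.Agent.OddHalf.D4.AutOne

open Cfsg Subgroup

variable {X Y : Type*} [Group X] [Group Y]

theorem orderOf_cj (g u : X) : orderOf (g * u * g⁻¹) = orderOf u :=
  orderOf_injective (MulAut.conj g).toMonoidHom (MulAut.conj g).injective u

/-- a Sylow 2-subgroup is conjugate to `S₀` -/
theorem exists_conj [Finite X] (S S₀ : Sylow 2 X) : ∃ g : X, ∀ x, x ∈ S ↔ g * x * g⁻¹ ∈ S₀ := by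
  obtain ⟨g, hg⟩ := MulAction.exists_smul_eq X S S₀
  refine ⟨g, fun x => ?_⟩
  rw [← hg]
  show x ∈ (S : Subgroup X) ↔ g * x * g⁻¹ ∈ ((g • S : Sylow 2 X) : Subgroup X)
  rw [Sylow.coe_subgroup_smul]
  constructor
  · intro hx
    exact ⟨x, hx, rfl⟩
  · rintro ⟨y, hy, hyx⟩
    have h1 : g * y * g⁻¹ = g * x * g⁻¹ := hyx
    have h2 : y = x := mul_left_cancel (mul_right_cancel h1)
    rwa [← h2]

/-- **`AutFacts` from one Sylow 2-subgroup** -/
theorem of_one [Finite X] (S₀ : Sylow 2 X)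
    (inner : ∀ φ : MulAut X, (∃ k : ℕ, φ ^ 2 ^ k = 1) → (∀ s ∈ S₀, φ s = s) → ∃ s ∈ S₀, φ = MulAut.conj s)
    (uniq : ∀ s ∈ S₀, orderOf s = 2 → (∀ u ∈ S₀, u * s = s * u) →
      ∀ s' ∈ S₀, orderOf s' = 2 → (∀ u ∈ S₀, u * s' = s' * u) → s = s')
    (bal : ∀ a : X, orderOf a = 2 → centralizerPPrimeCore 2 a = ⊥)
    (se : ∀ H : Subgroup X, ¬ IsStronglyEmbedded H) : AutFacts X := by
  have e1 : ∀ g x : X, g * (g⁻¹ * x * g) * g⁻¹ = x := fun g x => by group
  have e2 : ∀ g x : X, g⁻¹ * (g * x * g⁻¹) * g = x := fun g x => by group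
  refine ⟨?_, ?_, bal, se⟩
  · rintro S φ ⟨k, hk⟩ hS
    obtain ⟨g, hg⟩ := exists_conj S S₀
    obtain ⟨s, hs, hφ⟩ := inner (MulAut.conj g * φ * (MulAut.conj g)⁻¹) ⟨k, by
      rw [conj_pow, hk, mul_one, mul_inv_cancel]⟩ (by
      intro s hs
      have h1 : g⁻¹ * s * g ∈ S := by rw [hg, e1]; exact hs
      have h2 : ((MulAut.conj g)⁻¹ : MulAut X) s = g⁻¹ * s * g := MulAut.conj_inv_apply g s
      rw [MulAut.mul_apply, MulAut.mul_apply, h2, hS _ h1, MulAut.conj_apply, e1])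
    refine ⟨g⁻¹ * s * g, by rw [hg, e1]; exact hs, ?_⟩
    have h3 : φ = (MulAut.conj g)⁻¹ * MulAut.conj s * MulAut.conj g := by
      rw [← hφ]; group
    rw [h3, ← map_inv, ← map_mul, ← map_mul]
  · intro S s hs hs2 hsc s' hs' hs2' hsc'
    obtain ⟨g, hg⟩ := exists_conj S S₀
    have key : ∀ t, (∀ u ∈ S, u * t = t * u) → ∀ u ∈ S₀, u * (g * t * g⁻¹) = g * t * g⁻¹ * u := by
      intro t ht u hu
      have h1 := ht (g⁻¹ * u * g) (by rw [hg, e1]; exact hu)
      calc u * (g * t * g⁻¹) = g * ((g⁻¹ * u * g) * t) * g⁻¹ := by group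
        _ = g * (t * (g⁻¹ * u * g)) * g⁻¹ := by rw [h1]
        _ = g * t * g⁻¹ * u := by group
    have h1 := uniq (g * s * g⁻¹) ((hg s).mp hs) (by rw [orderOf_cj, hs2]) (key s hsc) (g * s' * g⁻¹)
      ((hg s').mp hs') (by rw [orderOf_cj, hs2']) (key s' hsc')
    exact mul_left_cancel (mul_right_cancel h1)

/-- the form of `inner` with "is inner" instead of "is conjugation by an element of `S₀`" -/
theorem inner_of_inn [Finite X] (hz : center X = ⊥) (S₀ : Sylow 2 X)
    (h : ∀ φ : MulAut X, (∃ k : ℕ, φ ^ 2 ^ k = 1) → (∀ s ∈ S₀, φ s = s) → ∃ x : X, φ = MulAut.conj x)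
    (φ : MulAut X) (hφ : ∃ k : ℕ, φ ^ 2 ^ k = 1) (hS : ∀ s ∈ S₀, φ s = s) :
    ∃ s ∈ S₀, φ = MulAut.conj s := by
  obtain ⟨x, hx⟩ := h φ hφ hS
  refine ⟨x, ?_, hx⟩
  obtain ⟨k, hk⟩ := hφ
  have h1 : x ^ 2 ^ k = 1 := by
    have h2 : MulAut.conj (x ^ 2 ^ k) = 1 := by rw [map_pow, ← hx, hk]
    have h3 : x ^ 2 ^ k ∈ center X := by
      rw [mem_center_iff]
      intro y
      have h4 : x ^ 2 ^ k * y * (x ^ 2 ^ k)⁻¹ = y := by
        have h5 : MulAut.conj (x ^ 2 ^ k) y = (1 : MulAut X) y := by rw [h2]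
        exact h5
      calc y * x ^ 2 ^ k = (x ^ 2 ^ k * y * (x ^ 2 ^ k)⁻¹) * x ^ 2 ^ k := by rw [h4]
        _ = x ^ 2 ^ k * y := by group
    rw [hz, mem_bot] at h3
    exact h3
  have hc : ∀ s ∈ S₀, x * s * x⁻¹ = s := by
    intro s hs
    have := hS s hs
    rwa [hx, MulAut.conj_apply] at this
  have h5 : IsPGroup 2 ↥(zpowers x) := by
    rw [IsPGroup.iff_card]
    obtain ⟨m, -, hm⟩ := (Nat.dvd_prime_pow Nat.prime_two).mp (orderOf_dvd_of_pow_eq_one h1)
    exact ⟨m, by rw [Nat.card_zpowers, hm]⟩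
  have h6 : zpowers x ≤ normalizer ((S₀ : Subgroup X) : Set X) := by
    rw [zpowers_le, mem_normalizer_iff]
    intro s
    constructor
    · intro hs
      rw [hc s hs]; exact hs
    · intro hs
      have h7 := hc _ hs
      have h8 : x * s * x⁻¹ = s := mul_left_cancel (mul_right_cancel h7)
      rwa [h8] at hs
  have h7 : IsPGroup 2 ↥(zpowers x ⊔ (S₀ : Subgroup X) : Subgroup X) :=
    h5.to_sup_of_normal_right' S₀.isPGroup' h6
  have h8 := S₀.is_maximal' h7 le_sup_right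
  have h9 : x ∈ (zpowers x ⊔ (S₀ : Subgroup X) : Subgroup X) := mem_sup_left (mem_zpowers x)
  rw [h8] at h9
  exact h9

/-- the image of a Sylow subgroup under an isomorphism -/
theorem exists_sylow_map (e : X ≃* Y) (S : Sylow 2 X) : ∃ T : Sylow 2 Y, ∀ x, x ∈ S ↔ e x ∈ T := by
  have h2 : IsPGroup 2 ↥((S : Subgroup X).comap e.symm.toMonoidHom) :=
    S.2.comap_of_injective _ e.symm.injective
  refine ⟨⟨(S : Subgroup X).comap e.symm.toMonoidHom, h2, ?_⟩, fun x => ?_⟩
  · intro Q hQ hle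
    have h1 : IsPGroup 2 ↥(Q.comap e.toMonoidHom) := hQ.comap_of_injective _ e.injective
    have h3 : (S : Subgroup X) ≤ Q.comap e.toMonoidHom := by
      intro s hs
      apply hle
      show e.symm (e s) ∈ (S : Subgroup X)
      rw [e.symm_apply_apply]; exact hs
    have h4 := S.3 h1 h3
    apply le_antisymm _ hle
    intro q hq
    show e.symm q ∈ (S : Subgroup X)
    rw [← h4]
    show e (e.symm q) ∈ Q
    rw [e.apply_symm_apply]; exact hq
  · show x ∈ (S : Subgroup X) ↔ e.symm (e x) ∈ (S : Subgroup X)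
    rw [e.symm_apply_apply]

theorem centralizerPPrimeCore_equiv [Finite X] [Finite Y] (e : X ≃* Y) {a : X}
    (h : centralizerPPrimeCore 2 (e a) = ⊥) : centralizerPPrimeCore 2 a = ⊥ := by
  let I := centralizerPPrimeCore 2 a
  have hI : I.map e.toMonoidHom = ⊥ := by
    apply eq_bot_of_core h
    · rintro _ ⟨i, ⟨c, hc, rfl⟩, rfl⟩
      have h1 := mem_centralizer_singleton_iff.mp c.2
      show e (c : X) * e a = e a * e (c : X)
      rw [← map_mul, ← map_mul]
      exact congrArg e h1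
    · rintro x hx _ ⟨i, ⟨c, hc, rfl⟩, rfl⟩
      have h1 : e.symm x * a = a * e.symm x := by
        apply e.injective
        rw [map_mul, map_mul, e.apply_symm_apply, hx]
      have h2 : e.symm x ∈ centralizer ({a} : Set X) := mem_centralizer_singleton_iff.mpr h1
      have hn : (pPrimeCore 2 ↥(centralizer ({a} : Set X))).Normal := inferInstance
      refine ⟨e.symm x * c * (e.symm x)⁻¹, ⟨⟨e.symm x, h2⟩ * c * ⟨e.symm x, h2⟩⁻¹, hn.conj_mem c hc _, rfl⟩, ?_⟩
      show e (e.symm x * c * (e.symm x)⁻¹) = x * e (c : X) * x⁻¹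
      rw [map_mul, map_mul, map_inv, e.apply_symm_apply]
    · have h1 : Nat.card ↥(I.map e.toMonoidHom) = Nat.card ↥I :=
        (Nat.card_congr (I.equivMapOfInjective _ e.injective).toEquiv).symm
      have h2 : Nat.card ↥I = Nat.card ↥(pPrimeCore 2 ↥(centralizer ({a} : Set X))) :=
        (Nat.card_congr ((pPrimeCore 2 ↥(centralizer ({a} : Set X))).equivMapOfInjective _
          (centralizer ({a} : Set X)).subtype_injective).toEquiv).symm
      rw [h1, h2]
      exact Nat.coprime_two_right.mp (Cfsg.Agent.Lib.Cores.pPrimeCore_coprime 2)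
  exact (Subgroup.map_eq_bot_iff_of_injective I e.injective).mp hI

theorem not_se_equiv (e : X ≃* Y) (h : ∀ H : Subgroup Y, ¬ IsStronglyEmbedded H) (H : Subgroup X) :
    ¬ IsStronglyEmbedded H := by
  intro hH
  apply h (H.map e.toMonoidHom)
  have hcard : ∀ A : Subgroup X, Nat.card ↥(A.map e.toMonoidHom) = Nat.card ↥A := fun A =>
    (Nat.card_congr (A.equivMapOfInjective _ e.injective).toEquiv).symm
  refine ⟨?_, ?_, ?_⟩
  · intro h1
    apply hH.1
    rw [eq_top_iff]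
    intro x _
    have h2 : e x ∈ H.map e.toMonoidHom := by rw [h1]; exact mem_top _
    obtain ⟨y, hy, hyx⟩ := h2
    have h3 : y = x := e.injective hyx
    rwa [← h3]
  · rw [hcard]; exact hH.2.1
  · intro g hg
    have h1 : e.symm g ∉ H := by
      intro h2
      exact hg ⟨e.symm g, h2, e.apply_symm_apply g⟩
    have h2 := hH.2.2 _ h1
    have h3 : H.map e.toMonoidHom ⊓ (H.map e.toMonoidHom).map (MulAut.conj g).toMonoidHom
        = (H ⊓ H.map (MulAut.conj (e.symm g)).toMonoidHom).map e.toMonoidHom := by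
      ext y
      constructor
      · rintro ⟨⟨a, ha, rfl⟩, ⟨_, ⟨b, hb, rfl⟩, hab⟩⟩
        refine ⟨a, ⟨ha, ⟨b, hb, ?_⟩⟩, rfl⟩
        apply e.injective
        show e (e.symm g * b * (e.symm g)⁻¹) = e a
        rw [map_mul, map_mul, map_inv, e.apply_symm_apply]
        exact hab
      · rintro ⟨a, ⟨ha, ⟨b, hb, hab⟩⟩, rfl⟩
        refine ⟨⟨a, ha, rfl⟩, ⟨e b, ⟨b, hb, rfl⟩, ?_⟩⟩
        have h4 : e.symm g * b * (e.symm g)⁻¹ = a := hab
        show g * e b * g⁻¹ = e a
        rw [← h4, map_mul, map_mul, map_inv, e.apply_symm_apply]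
    rw [h3, hcard]
    exact h2

/-- **transport of `AutFacts`** -/
theorem of_equiv [Finite X] [Finite Y] (e : X ≃* Y) (h : AutFacts Y) : AutFacts X := by
  refine ⟨?_, ?_, ?_, not_se_equiv e h.se⟩
  · rintro S φ ⟨k, hk⟩ hS
    obtain ⟨T, hT⟩ := exists_sylow_map e S
    have hT' : ∀ y ∈ T, e.symm y ∈ S := by
      intro y hy
      rw [hT, e.apply_symm_apply]; exact hy
    obtain ⟨t, ht, hφ⟩ := h.inner T (MulAut.congr e φ) ⟨k, by rw [← map_pow, hk, map_one]⟩ (by
      intro y hy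
      show e (φ (e.symm y)) = y
      rw [hS _ (hT' y hy), e.apply_symm_apply])
    refine ⟨e.symm t, hT' t ht, ?_⟩
    ext x
    have h1 : MulAut.congr e φ (e x) = t * e x * t⁻¹ := by rw [hφ]; rfl
    have h2 : e (φ x) = t * e x * t⁻¹ := by
      rw [← h1]
      show e (φ x) = e (φ (e.symm (e x)))
      rw [e.symm_apply_apply]
    apply e.injective
    rw [h2, MulAut.conj_apply, map_mul, map_mul, map_inv, e.apply_symm_apply]
  · intro S s hs hs2 hsc s' hs' hs2' hsc'
    obtain ⟨T, hT⟩ := exists_sylow_map e S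
    have ho : ∀ x : X, orderOf (e x) = orderOf x := fun x => orderOf_injective e.toMonoidHom e.injective x
    have key : ∀ t, (∀ u ∈ S, u * t = t * u) → ∀ u ∈ T, u * e t = e t * u := by
      intro t ht u hu
      have h1 := ht (e.symm u) (by rw [hT, e.apply_symm_apply]; exact hu)
      have h2 := congrArg e h1
      rwa [map_mul, map_mul, e.apply_symm_apply] at h2
    exact e.injective (h.uniq T (e s) ((hT s).mp hs) (by rw [ho, hs2]) (key s hsc) (e s') ((hT s').mp hs')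
      (by rw [ho, hs2']) (key s' hsc'))
  · intro a ha
    apply centralizerPPrimeCore_equiv e
    apply h.bal
    rw [← ha]
    exact orderOf_injective e.toMonoidHom e.injective a

end Cfsg.Agent.OddHalf.D4.AutOne
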