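import Mathlib
import Cfsg.Agent.KFacts.SysBF
import Cfsg.Agent.KFacts.RgdAutFacts
import Cfsg.Agent.OddHalf.D4.StartFree
import Cfsg.Agent.OddHalf.DblR.RowWInst

/-!
# ODD, D4: the rows `L_n(q)` (`n ≥ 4`), `Ω⁺_2m(q)`, `E_6(q)`, `E_7(q)`, `E_8(q)`, `q ≥ 4` even (helper517)

* `innSyl_of_isSLC` : (F1) for the simply laced groups;
* `e7e`, `e8e`; `lne`, `ope`, `e6e` from (k3).
-/

set_option autoImplicit false
set_option linter.unusedSectionVars false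

namespace Cfsg.Agent.OddHalf.D4.RowsSL

open CoxeterSystem Cfsg Subgroup Cfsg.Agent.OddHalf.D4 Cfsg.Agent.OddHalf.D4.Basic Cfsg.Agent.OddHalf.D4.StartQ
open Cfsg.Agent.Tits.Roots Cfsg.Agent.Nodes.Bruhat Cfsg.Agent.KFacts.SLRow.Def Cfsg.Agent.KFacts.SLRow.Row
  Cfsg.Agent.KFacts.ChevTwo Cfsg.Agent.KFacts.SysBF
open Cfsg.Agent.OddHalf.D4.CommConj (cj mem_cj)
open Cfsg.Agent.OddHalf.DblR (HasSheetW)

universe u

/-- **(F1)** -/
theorem innSyl_of_isSLC {q l : ℕ} {M : CoxeterMatrix (Fin l)} {X : Type u} [Group X] [Finite X]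
    (hX : IsSLC q M X) : KPairG.InnSyl X := by
  obtain ⟨A, h, T, n, Z, F, _, _, _, e, hW, rfl, hM, D, S⟩ := hX
  rintro P φ - hφ
  refine KFacts.RgdAutFacts.inner D.rgd D.GG_eq (fun i a ha b hb => ?_) D.gen P φ hφ
  have hi : IsRoot M.toCoxeterSystem h (sr i) := isRoot_sr _ h i
  exact (S.lr hi).comm _ hi (by rw [Cfsg.Agent.Nodes.Coroot.cpr_self _ h hi]; norm_num) a ha b hb

/-- a model with a sheet -/
def HasS (X : Type u) [Group X] : Prop :=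
  ∃ (Y : Type) (_ : Group Y) (_ : Finite Y), HasSheetW Y ∧ Nonempty (Y ≃* X)

theorem inp_of {G : Type u} [Group G] [Finite G] {K : Subgroup G} (D : DataQ K) (H : HasS ↥K) : Free.Inp K := by
  obtain ⟨Y, _, _, hY, ⟨e⟩⟩ := H
  exact fun _ _ _ hp _ h1 h2 => hY.no_full e ⟨D.tight, D.even, D.cen, D.std, D.simp, D.core⟩ D.nrk hp h1 h2

theorem two_lt {F : Type} [Field F] [Fintype F] {a : ℕ} (ha : 2 ≤ a) (hF : Fintype.card F = 2 ^ a) :
    2 < Nat.card F := by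
  have := pow_ge ha
  rw [Nat.card_eq_fintype_card, hF]
  omega

theorem hasS_Lne {X : Type u} [Group X] (hX : Cut.Lne X) : HasS X := by
  obtain ⟨F, _, _, a, m, ha, hF, hm, ⟨e⟩⟩ := hX
  have := charTwo_of_card hF
  exact ⟨_, _, inferInstance, DblR.hasSheetW_psl hm F (two_lt ha hF), ⟨e.symm⟩⟩

theorem hasS_Ope {X : Type u} [Group X] (hX : Cut.Ope X) : HasS X := by
  obtain ⟨F, _, _, a, m, ha, hF, hm, ⟨e⟩⟩ := hX
  have := charTwo_of_card hF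
  exact ⟨_, _, inferInstance, DblR.hasSheetW_oplus hm F (two_lt ha hF), ⟨e.symm⟩⟩

theorem hasS_E6e {X : Type u} [Group X] (hX : Cut.E6e X) : HasS X := by
  obtain ⟨F, _, _, a, ha, hF, ⟨e⟩⟩ := hX
  have := charTwo_of_card hF
  exact ⟨_, _, inferInstance, DblR.hasSheetW_e6 F (two_lt ha hF), ⟨e.symm⟩⟩

theorem hasS_E7e {X : Type u} [Group X] (hX : Cut.E7e X) : HasS X := by
  obtain ⟨F, _, _, a, ha, hF, ⟨e⟩⟩ := hX
  have := charTwo_of_card hF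
  exact ⟨_, _, inferInstance, DblR.hasSheetW_e7 F (two_lt ha hF), ⟨e.symm⟩⟩

theorem hasS_E8e {X : Type u} [Group X] (hX : Cut.E8e X) : HasS X := by
  obtain ⟨F, _, _, a, ha, hF, ⟨e⟩⟩ := hX
  have := charTwo_of_card hF
  exact ⟨_, _, inferInstance, DblR.hasSheetW_e8 F (two_lt ha hF), ⟨e.symm⟩⟩

/-- **a row from a sheet and `BFacts`** -/
theorem row (h1173 : Start.P1173.{u}) (hFT : FTT.{u}) {P : (K : Type u) → [Group K] → Prop}
    (hSL : ∀ (X : Type u) [Group X], P X → ∃ (q l : ℕ) (M : CoxeterMatrix (Fin l)), 3 ≤ q ∧ IsSLC q M X)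
    (hS : ∀ (X : Type u) [Group X], P X → HasS X)
    (hB : ∀ (G : Type u) [Group G] [Finite G] (K : Subgroup G), P ↥K → ∀ g : G, Free.BFacts (cj g K)) :
    Cut.Row1.{u} P := by
  refine row_of_free' h1173 hFT (fun X _ _ _ hX => ?_) (fun G _ hG K _ D hP => ?_) (fun G _ hG K _ _ hP g => ?_)
  · obtain ⟨q, l, M, -, h⟩ := hSL X hX
    exact innSyl_of_isSLC h
  · have := hG.fin
    exact inp_of D (hS _ hP)
  · have := hG.fin
    exact hB G K hP g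

/-- (k3) for all simply laced groups over a field with at least 3 elements -/
def K3 : Prop := ∀ (G : Type u) [Group G] [Finite G] (K₀ : Subgroup G) (q l : ℕ) (M : CoxeterMatrix (Fin l)), 3 ≤ q →
  IsSLC q M ↥K₀ → ∀ S, Free.Good K₀ S → ∃ U L, Free.FltS K₀ S U L

theorem row' (h1173 : Start.P1173.{u}) (hFT : FTT.{u}) (h3 : K3.{u}) {P : (K : Type u) → [Group K] → Prop}
    (hSL : ∀ (X : Type u) [Group X], P X → ∃ (q l : ℕ) (M : CoxeterMatrix (Fin l)), 3 ≤ q ∧ IsSLC q M X)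
    (hS : ∀ (X : Type u) [Group X], P X → HasS X) : Cut.Row1.{u} P := by
  refine row h1173 hFT hSL hS fun G _ _ K hP g => ?_
  obtain ⟨q, l, M, hq, h⟩ := hSL _ hP
  have h' := h.of_equiv (eqCj K g)
  exact bFacts_of_isSLC h' (h3 G _ q l M hq h')

theorem slc_Lne {X : Type u} [Group X] (hX : Cut.Lne X) :
    ∃ (q l : ℕ) (M : CoxeterMatrix (Fin l)), 3 ≤ q ∧ IsSLC q M X := by
  obtain ⟨q, n, hq, -, h⟩ := isSLC_Lne hX
  exact ⟨q, n, _, hq, h⟩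

theorem slc_Ope {X : Type u} [Group X] (hX : Cut.Ope X) :
    ∃ (q l : ℕ) (M : CoxeterMatrix (Fin l)), 3 ≤ q ∧ IsSLC q M X := by
  obtain ⟨q, n, hq, -, h⟩ := isSLC_Ope hX
  exact ⟨q, _, _, hq, h⟩

theorem slc_E6e {X : Type u} [Group X] (hX : Cut.E6e X) :
    ∃ (q l : ℕ) (M : CoxeterMatrix (Fin l)), 3 ≤ q ∧ IsSLC q M X := by
  obtain ⟨q, hq, h⟩ := isSLC_E6e hX
  exact ⟨q, _, _, hq, h⟩

theorem slc_E7e {X : Type u} [Group X] (hX : Cut.E7e X) :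
    ∃ (q l : ℕ) (M : CoxeterMatrix (Fin l)), 3 ≤ q ∧ IsSLC q M X := by
  obtain ⟨q, hq, h⟩ := isSLC_E7e hX
  exact ⟨q, _, _, hq, h⟩

theorem slc_E8e {X : Type u} [Group X] (hX : Cut.E8e X) :
    ∃ (q l : ℕ) (M : CoxeterMatrix (Fin l)), 3 ≤ q ∧ IsSLC q M X := by
  obtain ⟨q, hq, h⟩ := isSLC_E8e hX
  exact ⟨q, _, _, hq, h⟩

/-- **`E_7(q)`, `q ≥ 4` even.** -/
theorem e7e (h1173 : Start.P1173.{u}) (hFT : FTT.{u}) : Cut.Row1.{u} (fun K _ => Cut.E7e K) :=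
  row h1173 hFT (fun _ _ h => slc_E7e h) (fun _ _ h => hasS_E7e h) fun _ _ _ _ h g => bFacts_E7 h g

/-- **`E_8(q)`, `q ≥ 4` even.** -/
theorem e8e (h1173 : Start.P1173.{u}) (hFT : FTT.{u}) : Cut.Row1.{u} (fun K _ => Cut.E8e K) :=
  row h1173 hFT (fun _ _ h => slc_E8e h) (fun _ _ h => hasS_E8e h) fun _ _ _ _ h g => bFacts_E8 h g

/-- **`L_n(q)`, `n ≥ 4`, `q ≥ 4` even.** -/
theorem lne_of (h1173 : Start.P1173.{u}) (hFT : FTT.{u}) (h3 : K3.{u}) : Cut.Row1.{u} (fun K _ => Cut.Lne K) :=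
  row' h1173 hFT h3 (fun _ _ h => slc_Lne h) (fun _ _ h => hasS_Lne h)

/-- **`Ω⁺_2m(q)`, `m ≥ 4`, `q ≥ 4` even.** -/
theorem ope_of (h1173 : Start.P1173.{u}) (hFT : FTT.{u}) (h3 : K3.{u}) : Cut.Row1.{u} (fun K _ => Cut.Ope K) :=
  row' h1173 hFT h3 (fun _ _ h => slc_Ope h) (fun _ _ h => hasS_Ope h)

/-- **`E_6(q)`, `q ≥ 4` even.** -/
theorem e6e_of (h1173 : Start.P1173.{u}) (hFT : FTT.{u}) (h3 : K3.{u}) : Cut.Row1.{u} (fun K _ => Cut.E6e K) :=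
  row' h1173 hFT h3 (fun _ _ h => slc_E6e h) (fun _ _ h => hasS_E6e h)

end Cfsg.Agent.OddHalf.D4.RowsSL
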