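import Mathlib
import Cfsg.Agent.KFacts.SysK3
import Cfsg.Agent.OddHalf.D4.RowsSL

/-!
# ODD, D4: the rows `L_n(q)` (`n ≥ 4`), `Ω⁺_2m(q)`, `E_6(q)`, `q ≥ 4` even, closed (helper517; (k3) by helper11)
-/

set_option autoImplicit false
set_option linter.unusedSectionVars false

namespace Cfsg.Agent.OddHalf.D4.RowsSLK

open Cfsg Subgroup Cfsg.Agent.OddHalf.D4 Cfsg.Agent.OddHalf.D4.StartQ Cfsg.Agent.OddHalf.D4.RowsSL

universe u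

/-- **(k3)** -/
theorem k3 : K3.{u} := fun _ _ _ _ _ _ _ hq hK _ hS => KFacts.SysK3.fltS_of_isSLC hq hK hS

/-- **`L_n(q)`, `n ≥ 4`, `q ≥ 4` even.** -/
theorem lne (h1173 : Start.P1173.{u}) (hFT : FTT.{u}) : Cut.Row1.{u} (fun K _ => Cut.Lne K) :=
  lne_of h1173 hFT k3

/-- **`Ω⁺_2m(q)`, `m ≥ 4`, `q ≥ 4` even.** -/
theorem ope (h1173 : Start.P1173.{u}) (hFT : FTT.{u}) : Cut.Row1.{u} (fun K _ => Cut.Ope K) :=
  ope_of h1173 hFT k3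

/-- **`E_6(q)`, `q ≥ 4` even.** -/
theorem e6e (h1173 : Start.P1173.{u}) (hFT : FTT.{u}) : Cut.Row1.{u} (fun K _ => Cut.E6e K) :=
  e6e_of h1173 hFT k3

end Cfsg.Agent.OddHalf.D4.RowsSLK
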