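import Mathlib
import Cfsg.Agent.OddHalf.D4.SpFourTyp
import Cfsg.Agent.OddHalf.D4.SpFourPar

/-!
# ODD D4, `K = Sp₄(q)`: the mixed type is impossible (M)

`exists_root`: if all frames `(K, L, Q, R)` have a type (`HasTyp`), then some frame has root type.
-/

set_option autoImplicit false
set_option linter.unusedSectionVars false

namespace Cfsg.Agent.OddHalf.D4.SpFourMix

open Cfsg.Agent.StdSpFour Subgroup
open Cfsg.Agent.OddHalf.D4 Cfsg.Agent.OddHalf.D4.Basic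
open Cfsg.Agent.OddHalf.D4.SpFourDefs Cfsg.Agent.OddHalf.D4.SpFourCent Cfsg.Agent.OddHalf.D4.SpFourU
open Cfsg.Agent.OddHalf.D4.SpFourTyp Cfsg.Agent.OddHalf.D4.SpFourFr
open Cfsg.Agent.OddHalf.D4.CommConj (Tight cj mem_cj cj_mul card_cj mem_cj_mul cj_eq_of_mem_normalizer
  mem_normalizer_of_cj_eq)

variable {F G : Type*} [Field F] [Group G]

/-! ### Conjugation of frames -/

theorem fullPair_cj {K L Q U : Subgroup G} (h : FullPair K L Q U) (g : G) :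
    FullPair (cj g K) (cj g L) (cj g Q) (cj g U) where
  conj := by
    obtain ⟨x, hx, rfl⟩ := h.conj
    refine ⟨g * x * g⁻¹, ?_, ?_⟩
    · rw [normalizer_cj, mem_cj]
      have e : g⁻¹ * (g * x * g⁻¹) * g = x := by group
      rwa [e]
    · rw [← cj_mul, ← cj_mul]
      have e : g * x * g⁻¹ * g = g * x := by group
      rw [e]
  sylQ := by rw [centralizer_cj]; exact h.sylQ.cj g
  sylU := by rw [centralizer_cj]; exact h.sylU.cj g
  comm := by
    intro q hq u hu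
    rw [mem_cj] at hq hu
    have h1 := h.comm _ hq _ hu
    calc q * u = g * ((g⁻¹ * q * g) * (g⁻¹ * u * g)) * g⁻¹ := by group
      _ = g * ((g⁻¹ * u * g) * (g⁻¹ * q * g)) * g⁻¹ := by rw [h1]
      _ = u * q := by group

theorem fr_cj {K L Q R : Subgroup G} [Finite G] (h : Fr K L Q R) (g : G) :
    Fr (cj g K) (cj g L) (cj g Q) (cj g R) := ⟨h.env.cj g, fullPair_cj h.fp g⟩

/-- `L = cj g K`, `R = cj g Q` -/
theorem exists_g [Finite G] {K L Q R : Subgroup G} (h : Fr K L Q R) : ∃ g, L = cj g K ∧ R = cj g Q := by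
  obtain ⟨g, hg, hL⟩ := h.fp.conj
  have h1 : IsSyl (cj g Q) (centralizer (L : Set G)) := by
    rw [hL, centralizer_cj]
    exact h.fp.sylQ.cj g
  obtain ⟨m, hm, hmq⟩ := h.fp.sylU.conj_into h1.two h1.le
  have hle : cj (m * g) Q ≤ R := by
    intro x hx
    rw [cj_mul, mem_cj] at hx
    have := hmq _ hx
    have e : m * (m⁻¹ * x * m) * m⁻¹ = x := by group
    rwa [e] at this
  have hmL : cj m L = L := cj_eq_of_mem_normalizer (by
    have := le_normalizer (H := L)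
    have h2 : centralizer (L : Set G) ≤ normalizer (L : Set G) := by
      intro c hc
      rw [mem_normalizer_iff]
      intro x
      constructor
      · intro hx
        have := mem_centralizer_iff.1 hc x hx
        rw [← this, mul_inv_cancel_right]; exact hx
      · intro hx
        have h3 := mem_centralizer_iff.1 hc _ hx
        have h4 : c * x * c⁻¹ = x := by
          have h5 : c * x = c * (c * x * c⁻¹) := by rw [← h3]; group
          exact (mul_left_cancel h5).symm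
        rwa [h4] at hx
    exact h2 hm)
  have hL' : L = cj (m * g) K := by
    rw [cj_mul, ← hL, hmL]
  refine ⟨m * g, hL', ?_⟩
  have h3 : IsSyl (cj (m * g) Q) (centralizer (L : Set G)) := by
    rw [hL', centralizer_cj]
    exact h.fp.sylQ.cj _
  exact le_antisymm (h3.max _ h.fp.sylU.two hle h.fp.sylU.le) hle

/-! ### The context -/

/-- no frame has root type -/
structure Ctx [CharP F 2] [Finite F] [Finite G] (B : Base F G) (K L Q R : Subgroup G) (g : G) : Prop where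
  hF : 4 ≤ Nat.card F
  hK : KCent B K
  fr : Fr K L Q R
  L_eq : L = cj g K
  R_eq : R = cj g Q
  typ : TypM B Q R
  all : ∀ L' R', Fr K L' Q R' → ∃ k ∈ K, TypM B Q (cj k R')

namespace Ctx

variable [CharP F 2] [Finite F] [Finite G] {B : Base F G} {K L Q R : Subgroup G} {g : G}
  (h : Ctx B K L Q R g)

include h

theorem tk {t k : G} (ht : t ∈ Q) (hk : k ∈ K) : Commute t k :=
  (mem_centralizer_iff.mp (h.fr.fp.sylQ.le ht) k hk).symm

theorem rl {r l : G} (hr : r ∈ R) (hl : l ∈ L) : Commute r l :=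
  (mem_centralizer_iff.mp (h.fr.fp.sylU.le hr) l hl).symm

theorem zmem (m r : F) : B.zs m * B.zl r ∈ K := mul_mem (h.hK.zs_mem m) (h.hK.zl_mem r)

theorem uniq {t k t' k' : G} (ht : t ∈ Q) (hk : k ∈ K) (ht' : t' ∈ Q) (hk' : k' ∈ K) (e : t * k = t' * k') :
    t = t' ∧ k = k' := by
  rw [(h.tk ht hk).eq, (h.tk ht' hk').eq] at e
  exact (decomp_unique h.fr.env.cen hk (h.fr.fp.sylQ.le ht) hk' (h.fr.fp.sylQ.le ht') e).symm

theorem uniqL {r l r' l' : G} (hr : r ∈ R) (hl : l ∈ L) (hr' : r' ∈ R) (hl' : l' ∈ L) (e : r * l = r' * l') :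
    r = r' ∧ l = l' := by
  rw [(h.rl hr hl).eq, (h.rl hr' hl').eq] at e
  exact (decomp_unique h.fr.envL.cen hl (h.fr.fp.sylU.le hr) hl' (h.fr.fp.sylU.le hr') e).symm

omit h [Finite F] [Finite G] in
theorem z_sq (m r : F) : B.zs m * B.zl r * (B.zs m * B.zl r) = 1 := by
  have h3 := (B.zs_zl m r).eq
  calc (B.zs m * B.zl r) * (B.zs m * B.zl r) = (B.zs m * B.zl r) * B.zs m * B.zl r := by group
    _ = B.zl r * (B.zs m * B.zs m) * B.zl r := by rw [h3]; group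
    _ = 1 := by rw [Comm.sq_of_add B.zs_add, mul_one, Comm.sq_of_add B.zl_add]

/-- components of the elements of `R` -/
theorem comp {x : G} (hx : x ∈ R) : ∃ t ∈ Q, ∃ m r, x = t * (B.zs m * B.zl r) := by
  by_cases h1 : x = 1
  · exact ⟨1, Q.one_mem, 0, 0, by rw [h1, B.zs_zero, B.zl_zero]; group⟩
  · obtain ⟨t, ht, m, r, _, _, e⟩ := h.typ x hx h1
    exact ⟨t, ht, m, r, e⟩

/-- an element of `R ∩ Q` is trivial -/
theorem eq_one_of_mem {x : G} (hx : x ∈ R) (hQ : x ∈ Q) : x = 1 := by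
  by_contra h1
  obtain ⟨t, ht, m, r, hm, _, e⟩ := h.typ x hx h1
  have h2 := h.uniq hQ K.one_mem ht (h.zmem m r) (by rw [mul_one]; exact e)
  have h3 := Comm.zz_inj B (m := m) (r := r) (m' := 0) (r' := 0) (by rw [← h2.2, B.zs_zero, B.zl_zero, mul_one])
  exact hm h3.1

theorem R_sq {x : G} (hx : x ∈ R) : x * x = 1 := by
  obtain ⟨t, ht, m, r, e⟩ := h.comp hx
  have h1 : x * x = t * t := by
    have h2 := (h.tk ht (h.zmem m r)).eq
    rw [e]
    calc t * (B.zs m * B.zl r) * (t * (B.zs m * B.zl r)) = t * ((B.zs m * B.zl r) * t) * (B.zs m * B.zl r) := by group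
      _ = t * t * ((B.zs m * B.zl r) * (B.zs m * B.zl r)) := by rw [← h2]; group
      _ = t * t := by rw [z_sq, mul_one]
  exact h.eq_one_of_mem (mul_mem hx hx) (h1 ▸ mul_mem ht ht)

theorem Q_sq {t : G} (ht : t ∈ Q) : t * t = 1 := by
  have h1 : g * t * g⁻¹ ∈ R := by rw [h.R_eq]; exact mem_cj_mul ht
  have h2 := h.R_sq h1
  calc t * t = g⁻¹ * (g * t * g⁻¹ * (g * t * g⁻¹)) * g := by group
    _ = 1 := by rw [h2]; group

omit h [Finite F] [Finite G] [CharP F 2] in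
theorem comm_of_sq {a b : G} (ha : a * a = 1) (hb : b * b = 1) (hab : a * b * (a * b) = 1) : a * b = b * a := by
  have h1 : a⁻¹ = a := inv_eq_of_mul_eq_one_left ha
  have h2 : b⁻¹ = b := inv_eq_of_mul_eq_one_left hb
  have h3 : (a * b)⁻¹ = a * b := inv_eq_of_mul_eq_one_left hab
  rw [← h3, mul_inv_rev, h1, h2]

theorem Q_comm {t t' : G} (ht : t ∈ Q) (ht' : t' ∈ Q) : Commute t t' :=
  comm_of_sq (h.Q_sq ht) (h.Q_sq ht') (h.Q_sq (mul_mem ht ht'))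

theorem R_comm {t t' : G} (ht : t ∈ R) (ht' : t' ∈ R) : Commute t t' :=
  comm_of_sq (h.R_sq ht) (h.R_sq ht') (h.R_sq (mul_mem ht ht'))

/-! ### (M1), (M2) -/

omit h [Finite F] [Finite G] [CharP F 2] in
/-- `k Z k⁻¹ ≤ U` -/
def KU (B : Base F G) (k : G) : Prop := ∀ m r, IsU B (k * (B.zs m * B.zl r) * k⁻¹)

/-- `R` and `k R k⁻¹` commute -/
theorem comm_conj {k : G} (hk : k ∈ K) (hU : KU B k) {x y : G} (hx : x ∈ R) (hy : y ∈ R) :
    Commute x (k * y * k⁻¹) := by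
  obtain ⟨t, ht, m, r, rfl⟩ := h.comp hx
  obtain ⟨t', ht', m', r', rfl⟩ := h.comp hy
  have hk1 := h.zmem m' r'
  have e1 : k * (t' * (B.zs m' * B.zl r')) * k⁻¹ = t' * (k * (B.zs m' * B.zl r') * k⁻¹) := by
    have := (h.tk ht' hk).eq
    calc k * (t' * (B.zs m' * B.zl r')) * k⁻¹ = (k * t') * ((B.zs m' * B.zl r') * k⁻¹) := by group
      _ = _ := by rw [← this]; group
  rw [e1]
  have hkz : k * (B.zs m' * B.zl r') * k⁻¹ ∈ K := mul_mem (mul_mem hk hk1) (inv_mem hk)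
  exact ((h.Q_comm ht ht').mul_right (h.tk ht hkz)).mul_left
    (((h.tk ht' (h.zmem m r)).symm).mul_right (z_comm (hU m' r') m r).symm)

omit h [Finite F] [Finite G] [CharP F 2] in
/-- `L`-mixed elements -/
def LM (B : Base F G) (K : Subgroup G) (g y : G) : Prop :=
  ∃ k ∈ K, ∃ m r, m ≠ 0 ∧ r ≠ 0 ∧ y = g * k * (B.zs m * B.zl r) * k⁻¹ * g⁻¹

theorem LM_mem {y : G} (hy : LM B K g y) : y ∈ L := by
  obtain ⟨k, hk, m, r, _, _, rfl⟩ := hy
  rw [h.L_eq, mem_cj]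
  have e : g⁻¹ * (g * k * (B.zs m * B.zl r) * k⁻¹ * g⁻¹) * g = k * (B.zs m * B.zl r) * k⁻¹ := by group
  rw [e]
  exact mul_mem (mul_mem hk (h.zmem m r)) (inv_mem hk)

/-- a frame `(L, M, R, S)`: the elements of `S` -/
theorem of_frL {M S : Subgroup G} (hf : Fr L M R S) {x : G} (hx : x ∈ S) (h1 : x ≠ 1) :
    ∃ r ∈ R, ∃ y, LM B K g y ∧ x = r * y := by
  have h2 := fr_cj hf g⁻¹
  have e1 : cj g⁻¹ L = K := by rw [h.L_eq, cj_inv_cj]
  have e2 : cj g⁻¹ R = Q := by rw [h.R_eq, cj_inv_cj]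
  rw [e1, e2] at h2
  obtain ⟨k, hk, hT⟩ := h.all _ _ h2
  have hx' : k * (g⁻¹ * x * g) * k⁻¹ ∈ cj k (cj g⁻¹ S) := by
    apply mem_cj_mul
    rw [mem_cj, inv_inv]
    have e : g * (g⁻¹ * x * g) * g⁻¹ = x := by group
    rw [e]; exact hx
  have hne : k * (g⁻¹ * x * g) * k⁻¹ ≠ 1 := by
    intro h3
    apply h1
    calc x = g * k⁻¹ * (k * (g⁻¹ * x * g) * k⁻¹) * k * g⁻¹ := by group
      _ = 1 := by rw [h3]; group
  obtain ⟨t, ht, m, r, hm, hr, e⟩ := hT _ hx' hne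
  refine ⟨g * t * g⁻¹, by rw [h.R_eq]; exact mem_cj_mul ht, g * k⁻¹ * (B.zs m * B.zl r) * k⁻¹⁻¹ * g⁻¹,
    ⟨k⁻¹, inv_mem hk, m, r, hm, hr, rfl⟩, ?_⟩
  have h4 := (h.tk ht hk).eq
  calc x = g * k⁻¹ * (k * (g⁻¹ * x * g) * k⁻¹) * k * g⁻¹ := by group
    _ = g * k⁻¹ * (t * (B.zs m * B.zl r)) * k * g⁻¹ := by rw [e]
    _ = g * k⁻¹ * (t * k) * k⁻¹ * (B.zs m * B.zl r) * k * g⁻¹ := by group
    _ = _ := by rw [h4]; group

/-- (M1) -/
theorem M1 {k : G} (hk : k ∈ K) (hU : KU B k) (hn : k ∉ normalizer (L : Set G)) {x : G} (hx : x ∈ R) (h1 : x ≠ 1) :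
    ∃ r ∈ R, ∃ y, LM B K g y ∧ k * x * k⁻¹ = r * y := by
  have hf : Fr L (cj k L) R (cj k R) := by
    refine ⟨h.fr.envL, ⟨k, hn, rfl⟩, h.fr.fp.sylU, ?_, ?_⟩
    · rw [centralizer_cj]
      exact h.fr.fp.sylU.cj k
    · intro q hq u hu
      rw [mem_cj] at hu
      have h2 := h.comm_conj hk hU hq hu
      have e : k * (k⁻¹ * u * k) * k⁻¹ = u := by group
      rw [e] at h2
      exact h2.eq
  refine h.of_frL hf (mem_cj_mul hx) ?_
  intro h3
  apply h1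
  calc x = k⁻¹ * (k * x * k⁻¹) * k := by group
    _ = 1 := by rw [h3]; group

/-- (M2) -/
theorem M2 {k : G} (hk : k ∈ K) (hU : KU B k) (hn : k ∈ normalizer (L : Set G)) {x : G} (hx : x ∈ R) :
    k * x * k⁻¹ ∈ R := by
  have h1 : k * x * k⁻¹ ∈ centralizer (L : Set G) := centralizer_conj_mem hn (h.fr.fp.sylU.le hx)
  refine mem_of_comm_syl h.fr.fp.sylU h1 ⟨1, ?_⟩ (fun t ht => (h.comm_conj hk hU ht hx).symm.eq)
  rw [pow_one, pow_two]
  have h2 := h.R_sq hx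
  calc k * x * k⁻¹ * (k * x * k⁻¹) = k * (x * x) * k⁻¹ := by group
    _ = 1 := by rw [h2]; group

/-- `R L` -/
def N : Subgroup G where
  carrier := {w | ∃ r ∈ R, ∃ y ∈ L, w = r * y}
  mul_mem' := by
    rintro _ _ ⟨r, hr, y, hy, rfl⟩ ⟨r', hr', y', hy', rfl⟩
    refine ⟨r * r', mul_mem hr hr', y * y', mul_mem hy hy', ?_⟩
    have := (h.rl hr' hy).eq
    calc r * y * (r' * y') = r * (y * r') * y' := by group
      _ = _ := by rw [← this]; group
  one_mem' := ⟨1, R.one_mem, 1, L.one_mem, by group⟩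
  inv_mem' := by
    rintro _ ⟨r, hr, y, hy, rfl⟩
    refine ⟨r⁻¹, inv_mem hr, y⁻¹, inv_mem hy, ?_⟩
    rw [mul_inv_rev]
    exact ((h.rl hr hy).inv_inv).symm.eq

theorem mem_N {w : G} : w ∈ h.N ↔ ∃ r ∈ R, ∃ y ∈ L, w = r * y := Iff.rfl

theorem conj_mem_N {k : G} (hk : k ∈ K) (hU : KU B k) {x : G} (hx : x ∈ R) : k * x * k⁻¹ ∈ h.N := by
  by_cases hn : k ∈ normalizer (L : Set G)
  · exact ⟨_, h.M2 hk hU hn hx, 1, L.one_mem, by group⟩
  · by_cases h1 : x = 1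
    · rw [h1]
      have : k * 1 * k⁻¹ = 1 := by group
      rw [this]; exact one_mem _
    · obtain ⟨r, hr, y, hy, e⟩ := h.M1 hk hU hn hx h1
      exact ⟨r, hr, y, h.LM_mem hy, e⟩

/-- (M3) -/
theorem mul_conj_eq {k : G} (hk : k ∈ K) {t : G} (ht : t ∈ Q) (m r : F) :
    t * (B.zs m * B.zl r) * (k * (t * (B.zs m * B.zl r)) * k⁻¹) =
      (B.zs m * B.zl r) * (k * (B.zs m * B.zl r) * k⁻¹) := by
  have h1 := (h.tk ht hk).eq
  have h2 := (h.tk ht (h.zmem m r)).eq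
  have h3 := h.Q_sq ht
  calc t * (B.zs m * B.zl r) * (k * (t * (B.zs m * B.zl r)) * k⁻¹)
      = t * (B.zs m * B.zl r) * (k * t) * (B.zs m * B.zl r) * k⁻¹ := by group
    _ = t * ((B.zs m * B.zl r) * t) * k * (B.zs m * B.zl r) * k⁻¹ := by rw [← h1]; group
    _ = (t * t) * (B.zs m * B.zl r) * k * (B.zs m * B.zl r) * k⁻¹ := by rw [← h2]; group
    _ = _ := by rw [h3]; group

theorem M3 {k : G} (hk : k ∈ K) (hU : KU B k) {t : G} (ht : t ∈ Q) {m r : F} (hx : t * (B.zs m * B.zl r) ∈ R) :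
    (B.zs m * B.zl r) * (k * (B.zs m * B.zl r) * k⁻¹) ∈ h.N := by
  rw [← h.mul_conj_eq hk ht m r]
  exact mul_mem ⟨_, hx, 1, L.one_mem, by group⟩ (h.conj_mem_N hk hU hx)

/-! ### (M4), (M5) -/

omit h [Finite G] in
theorem genZ (hF : 4 ≤ Nat.card F) {D : Subgroup G} (hD : ∀ c γ : F, γ ≠ 0 → B.zs (c * γ) * B.zl (c ^ 2 * γ) ∈ D) :
    (∀ m, B.zs m ∈ D) ∧ ∀ r, B.zl r ∈ D := by
  have h1 : ∀ δ : F, δ ≠ 0 → B.zs 1 * B.zl δ ∈ D := by
    intro δ hδ
    have := hD δ δ⁻¹ (inv_ne_zero hδ)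
    rwa [mul_inv_cancel₀ hδ, sq, mul_assoc, mul_inv_cancel₀ hδ, mul_one] at this
  have h2 : ∀ r, B.zl r ∈ D := by
    intro r
    obtain ⟨d, hd, hdr⟩ := SpFourPar.exists_ne_ne hF r
    have h3 : r + d ≠ 0 := fun h => hdr (CharTwo.add_eq_zero.1 h).symm
    have h4 := mul_mem (inv_mem (h1 d hd)) (h1 _ h3)
    have h5 : (B.zs 1 * B.zl d)⁻¹ * (B.zs 1 * B.zl (r + d)) = B.zl r := by
      rw [B.zl_add, (Comm.comm_of_add B.zl_add r d).eq]; group
    rwa [h5] at h4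
  refine ⟨fun m => ?_, h2⟩
  have h3 := hD m 1 one_ne_zero
  have h4 := mul_mem h3 (inv_mem (h2 (m ^ 2 * 1)))
  rwa [mul_inv_cancel_right, mul_one] at h4

omit h [Finite F] [Finite G] in
theorem na_conj (α β : Fˣ) (c m r : F) : B.xa c * B.h α β * B.na * (B.zs m * B.zl r) * (B.xa c * B.h α β * B.na)⁻¹ =
    nf B 0 (β * r) (α * β * m + c * (β * r)) (c ^ 2 * (β * r)) := by
  have e1 : B.na * (B.zs m * B.zl r) * B.na⁻¹ = nf B 0 r m 0 := by
    rw [mul_conj, na_zs', na_zl']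
    unfold nf
    rw [B.xa_zero, B.zl_zero, one_mul, mul_one, (B.xb_zs _ _).eq]
  calc B.xa c * B.h α β * B.na * (B.zs m * B.zl r) * (B.xa c * B.h α β * B.na)⁻¹
      = B.xa c * (B.h α β * (B.na * (B.zs m * B.zl r) * B.na⁻¹) * (B.h α β)⁻¹) * (B.xa c)⁻¹ := by group
    _ = _ := by
        rw [e1, h_nf, xa_eq, nf_conj]
        congr 1 <;> ring

omit h [Finite F] [Finite G] in
theorem nb_conj (α β : Fˣ) (m r : F) : B.h α β * B.nb * (B.zs m * B.zl r) * (B.h α β * B.nb)⁻¹ =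
    nf B (α * m) 0 0 (α ^ 2 * β * r) := by
  have e1 : B.nb * (B.zs m * B.zl r) * B.nb⁻¹ = nf B m 0 0 r := by
    rw [mul_conj, nb_zs', nb_zl']
    unfold nf
    rw [B.xb_zero, B.zs_zero, mul_one, mul_one]
  calc B.h α β * B.nb * (B.zs m * B.zl r) * (B.h α β * B.nb)⁻¹
      = B.h α β * (B.nb * (B.zs m * B.zl r) * B.nb⁻¹) * (B.h α β)⁻¹ := by group
    _ = _ := by
        rw [e1, h_nf]
        congr 1 <;> ring

omit h [Finite F] [Finite G] in
theorem h_conj (α β : Fˣ) (m r : F) : B.h α β * (B.zs m * B.zl r) * (B.h α β)⁻¹ =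
    B.zs (α * β * m) * B.zl (α ^ 2 * β * r) := by
  rw [mul_conj, h_zs', h_zl']

/-- a nontrivial element of `R` -/
theorem exists_R : ∃ t ∈ Q, ∃ m r, m ≠ 0 ∧ r ≠ 0 ∧ t * (B.zs m * B.zl r) ∈ R := by
  obtain ⟨x, hx, _, _, _, _, _, h1, _⟩ := h.fr.exists_four
  obtain ⟨t, ht, m, r, hm, hr, e⟩ := h.typ x hx h1
  exact ⟨t, ht, m, r, hm, hr, e ▸ hx⟩

/-- (M4) -/
theorem M4 : (∀ m, B.zs m ∈ h.N) ∧ (∀ r, B.zl r ∈ h.N) ∧ (∀ u, B.xa u ∈ h.N) ∧ ∀ s, B.xb s ∈ h.N := by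
  obtain ⟨t, ht, m, r, hm, hr, hx⟩ := h.exists_R
  have hh := h.hK.h_mem
  have hw : ∀ (c : F) (β : Fˣ), nf B 0 0 m r * nf B 0 (β * r) (β * m + c * (β * r)) (c ^ 2 * (β * r)) ∈ h.N := by
    intro c β
    have h1 := h.M3 (k := B.xa c * B.h 1 β * B.na) (mul_mem (mul_mem (h.hK.xa_mem c) (hh 1 β)) h.hK.na_mem)
      (fun m r => by rw [na_conj]; exact isU_nf _ _ _ _) ht hx
    rw [na_conj, Units.val_one, one_mul] at h1
    rwa [← z_eq]
  have hz := genZ (B := B) h.hF (D := h.N) (by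
    intro c γ hγ
    have h1 := hw c (Units.mk0 (γ / r) (div_ne_zero hγ hr))
    have h2 := hw 0 (Units.mk0 (γ / r) (div_ne_zero hγ hr))
    have e : ((Units.mk0 (γ / r) (div_ne_zero hγ hr) : Fˣ) : F) * r = γ := by
      rw [Units.val_mk0]; field_simp
    rw [e] at h1 h2
    have h3 := mul_mem (inv_mem h2) h1
    have h4 : ∀ a b : F, (nf B 0 0 m r * nf B 0 γ a (0 ^ 2 * γ))⁻¹ * (nf B 0 0 m r * nf B 0 γ (a + b) (c ^ 2 * γ)) =
        B.zs b * B.zl (c ^ 2 * γ) := by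
      intro a b
      have h2 : (2 : F) = 0 := CharTwo.two_eq_zero
      have : (nf B 0 0 m r * nf B 0 γ a (0 ^ 2 * γ))⁻¹ * (nf B 0 0 m r * nf B 0 γ (a + b) (c ^ 2 * γ)) =
        (nf B 0 γ a (0 ^ 2 * γ))⁻¹ * nf B 0 γ (a + b) (c ^ 2 * γ) := by group
      rw [this, nf_inv, nf_mul, z_eq]
      congr 1
      · ring
      · linear_combination γ * h2
      · linear_combination a * h2
      · ring
    rw [zero_mul, add_zero, h4] at h3
    exact h3)
  refine ⟨hz.1, hz.2, ?_, ?_⟩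
  · intro u
    by_cases hu : u = 0
    · rw [hu, B.xa_zero]; exact one_mem _
    have h1 := h.M3 (k := B.h (Units.mk0 (u / m) (div_ne_zero hu hm)) 1 * B.nb) (mul_mem (hh _ 1) h.hK.nb_mem)
      (fun m r => by rw [nb_conj]; exact isU_nf _ _ _ _) ht hx
    rw [nb_conj, Units.val_mk0, Units.val_one] at h1
    have e : u / m * m = u := by field_simp
    have h2 := mul_mem (inv_mem (mul_mem (hz.1 m) (hz.2 r))) h1
    rw [inv_mul_cancel_left, e] at h2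
    have h3 := mul_mem h2 (inv_mem (hz.2 ((u / m) ^ 2 * 1 * r)))
    have h4 : nf B u 0 0 ((u / m) ^ 2 * 1 * r) * (B.zl ((u / m) ^ 2 * 1 * r))⁻¹ = B.xa u := by
      unfold nf
      rw [B.xb_zero, B.zs_zero]; group
    rwa [h4] at h3
  · intro s
    by_cases hs : s = 0
    · rw [hs, B.xb_zero]; exact one_mem _
    have h1 := hw 0 (Units.mk0 (s / r) (div_ne_zero hs hr))
    rw [Units.val_mk0, ← z_eq] at h1
    have e : s / r * r = s := by field_simp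
    have h2 := mul_mem (inv_mem (mul_mem (hz.1 m) (hz.2 r))) h1
    rw [inv_mul_cancel_left, e] at h2
    have h3 := mul_mem h2 (inv_mem (mul_mem (hz.1 (s / r * m + 0 * s)) (hz.2 (0 ^ 2 * s))))
    have h4 : nf B 0 s (s / r * m + 0 * s) (0 ^ 2 * s) * (B.zs (s / r * m + 0 * s) * B.zl (0 ^ 2 * s))⁻¹ = B.xb s := by
      unfold nf
      rw [B.xa_zero]; group
    rwa [h4] at h3

theorem U_le_N {u : G} (hu : IsU B u) : u ∈ h.N := by
  obtain ⟨h1, h2, h3, h4⟩ := h.M4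
  obtain ⟨a, s, m, r, rfl⟩ := hu
  exact mul_mem (mul_mem (mul_mem (h3 a) (h4 s)) (h1 m)) (h2 r)

/-- (M5) -/
theorem comm_mem_L {a b : G} (ha : a ∈ h.N) (hb : b ∈ h.N) : a * b * a⁻¹ * b⁻¹ ∈ L := by
  obtain ⟨r, hr, y, hy, rfl⟩ := ha
  obtain ⟨r', hr', y', hy', rfl⟩ := hb
  have e1 := (h.rl hr' hy).eq
  have e2 := (h.R_comm hr hr').eq
  have e3 := (h.rl hr hy').eq
  have e4 := (h.rl hr hy).eq
  have e5 := (h.rl hr' hy').eq
  have h1 : r * y * (r' * y') = r' * y' * (y'⁻¹ * y * y' * r) := by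
    calc r * y * (r' * y') = r * (y * r') * y' := by group
      _ = (r * r') * y * y' := by rw [← e1]; group
      _ = r' * (r * y') * (y'⁻¹ * y * y') := by rw [e2]; group
      _ = r' * y' * (r * (y'⁻¹ * y * y')) := by rw [e3]; group
      _ = _ := by rw [(h.rl hr (mul_mem (mul_mem (inv_mem hy') hy) hy')).eq]
  have h2 : r * y * (r' * y') * (r * y)⁻¹ * (r' * y')⁻¹ = y * y' * y⁻¹ * y'⁻¹ := by
    have h3 : r * y = y * r := e4
    calc r * y * (r' * y') * (r * y)⁻¹ * (r' * y')⁻¹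
        = r' * y' * (y'⁻¹ * y * y' * r) * (r * y)⁻¹ * (r' * y')⁻¹ := by rw [h1]
      _ = r' * y' * (y'⁻¹ * y * y' * r) * (y * r)⁻¹ * (r' * y')⁻¹ := by rw [h3]
      _ = r' * (y * y' * y⁻¹ * y'⁻¹) * r'⁻¹ := by group
      _ = _ := by
        rw [(h.rl hr' (mul_mem (mul_mem (mul_mem hy hy') (inv_mem hy)) (inv_mem hy'))).eq]; group
  rw [h2]
  exact mul_mem (mul_mem (mul_mem hy hy') (inv_mem hy)) (inv_mem hy')

theorem Z_le_L (m r : F) : B.zs m * B.zl r ∈ L := by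
  have h1 := genZ (B := B) h.hF (D := L) (by
    intro c γ _
    have h2 := h.comm_mem_L (h.U_le_N (isU_nf c 0 0 0)) (h.U_le_N (isU_nf 0 γ 0 0))
    rw [nf_comm, ← z_eq] at h2
    have e1 : 0 * 0 + c * γ = c * γ := by ring
    have e2 : 0 ^ 2 * 0 + c ^ 2 * γ = c ^ 2 * γ := by ring
    rwa [e1, e2] at h2)
  exact mul_mem (h1.1 m) (h1.2 r)

/-! ### (M6) -/

/-- `e` with `Q^{e⁻¹}` mixed -/
theorem exists_e : ∃ e, Ctx B K L Q R e ∧
    ∀ q ∈ Q, q ≠ 1 → ∃ t ∈ Q, ∃ m r, m ≠ 0 ∧ r ≠ 0 ∧ q = e * (t * (B.zs m * B.zl r)) * e⁻¹ := by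
  have h2 := fr_cj h.fr.symm g⁻¹
  have e1 : cj g⁻¹ L = K := by rw [h.L_eq, cj_inv_cj]
  have e2 : cj g⁻¹ R = Q := by rw [h.R_eq, cj_inv_cj]
  rw [e1, e2] at h2
  obtain ⟨k, hk, hT⟩ := h.all _ _ h2
  refine ⟨g * k⁻¹, ⟨h.hF, h.hK, h.fr, ?_, ?_, h.typ, h.all⟩, ?_⟩
  · rw [cj_mul, cj_eq_of_mem_normalizer (le_normalizer (inv_mem hk)), h.L_eq]
  · rw [cj_mul, h.R_eq]
    congr 1
    ext x
    rw [mem_cj, inv_inv]
    have hn : k ∈ normalizer (Q : Set G) := by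
      rw [mem_normalizer_iff]
      intro y
      constructor
      · intro hy
        have := (h.tk hy hk).eq
        rw [← this, mul_inv_cancel_right]; exact hy
      · intro hy
        have h3 := (h.tk hy hk).eq
        have h4 : k * y * k⁻¹ = y := by
          have h5 : k * y = k * (k * y * k⁻¹) := by rw [← h3]; group
          exact (mul_left_cancel h5).symm
        rwa [h4] at hy
    exact mem_normalizer_iff.1 hn x
  · intro q hq h1
    have hx' : k * (g⁻¹ * q * g) * k⁻¹ ∈ cj k (cj g⁻¹ Q) := by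
      apply mem_cj_mul
      rw [mem_cj, inv_inv]
      have e : g * (g⁻¹ * q * g) * g⁻¹ = q := by group
      rw [e]; exact hq
    have hne : k * (g⁻¹ * q * g) * k⁻¹ ≠ 1 := by
      intro h3
      apply h1
      calc q = g * k⁻¹ * (k * (g⁻¹ * q * g) * k⁻¹) * k * g⁻¹ := by group
        _ = 1 := by rw [h3]; group
    obtain ⟨t, ht, m, r, hm, hr, e⟩ := hT _ hx' hne
    refine ⟨t, ht, m, r, hm, hr, ?_⟩
    rw [← e]; group

section sym

variable (hs : ∀ q ∈ Q, q ≠ 1 → ∃ t ∈ Q, ∃ m r, m ≠ 0 ∧ r ≠ 0 ∧ q = g * (t * (B.zs m * B.zl r)) * g⁻¹)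

omit h in
theorem isU_K (hK : KCent B K) {v : G} (hv : IsU B v) : v ∈ K := by
  obtain ⟨a, s, m, r, rfl⟩ := hv
  exact mul_mem (mul_mem (mul_mem (hK.xa_mem a) (hK.xb_mem s)) (hK.zs_mem m)) (hK.zl_mem r)

/-- elements of `L` commuting with `Q` -/
theorem isU_of_comm (hs : ∀ q ∈ Q, q ≠ 1 → ∃ t ∈ Q, ∃ m r, m ≠ 0 ∧ r ≠ 0 ∧ q = g * (t * (B.zs m * B.zl r)) * g⁻¹)
    {l : G} (hl : l ∈ L) (hc : ∀ q ∈ Q, Commute l q) : IsU B (g⁻¹ * l * g) := by
  obtain ⟨q, hq, hq2⟩ := exists_inv_syl h.fr.fp.sylQ h.fr.env.even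
  have hne : q ≠ 1 := by
    rintro rfl
    rw [orderOf_one] at hq2
    exact absurd hq2 (by norm_num)
  obtain ⟨t, ht, m, r, hm, hr, e⟩ := hs q hq hne
  have hk : g⁻¹ * l * g ∈ K := by rw [← mem_cj, ← h.L_eq]; exact hl
  apply h.hK.cent_m _ hk m r hm hr
  have h1 : Commute (g⁻¹ * l * g) (t * (B.zs m * B.zl r)) := by
    have h2 := (hc q hq).eq
    rw [e] at h2
    calc g⁻¹ * l * g * (t * (B.zs m * B.zl r)) = g⁻¹ * (l * (g * (t * (B.zs m * B.zl r)) * g⁻¹)) * g := by group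
      _ = g⁻¹ * (g * (t * (B.zs m * B.zl r)) * g⁻¹ * l) * g := by rw [h2]
      _ = _ := by group
  have h3 := (h.tk ht hk).symm
  have h4 := h3.inv_right.mul_right h1
  rwa [inv_mul_cancel_left] at h4

/-- `R ∩ U = 1` -/
theorem eq_one_of_RU {x : G} (hx : x ∈ R) (hU : IsU B x) : x = 1 := by
  have key : ∀ v, IsU B v → Commute x v := by
    intro v hv
    obtain ⟨r, hr, y, hy, rfl⟩ := h.U_le_N hv
    exact (h.R_comm hx hr).mul_right (h.rl hx hy)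
  obtain ⟨m, r, e⟩ := center_U hU (key _ (isU_xa 1)) (key _ (isU_xb 1))
  have h1 : x ∈ L := by rw [e]; exact h.Z_le_L m r
  exact (h.uniqL hx L.one_mem R.one_mem h1 (by rw [mul_one, one_mul])).1

/-- `g z_s(1) g⁻¹ ∈ Z` -/
theorem exists_z0 (hs : ∀ q ∈ Q, q ≠ 1 → ∃ t ∈ Q, ∃ m r, m ≠ 0 ∧ r ≠ 0 ∧ q = g * (t * (B.zs m * B.zl r)) * g⁻¹) :
    ∃ m0 n0, g * B.zs 1 * g⁻¹ = B.zs m0 * B.zl n0 := by
  have hex : ∀ u : ↥(UU B), ∃ v : ↥(UU B), ∃ r ∈ R, (u : G) = r * (g * v * g⁻¹) := by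
    rintro ⟨u, hu⟩
    obtain ⟨r, hr, y, hy, e⟩ := h.U_le_N hu
    have h1 : ∀ q ∈ Q, Commute y q := by
      intro q hq
      have h2 : y = r⁻¹ * u := by rw [e]; group
      rw [h2]
      exact (show Commute r q from (h.fr.fp.comm q hq r hr).symm).inv_left.mul_left
        (h.tk hq (isU_K h.hK hu)).symm
    refine ⟨⟨g⁻¹ * y * g, h.isU_of_comm hs hy h1⟩, r, hr, ?_⟩
    show u = r * (g * (g⁻¹ * y * g) * g⁻¹)
    rw [e]; group
  choose κ r hr e using hex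
  have hinj : Function.Injective κ := by
    intro u u' hu
    have e1 := e u
    have e2 := e u'
    rw [hu] at e1
    have h1 : (u : G) * (u' : G)⁻¹ = r u * (r u')⁻¹ := by
      rw [e1, e2]; group
    have h2 := h.eq_one_of_RU (mul_mem (hr u) (inv_mem (hr u'))) (h1 ▸ (mul_mem u.2 (inv_mem u'.2) : (u : G) * (u' : G)⁻¹ ∈ UU B))
    rw [h2] at h1
    exact Subtype.ext (mul_inv_eq_one.1 h1)
  obtain ⟨u, hu⟩ := Finite.surjective_of_injective hinj ⟨B.zs 1, isU_zs 1⟩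
  have e0 := e u
  rw [hu] at e0
  change (u : G) = r u * (g * B.zs 1 * g⁻¹) at e0
  have hz0 : g * B.zs 1 * g⁻¹ ∈ L := by rw [h.L_eq]; exact mem_cj_mul (h.hK.zs_mem 1)
  have key : ∀ v, IsU B v → Commute (u : G) v := by
    intro v hv
    have e1 := e ⟨v, hv⟩
    change v = _ at e1
    rw [e1, e0]
    have hL : g * (κ ⟨v, hv⟩ : G) * g⁻¹ ∈ L := by
      rw [h.L_eq]; exact mem_cj_mul (isU_K h.hK (κ ⟨v, hv⟩).2)
    have hc : Commute (g * B.zs 1 * g⁻¹) (g * (κ ⟨v, hv⟩ : G) * g⁻¹) := by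
      have h1 := (zs_comm (κ ⟨v, hv⟩).2 1).symm.eq
      calc g * B.zs 1 * g⁻¹ * (g * (κ ⟨v, hv⟩ : G) * g⁻¹) = g * (B.zs 1 * (κ ⟨v, hv⟩ : G)) * g⁻¹ := by group
        _ = _ := by rw [h1]; group
    exact ((h.R_comm (hr u) (hr _)).mul_right (h.rl (hr u) hL)).mul_left
      (((h.rl (hr _) hz0).symm).mul_right hc)
  obtain ⟨m0, n0, e1⟩ := center_U u.2 (key _ (isU_xa 1)) (key _ (isU_xb 1))
  refine ⟨m0, n0, ?_⟩
  have h2 := h.uniqL R.one_mem (h.Z_le_L m0 n0) (hr u) hz0 (by rw [one_mul, ← e1]; exact e0)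
  exact h2.2.symm

/-! ### (M7) -/

/-- an element of `R` with prescribed components avoided -/
theorem exists_good (m0 n0 : F) : ∃ t ∈ Q, ∃ m r, m ≠ 0 ∧ r ≠ 0 ∧ m + m0 ≠ 0 ∧ r + n0 ≠ 0 ∧
    t * (B.zs m * B.zl r) ∈ R := by
  obtain ⟨x1, hx1, x2, hx2, s1, s2, _, n1, n2, n12⟩ := h.fr.exists_four
  obtain ⟨t1, ht1, m1, r1, hm1, hr1, e1⟩ := h.typ x1 hx1 n1
  obtain ⟨t2, ht2, m2, r2, hm2, hr2, e2⟩ := h.typ x2 hx2 n2
  have n3 : x1 * x2 ≠ 1 := by
    intro h1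
    apply n12
    exact mul_right_cancel (h1.trans s2.symm)
  obtain ⟨t3, ht3, m3, r3, hm3, hr3, e3⟩ := h.typ _ (mul_mem hx1 hx2) n3
  have e4 : x1 * x2 = (t1 * t2) * (B.zs (m1 + m2) * B.zl (r1 + r2)) := by
    have c1 := (h.tk ht2 (h.zmem m1 r1)).eq
    have c2 := (B.zs_zl m2 r1).eq
    rw [e1, e2, B.zs_add, B.zl_add]
    calc t1 * (B.zs m1 * B.zl r1) * (t2 * (B.zs m2 * B.zl r2))
        = t1 * ((B.zs m1 * B.zl r1) * t2) * (B.zs m2 * B.zl r2) := by group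
      _ = t1 * t2 * (B.zs m1 * (B.zl r1 * B.zs m2) * B.zl r2) := by rw [← c1]; group
      _ = _ := by rw [← c2]; group
  have h5 := h.uniq (mul_mem ht1 ht2) (h.zmem _ _) ht3 (h.zmem _ _) (e4.symm.trans e3)
  obtain ⟨h6, h7⟩ := Comm.zz_inj B h5.2
  rw [← h6] at hm3
  rw [← h7] at hr3
  have hR1 : t1 * (B.zs m1 * B.zl r1) ∈ R := e1 ▸ hx1
  have hR2 : t2 * (B.zs m2 * B.zl r2) ∈ R := e2 ▸ hx2
  have hR3 : t1 * t2 * (B.zs (m1 + m2) * B.zl (r1 + r2)) ∈ R := e4 ▸ mul_mem hx1 hx2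
  by_cases a1 : m1 + m0 = 0
  · have a2 : m2 + m0 ≠ 0 := by
      intro h8
      apply hm3
      rw [CharTwo.add_eq_zero.1 a1, CharTwo.add_eq_zero.1 h8, CharTwo.add_self_eq_zero]
    by_cases b2 : r2 + n0 = 0
    · refine ⟨_, mul_mem ht1 ht2, m1 + m2, r1 + r2, hm3, hr3, ?_, ?_, hR3⟩
      · rw [CharTwo.add_eq_zero.1 a1]
        intro h8
        apply hm2
        have h2 : (2 : F) = 0 := CharTwo.two_eq_zero
        linear_combination h8 - m0 * h2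
      · rw [CharTwo.add_eq_zero.1 b2]
        intro h8
        apply hr1
        have h2 : (2 : F) = 0 := CharTwo.two_eq_zero
        linear_combination h8 - n0 * h2
    · exact ⟨t2, ht2, m2, r2, hm2, hr2, a2, b2, hR2⟩
  · by_cases b1 : r1 + n0 = 0
    · have b2 : r2 + n0 ≠ 0 := by
        intro h8
        apply hr3
        rw [CharTwo.add_eq_zero.1 b1, CharTwo.add_eq_zero.1 h8, CharTwo.add_self_eq_zero]
      by_cases a2 : m2 + m0 = 0
      · refine ⟨_, mul_mem ht1 ht2, m1 + m2, r1 + r2, hm3, hr3, ?_, ?_, hR3⟩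
        · rw [CharTwo.add_eq_zero.1 a2]
          intro h8
          apply hm1
          have h2 : (2 : F) = 0 := CharTwo.two_eq_zero
          linear_combination h8 - m0 * h2
        · rw [CharTwo.add_eq_zero.1 b1]
          intro h8
          apply hr2
          have h2 : (2 : F) = 0 := CharTwo.two_eq_zero
          linear_combination h8 - n0 * h2
      · exact ⟨t2, ht2, m2, r2, hm2, hr2, a2, b2, hR2⟩
    · exact ⟨t1, ht1, m1, r1, hm1, hr1, a1, b1, hR1⟩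

/-- `z_s(1)` is not conjugate in `K` to a mixed element -/
theorem not_mixed {k : G} (hk : k ∈ K) {m r : F} (hm : m ≠ 0) (hr : r ≠ 0)
    (e : B.zs 1 = k * (B.zs m * B.zl r) * k⁻¹) : False := by
  have key : ∀ w ∈ K, Commute w (B.zs 1) → IsU B (k⁻¹ * w * k) := by
    intro w hw hc
    apply h.hK.cent_m _ (mul_mem (mul_mem (inv_mem hk) hw) hk) m r hm hr
    have h1 := hc.eq
    rw [e] at h1
    calc k⁻¹ * w * k * (B.zs m * B.zl r) = k⁻¹ * (w * (k * (B.zs m * B.zl r) * k⁻¹)) * k := by group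
      _ = k⁻¹ * (k * (B.zs m * B.zl r) * k⁻¹ * w) * k := by rw [h1]
      _ = _ := by group
  let f : ↥(UU B) → ↥(UU B) := fun u => ⟨k⁻¹ * u * k, key u (isU_K h.hK u.2) (zs_comm u.2 1)⟩
  have hinj : Function.Injective f := by
    intro u u' hu
    have h1 : k⁻¹ * (u : G) * k = k⁻¹ * (u' : G) * k := congrArg Subtype.val hu
    exact Subtype.ext (mul_left_cancel (mul_right_cancel h1))
  obtain ⟨u, hu⟩ := Finite.surjective_of_injective hinj ⟨_, key B.na h.hK.na_mem (B.na_zs 1)⟩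
  have h1 : k⁻¹ * (u : G) * k = k⁻¹ * B.na * k := congrArg Subtype.val hu
  have h2 : (u : G) = B.na := mul_left_cancel (mul_right_cancel h1)
  have h3 : IsU B B.na := h2 ▸ u.2
  have h4 := h.hK.na_xa 1 (IsU.mul (IsU.mul h3 (isU_xa 1)) (IsU.inv h3))
  exact one_ne_zero h4

theorem false_of (hs : ∀ q ∈ Q, q ≠ 1 → ∃ t ∈ Q, ∃ m r, m ≠ 0 ∧ r ≠ 0 ∧ q = g * (t * (B.zs m * B.zl r)) * g⁻¹) :
    False := by
  obtain ⟨m0, n0, e0⟩ := h.exists_z0 hs
  obtain ⟨t, ht, m, r, hm, hr, hm0, hr0, hx⟩ := h.exists_good m0 n0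
  -- the torus element
  let γ : Fˣ := Units.mk0 ((m + m0) / m) (div_ne_zero hm0 hm)
  let δ : Fˣ := Units.mk0 ((r + n0) / r) (div_ne_zero hr0 hr)
  let α : Fˣ := δ * γ⁻¹
  let β : Fˣ := γ * α⁻¹
  have hαβ : α * β = γ := by simp only [β]; rw [mul_comm γ, mul_inv_cancel_left]
  have hααβ : α ^ 2 * β = δ := by
    rw [pow_two, mul_assoc, hαβ]; simp only [α]; rw [inv_mul_cancel_right]
  have e1 : (α : F) * β * m = m + m0 := by
    rw [← Units.val_mul, hαβ]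
    simp only [γ, Units.val_mk0]
    field_simp
  have e2 : (α : F) ^ 2 * β * r = r + n0 := by
    rw [← Units.val_pow_eq_pow_val, ← Units.val_mul, hααβ]
    simp only [δ, Units.val_mk0]
    field_simp
  have hk := h.hK.h_mem α β
  have hU : KU B (B.h α β) := by
    intro m r
    rw [h_conj]; exact isU_z _ _
  have h1 := h.mul_conj_eq hk ht m r
  rw [h_conj, e1, e2] at h1
  have h2 : B.zs m * B.zl r * (B.zs (m + m0) * B.zl (r + n0)) = B.zs m0 * B.zl n0 := by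
    rw [z_eq, z_eq, z_eq, nf_mul]
    have h2 : (2 : F) = 0 := CharTwo.two_eq_zero
    congr 1
    · ring
    · ring
    · linear_combination m * h2
    · linear_combination r * h2
  rw [h2, ← e0] at h1
  have hz0 : g * B.zs 1 * g⁻¹ ∈ L := by rw [h.L_eq]; exact mem_cj_mul (h.hK.zs_mem 1)
  by_cases hn : B.h α β ∈ normalizer (L : Set G)
  · have h3 := mul_mem hx (h.M2 hk hU hn hx)
    rw [h1] at h3
    have h4 := (h.uniqL h3 L.one_mem R.one_mem hz0 (by rw [mul_one, one_mul])).1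
    have h5 : B.zs 1 = 1 := by
      calc B.zs 1 = g⁻¹ * (g * B.zs 1 * g⁻¹) * g := by group
        _ = 1 := by rw [h4]; group
    have h6 := Comm.zs_inj B (h5.trans B.zs_zero.symm)
    exact one_ne_zero h6
  · have hx1 : t * (B.zs m * B.zl r) ≠ 1 := by
      intro h3
      have h4 := h.uniq ht (h.zmem m r) Q.one_mem K.one_mem (by rw [h3, one_mul])
      have h5 := Comm.zz_inj B (m := m) (r := r) (m' := 0) (r' := 0) (by rw [h4.2, B.zs_zero, B.zl_zero, one_mul])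
      exact hm h5.1
    obtain ⟨r', hr', y, ⟨k, hk', m', n', hm', hn', rfl⟩, e3⟩ := h.M1 hk hU hn hx hx1
    rw [e3] at h1
    have hyL : g * k * (B.zs m' * B.zl n') * k⁻¹ * g⁻¹ ∈ L := h.LM_mem ⟨k, hk', m', n', hm', hn', rfl⟩
    have h3 := h.uniqL (mul_mem hx hr') hyL R.one_mem hz0 (by rw [one_mul, ← h1]; group)
    refine h.not_mixed hk' hm' hn' ?_
    have h4 := h3.2
    calc B.zs 1 = g⁻¹ * (g * B.zs 1 * g⁻¹) * g := by group
      _ = g⁻¹ * (g * k * (B.zs m' * B.zl n') * k⁻¹ * g⁻¹) * g := by rw [h4]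
      _ = _ := by group

end sym

end Ctx

/-- **(M)** some frame has root type -/
theorem exists_root [Finite G] [CharP F 2] [Finite F] {B : Base F G} {K Q : Subgroup G} (hF : 4 ≤ Nat.card F)
    (hK : KCent B K) (hT1 : ∀ L R, Fr K L Q R → HasTyp B K Q R) (hex : ∃ L R, Fr K L Q R) :
    ∃ L R, Fr K L Q R ∧ (TypL B K Q R ∨ TypS B K Q R) := by
  by_contra hcon
  push Not at hcon
  have hall : ∀ L R, Fr K L Q R → ∃ k ∈ K, TypM B Q (cj k R) := by
    intro L R hf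
    obtain ⟨k, hk, h1 | h1 | h1⟩ := hT1 L R hf
    · exact absurd h1 (hcon _ _ (hf.conj hk)).1
    · exact absurd h1 (hcon _ _ (hf.conj hk)).2
    · exact ⟨k, hk, h1⟩
  obtain ⟨L, R, hf⟩ := hex
  obtain ⟨k, hk, hT⟩ := hall L R hf
  have hf' := hf.conj hk
  obtain ⟨g, e1, e2⟩ := exists_g hf'
  have hc : Ctx B K (cj k L) Q (cj k R) g := ⟨hF, hK, hf', e1, e2, hT, hall⟩
  obtain ⟨e, he, hs⟩ := hc.exists_e
  exact he.false_of hs

end Cfsg.Agent.OddHalf.D4.SpFourMix
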