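import Mathlib
import Cfsg.Agent.OddHalf.D4.SpFourSetup
import Cfsg.Agent.OddHalf.D4.SpFourMix
import Cfsg.Agent.OddHalf.D4.SpFourEnd
import Cfsg.Agent.OddHalf.D4.Start

/-!
# ODD D4: the row `K = Sp₄(q)`, `q = 2^a ≥ 4`
-/

set_option autoImplicit false
set_option linter.unusedSectionVars false

namespace Cfsg.Agent.OddHalf.D4.SpFourRow

open Cfsg.Agent.StdSpFour Subgroup Cfsg.Agent.OddHalf.D4 Cfsg.Agent.OddHalf.D4.Basic
open Cfsg.Agent.OddHalf.D4.SpFourDefs Cfsg.Agent.OddHalf.D4.SpFourCent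
open Cfsg.Agent.OddHalf.D4.SpFourFr Cfsg.Agent.OddHalf.D4.SpFourTyp Cfsg.Agent.OddHalf.D4.SpFourSetup
open Cfsg.Agent.StdSpFour.Swap (swap)
open Cfsg.Agent.OddHalf.D4.CommConj (cj mem_cj mem_cj_mul)

universe u

section

variable {F : Type*} [Field F] [CharP F 2] [Finite F] {G : Type u} [Group G] [Finite G]
variable {B : Base F G} {K L Q R : Subgroup G}

/-- the squares of the elements of `Q` are trivial if `R ≤ Q Z` with component map `z` -/
theorem sq_of_comp (h : Fr K L Q R) {g : G} (hR : R = cj g Q)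
    (hc : ∀ x ∈ R, ∃ t ∈ Q, ∃ z ∈ K, z * z = 1 ∧ x = t * z) : ∀ x ∈ Q, x * x = 1 := by
  have h1 : ∀ x ∈ R, x * x = 1 := by
    intro x hx
    obtain ⟨t, ht, z, hz, hzz, e⟩ := hc x hx
    have h2 : z * t = t * z := mem_centralizer_iff.mp (h.fp.sylQ.le ht) z hz
    have h3 : x * x = t * t := by
      rw [e]
      calc t * z * (t * z) = t * (z * t) * z := by group
        _ = t * t * (z * z) := by rw [h2]; group
        _ = t * t := by rw [hzz, mul_one]
    have h4 : ∃ k : ℕ, (x * x) ^ 2 ^ k = 1 := h.two (R.mul_mem hx hx)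
    exact h.eq_one (by rw [h3]; exact mul_mem (h.fp.sylQ.le ht) (h.fp.sylQ.le ht))
      (mul_mem (h.fp.sylU.le hx) (h.fp.sylU.le hx)) h4
  intro x hx
  have h2 : g * x * g⁻¹ ∈ R := by rw [hR]; exact mem_cj_mul hx
  have h3 := h1 _ h2
  calc x * x = g⁻¹ * (g * x * g⁻¹ * (g * x * g⁻¹)) * g := by group
    _ = 1 := by rw [h3]; group

theorem qc (h : Fr K L Q R) (hK : KBase B K) (ht : B.t ∈ Q) (hsq : ∀ x ∈ Q, x * x = 1) : QC B Q := by
  have hc : ∀ t ∈ Q, ∀ k ∈ K, Commute t k := fun t ht k hk =>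
    (mem_centralizer_iff.mp (h.fp.sylQ.le ht) k hk).symm
  refine ⟨ht, hsq, fun t ht u => hc t ht _ (hK.xa_mem u), fun t ht u => hc t ht _ (hK.xb_mem u),
    fun t ht u => hc t ht _ (hK.zs_mem u), fun t ht u => hc t ht _ (hK.zl_mem u),
    fun t ht α β => hc t ht _ (hK.h_mem α β), fun t ht => hc t ht _ hK.na_mem, fun t ht => hc t ht _ hK.nb_mem, ?_⟩
  intro t ht u s m r e
  refine h.env.cen t ?_ (h.fp.sylQ.le ht)
  rw [← e]
  exact mul_mem (mul_mem (mul_mem (hK.xa_mem u) (hK.xb_mem s)) (hK.zs_mem m)) (hK.zl_mem r)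

theorem ne_of (h : Fr K L Q R) {g : G} (hR : R = cj g Q) : ∃ t ∈ Q, g * t * g⁻¹ ∉ Q := by
  by_contra hcon
  push Not at hcon
  obtain ⟨x, hx, -, -, -, -, -, hx1, -⟩ := h.exists_four
  have h1 : x ∈ Q := by
    have h2 := hx
    rw [hR, mem_cj] at h2
    have h3 := hcon _ h2
    have e : g * (g⁻¹ * x * g) * g⁻¹ = x := by group
    rwa [e] at h3
  exact hx1 (h.eq_one (h.fp.sylQ.le h1) (h.fp.sylU.le hx) (h.two hx))

/-- root type is impossible -/
theorem false_of_root (hF : 4 ≤ Nat.card F) (hK : KCent B K) (hA : KAut B K) (h : Fr K L Q R) (ht : B.t ∈ Q)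
    (hT : TypL B K Q R ∨ TypS B K Q R) : False := by
  have := Fintype.ofFinite F
  rw [Nat.card_eq_fintype_card] at hF
  obtain ⟨g, -, hR⟩ := SpFourMix.exists_g h
  obtain ⟨x, hx, y, hy, -, -, -, hx1, hy1, hxy⟩ := h.symm.exists_four
  have h4 : ∃ t1 ∈ Q, ∃ t2 ∈ Q, t1 ≠ 1 ∧ t2 ≠ 1 ∧ t1 ≠ t2 := ⟨x, hx, y, hy, hx1, hy1, hxy⟩
  have hmem : ∀ t ∈ Q, g * t * g⁻¹ ∈ R := fun t ht => by rw [hR]; exact mem_cj_mul ht
  have hone : ∀ t, g * t * g⁻¹ = 1 → t = 1 := by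
    intro t e
    calc t = g⁻¹ * (g * t * g⁻¹) * g := by group
      _ = 1 := by rw [e]; group
  rcases hT with ⟨h1, h2⟩ | ⟨h1, h2⟩
  · have hsq := sq_of_comp h hR (by
      intro x hx
      obtain ⟨t, ht, r, e⟩ := h1 x hx
      exact ⟨t, ht, B.zl r, hK.zl_mem r, Comm.sq_of_add B.zl_add r, e⟩)
    have hqc := qc h hK.toKBase ht hsq
    refine SpFourEnd.endL hF hK hA h.env h.fp.sylQ hqc h4 (g := g) ⟨?_, ?_, ne_of h hR⟩
    · intro t ht
      obtain ⟨t', ht', r, e⟩ := h1 _ (hmem t ht)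
      exact ⟨t', ht', r, e⟩
    · intro t ht w e
      apply hone
      apply h2 _ (hmem t ht)
      rw [e]
      exact hK.zl_mem w
  · have hsq := sq_of_comp h hR (by
      intro x hx
      obtain ⟨t, ht, r, e⟩ := h1 x hx
      exact ⟨t, ht, B.zs r, hK.zs_mem r, Comm.sq_of_add B.zs_add r, e⟩)
    have hqc := qc h hK.toKBase ht hsq
    refine SpFourEnd.endS hF hK hA h.env h.fp.sylQ hqc h4 (g := g) ⟨?_, ?_, ne_of h hR⟩
    · intro t ht
      obtain ⟨t', ht', r, e⟩ := h1 _ (hmem t ht)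
      exact ⟨t', ht', r, e⟩
    · intro t ht w e
      apply hone
      apply h2 _ (hmem t ht)
      rw [e]
      exact hK.zs_mem w

end

/-- **`Sp₄(q)`, `q ≥ 4` even, is not a standard subgroup with `m₂(C(K)) ≥ 2`.** -/
theorem false_of_std {F : Type*} [Field F] [CharP F 2] [Finite F] (hF : 4 ≤ Nat.card F) {G : Type u} [Group G]
    [Finite G] [IsSimpleGroup G] (h1173 : Cfsg.oddCore G = ⊥ → EvenPair.H1173 G) {K : Subgroup G}
    (hstd : Cfsg.IsStandardSubgroup K) (hs : IsSimpleGroup ↥K)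
    (hrk : ¬ Cfsg.PRankLE 2 1 ↥(centralizer (K : Set G))) (e : ↥K ≃* Cfsg.PSp 2 F) : False := by
  have hsch : Cfsg.Agent.Schreier.Basic.Sch ↥K :=
    Cfsg.Agent.Schreier.Basic.Sch.of_equiv e.symm
      (Cfsg.Agent.Schreier.ClassPSp.sch (m := 2) (F := F) le_rfl (fun _ => by omega))
  have env := env_of_std hstd hsch hrk
  have hperf : ⁅K, K⁆ = K := by
    have h1 : ⁅(⊤ : Subgroup ↥K), (⊤ : Subgroup ↥K)⁆ = ⊤ := hstd.1.1.commutator_eq_top
    have h2 := congrArg (Subgroup.map K.subtype) h1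
    rw [Subgroup.map_commutator, ← MonoidHom.range_eq_map, Subgroup.range_subtype] at h2
    exact h2
  obtain ⟨a, b, ha, hb, ha2, hb2, hab, hne⟩ := env.four
  obtain ⟨B0, -, hK0, hA0⟩ := exists_base hF hstd e ha2 ha (fun h => by
    have h1 := env.cen a h ha
    rw [h1, orderOf_one] at ha2
    exact absurd ha2 (by norm_num))
  obtain ⟨g, hg, r, hr, hr2, hrg⟩ := EvenPair.exists_even (h1173 (Start.oddCore_eq_bot ha2)) env.tight env.even
    env.ne hperf (fun k hk c hc => mem_centralizer_iff.mp hc k hk)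
  obtain ⟨E, hE⟩ := env.tight.exists_maxE hg hr hr2 hrg
  obtain ⟨L, Q, R, hfp, -, -⟩ := Exists.fullPair_of_maxE env.tight env.cen
    (fun T hT y hy hc => inner hK0 hA0 hT hy hc) hE
  have hfr : Fr K L Q R := ⟨env, hfp⟩
  obtain ⟨t, ht, -, -, htt, -, -, ht1, -⟩ := hfr.symm.exists_four
  have ht2 : orderOf t = 2 := orderOf_eq_prime (by rw [pow_two, htt]) ht1
  obtain ⟨B, hBt, hK, hA⟩ := exists_base hF hstd e ht2 (hfp.sylQ.le ht) (fun h =>
    ht1 (env.cen t h (hfp.sylQ.le ht)))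
  obtain ⟨L', R', hfr', hT⟩ := SpFourMix.exists_root hF hK (fun L R hf => SpFourTOne.hasTyp hF hK hA hf) ⟨L, R, hfr⟩
  exact false_of_root hF hK hA hfr' (by rw [hBt]; exact ht) hT

/-- **The row `Sp_4(2^a)`, `a ≥ 2`.** -/
theorem row (h1173 : Start.P1173.{u}) : Cut.Row1.{u} (fun K _ => Cut.Sp4e K) := by
  intro G _ hG K hK hrk hz hP
  have := hG.fin
  have := hG.simple
  obtain ⟨F, _, _, a, ha, hcard, ⟨e⟩⟩ := hP
  have hchar : CharP F 2 := by
    obtain ⟨p, hp⟩ := CharP.exists F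
    obtain ⟨n, hpp, hn⟩ := FiniteField.card F p
    have h1 : p ∣ 2 ^ a := by
      rw [← hcard, hn]
      exact dvd_pow_self p n.ne_zero
    have h2 : p = 2 := (Nat.prime_dvd_prime_iff_eq hpp Nat.prime_two).mp (hpp.dvd_of_dvd_pow h1)
    rwa [h2] at hp
  have hF : 4 ≤ Nat.card F := by
    rw [Nat.card_eq_fintype_card, hcard]
    calc 4 = 2 ^ 2 := by norm_num
      _ ≤ 2 ^ a := Nat.pow_le_pow_right (by norm_num) ha
  exact false_of_std hF (h1173 G) hK.std (Start.isSimple_of_center hK.simple hz) hrk e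

end Cfsg.Agent.OddHalf.D4.SpFourRow
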