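import Mathlib

/-!
# Doubled root groups over an elementary abelian group of order at least four (helper350)

`A` is an elementary abelian 2-subgroup centralising the root groups `x r : F → G` of a root system of type `A₂`
(long roots of a group of Lie type in characteristic two), `W r ≥ x r F` the doubled root groups:
`a w a⁻¹ = w (x r (μ a * f))` for `w ∈ W r`, `a ∈ A`, with `μ : A → F` injective.  Then `A = {1, t}`.

(Text: bb ODD row 8222, with (3) replaced by the torus argument of helper118 #7489.)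
-/

set_option autoImplicit false

namespace Cfsg.Agent.OddHalf.D4.ATwoEnd

variable {G : Type*} [Group G] {F : Type*} [Field F] {I : Type*}

/-- the commutator -/
def cm (a b : G) : G := a * b * a⁻¹ * b⁻¹

/-- `Adj r s`: roots at 60 degrees; `Sum r s d`: roots at 120 degrees with sum `d`. -/
structure Data (A C : Subgroup G) (K0 : Set G) (t : G) (μ : G → F) (Adj : I → I → Prop) (Sum : I → I → I → Prop)
    (x : I → F → G) (W : I → Subgroup G) (T : Set G) (χ : I → G → F) (c : I → I → F) (Λ : Set F) : Prop where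
  two : (2 : F) = 0
  adj_symm : ∀ {r s}, Adj r s → Adj s r
  sum_symm : ∀ {r s d}, Sum r s d → Sum s r d
  sum_adj : ∀ {r s d}, Sum r s d → Adj r d
  exists_sum : ∀ d, ∃ r s, Sum r s d
  x_add : ∀ r α β, x r (α + β) = x r α * x r β
  x_inj : ∀ r α, x r α = 1 → α = 0
  x_comm : ∀ {r s}, Adj r s → ∀ α β, Commute (x r α) (x s β)
  x_disj : ∀ {r s}, Adj r s → ∀ α β, x r α = x s β → α = 0
  x_br : ∀ {r s d}, Sum r s d → ∀ α β, cm (x r α) (x s β) = x d (c r s * α * β)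
  c_ne : ∀ {r s d}, Sum r s d → c r s ≠ 0
  A_sq : ∀ a ∈ A, a * a = 1
  A_x : ∀ a ∈ A, ∀ r α, Commute a (x r α)
  tA : t ∈ A
  μ_t : μ t = 1
  μ_ne : ∀ a ∈ A, μ a = 0 → a = 1
  x_W : ∀ r α, x r α ∈ W r
  W_comm : ∀ r, ∀ v ∈ W r, ∀ w ∈ W r, Commute v w
  W_x : ∀ {r s}, Adj r s → ∀ w ∈ W r, ∀ α, Commute w (x s α)
  W_ex : ∀ r, ∀ w ∈ W r, ∃ α, ∀ a ∈ A, a * w * a⁻¹ = w * x r (μ a * α)
  W_surj : ∀ r α, ∃ w ∈ W r, ∀ a ∈ A, a * w * a⁻¹ = w * x r (μ a * α)
  W_ker : ∀ r, ∀ w ∈ W r, Commute t w → ∃ α, w = x r α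
  T_A : ∀ κ ∈ T, ∀ a ∈ A, Commute κ a
  T_x : ∀ κ ∈ T, ∀ r α, κ * x r α * κ⁻¹ = x r (χ r κ * α)
  T_W : ∀ κ ∈ T, ∀ r, ∀ w ∈ W r, κ * w * κ⁻¹ ∈ W r
  T_odd : ∀ κ ∈ T, Odd (orderOf κ)
  T_div : ∀ κ ∈ T, ∀ κ' ∈ T, κ⁻¹ * κ' ∈ T
  χ_div : ∀ κ ∈ T, ∀ κ' ∈ T, ∀ r, χ r κ = χ r κ' → χ r (κ⁻¹ * κ') = 1
  T_adj : ∀ {r s}, Adj r s → ∃ κ ∈ T, χ r κ ≠ 1 ∧ χ s κ = 1
  T_sum : ∀ {r s d}, Sum r s d → ∀ l ∈ Λ, ∃ κ ∈ T, χ r κ = l ∧ χ s κ = 1
  T_sum_d : ∀ {r s d}, Sum r s d → ∀ κ ∈ T, χ d κ = χ r κ * χ s κ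
  T_sum_ne : ∀ {r s d}, Sum r s d → ∃ κ ∈ T, χ r κ ≠ 1 ∧ χ s κ = 1
  Λ_lin : ∀ ψ : F → F, (∀ ξ η, ψ (ξ + η) = ψ ξ + ψ η) → (∀ l ∈ Λ, ∀ ξ, ψ (l * ξ) = l * ψ ξ) → ∀ ξ, ψ ξ = ξ * ψ 1
  C_A : ∀ z ∈ C, ∀ a ∈ A, a * z * a⁻¹ * z⁻¹ ∈ C
  C_x : ∀ z ∈ C, ∀ r α, Commute z (x r α)
  C_disj : ∀ r α, x r α ∈ C → α = 0
  /-- `C(A) ∩ C(P_r ∩ P_s) ≤ A X_r X_s` (60 degrees) -/
  cent60 : ∀ {r s}, Adj r s → ∀ g, (∀ a ∈ A, Commute g a) →
    (∀ y ∈ K0, (∀ w ∈ W r, Commute y w) → (∀ w ∈ W s, Commute y w) → Commute g y) →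
    ∃ a ∈ A, ∃ α β, g = a * x r α * x s β
  /-- `C(A) ∩ C(X_s) ∩ ... ≤ A X_s X_d` (120 degrees) -/
  cent120 : ∀ {r s d}, Sum r s d → ∀ g, (∀ a ∈ A, Commute g a) → (∀ α, Commute g (x s α)) →
    (∀ y ∈ K0, (∀ α, Commute y (x r α)) → (∀ w ∈ W s, Commute y w) → (∀ w ∈ W d, Commute y w) → Commute g y) →
    ∃ a ∈ A, ∃ α β, g = a * x s α * x d β
  /-- `C(t) ∩ C(Q_d) ≤ C X_d` (120 degrees) -/
  centQ : ∀ {r s d}, Sum r s d → ∀ g, Commute t g → (∀ α, Commute g (x r α)) → (∀ α, Commute g (x s α)) →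
    (∀ y ∈ K0, (∀ w ∈ W r, Commute y w) → (∀ w ∈ W s, Commute y w) → (∀ w ∈ W d, Commute y w) → Commute g y) →
    ∃ z ∈ C, ∃ α, g = z * x d α

namespace Data

variable {A C : Subgroup G} {K0 : Set G} {t : G} {μ : G → F} {Adj : I → I → Prop} {Sum : I → I → I → Prop}
  {x : I → F → G} {W : I → Subgroup G} {T : Set G} {χ : I → G → F} {c : I → I → F} {Λ : Set F}

theorem add_self (D : Data A C K0 t μ Adj Sum x W T χ c Λ) (α : F) : α + α = 0 := by
  have : α + α = 2 * α := by ring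
  rw [this, D.two, zero_mul]

theorem x_zero (D : Data A C K0 t μ Adj Sum x W T χ c Λ) (r : I) : x r 0 = 1 := by
  have := D.x_add r 0 0
  rw [add_zero] at this
  exact (mul_eq_left.mp this.symm)

theorem x_sq (D : Data A C K0 t μ Adj Sum x W T χ c Λ) (r : I) (α : F) : x r α * x r α = 1 := by
  rw [← D.x_add, D.add_self, D.x_zero]

theorem x_inv (D : Data A C K0 t μ Adj Sum x W T χ c Λ) (r : I) (α : F) : (x r α)⁻¹ = x r α :=
  inv_eq_of_mul_eq_one_right (D.x_sq r α)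

theorem A_inv (D : Data A C K0 t μ Adj Sum x W T χ c Λ) {a : G} (ha : a ∈ A) : a⁻¹ = a :=
  inv_eq_of_mul_eq_one_right (D.A_sq a ha)

/-- the "height" of an element of `W r` -/
def Ht (A : Subgroup G) (μ : G → F) (x : I → F → G) (r : I) (w : G) (α : F) : Prop :=
  ∀ a ∈ A, a * w * a⁻¹ = w * x r (μ a * α)

theorem ht_x (D : Data A C K0 t μ Adj Sum x W T χ c Λ) (r : I) (α : F) : Ht A μ x r (x r α) 0 := by
  intro a ha
  rw [mul_zero, D.x_zero, mul_one, (D.A_x a ha r α).eq, mul_inv_cancel_right]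

theorem ht_mul (D : Data A C K0 t μ Adj Sum x W T χ c Λ) {r : I} {v w : G} {α β : F} (hw : w ∈ W r)
    (h1 : Ht A μ x r v α) (h2 : Ht A μ x r w β) : Ht A μ x r (v * w) (α + β) := by
  intro a ha
  have : a * (v * w) * a⁻¹ = (a * v * a⁻¹) * (a * w * a⁻¹) := by group
  rw [this, h1 a ha, h2 a ha, mul_add, D.x_add]
  have h3 := (D.W_comm r w hw _ (D.x_W r (μ a * α))).eq
  calc v * x r (μ a * α) * (w * x r (μ a * β)) = v * (x r (μ a * α) * w) * x r (μ a * β) := by group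
    _ = v * (w * x r (μ a * α)) * x r (μ a * β) := by rw [h3]
    _ = _ := by group

theorem ht_inv (D : Data A C K0 t μ Adj Sum x W T χ c Λ) {r : I} {v : G} {α : F} (hv : v ∈ W r)
    (h1 : Ht A μ x r v α) : Ht A μ x r v⁻¹ α := by
  intro a ha
  have : a * v⁻¹ * a⁻¹ = (a * v * a⁻¹)⁻¹ := by group
  rw [this, h1 a ha, mul_inv_rev, D.x_inv]
  exact ((D.W_comm r _ (D.x_W r (μ a * α)) _ ((W r).inv_mem hv))).eq

theorem mem_x_of_ht_zero (D : Data A C K0 t μ Adj Sum x W T χ c Λ) {r : I} {w : G} (hw : w ∈ W r)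
    (h : Ht A μ x r w 0) : ∃ α, w = x r α := by
  apply D.W_ker r w hw
  have := h t D.tA
  rw [mul_zero, D.x_zero, mul_one] at this
  rw [commute_iff_eq]
  calc t * w = t * w * t⁻¹ * t := by group
    _ = w * t := by rw [this]

theorem ht_eq (D : Data A C K0 t μ Adj Sum x W T χ c Λ) {r : I} {w : G} {α β : F}
    (h1 : Ht A μ x r w α) (h2 : Ht A μ x r w β) : α = β := by
  have e1 := h1 t D.tA
  have e2 := h2 t D.tA
  rw [e1, D.μ_t, one_mul, one_mul] at e2
  have e3 := mul_left_cancel e2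
  have e4 : x r (α + β) = 1 := by rw [D.x_add, e3, D.x_sq]
  have e5 := D.x_inj r _ e4
  have e6 := D.add_self β
  calc α = α + (β + β) := by rw [e6, add_zero]
    _ = (α + β) + β := by ring
    _ = β := by rw [e5, zero_add]

theorem commute_of_ht_self (D : Data A C K0 t μ Adj Sum x W T χ c Λ) {r : I} {v w : G} {α : F}
    (hv : v ∈ W r) (hw : w ∈ W r) (h1 : Ht A μ x r v α) (h2 : Ht A μ x r w α) : ∃ β, v = w * x r β := by
  have h3 : Ht A μ x r (w⁻¹ * v) (α + α) := D.ht_mul hv (D.ht_inv hw h2) h1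
  rw [D.add_self] at h3
  obtain ⟨β, hβ⟩ := D.mem_x_of_ht_zero ((W r).mul_mem ((W r).inv_mem hw) hv) h3
  exact ⟨β, by rw [← hβ]; group⟩

theorem ht_conj (D : Data A C K0 t μ Adj Sum x W T χ c Λ) {r : I} {w κ : G} {α : F} (hκ : κ ∈ T)
    (h : Ht A μ x r w α) : Ht A μ x r (κ * w * κ⁻¹) (χ r κ * α) := by
  intro a ha
  have h1 := (D.T_A κ hκ a ha).eq
  have h2 : a * κ = κ * a := h1.symm
  have h3 : κ⁻¹ * a⁻¹ = a⁻¹ * κ⁻¹ := by rw [← mul_inv_rev, ← mul_inv_rev, h1]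
  calc a * (κ * w * κ⁻¹) * a⁻¹ = (a * κ) * w * (κ⁻¹ * a⁻¹) := by group
    _ = κ * (a * w * a⁻¹) * κ⁻¹ := by rw [h2, h3]; group
    _ = (κ * w * κ⁻¹) * (κ * x r (μ a * α) * κ⁻¹) := by rw [h a ha]; group
    _ = _ := by rw [D.T_x κ hκ]; ring_nf

/-- an element of the torus trivial on `X r` is trivial on `W r` -/
theorem commute_W (D : Data A C K0 t μ Adj Sum x W T χ c Λ) {r : I} {κ w : G} (hκ : κ ∈ T) (hw : w ∈ W r)
    (h1 : χ r κ = 1) : Commute κ w := by
  obtain ⟨α, hα⟩ := D.W_ex r w hw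
  have h2 := D.ht_conj (r := r) hκ hα
  rw [h1, one_mul] at h2
  obtain ⟨β, hβ⟩ := D.commute_of_ht_self (D.T_W κ hκ r w hw) hw h2 hα
  have hx : κ * x r β * κ⁻¹ = x r β := by rw [D.T_x κ hκ, h1, one_mul]
  have key : ∀ n : ℕ, κ ^ n * w * (κ ^ n)⁻¹ = w * (x r β) ^ n := by
    intro n
    induction n with
    | zero => simp
    | succ n ih =>
      have hx' : κ * (x r β) ^ n * κ⁻¹ = (x r β) ^ n := by
        rw [← conj_pow, hx]
      calc κ ^ (n + 1) * w * (κ ^ (n + 1))⁻¹ = κ * (κ ^ n * w * (κ ^ n)⁻¹) * κ⁻¹ := by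
            rw [pow_succ']; group
        _ = (κ * w * κ⁻¹) * (κ * (x r β) ^ n * κ⁻¹) := by rw [ih]; group
        _ = w * (x r β) ^ (n + 1) := by rw [hβ, hx', pow_succ']; group
  have h3 := key (orderOf κ)
  rw [pow_orderOf_eq_one, one_mul, inv_one, mul_one] at h3
  have h4 : (x r β) ^ (orderOf κ) = 1 := by
    have : w * 1 = w * x r β ^ orderOf κ := by rw [mul_one]; exact h3
    exact (mul_left_cancel this).symm
  obtain ⟨k, hk⟩ := D.T_odd κ hκ
  rw [hk, pow_succ, pow_mul, pow_two, D.x_sq, one_pow, one_mul] at h4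
  rw [h4, mul_one] at hβ
  rw [commute_iff_eq]
  calc κ * w = (κ * w * κ⁻¹) * κ := by group
    _ = w * κ := by rw [hβ]

theorem cm_mul_left_of_commute {v z u : G} (h : Commute z u) : cm (v * z) u = cm v u := by
  unfold cm
  calc v * z * u * (v * z)⁻¹ * u⁻¹ = v * (z * u) * z⁻¹ * v⁻¹ * u⁻¹ := by group
    _ = v * (u * z) * z⁻¹ * v⁻¹ * u⁻¹ := by rw [h.eq]
    _ = _ := by group

theorem cm_mul_right_of_commute {v z u : G} (h : Commute z v) : cm v (u * z) = cm v u := by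
  unfold cm
  calc v * (u * z) * v⁻¹ * (u * z)⁻¹ = v * u * (z * v⁻¹) * z⁻¹ * u⁻¹ := by group
    _ = v * u * (v⁻¹ * z) * z⁻¹ * u⁻¹ := by rw [h.inv_right.eq]
    _ = _ := by group

theorem cm_conj (a v u : G) : a * cm v u * a⁻¹ = cm (a * v * a⁻¹) (a * u * a⁻¹) := by
  unfold cm; group

theorem cm_mul (v w u : G) : cm (v * w) u = v * cm w u * v⁻¹ * cm v u := by
  unfold cm; group

theorem cm_inv (v u : G) : (cm v u)⁻¹ = cm u v := by
  unfold cm; group

theorem cm_eq_one {v u : G} (h : Commute v u) : cm v u = 1 := by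
  unfold cm; rw [h.eq]; group

theorem commute_of_cm {v u : G} (h : cm v u = 1) : Commute v u := by
  unfold cm at h
  rw [commute_iff_eq]
  calc v * u = (v * u * v⁻¹ * u⁻¹) * (u * v) := by group
    _ = u * v := by rw [h, one_mul]

theorem commute_cm {y v u : G} (h1 : Commute y v) (h2 : Commute y u) : Commute (cm v u) y := by
  unfold cm
  exact (((h1.symm.mul_left h2.symm).mul_left h1.symm.inv_left).mul_left h2.symm.inv_left)

theorem commute_of_conj {a g : G} (h : a * g * a⁻¹ = g) : Commute g a := by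
  rw [commute_iff_eq]
  calc g * a = (a * g * a⁻¹) * a := by rw [h]
    _ = a * g := by group

/-- first form of the commutator of two doubled root groups at 60 degrees -/
theorem form60 (D : Data A C K0 t μ Adj Sum x W T χ c Λ) {r s : I} (h : Adj r s) {v u : G} (hv : v ∈ W r)
    (hu : u ∈ W s) : ∃ α β, cm v u = x r α * x s β := by
  obtain ⟨α, hα⟩ := D.W_ex r v hv
  obtain ⟨β, hβ⟩ := D.W_ex s u hu
  have hA : ∀ a ∈ A, Commute (cm v u) a := by
    intro a ha
    apply commute_of_conj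
    rw [cm_conj, hα a ha, hβ a ha]
    rw [cm_mul_left_of_commute, cm_mul_right_of_commute]
    · exact (D.W_x h v hv _).symm
    · exact ((D.W_x (D.adj_symm h) u hu _).symm).mul_right (D.x_comm h _ _)
  obtain ⟨a, ha, α', β', hg⟩ := D.cent60 h (cm v u) hA
    (fun y hy h1 h2 => commute_cm (h1 v hv) (h2 u hu))
  -- `v * v` commutes with `u`
  have hvv : Commute (v * v) u := by
    have h1 := D.ht_mul hv hα hα
    rw [D.add_self] at h1
    obtain ⟨ζ, hζ⟩ := D.mem_x_of_ht_zero ((W r).mul_mem hv hv) h1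
    rw [hζ]
    exact (D.W_x (D.adj_symm h) u hu ζ).symm
  have hinv : v * cm v u * v⁻¹ = (cm v u)⁻¹ := by
    have h1 : v⁻¹ * cm v u = u * v⁻¹ * u⁻¹ := by unfold cm; group
    have h2 : (v⁻¹ * cm v u) * (v⁻¹ * cm v u) = v⁻¹ * v⁻¹ := by
      rw [h1]
      calc u * v⁻¹ * u⁻¹ * (u * v⁻¹ * u⁻¹) = u * (v * v)⁻¹ * u⁻¹ := by group
        _ = (v * v)⁻¹ := by rw [← (hvv.inv_left).eq]; group
        _ = v⁻¹ * v⁻¹ := by group
    have h3 : cm v u * v⁻¹ * cm v u = v⁻¹ := by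
      have : v⁻¹ * (cm v u * v⁻¹ * cm v u) = v⁻¹ * v⁻¹ := by rw [← h2]; group
      exact mul_left_cancel this
    have h4 : v * cm v u * v⁻¹ * cm v u = 1 := by
      calc v * cm v u * v⁻¹ * cm v u = v * (cm v u * v⁻¹ * cm v u) := by group
        _ = 1 := by rw [h3]; group
    exact eq_inv_of_mul_eq_one_left h4
  have hax : Commute a (x r α' * x s β') := (D.A_x a ha r α').mul_right (D.A_x a ha s β')
  have hxy := D.x_comm h α' β'
  have hsq : cm v u * cm v u = 1 := by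
    rw [hg]
    calc a * x r α' * x s β' * (a * x r α' * x s β') = a * ((x r α' * x s β') * a) * (x r α' * x s β') := by group
      _ = a * (a * (x r α' * x s β')) * (x r α' * x s β') := by rw [hax.eq]
      _ = (a * a) * (x r α' * (x s β' * x r α') * x s β') := by group
      _ = (a * a) * ((x r α' * x r α') * (x s β' * x s β')) := by rw [← hxy.eq]; group
      _ = 1 := by rw [D.A_sq a ha, D.x_sq, D.x_sq]; group
  have hinv' : (cm v u)⁻¹ = cm v u := inv_eq_of_mul_eq_one_right hsq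
  rw [hinv'] at hinv
  have hva : v * a * v⁻¹ = a := by
    have e1 : v * (a * x r α' * x s β') * v⁻¹ = (v * a * v⁻¹) * (x r α' * x s β') := by
      have h1 : v * x r α' = x r α' * v := (D.W_comm r v hv _ (D.x_W r α')).eq
      have h2 : v * x s β' = x s β' * v := (D.W_x h v hv β').eq
      calc v * (a * x r α' * x s β') * v⁻¹ = v * a * v⁻¹ * (v * x r α') * x s β' * v⁻¹ := by group
        _ = v * a * v⁻¹ * x r α' * (v * x s β') * v⁻¹ := by rw [h1]; group
        _ = _ := by rw [h2]; group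
    rw [hg, e1] at hinv
    have : v * a * v⁻¹ * (x r α' * x s β') = a * (x r α' * x s β') := by rw [hinv]; group
    exact mul_right_cancel this
  have hμ : x r (μ a * α) = 1 := by
    have h1 : a * v * a⁻¹ = v := by
      have : v * a = a * v := by
        calc v * a = (v * a * v⁻¹) * v := by group
          _ = a * v := by rw [hva]
      rw [← this]; group
    rw [hα a ha] at h1
    exact mul_eq_left.mp h1
  have h0 := D.x_inj r _ hμ
  rcases mul_eq_zero.mp h0 with h1 | h1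
  · have := D.μ_ne a ha h1
    exact ⟨α', β', by rw [hg, this, one_mul]⟩
  · subst h1
    obtain ⟨ζ, hζ⟩ := D.mem_x_of_ht_zero hv hα
    refine ⟨0, 0, ?_⟩
    rw [D.x_zero, D.x_zero, mul_one]
    apply cm_eq_one
    rw [hζ]
    exact (D.W_x (D.adj_symm h) u hu ζ).symm

theorem surj_bracket [Finite G] (D : Data A C K0 t μ Adj Sum x W T χ c Λ) {r : I} {κ : G} (hκ : κ ∈ T)
    (h1 : χ r κ ≠ 1) {v : G} (hv : v ∈ W r) : ∃ w ∈ W r, v = w⁻¹ * (κ * w * κ⁻¹) := by
  classical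
  have hinj : Function.Injective (fun w : W r => (⟨(w : G)⁻¹ * (κ * (w : G) * κ⁻¹),
      (W r).mul_mem ((W r).inv_mem w.2) (D.T_W κ hκ r _ w.2)⟩ : W r)) := by
    intro w1 w2 h
    have h2 : (w1 : G)⁻¹ * (κ * (w1 : G) * κ⁻¹) = (w2 : G)⁻¹ * (κ * (w2 : G) * κ⁻¹) := congrArg Subtype.val h
    -- `w := w2 * w1⁻¹` is centralised by `κ`
    set w : G := (w2 : G) * (w1 : G)⁻¹ with hw
    have hwW : w ∈ W r := (W r).mul_mem w2.2 ((W r).inv_mem w1.2)
    have hc : κ * w * κ⁻¹ = w := by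
      have e1 : κ * (w2 : G) * κ⁻¹ = w2 * ((w1 : G)⁻¹ * (κ * (w1 : G) * κ⁻¹)) := by rw [h2]; group
      have e2 := (D.W_comm r _ (D.T_W κ hκ r _ w1.2) _ ((W r).inv_mem w1.2)).eq
      calc κ * w * κ⁻¹ = (κ * (w2 : G) * κ⁻¹) * (κ * (w1 : G) * κ⁻¹)⁻¹ := by rw [hw]; group
        _ = w2 * ((w1 : G)⁻¹ * (κ * (w1 : G) * κ⁻¹)) * (κ * (w1 : G) * κ⁻¹)⁻¹ := by rw [e1]
        _ = w := by rw [hw]; group
    obtain ⟨α, hα⟩ := D.W_ex r w hwW
    have h3 := D.ht_conj (r := r) hκ hα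
    rw [hc] at h3
    have h4 : α = χ r κ * α := D.ht_eq hα h3
    have h5 : α = 0 := by
      by_contra hne
      apply h1
      have : χ r κ * α = 1 * α := by rw [one_mul]; exact h4.symm
      exact mul_right_cancel₀ hne this
    subst h5
    obtain ⟨ζ, hζ⟩ := D.mem_x_of_ht_zero hwW hα
    have h6 : x r (χ r κ * ζ) = x r ζ := by rw [← D.T_x κ hκ, ← hζ, hc]
    have h7 : x r (χ r κ * ζ + ζ) = 1 := by rw [D.x_add, h6, D.x_sq]
    have h8 := D.x_inj r _ h7
    have h9 : ζ = 0 := by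
      by_contra hne
      apply h1
      have e : (χ r κ + 1) * ζ = 0 := by rw [add_mul, one_mul]; exact h8
      have e' := (mul_eq_zero.mp e).resolve_right hne
      calc χ r κ = (χ r κ + 1) + 1 := by
            rw [add_assoc, D.add_self (1 : F), add_zero]
        _ = 1 := by rw [e', zero_add]
    rw [h9, D.x_zero] at hζ
    have : (w2 : G) = w1 := by
      have : (w2 : G) * (w1 : G)⁻¹ = 1 := by rw [← hw]; exact hζ
      exact mul_inv_eq_one.mp this
    exact Subtype.ext this.symm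
  obtain ⟨w, hw⟩ := (Finite.injective_iff_surjective.mp hinj) ⟨v, hv⟩
  exact ⟨w, w.2, (congrArg Subtype.val hw).symm⟩

theorem half60 [Finite G] (D : Data A C K0 t μ Adj Sum x W T χ c Λ) {r s : I} (h : Adj r s) {v u : G}
    (hv : v ∈ W r) (hu : u ∈ W s) : ∃ α, cm v u = x r α := by
  obtain ⟨κ, hκ, h1, h2⟩ := D.T_adj h
  obtain ⟨w, hw, rfl⟩ := D.surj_bracket hκ h1 hv
  obtain ⟨α, β, hg⟩ := D.form60 h hw hu
  have hκu : Commute κ u := D.commute_W hκ hu h2
  have e1 : cm (κ * w * κ⁻¹) u = x r (χ r κ * α) * x s β := by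
    have : cm (κ * w * κ⁻¹) u = κ * cm w u * κ⁻¹ := by
      rw [cm_conj]
      congr 1
      rw [hκu.eq]; group
    rw [this, hg]
    have := D.T_x κ hκ r α
    have h4 := D.T_x κ hκ s β
    rw [h2, one_mul] at h4
    calc κ * (x r α * x s β) * κ⁻¹ = (κ * x r α * κ⁻¹) * (κ * x s β * κ⁻¹) := by group
      _ = _ := by rw [this, h4]
  have hwi := (W r).inv_mem hw
  have e2 : cm w⁻¹ u = x r α * x s β := by
    have h3 : w⁻¹ * cm w u * w = cm w u := by
      rw [hg]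
      have c1 := (D.W_comm r _ hwi _ (D.x_W r α)).eq
      have c2 := (D.W_x h _ hwi β).eq
      calc w⁻¹ * (x r α * x s β) * w = (w⁻¹ * x r α) * x s β * w := by group
        _ = x r α * (w⁻¹ * x s β) * w := by rw [c1]; group
        _ = _ := by rw [c2]; group
    have h4 : cm w⁻¹ u = (w⁻¹ * cm w u * w)⁻¹ := by unfold cm; group
    rw [h4, h3, hg, mul_inv_rev, D.x_inv, D.x_inv]
    exact (D.x_comm h α β).symm.eq
  refine ⟨χ r κ * α + α, ?_⟩
  rw [cm_mul, e1, e2]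
  have c1 := (D.W_comm r _ hwi _ (D.x_W r (χ r κ * α))).eq
  have c2 := (D.W_x h _ hwi β).eq
  have c3 := (D.x_comm h α β).eq
  calc w⁻¹ * (x r (χ r κ * α) * x s β) * w⁻¹⁻¹ * (x r α * x s β)
      = (w⁻¹ * x r (χ r κ * α)) * x s β * w * (x r α * x s β) := by group
    _ = x r (χ r κ * α) * (w⁻¹ * x s β) * w * (x r α * x s β) := by rw [c1]; group
    _ = x r (χ r κ * α) * x s β * (x r α * x s β) := by rw [c2]; group
    _ = x r (χ r κ * α) * x s β * (x s β * x r α) := by rw [c3]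
    _ = x r (χ r κ * α) * (x s β * x s β) * x r α := by group
    _ = _ := by rw [D.x_sq, mul_one, D.x_add]

/-- doubled root groups at 60 degrees commute -/
theorem comm60 [Finite G] (D : Data A C K0 t μ Adj Sum x W T χ c Λ) {r s : I} (h : Adj r s) {v u : G}
    (hv : v ∈ W r) (hu : u ∈ W s) : Commute v u := by
  obtain ⟨α, hα⟩ := D.half60 h hv hu
  obtain ⟨β, hβ⟩ := D.half60 (D.adj_symm h) hu hv
  have h1 : x r α = x s β := by
    rw [← hα, ← cm_inv u v, hβ, D.x_inv]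
  have h2 := D.x_disj h α β h1
  apply commute_of_cm
  rw [hα, h2, D.x_zero]

/-- first form of `[X r, W s]` at 120 degrees -/
theorem form120 [Finite G] (D : Data A C K0 t μ Adj Sum x W T χ c Λ) {r s d : I} (h : Sum r s d) (ξ : F) {u : G}
    (hu : u ∈ W s) : ∃ a ∈ A, ∃ α, ∃ w ∈ W d, cm (x r ξ) u = a * x s α * w := by
  have hrd := D.sum_adj h
  have hsd := D.sum_adj (D.sum_symm h)
  have hdr := D.adj_symm hrd
  have hds := D.adj_symm hsd
  obtain ⟨β, hβ⟩ := D.W_ex s u hu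
  obtain ⟨w, hw, hwht⟩ := D.W_surj d (c r s * ξ * β)
  have hconj : ∀ a ∈ A, a * cm (x r ξ) u * a⁻¹ = cm (x r ξ) u * x d (μ a * (c r s * ξ * β)) := by
    intro a ha
    rw [cm_conj, hβ a ha]
    have e1 : a * x r ξ * a⁻¹ = x r ξ := by rw [(D.A_x a ha r ξ).eq]; group
    rw [e1]
    have e2 := D.x_br h ξ (μ a * β)
    have e3 : c r s * ξ * (μ a * β) = μ a * (c r s * ξ * β) := by ring
    rw [e3] at e2
    have e4 : Commute (x d (μ a * (c r s * ξ * β))) u⁻¹ := ((D.W_x hsd u hu _).symm).inv_right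
    have e5 : x r ξ * x s (μ a * β) * (x r ξ)⁻¹ * (x s (μ a * β))⁻¹ = x d (μ a * (c r s * ξ * β)) := e2
    unfold cm
    calc x r ξ * (u * x s (μ a * β)) * (x r ξ)⁻¹ * (u * x s (μ a * β))⁻¹
        = x r ξ * u * (x r ξ)⁻¹ * (x r ξ * x s (μ a * β) * (x r ξ)⁻¹ * (x s (μ a * β))⁻¹) * u⁻¹ := by group
      _ = x r ξ * u * (x r ξ)⁻¹ * (x d (μ a * (c r s * ξ * β)) * u⁻¹) := by rw [e5]; group
      _ = _ := by rw [e4.eq]; group
  have hA : ∀ a ∈ A, Commute (cm (x r ξ) u * w⁻¹) a := by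
    intro a ha
    apply commute_of_conj
    have : a * (cm (x r ξ) u * w⁻¹) * a⁻¹ = (a * cm (x r ξ) u * a⁻¹) * (a * w * a⁻¹)⁻¹ := by group
    rw [this, hconj a ha, hwht a ha]
    group
  have hxs : ∀ α, Commute (cm (x r ξ) u * w⁻¹) (x s α) := by
    intro α
    apply Commute.mul_left
    · apply commute_of_conj
      rw [cm_conj]
      have e1 : x s α * u * (x s α)⁻¹ = u := by
        rw [(D.W_comm s _ (D.x_W s α) u hu).eq]; group
      have e2 : x s α * x r ξ * (x s α)⁻¹ = x r ξ * x d (c s r * α * ξ) := by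
        have := D.x_br (D.sum_symm h) α ξ
        have e3 : x s α * x r ξ * (x s α)⁻¹ = cm (x s α) (x r ξ) * x r ξ := by unfold cm; group
        rw [e3, this]
        exact (D.x_comm hdr _ _).eq
      rw [e1, e2]
      exact cm_mul_left_of_commute (D.W_x hsd u hu _).symm
    · exact (D.W_x hds w hw α).inv_left
  obtain ⟨a, ha, α, β', hg⟩ := D.cent120 h _ hA hxs (fun y hy h1 h2 h3 =>
    (commute_cm (h1 ξ) (h2 u hu)).mul_left ((h3 w hw).symm.inv_left))
  refine ⟨a, ha, α, x d β' * w, (W d).mul_mem (D.x_W d β') hw, ?_⟩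
  calc cm (x r ξ) u = (cm (x r ξ) u * w⁻¹) * w := by group
    _ = _ := by rw [hg]; group

theorem ht120 [Finite G] (D : Data A C K0 t μ Adj Sum x W T χ c Λ) {r s d : I} (h : Sum r s d) (ξ : F) {u : G}
    (hu : u ∈ W s) {β : F} (hβ : Ht A μ x s u β) : Ht A μ x d (cm (x r ξ) u) (c r s * ξ * β) := by
  have hsd := D.sum_adj (D.sum_symm h)
  intro a ha
  rw [cm_conj, hβ a ha]
  have e1 : a * x r ξ * a⁻¹ = x r ξ := by rw [(D.A_x a ha r ξ).eq]; group
  rw [e1]
  have e2 := D.x_br h ξ (μ a * β)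
  have e3 : c r s * ξ * (μ a * β) = μ a * (c r s * ξ * β) := by ring
  rw [e3] at e2
  have e4 : Commute (x d (μ a * (c r s * ξ * β))) u⁻¹ := ((D.W_x hsd u hu _).symm).inv_right
  have e5 : x r ξ * x s (μ a * β) * (x r ξ)⁻¹ * (x s (μ a * β))⁻¹ = x d (μ a * (c r s * ξ * β)) := e2
  unfold cm
  calc x r ξ * (u * x s (μ a * β)) * (x r ξ)⁻¹ * (u * x s (μ a * β))⁻¹
      = x r ξ * u * (x r ξ)⁻¹ * (x r ξ * x s (μ a * β) * (x r ξ)⁻¹ * (x s (μ a * β))⁻¹) * u⁻¹ := by group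
    _ = x r ξ * u * (x r ξ)⁻¹ * (x d (μ a * (c r s * ξ * β)) * u⁻¹) := by rw [e5]; group
    _ = _ := by rw [e4.eq]; group

/-- `[X r, W s] ≤ W (r + s)` at 120 degrees -/
theorem mem120 [Finite G] (D : Data A C K0 t μ Adj Sum x W T χ c Λ) {r s d : I} (h : Sum r s d) (ξ : F) {u : G}
    (hu : u ∈ W s) : cm (x r ξ) u ∈ W d := by
  have hrd := D.sum_adj h
  have hsd := D.sum_adj (D.sum_symm h)
  have hdr := D.adj_symm hrd
  have hds := D.adj_symm hsd
  obtain ⟨κ, hκ, h1, h2⟩ := D.T_sum_ne h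
  have hκu : Commute κ u := D.commute_W hκ hu h2
  -- write `ξ = χ ξ₀ + ξ₀`
  have hne : χ r κ + 1 ≠ 0 := by
    intro h0
    apply h1
    calc χ r κ = (χ r κ + 1) + 1 := by rw [add_assoc, D.add_self (1 : F), add_zero]
      _ = 1 := by rw [h0, zero_add]
  set ξ0 := ξ / (χ r κ + 1) with hξ0
  have hξ : ξ = χ r κ * ξ0 + ξ0 := by
    have : χ r κ * ξ0 + ξ0 = (χ r κ + 1) * ξ0 := by ring
    rw [this, hξ0, mul_div_cancel₀ _ hne]
  obtain ⟨a, ha, α, w, hw, hg⟩ := D.form120 h ξ0 hu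
  have hwd' : ∀ y : G, y ∈ W d → Commute y (x s α) := fun y hy => D.W_x hds y hy α
  -- first factor
  have e1 : cm (x r (χ r κ * ξ0)) u = a * x s α * (κ * w * κ⁻¹) := by
    rw [← D.T_x κ hκ r ξ0]
    have : cm (κ * x r ξ0 * κ⁻¹) u = κ * cm (x r ξ0) u * κ⁻¹ := by
      rw [cm_conj]; congr 1; rw [hκu.eq]; group
    rw [this, hg]
    have h3 := D.T_x κ hκ s α
    rw [h2, one_mul] at h3
    have h4 : κ * a * κ⁻¹ = a := by rw [(D.T_A κ hκ a ha).eq]; group
    calc κ * (a * x s α * w) * κ⁻¹ = (κ * a * κ⁻¹) * (κ * x s α * κ⁻¹) * (κ * w * κ⁻¹) := by group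
      _ = _ := by rw [h3, h4]
  set w' := κ * w * κ⁻¹ with hw'
  have hw'm : w' ∈ W d := D.T_W κ hκ d w hw
  -- conjugate of the second factor
  set x1 := x r (χ r κ * ξ0) with hx1
  have e2 : x1 * (a * x s α * w) * x1⁻¹ = a * (x d (c r s * (χ r κ * ξ0) * α) * x s α) * w := by
    have i1 : x1 * a = a * x1 := (D.A_x a ha r _).symm.eq
    have i2 : x1 * x s α = x d (c r s * (χ r κ * ξ0) * α) * x s α * x1 := by
      rw [← D.x_br h (χ r κ * ξ0) α]; unfold cm; rw [← hx1]; group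
    have i3 : x1 * w = w * x1 := ((D.W_x hdr w hw (χ r κ * ξ0)).symm).eq
    calc x1 * (a * x s α * w) * x1⁻¹ = (x1 * a) * x s α * w * x1⁻¹ := by group
      _ = a * (x1 * x s α) * w * x1⁻¹ := by rw [i1]; group
      _ = a * (x d (c r s * (χ r κ * ξ0) * α) * x s α) * (x1 * w) * x1⁻¹ := by rw [i2]; group
      _ = _ := by rw [i3]; group
  have e3 : cm (x r ξ) u = a * (x d (c r s * (χ r κ * ξ0) * α) * x s α) * w * (a * x s α * w') := by
    rw [hξ, D.x_add, cm_mul, hg, e1, ← hx1, e2]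
  rw [e3]
  -- `a * (z * y) * w * (a * y * w')`
  set z := x d (c r s * (χ r κ * ξ0) * α) with hz
  have hzW : z ∈ W d := D.x_W d _
  have hzy : Commute z (x s α) := D.W_x hds z hzW α
  have hza : Commute a z := D.A_x a ha d _
  have haw : a⁻¹ * w * a ∈ W d := by
    obtain ⟨γ, hγ⟩ := D.W_ex d w hw
    have := hγ a ha
    rw [D.A_inv ha] at this
    rw [D.A_inv ha, this]
    exact (W d).mul_mem hw (D.x_W d _)
  have hay : Commute a (x s α) := D.A_x a ha s α
  have e4 : a * (z * x s α) * w * (a * x s α * w') = z * (a⁻¹ * w * a) * w' := by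
    have j1 : w * a = a * (a⁻¹ * w * a) := by group
    have j2 : (a⁻¹ * w * a) * x s α = x s α * (a⁻¹ * w * a) := (hwd' _ haw).eq
    calc a * (z * x s α) * w * (a * x s α * w') = (a * z) * x s α * (w * a) * x s α * w' := by group
      _ = (z * a) * x s α * (a * (a⁻¹ * w * a)) * x s α * w' := by rw [hza.eq, j1]
      _ = z * a * (x s α * a) * ((a⁻¹ * w * a) * x s α) * w' := by group
      _ = z * a * (a * x s α) * (x s α * (a⁻¹ * w * a)) * w' := by rw [← hay.eq, j2]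
      _ = z * (a * a) * (x s α * x s α) * (a⁻¹ * w * a) * w' := by group
      _ = _ := by rw [D.A_sq a ha, D.x_sq]; group
  rw [e4]
  exact (W d).mul_mem ((W d).mul_mem hzW haw) hw'm

/-- the doubled root groups are elementary abelian -/
theorem W_sq [Finite G] (D : Data A C K0 t μ Adj Sum x W T χ c Λ) (d : I) {w : G} (hw : w ∈ W d) :
    w * w = 1 := by
  obtain ⟨δ, hδ⟩ := D.W_ex d w hw
  obtain ⟨r, s, h⟩ := D.exists_sum d
  have hrd := D.sum_adj h
  have hsd := D.sum_adj (D.sum_symm h)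
  have hdr := D.adj_symm hrd
  have hds := D.adj_symm hsd
  obtain ⟨u, hu, hβ⟩ := D.W_surj s 1
  have hc := D.c_ne h
  set ξ := δ / c r s with hξ
  have hξe : c r s * ξ * 1 = δ := by rw [mul_one, hξ, mul_div_cancel₀ _ hc]
  set g := cm (x r ξ) u with hg
  have hgW : g ∈ W d := D.mem120 h ξ hu
  have hght : Ht A μ x d g δ := by
    have := D.ht120 h ξ hu hβ
    rwa [hξe] at this
  obtain ⟨ζ, hζ⟩ := D.commute_of_ht_self hw hgW hδ hght
  have hgg : g * g = 1 := by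
    have htt := D.A_sq t D.tA
    have htx : Commute t (x r ξ) := D.A_x t D.tA r ξ
    have hts : Commute t (x s 1) := D.A_x t D.tA s 1
    have hut := hβ t D.tA
    rw [D.μ_t, one_mul] at hut
    have e1 : u * t * u⁻¹ = t * x s 1 := by
      have : t * u = u * x s 1 * t := by rw [← hut]; group
      have h2 : u * t * x s 1 = t * u := by
        rw [this]
        calc u * t * x s 1 = u * (t * x s 1) := by group
          _ = _ := by rw [hts.eq]; group
      calc u * t * u⁻¹ = (u * t * x s 1) * (x s 1)⁻¹ * u⁻¹ := by group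
        _ = t * (u * (x s 1)⁻¹ * u⁻¹) := by rw [h2]; group
        _ = t * x s 1 := by
          rw [D.x_inv, (D.W_comm s u hu _ (D.x_W s 1)).eq]; group
    have e2 : u * x r ξ * u⁻¹ = x r ξ * g := by
      have : x r ξ * g = x r ξ * x r ξ * u * (x r ξ)⁻¹ * u⁻¹ := by rw [hg]; unfold cm; group
      rw [this, D.x_sq, D.x_inv, one_mul]
    have e3 : (t * x s 1 * (x r ξ * g)) * (t * x s 1 * (x r ξ * g)) = 1 := by
      have h5 : t * x s 1 * (x r ξ * g) = u * (t * x r ξ) * u⁻¹ := by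
        rw [← e1, ← e2]; group
      rw [h5]
      calc u * (t * x r ξ) * u⁻¹ * (u * (t * x r ξ) * u⁻¹) = u * (t * (x r ξ * t) * x r ξ) * u⁻¹ := by group
        _ = u * (t * (t * x r ξ) * x r ξ) * u⁻¹ := by rw [htx.eq]
        _ = u * ((t * t) * (x r ξ * x r ξ)) * u⁻¹ := by group
        _ = 1 := by rw [htt, D.x_sq]; group
    have e4 : t * g = g * x d δ * t := by
      have := hght t D.tA
      rw [D.μ_t, one_mul] at this
      rw [← this]; group
    have c1 : g * x s 1 = x s 1 * g := (D.W_x hds g hgW 1).eq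
    have c2 : g * x r ξ = x r ξ * g := (D.W_x hdr g hgW ξ).eq
    have c3 : x d δ * x s 1 = x s 1 * x d δ := (D.x_comm hds δ 1).eq
    have c4 : x d δ * x r ξ = x r ξ * x d δ := (D.x_comm hdr δ ξ).eq
    have c5 : g * x d δ = x d δ * g := (D.W_comm d g hgW _ (D.x_W d δ)).eq
    have e5 : x r ξ * x s 1 * (x r ξ)⁻¹ * (x s 1)⁻¹ = x d δ := by
      have := D.x_br h ξ 1
      rw [hξe] at this
      exact this
    rw [D.x_inv, D.x_inv] at e5
    -- expand
    have e6 : (t * x s 1 * (x r ξ * g)) * (t * x s 1 * (x r ξ * g))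
        = (x s 1 * x r ξ * (x s 1 * x r ξ)) * x d δ * (g * g) := by
      have k1 : t * x s 1 = x s 1 * t := hts.eq
      have k2 : t * x r ξ = x r ξ * t := htx.eq
      have k3 : t * (x s 1 * (x r ξ * g)) * t = x s 1 * x r ξ * (g * x d δ) := by
        calc t * (x s 1 * (x r ξ * g)) * t = (t * x s 1) * (x r ξ * g) * t := by group
          _ = x s 1 * (t * x r ξ) * g * t := by rw [k1]; group
          _ = x s 1 * x r ξ * (t * g) * t := by rw [k2]; group
          _ = x s 1 * x r ξ * (g * x d δ) * (t * t) := by rw [e4]; group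
          _ = _ := by rw [htt, mul_one]
      calc (t * x s 1 * (x r ξ * g)) * (t * x s 1 * (x r ξ * g))
          = (t * (x s 1 * (x r ξ * g)) * t) * (x s 1 * (x r ξ * g)) := by group
        _ = x s 1 * x r ξ * (g * x d δ) * (x s 1 * (x r ξ * g)) := by rw [k3]
        _ = x s 1 * x r ξ * g * (x d δ * x s 1) * (x r ξ * g) := by group
        _ = x s 1 * x r ξ * g * x s 1 * (x d δ * x r ξ) * g := by rw [c3]; group
        _ = x s 1 * x r ξ * (g * x s 1) * x r ξ * x d δ * g := by rw [c4]; group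
        _ = x s 1 * x r ξ * x s 1 * (g * x r ξ) * x d δ * g := by rw [c1]; group
        _ = x s 1 * x r ξ * x s 1 * x r ξ * (g * x d δ) * g := by rw [c2]; group
        _ = _ := by rw [c5]; group
    rw [e3] at e6
    have e7 : x s 1 * x r ξ * (x s 1 * x r ξ) = x d δ := by
      have q1 : (x s 1 * x r ξ * (x s 1 * x r ξ)) * (x r ξ * x s 1 * (x r ξ * x s 1)) = 1 := by
        calc (x s 1 * x r ξ * (x s 1 * x r ξ)) * (x r ξ * x s 1 * (x r ξ * x s 1))
            = x s 1 * x r ξ * x s 1 * (x r ξ * x r ξ) * x s 1 * x r ξ * x s 1 := by group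
          _ = x s 1 * x r ξ * (x s 1 * x s 1) * x r ξ * x s 1 := by rw [D.x_sq]; group
          _ = x s 1 * (x r ξ * x r ξ) * x s 1 := by rw [D.x_sq]; group
          _ = 1 := by rw [D.x_sq, mul_one, D.x_sq]
      have q2 : x r ξ * x s 1 * (x r ξ * x s 1) = x d δ := by rw [← e5]; group
      rw [q2] at q1
      have q3 := eq_inv_of_mul_eq_one_left q1
      rw [q3, D.x_inv]
    rw [e7, D.x_sq, one_mul] at e6
    exact e6.symm
  rw [hζ]
  have := (D.W_comm d g hgW _ (D.x_W d ζ)).eq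
  calc g * x d ζ * (g * x d ζ) = g * (x d ζ * g) * x d ζ := by group
    _ = (g * g) * (x d ζ * x d ζ) := by rw [← this]; group
    _ = 1 := by rw [hgg, D.x_sq, one_mul]

theorem c_symm (D : Data A C K0 t μ Adj Sum x W T χ c Λ) {r s d : I} (h : Sum r s d) : c s r = c r s := by
  have h1 := D.x_br h 1 1
  have h2 := D.x_br (D.sum_symm h) 1 1
  rw [mul_one, mul_one] at h1 h2
  have h3 : x d (c s r) = x d (c r s) := by
    rw [← h2, ← cm_inv (x r 1) (x s 1), h1, D.x_inv]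
  have h4 : x d (c s r + c r s) = 1 := by rw [D.x_add, h3, D.x_sq]
  have h5 := D.x_inj d _ h4
  calc c s r = (c s r + c r s) + c r s := by rw [add_assoc, D.add_self, add_zero]
    _ = c r s := by rw [h5, zero_add]

/-- The doubled root groups exclude `|A| > 2`. -/
theorem eq_one_or_eq [Finite G] (D : Data A C K0 t μ Adj Sum x W T χ c Λ) (d : I) {a : G} (ha : a ∈ A) :
    a = 1 ∨ a = t := by
  classical
  obtain ⟨r, s, h⟩ := D.exists_sum d
  have h' := D.sum_symm h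
  have hrd := D.sum_adj h
  have hsd := D.sum_adj h'
  have hdr := D.adj_symm hrd
  have hds := D.adj_symm hsd
  obtain ⟨v, hv, hvh⟩ := D.W_surj r 1
  obtain ⟨u, hu, huh⟩ := D.W_surj s 1
  set g := cm v u with hg
  -- elements of `W d` commute with everything
  have cv : ∀ w ∈ W d, Commute w v := fun w hw => D.comm60 hdr hw hv
  have cu : ∀ w ∈ W d, Commute w u := fun w hw => D.comm60 hds hw hu
  have cxr : ∀ w ∈ W d, ∀ α, Commute w (x r α) := fun w hw α => D.W_x hdr w hw α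
  have cxs : ∀ w ∈ W d, ∀ α, Commute w (x s α) := fun w hw α => D.W_x hds w hw α
  have hp : ∀ ξ, cm (x r ξ) u ∈ W d := fun ξ => D.mem120 h ξ hu
  have hp' : ∀ ξ, cm v (x s ξ) ∈ W d := fun ξ => by
    rw [← cm_inv (x s ξ) v]
    exact (W d).inv_mem (D.mem120 h' ξ hv)
  -- the product `P ξ` lies in `X d`
  have hP : ∀ ξ, ∃ γ, cm (x r ξ) u * cm v (x s ξ) = x d γ := by
    intro ξ
    have h1 : Ht A μ x d (cm (x r ξ) u) (c r s * ξ * 1) := D.ht120 h ξ hu huh
    have h2 : Ht A μ x d (cm v (x s ξ)) (c r s * ξ * 1) := by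
      rw [← cm_inv (x s ξ) v]
      have := D.ht_inv (D.mem120 h' ξ hv) (D.ht120 h' ξ hv hvh)
      rwa [D.c_symm h] at this
    have h3 := D.ht_mul (hp' ξ) h1 h2
    rw [D.add_self] at h3
    exact D.mem_x_of_ht_zero ((W d).mul_mem (hp ξ) (hp' ξ)) h3
  choose ψ hψ using hP
  have x_inj' : ∀ α β, x d α = x d β → α = β := by
    intro α β hab
    have h4 : x d (α + β) = 1 := by rw [D.x_add, hab, D.x_sq]
    have h5 := D.x_inj d _ h4
    calc α = (α + β) + β := by rw [add_assoc, D.add_self, add_zero]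
      _ = β := by rw [h5, zero_add]
  -- additivity
  have hadd : ∀ ξ η, ψ (ξ + η) = ψ ξ + ψ η := by
    intro ξ η
    apply x_inj'
    rw [← hψ, D.x_add d, ← hψ, ← hψ]
    have e1 : cm (x r (ξ + η)) u = cm (x r η) u * cm (x r ξ) u := by
      rw [D.x_add, cm_mul, ← (cxr _ (hp η) ξ).eq]; group
    have e2 : cm v (x s (ξ + η)) = cm v (x s ξ) * cm v (x s η) := by
      have e3 : cm (x s (ξ + η)) v = cm (x s η) v * cm (x s ξ) v := by
        rw [D.x_add, cm_mul, ← (cxs _ (D.mem120 h' η hv) ξ).eq]; group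
      rw [← cm_inv (x s (ξ + η)) v, e3, mul_inv_rev, cm_inv, cm_inv]
    rw [e1, e2]
    have k1 := (D.W_comm d _ (hp η) _ (hp ξ)).eq
    have k2 := (D.W_comm d _ (hp η) _ (hp' ξ)).eq
    calc cm (x r η) u * cm (x r ξ) u * (cm v (x s ξ) * cm v (x s η))
        = cm (x r ξ) u * (cm (x r η) u * cm v (x s ξ)) * cm v (x s η) := by rw [k1]; group
      _ = _ := by rw [k2]; group
  -- linearity over `Λ`
  have hlin : ∀ l ∈ Λ, ∀ ξ, ψ (l * ξ) = l * ψ ξ := by
    intro l hl ξ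
    obtain ⟨κ, hκ, k1, k2⟩ := D.T_sum h l hl
    obtain ⟨κ', hκ', k1', k2'⟩ := D.T_sum h' l hl
    have hκu : Commute κ u := D.commute_W hκ hu k2
    have hκv : Commute κ' v := D.commute_W hκ' hv k2'
    have hd1 : χ d κ = l := by rw [D.T_sum_d h κ hκ, k1, k2, mul_one]
    have hd2 : χ d κ' = l := by rw [D.T_sum_d h' κ' hκ', k1', k2', mul_one]
    have hdd : χ d (κ⁻¹ * κ') = 1 := D.χ_div κ hκ κ' hκ' d (by rw [hd1, hd2])
    have hcw : ∀ w ∈ W d, κ' * w * κ'⁻¹ = κ * w * κ⁻¹ := by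
      intro w hw
      have := (D.commute_W (D.T_div κ hκ κ' hκ') hw hdd).eq
      have h5 : (κ⁻¹ * κ') * w * (κ⁻¹ * κ')⁻¹ = w := by rw [this]; group
      calc κ' * w * κ'⁻¹ = κ * ((κ⁻¹ * κ') * w * (κ⁻¹ * κ')⁻¹) * κ⁻¹ := by group
        _ = _ := by rw [h5]
    have e1 : cm (x r (l * ξ)) u = κ * cm (x r ξ) u * κ⁻¹ := by
      rw [cm_conj, D.T_x κ hκ, k1]
      congr 1
      rw [hκu.eq]; group
    have e2 : cm v (x s (l * ξ)) = κ * cm v (x s ξ) * κ⁻¹ := by
      rw [← hcw _ (hp' ξ), cm_conj, D.T_x κ' hκ', k1']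
      congr 1
      rw [hκv.eq]; group
    apply x_inj'
    rw [← hψ, e1, e2]
    have e3 : κ * cm (x r ξ) u * κ⁻¹ * (κ * cm v (x s ξ) * κ⁻¹)
        = κ * (cm (x r ξ) u * cm v (x s ξ)) * κ⁻¹ := by group
    rw [e3, hψ, D.T_x κ hκ, hd1]
  have hψ1 := D.Λ_lin ψ hadd hlin
  -- the action of `A` on `g`
  have hact : ∀ b ∈ A, b * g * b⁻¹ = x d (ψ (μ b) + c r s * μ b * μ b) * g := by
    intro b hb
    rw [hg, cm_conj, hvh b hb, huh b hb, mul_one]
    set X := x r (μ b) with hX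
    set Y := x s (μ b) with hY
    have e1 : X * u = cm X u * u * X := by unfold cm; group
    have e2 : X * Y * X⁻¹ = x d (c r s * μ b * μ b) * Y := by
      rw [← D.x_br h (μ b) (μ b), ← hX, ← hY]; unfold cm; group
    have e3 : Y * v⁻¹ * Y⁻¹ = v⁻¹ * cm v Y := by unfold cm; group
    have m1 : cm X u ∈ W d := hp (μ b)
    have m2 : x d (c r s * μ b * μ b) ∈ W d := D.x_W d _
    have m3 : cm v Y ∈ W d := hp' (μ b)
    set p := cm X u with hpdef
    set p'' := x d (c r s * μ b * μ b) with hp''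
    set p' := cm v Y with hp'def
    have s1 : p' * u⁻¹ = u⁻¹ * p' := ((cu _ m3).inv_right).eq
    have s2 : p'' * v⁻¹ = v⁻¹ * p'' := ((cv _ m2).inv_right).eq
    have s3 : v * p = p * v := (cv _ m1).symm.eq
    have s4 : p'' * p' = p' * p'' := (D.W_comm d _ m2 _ m3).eq
    have s5 : ∀ w ∈ W d, v * u * v⁻¹ * u⁻¹ * w = w * (v * u * v⁻¹ * u⁻¹) := by
      intro w hw
      have := (cv w hw).mul_right (cu w hw)
      exact ((((cv w hw).mul_right (cu w hw)).mul_right ((cv w hw).inv_right)).mul_right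
        ((cu w hw).inv_right)).symm.eq
    unfold cm
    calc v * X * (u * Y) * (v * X)⁻¹ * (u * Y)⁻¹
        = v * (X * u) * Y * X⁻¹ * v⁻¹ * Y⁻¹ * u⁻¹ := by group
      _ = v * (p * u * X) * Y * X⁻¹ * v⁻¹ * Y⁻¹ * u⁻¹ := by rw [e1]
      _ = (v * p) * u * (X * Y * X⁻¹) * v⁻¹ * Y⁻¹ * u⁻¹ := by group
      _ = (p * v) * u * (p'' * Y) * v⁻¹ * Y⁻¹ * u⁻¹ := by rw [e2, s3]
      _ = p * v * u * p'' * (Y * v⁻¹ * Y⁻¹) * u⁻¹ := by group
      _ = p * v * u * (p'' * v⁻¹) * p' * u⁻¹ := by rw [e3]; group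
      _ = p * v * u * v⁻¹ * p'' * (p' * u⁻¹) := by rw [s2]; group
      _ = p * v * u * v⁻¹ * (p'' * u⁻¹) * p' := by rw [s1]; group
      _ = p * (v * u * v⁻¹ * u⁻¹ * (p'' * p')) := by
          rw [((cu _ m2).inv_right).eq]; group
      _ = p * ((p' * p'') * (v * u * v⁻¹ * u⁻¹)) := by
          rw [s5 _ ((W d).mul_mem m2 m3), s4]
      _ = (p * p') * p'' * (v * u * v⁻¹ * u⁻¹) := by group
      _ = x d (ψ (μ b) + c r s * μ b * μ b) * (v * u * v⁻¹ * u⁻¹) := by
          rw [hψ, D.x_add]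
  -- the correcting element
  obtain ⟨w0, hw0, hw0h⟩ := D.W_surj d (ψ 1 + c r s)
  set e := w0⁻¹ * g with he
  have hea : ∀ b ∈ A, b * e * b⁻¹ = x d (c r s * (μ b * μ b + μ b)) * e := by
    intro b hb
    have e1 : b * e * b⁻¹ = (b * w0 * b⁻¹)⁻¹ * (b * g * b⁻¹) := by rw [he]; group
    rw [e1, hact b hb, hw0h b hb, mul_inv_rev, D.x_inv, he]
    have e2 : w0⁻¹ * x d (ψ (μ b) + c r s * μ b * μ b) = x d (ψ (μ b) + c r s * μ b * μ b) * w0⁻¹ :=
      (D.W_comm d _ ((W d).inv_mem hw0) _ (D.x_W d _)).eq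
    calc x d (μ b * (ψ 1 + c r s)) * w0⁻¹ * (x d (ψ (μ b) + c r s * μ b * μ b) * g)
        = x d (μ b * (ψ 1 + c r s)) * (w0⁻¹ * x d (ψ (μ b) + c r s * μ b * μ b)) * g := by group
      _ = (x d (μ b * (ψ 1 + c r s)) * x d (ψ (μ b) + c r s * μ b * μ b)) * (w0⁻¹ * g) := by
          rw [e2]; group
      _ = _ := by
          rw [← D.x_add]
          congr 2
          rw [hψ1 (μ b)]
          have : μ b * (ψ 1 + c r s) + (μ b * ψ 1 + c r s * μ b * μ b)
            = (μ b * ψ 1 + μ b * ψ 1) + c r s * (μ b * μ b + μ b) := by ring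
          rw [this, D.add_self, zero_add]
  have het : Commute t e := by
    have := hea t D.tA
    rw [D.μ_t, mul_one, D.add_self, mul_zero, D.x_zero, one_mul] at this
    exact (commute_of_conj this).symm
  have hexr : ∀ α, Commute e (x r α) := by
    intro α
    apply Commute.mul_left ((cxr w0 hw0 α).inv_left)
    apply commute_of_conj
    rw [hg, cm_conj]
    have e1 : x r α * v * (x r α)⁻¹ = v := by
      rw [(D.W_comm r _ (D.x_W r α) v hv).eq]; group
    have e2 : x r α * u * (x r α)⁻¹ = u * cm (x r α) u := by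
      rw [← (cu _ (hp α)).eq]; unfold cm; group
    rw [e1, e2]
    exact cm_mul_right_of_commute (cv _ (hp α))
  have hexs : ∀ α, Commute e (x s α) := by
    intro α
    apply Commute.mul_left ((cxs w0 hw0 α).inv_left)
    apply commute_of_conj
    rw [hg, cm_conj]
    have e1 : x s α * u * (x s α)⁻¹ = u := by
      rw [(D.W_comm s _ (D.x_W s α) u hu).eq]; group
    have hq := D.mem120 h' α hv
    have e2 : x s α * v * (x s α)⁻¹ = v * cm (x s α) v := by
      rw [← (cv _ hq).eq]; unfold cm; group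
    rw [e1, e2]
    exact cm_mul_left_of_commute (cu _ hq)
  obtain ⟨z, hz, ζ, hez⟩ := D.centQ h e het hexr hexs (fun y _ h1 h2 h3 =>
    (((h3 w0 hw0).symm).inv_left).mul_left (commute_cm (h1 v hv) (h2 u hu)))
  -- conclusion
  have hfin : ∀ b ∈ A, μ b * μ b + μ b = 0 := by
    intro b hb
    have h1 := hea b hb
    rw [hez] at h1
    have h2 : b * z * b⁻¹ * z⁻¹ = x d (c r s * (μ b * μ b + μ b)) := by
      have h3 : b * (z * x d ζ) * b⁻¹ = (b * z * b⁻¹) * x d ζ := by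
        have := (D.A_x b hb d ζ).inv_left.eq
        calc b * (z * x d ζ) * b⁻¹ = b * z * (x d ζ * b⁻¹) := by group
          _ = _ := by rw [← this]; group
      rw [h3] at h1
      calc b * z * b⁻¹ * z⁻¹ = ((b * z * b⁻¹) * x d ζ) * (x d ζ)⁻¹ * z⁻¹ := by group
        _ = _ := by rw [h1]; group
    have h4 := D.C_disj d _ (h2 ▸ D.C_A z hz b hb)
    exact (mul_eq_zero.mp h4).resolve_left (D.c_ne h)
  have h6 := hfin a ha
  have h7 : μ a * (μ a + 1) = 0 := by rw [mul_add, mul_one]; exact h6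
  rcases mul_eq_zero.mp h7 with h8 | h8
  · exact Or.inl (D.μ_ne a ha h8)
  · right
    have h9 : μ a = 1 := by
      calc μ a = (μ a + 1) + 1 := by rw [add_assoc, D.add_self (1 : F), add_zero]
        _ = 1 := by rw [h8, zero_add]
    -- `a * t` acts trivially
    obtain ⟨w, hw, hwh⟩ := D.W_surj d 1
    have k1 := hwh a ha
    have k2 := hwh t D.tA
    have k3 := hwh (a * t) (A.mul_mem ha D.tA)
    rw [h9, one_mul] at k1
    rw [D.μ_t, one_mul] at k2
    have k4 : a * t * w * (a * t)⁻¹ = w := by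
      calc a * t * w * (a * t)⁻¹ = a * (t * w * t⁻¹) * a⁻¹ := by group
        _ = (a * w * a⁻¹) * (a * x d 1 * a⁻¹) := by rw [k2]; group
        _ = w * x d 1 * x d 1 := by
            rw [k1, (D.A_x a ha d 1).eq]; group
        _ = w := by rw [mul_assoc, D.x_sq, mul_one]
    rw [k4, mul_one] at k3
    have k5 : x d (μ (a * t)) = 1 := (mul_eq_left.mp k3.symm)
    have k6 := D.μ_ne _ (A.mul_mem ha D.tA) (D.x_inj d _ k5)
    calc a = (a * t) * t := by rw [mul_assoc, D.A_sq t D.tA, mul_one]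
      _ = t := by rw [k6, one_mul]

end Data

end Cfsg.Agent.OddHalf.D4.ATwoEnd
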