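import Cfsg.Agent.StrongEmb.Consequences
import Cfsg.Agent.OddHalf.D4.FullPair

/-!
# ODD, D4: the digon

`L = Kᵍ ≠ K`, `S ≤ C(L)`, `Sᵍ ≤ C(K)` for a Sylow 2-subgroup `S` of `K`. If `K` has a torus `T` whose centralizer in
`Aut K` has odd order (`Facts`), this is impossible (`false_of`): `N(K) ∩ C(T)` is strongly embedded in `C(T)`, and the
Weyl element of `K` fixes a second point of `C(T) / N(K) ∩ C(T)`.
-/

set_option autoImplicit false

namespace Cfsg.Agent.OddHalf.D4.Digon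

open Cfsg Subgroup Cfsg.Agent.OddHalf.D4 Cfsg.Agent.OddHalf.D4.Basic
open Cfsg.Agent.OddHalf.D4.CommConj (Tight cj mem_cj cj_mul card_cj mem_cj_mul cj_eq_of_mem_normalizer
  mem_normalizer_of_cj_eq)
open Cfsg.Agent.StrongEmb.Basic Cfsg.Agent.StrongEmb.TwoRank Cfsg.Agent.StrongEmb.Split
open Cfsg.Agent.StrongEmb.Consequences

/-! ### The abstract part -/

section Abs

universe u

variable {X : Type u} [Group X] [Finite X] {H C : Subgroup X}

/-- `o ^ 2 ^ n = 1` in a group of odd order -/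
theorem eq_one_of_odd {N : Subgroup X} (hN : Odd (Nat.card ↥N)) {o : X} (ho : o ∈ N) {n : ℕ} (h : o ^ 2 ^ n = 1) :
    o = 1 := by
  have h1 : orderOf o ∣ 2 ^ n := orderOf_dvd_of_pow_eq_one h
  have h2 : orderOf o ∣ Nat.card ↥N := Subgroup.orderOf_dvd_natCard N ho
  have hcop : Nat.Coprime (Nat.card ↥N) (2 ^ n) := Nat.Coprime.pow_right n hN.coprime_two_right
  have h3 : orderOf o = 1 := Nat.eq_one_of_dvd_coprimes hcop h2 h1
  rwa [orderOf_eq_one_iff] at h3

/-- a 2-element of a subgroup of `X / O(X)` lifts to a 2-element -/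
theorem exists_lift {N : Subgroup X} [N.Normal] (hN : Odd (Nat.card ↥N)) {v : X} {n : ℕ}
    (h : (QuotientGroup.mk' N v) ^ 2 ^ n = 1) :
    ∃ j : ℕ, (v ^ j) ^ 2 ^ n = 1 ∧ QuotientGroup.mk' N (v ^ j) = QuotientGroup.mk' N v := by
  set m := Nat.card ↥N with hm
  have hvn : v ^ 2 ^ n ∈ N := by
    rw [← QuotientGroup.ker_mk' N, MonoidHom.mem_ker, map_pow, h]
  have hvm : (v ^ 2 ^ n) ^ m = 1 := by
    have : (⟨v ^ 2 ^ n, hvn⟩ : N) ^ m = 1 := pow_card_eq_one'
    exact congrArg Subtype.val this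
  have hcop : Nat.Coprime m (2 ^ n) := Nat.Coprime.pow_right n hN.coprime_two_right
  have h1 := Nat.ModEq.pow_totient hcop
  have h2 : 0 < Nat.totient (2 ^ n) := Nat.totient_pos.mpr (by positivity)
  refine ⟨m * m ^ (Nat.totient (2 ^ n) - 1), ?_, ?_⟩
  · rw [← pow_mul, mul_comm (m * _), ← mul_assoc, pow_mul, pow_mul, hvm, one_pow]
  · rw [← pow_succ', Nat.sub_add_cancel h2, map_pow]
    have h3 : QuotientGroup.mk' N v ^ (m ^ Nat.totient (2 ^ n)) = QuotientGroup.mk' N v ^ 1 := by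
      rw [pow_eq_pow_iff_modEq]
      exact h1.of_dvd (orderOf_dvd_of_pow_eq_one h)
    rw [h3, pow_one]

/-- **The abstract part**: `f` normalizes the strongly embedded subgroup `H`, is trivial on the subgroup `C` containing
the 2-elements of `H`, and `C` contains a group `T` which fixes a second point and is centralized by no 2-element of
`C`. Then `f` is trivial on `X / O(X)`. -/
theorem abs (hBen : BenderHolds (X ⧸ oddCore X)) (hH : IsStronglyEmbedded H) (hr : CommPair X) (f : X →* X) (hfH : ∀ x, f x ∈ H ↔ x ∈ H)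
    (hCH : C ≤ H) (hfC : ∀ c ∈ C, f c = c) (h2 : ∀ x ∈ H, (∃ n : ℕ, x ^ 2 ^ n = 1) → x ∈ C)
    (hC0 : ∀ c ∈ C, c ∈ oddCore X → c = 1) {T : Subgroup X} (hT : T ≤ C) {k : X} (hk : k ∉ H)
    (hkT : ∀ t ∈ T, k⁻¹ * t * k ∈ H)
    (hu : ∀ u ∈ C, (∃ n : ℕ, u ^ 2 ^ n = 1) → (∀ t ∈ T, u * t = t * u) → u = 1) (x : X) :
    x⁻¹ * f x ∈ oddCore X := by
  obtain ⟨hSE, hcp, hcore⟩ := quotient_data hH hr
  obtain ⟨Qb, hQ, hQ2⟩ := hBen _ hSE hcp hcore
  have hiff := mk_mem_map_iff (oddCore_le hH hr)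
  set π := QuotientGroup.mk' (oddCore X) with hπ
  -- elements of `Qb` lift to 2-elements of `C`
  have lift : ∀ q ∈ Qb, ∃ v ∈ C, (∃ n : ℕ, v ^ 2 ^ n = 1) ∧ π v = q := by
    intro q hq
    obtain ⟨v, hv, hvq⟩ := hQ.le hq
    obtain ⟨n, hn⟩ := hQ2 ⟨q, hq⟩
    have hn' : q ^ 2 ^ n = 1 := congrArg Subtype.val hn
    obtain ⟨j, hj1, hj2⟩ := exists_lift (odd_oddCore X) (v := v) (n := n) (by rw [← hπ, hvq, hn'])
    exact ⟨v ^ j, h2 _ (pow_mem hv j) ⟨n, hj1⟩, ⟨n, hj1⟩, hj2.trans hvq⟩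
  have mv : ∀ x, x ∉ H → ∀ y, y ∉ H → ∃ v ∈ C, (∃ n : ℕ, v ^ 2 ^ n = 1) ∧ π v ∈ Qb ∧ y⁻¹ * (v * x) ∈ H := by
    intro x hx y hy
    obtain ⟨q, hq, hqh⟩ := hQ.trans (π x) (π y) (fun hc => hx ((hiff x).mp hc)) (fun hc => hy ((hiff y).mp hc))
    obtain ⟨v, hv, hv2, rfl⟩ := lift q hq
    refine ⟨v, hv, hv2, hq, (hiff _).mp ?_⟩
    rw [map_mul, map_mul, map_inv]
    exact hqh
  -- `f` fixes the point `k H`
  have hkk : k⁻¹ * f k ∈ H := by
    obtain ⟨u, huC, hu2, huQ, hkh⟩ := mv (f k) (fun h => hk ((hfH k).mp h)) k hk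
    have key : ∀ t ∈ T, u * t = t * u := by
      intro t ht
      have htC := hT ht
      have h3 : (f k)⁻¹ * t * f k ∈ H := by
        have := (hfH (k⁻¹ * t * k)).mpr (hkT t ht)
        rwa [map_mul, map_mul, map_inv, hfC t htC] at this
      -- `e = t⁻¹ u⁻¹ t u` fixes `f k H`
      have h4 : (f k)⁻¹ * ((t⁻¹ * u⁻¹ * t * u) * f k) ∈ H := by
        have e : (f k)⁻¹ * ((t⁻¹ * u⁻¹ * t * u) * f k) =
            ((f k)⁻¹ * t * f k)⁻¹ * (k⁻¹ * (u * f k))⁻¹ * (k⁻¹ * t * k) * (k⁻¹ * (u * f k)) := by group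
        rw [e]
        exact mul_mem (mul_mem (mul_mem (inv_mem h3) (inv_mem hkh)) (hkT t ht)) hkh
      have h5 : π (t⁻¹ * u⁻¹ * t * u) ∈ Qb := by
        have h6 : (π t)⁻¹ * (π u)⁻¹ * (π t) ∈ Qb := by
          have htH : π t ∈ H.map π := ⟨t, hCH htC, rfl⟩
          have := hQ.normal.conj_mem ⟨(π u)⁻¹, hQ.le (inv_mem huQ)⟩ (mem_subgroupOf.mpr (inv_mem huQ))
            ⟨(π t)⁻¹, inv_mem htH⟩
          rw [mem_subgroupOf] at this
          simpa using this
        rw [map_mul, map_mul, map_mul, map_inv, map_inv]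
        exact mul_mem h6 huQ
      have h7 : π (t⁻¹ * u⁻¹ * t * u) = 1 := by
        apply hQ.reg (π (f k)) (fun hc => hk ((hfH k).mp ((hiff _).mp hc))) _ h5
        rw [← map_mul, ← map_inv, ← map_mul]
        exact (hiff _).mpr h4
      have h8 : t⁻¹ * u⁻¹ * t * u = 1 := by
        apply hC0
        · exact mul_mem (mul_mem (mul_mem (inv_mem htC) (inv_mem huC)) htC) huC
        · rwa [hπ, ← MonoidHom.mem_ker, QuotientGroup.ker_mk'] at h7
      calc u * t = u * t * (t⁻¹ * u⁻¹ * t * u) := by rw [h8, mul_one]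
        _ = t * u := by group
    have h9 := hu u huC hu2 key
    rw [h9, one_mul] at hkh
    exact hkh
  -- `f` fixes all points
  have hB : ∀ x, x⁻¹ * f x ∈ H := by
    intro x
    by_cases hx : x ∈ H
    · exact mul_mem (inv_mem hx) ((hfH x).mpr hx)
    · obtain ⟨v, hvC, -, -, hv⟩ := mv k hk x hx
      have h3 : (f x)⁻¹ * (v * f k) ∈ H := by
        have := (hfH (x⁻¹ * (v * k))).mpr hv
        rwa [map_mul, map_mul, map_inv, hfC v hvC] at this
      have e : x⁻¹ * f x = (x⁻¹ * (v * k)) * (k⁻¹ * f k) * ((f x)⁻¹ * (v * f k))⁻¹ := by group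
      rw [e]
      exact mul_mem (mul_mem hv hkk) (inv_mem h3)
  rw [← normalCore_eq_oddCore hH hr]
  intro y
  have h3 := hB (x * y⁻¹)
  have h4 := hB y⁻¹
  have e : y * (x⁻¹ * f x) * y⁻¹ = ((x * y⁻¹)⁻¹ * f (x * y⁻¹)) * (y⁻¹⁻¹ * f y⁻¹)⁻¹ := by
    rw [map_mul]; group
  rw [e]
  exact mul_mem h3 (inv_mem h4)

end Abs

/-! ### The facts on `K` -/

universe v

variable {G : Type v} [Group G]

/-- The facts on `K`: `S` a nontrivial 2-subgroup, `T` a subgroup of odd order normalizing `S`, `w` normalizes `T`. -/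
structure Facts (K S T : Subgroup G) (w : G) : Prop where
  S_le : S ≤ K
  T_le : T ≤ K
  w_mem : w ∈ K
  two : IsPGroup 2 ↥S
  odd : Odd (Nat.card ↥T)
  TS : ∀ t ∈ T, ∀ s ∈ S, t * s * t⁻¹ ∈ S
  wT : w ∈ normalizer (T : Set G)
  gen : ∀ Y : Subgroup G, S ≤ Y → T ≤ Y → w ∈ Y → K ≤ Y
  /-- `K` is simple -/
  simp : ∀ N : Subgroup G, (∀ k ∈ K, ∀ x ∈ N, k * x * k⁻¹ ∈ N) → (∃ x ∈ N, x ∈ K ∧ x ≠ 1) → K ≤ N
  cen : ∀ x ∈ K, x ∈ centralizer (K : Set G) → x = 1
  pair : ∃ a ∈ S, ∃ b ∈ S, orderOf a = 2 ∧ orderOf b = 2 ∧ a ≠ b ∧ a * b = b * a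
  /-- an automorphism in `N(K)` trivial on `S` -/
  f1 : ∀ y ∈ normalizer (K : Set G), (∀ s ∈ S, y * s = s * y) → ∃ c ∈ centralizer (K : Set G), ∃ z ∈ S, y = c * z
  /-- a 2-element trivial on `T` is trivial on `K` -/
  f2 : ∀ y ∈ normalizer (K : Set G), (∃ n : ℕ, y ^ 2 ^ n = 1) → (∀ t ∈ T, y * t = t * y) →
    y ∈ centralizer (K : Set G)

theorem isPGroup_zpowers_of_pow {t : G} {n : ℕ} (h : t ^ 2 ^ n = 1) : IsPGroup 2 ↥(zpowers t) := by
  rintro ⟨g, k, rfl⟩
  refine ⟨n, Subtype.ext ?_⟩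
  show (t ^ k) ^ 2 ^ n = 1
  rw [← zpow_natCast, ← zpow_mul, mul_comm, zpow_mul, zpow_natCast, h, one_zpow]

theorem conj_pow' (g x : G) (n : ℕ) : (g * x * g⁻¹) ^ n = g * x ^ n * g⁻¹ := conj_pow

theorem Facts.cj {K S T : Subgroup G} {w : G} (F : Facts K S T w) (g : G) :
    Facts (CommConj.cj g K) (CommConj.cj g S) (CommConj.cj g T) (g * w * g⁻¹) := by
  have back : ∀ {A : Subgroup G} {x : G}, x ∈ CommConj.cj g A → ∃ a ∈ A, x = g * a * g⁻¹ := by
    intro A x hx
    exact ⟨g⁻¹ * x * g, mem_cj.mp hx, by group⟩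
  have nrm : ∀ {y : G}, y ∈ normalizer ((CommConj.cj g K : Subgroup G) : Set G) →
      g⁻¹ * y * g ∈ normalizer (K : Set G) := by
    intro y hy
    rw [normalizer_cj, mem_cj] at hy
    exact hy
  refine
  { S_le := map_mono F.S_le
    T_le := map_mono F.T_le
    w_mem := mem_cj_mul F.w_mem
    two := F.two.map _
    odd := by rw [card_cj]; exact F.odd
    TS := ?_
    wT := ?_
    gen := ?_
    simp := ?_
    cen := ?_
    pair := ?_
    f1 := ?_
    f2 := ?_ }
  · intro t ht s hs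
    obtain ⟨t, ht', rfl⟩ := back ht
    obtain ⟨s, hs', rfl⟩ := back hs
    have := mem_cj_mul (g := g) (F.TS t ht' s hs')
    have e : g * t * g⁻¹ * (g * s * g⁻¹) * (g * t * g⁻¹)⁻¹ = g * (t * s * t⁻¹) * g⁻¹ := by group
    rw [e]; exact this
  · rw [normalizer_cj]
    exact mem_cj_mul F.wT
  · intro Y hS hT hw
    have h1 : K ≤ CommConj.cj g⁻¹ Y := by
      apply F.gen
      · intro s hs
        rw [mem_cj, inv_inv]
        exact hS (mem_cj_mul hs)
      · intro s hs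
        rw [mem_cj, inv_inv]
        exact hT (mem_cj_mul hs)
      · rw [mem_cj, inv_inv]; exact hw
    intro x hx
    obtain ⟨k, hk, rfl⟩ := back hx
    have := h1 hk
    rwa [mem_cj, inv_inv] at this
  · rintro N hN ⟨x, hxN, hxK, hx1⟩
    have h1 : K ≤ CommConj.cj g⁻¹ N := by
      apply F.simp
      · intro k hk x hx
        rw [mem_cj, inv_inv] at hx ⊢
        have := hN _ (mem_cj_mul (g := g) hk) _ hx
        have e : g * (k * x * k⁻¹) * g⁻¹ = g * k * g⁻¹ * (g * x * g⁻¹) * (g * k * g⁻¹)⁻¹ := by group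
        rw [e]; exact this
      · refine ⟨g⁻¹ * x * g, ?_, mem_cj.mp hxK, ?_⟩
        · rw [mem_cj, inv_inv]
          have e : g * (g⁻¹ * x * g) * g⁻¹ = x := by group
          rw [e]; exact hxN
        · intro h
          apply hx1
          calc x = g * (g⁻¹ * x * g) * g⁻¹ := by group
            _ = 1 := by rw [h]; group
    intro y hy
    obtain ⟨k, hk, rfl⟩ := back hy
    have := h1 hk
    rwa [mem_cj, inv_inv] at this
  · intro x hx hxc
    obtain ⟨k, hk, rfl⟩ := back hx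
    rw [centralizer_cj, mem_cj] at hxc
    have h1 : k = 1 := F.cen k hk (by
      have e : g⁻¹ * (g * k * g⁻¹) * g = k := by group
      rwa [e] at hxc)
    rw [h1]; group
  · obtain ⟨a, ha, b, hb, ha2, hb2, hab, hc⟩ := F.pair
    refine ⟨_, mem_cj_mul (g := g) ha, _, mem_cj_mul (g := g) hb, by rw [orderOf_conj, ha2],
      by rw [orderOf_conj, hb2], ?_, ?_⟩
    · intro h
      exact hab (mul_left_cancel (mul_right_cancel h))
    · calc g * a * g⁻¹ * (g * b * g⁻¹) = g * (a * b) * g⁻¹ := by group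
        _ = g * (b * a) * g⁻¹ := by rw [hc]
        _ = g * b * g⁻¹ * (g * a * g⁻¹) := by group
  · intro y hy hc
    obtain ⟨c, hcK, z, hz, h⟩ := F.f1 _ (nrm hy) (by
      intro s hs
      have := hc _ (mem_cj_mul (g := g) hs)
      calc g⁻¹ * y * g * s = g⁻¹ * (y * (g * s * g⁻¹)) * g := by group
        _ = g⁻¹ * (g * s * g⁻¹ * y) * g := by rw [this]
        _ = s * (g⁻¹ * y * g) := by group)
    refine ⟨g * c * g⁻¹, ?_, g * z * g⁻¹, mem_cj_mul hz, ?_⟩
    · rw [centralizer_cj]; exact mem_cj_mul hcK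
    · calc y = g * (g⁻¹ * y * g) * g⁻¹ := by group
        _ = g * (c * z) * g⁻¹ := by rw [h]
        _ = g * c * g⁻¹ * (g * z * g⁻¹) := by group
  · rintro y hy ⟨n, hn⟩ hc
    have h1 := F.f2 _ (nrm hy) ⟨n, by
      have := conj_pow' g⁻¹ y (2 ^ n)
      rw [inv_inv, hn] at this
      rw [this]; group⟩ (by
      intro s hs
      have := hc _ (mem_cj_mul (g := g) hs)
      calc g⁻¹ * y * g * s = g⁻¹ * (y * (g * s * g⁻¹)) * g := by group
        _ = g⁻¹ * (g * s * g⁻¹ * y) * g := by rw [this]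
        _ = s * (g⁻¹ * y * g) := by group)
    rw [centralizer_cj, mem_cj]
    exact h1

/-- `K` is generated by its 2-elements -/
theorem Facts.le_of_two {K S T : Subgroup G} {w : G} (F : Facts K S T w) {Y : Subgroup G}
    (h : ∀ x ∈ K, (∃ n : ℕ, x ^ 2 ^ n = 1) → x ∈ Y) : K ≤ Y := by
  have h1 : K ≤ closure {x | x ∈ K ∧ ∃ n : ℕ, x ^ 2 ^ n = 1} := by
    apply F.simp
    · intro k hk x hx
      induction hx using closure_induction with
      | mem x hx =>
        obtain ⟨hxK, n, hn⟩ := hx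
        refine subset_closure ⟨mul_mem (mul_mem hk hxK) (inv_mem hk), n, ?_⟩
        rw [conj_pow', hn]; group
      | one => rw [mul_one, mul_inv_cancel]; exact one_mem _
      | mul x y _ _ hx hy =>
        have e : k * (x * y) * k⁻¹ = k * x * k⁻¹ * (k * y * k⁻¹) := by group
        rw [e]; exact mul_mem hx hy
      | inv x _ hx =>
        have e : k * x⁻¹ * k⁻¹ = (k * x * k⁻¹)⁻¹ := by group
        rw [e]; exact inv_mem hx
    · obtain ⟨a, ha, -, -, ha2, -⟩ := F.pair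
      refine ⟨a, subset_closure ⟨F.S_le ha, 1, ?_⟩, F.S_le ha, ?_⟩
      · rw [pow_one, ← ha2]; exact pow_orderOf_eq_one a
      · rintro rfl
        rw [orderOf_one] at ha2
        omega
  exact h1.trans ((closure_le _).mpr fun x hx => h x hx.1 hx.2)

/-! ### The digon -/

section Main

variable [Finite G]

/-- `T ≤ C(L)` -/
theorem torus {K S T L S' T' : Subgroup G} {w w' : G} (F : Facts K S T w) (F' : Facts L S' T' w') (hL : TightAt L)
    (h1 : S ≤ centralizer (L : Set G)) (h2 : S' ≤ centralizer (K : Set G)) : T ≤ centralizer (L : Set G) := by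
  intro t ht
  obtain ⟨a, ha, -, -, ha2, -⟩ := F.pair
  have htN : t ∈ normalizer (L : Set G) := hL.tight t a (h1 ha) ha2 (h1 (F.TS t ht a ha))
  have hcs : ∀ s ∈ S', t * s = s * t := fun s hs => mem_centralizer_iff.mp (h2 hs) t (F.T_le ht)
  obtain ⟨c, hc, z, hz, hcz⟩ := F'.f1 t htN hcs
  have hzt : t * z = z * t := hcs z hz
  have hcz' : c * z = z * c := (mem_centralizer_iff.mp hc z (F'.S_le hz)).symm
  set m := Nat.card ↥T with hm
  have htm : t ^ m = 1 := by
    have : (⟨t, ht⟩ : T) ^ m = 1 := pow_card_eq_one'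
    exact congrArg Subtype.val this
  have h3 : c ^ m * z ^ m = 1 := by
    have h4 : Commute c z := hcz'
    rw [← h4.mul_pow, ← hcz, htm]
  have h4 : z ^ m = 1 := by
    apply F'.cen _ (pow_mem (F'.S_le hz) m)
    have h5 : z ^ m = (c ^ m)⁻¹ := (inv_eq_of_mul_eq_one_right h3).symm
    rw [h5]
    exact inv_mem (pow_mem hc m)
  have h5 : z = 1 := by
    obtain ⟨n, hn⟩ := F'.two ⟨z, hz⟩
    have hn' : z ^ 2 ^ n = 1 := congrArg Subtype.val hn
    have hcop : Nat.Coprime m (2 ^ n) := Nat.Coprime.pow_right n F.odd.coprime_two_right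
    have h6 : orderOf z = 1 := Nat.eq_one_of_dvd_coprimes hcop (orderOf_dvd_of_pow_eq_one h4)
      (orderOf_dvd_of_pow_eq_one hn')
    rwa [orderOf_eq_one_iff] at h6
  rw [hcz, h5, mul_one]
  exact hc

/-- **The digon.** -/
theorem false_of (hBen : ∀ (Y : Type v) [Group Y] [Finite Y], BenderHolds Y) {K S T : Subgroup G} {w g : G}
    (F : Facts K S T w) (hK : TightAt K)
    (std : ∀ g : G, ¬ cj g K ≤ centralizer (K : Set G))
    (core : ∀ O : Subgroup G, O ≤ centralizer (K : Set G) →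
      (∀ x ∈ centralizer (K : Set G), ∀ o ∈ O, x * o * x⁻¹ ∈ O) → Odd (Nat.card ↥O) → O = ⊥)
    (hg : g ∉ normalizer (K : Set G)) (h1 : S ≤ centralizer ((cj g K : Subgroup G) : Set G))
    (h2 : cj g S ≤ centralizer (K : Set G)) : False := by
  have F' := F.cj g
  have hL := hK.cj g
  have hT : T ≤ centralizer ((cj g K : Subgroup G) : Set G) := torus F F' hL h1 h2
  have hT' : cj g T ≤ centralizer (K : Set G) := torus F' F hK h2 h1
  obtain ⟨s0, hs0, -, -, hs02, -⟩ := F.pair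
  have hs01 : s0 ≠ 1 := by
    rintro rfl
    rw [orderOf_one] at hs02
    omega
  obtain ⟨a, ha, b, hb, ha2, hb2, hab, habc⟩ := F'.pair
  have ha1 : a ≠ 1 := by
    rintro rfl
    rw [orderOf_one] at ha2
    omega
  have hcn : ∀ A : Subgroup G, centralizer (A : Set G) ≤ normalizer (A : Set G) := fun A =>
    Subgroup.centralizer_le_normalizer _
  have hnc : ∀ A : Subgroup G, ∀ m ∈ normalizer (A : Set G), ∀ c ∈ centralizer (A : Set G),
      m * c * m⁻¹ ∈ centralizer (A : Set G) := by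
    intro A m hm c hc
    rw [mem_centralizer_iff] at hc ⊢
    intro k hk
    have h1 : m⁻¹ * k * m ∈ A := (mem_normalizer_iff''.mp hm k).mp hk
    have h2 := hc _ h1
    calc k * (m * c * m⁻¹) = m * (m⁻¹ * k * m * c) * m⁻¹ := by group
      _ = m * (c * (m⁻¹ * k * m)) * m⁻¹ := by rw [h2]
      _ = m * c * m⁻¹ * k := by group
  -- `w` does not normalize `L`
  have hw : w ∉ normalizer ((cj g K : Subgroup G) : Set G) := by
    intro hw
    have h3 : K ≤ normalizer ((cj g K : Subgroup G) : Set G) :=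
      F.gen _ (h1.trans (hcn _)) (hT.trans (hcn _)) hw
    have h4 : K ≤ centralizer ((cj g K : Subgroup G) : Set G) :=
      F.simp _ (fun k hk x hx => hnc _ k (h3 hk) x hx) ⟨s0, h1 hs0, F.S_le hs0, hs01⟩
    apply std g
    intro x hx
    rw [mem_centralizer_iff]
    intro k hk
    exact (mem_centralizer_iff.mp (h4 hk) x hx).symm
  -- `X = C(T)`
  set X : Subgroup G := centralizer (T : Set G) with hX
  have hCX : centralizer (K : Set G) ≤ X := centralizer_le F.T_le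
  have hLX : cj g K ≤ X := by
    intro x hx
    rw [hX, mem_centralizer_iff]
    intro t ht
    exact (mem_centralizer_iff.mp (hT ht) x hx).symm
  have hXT : ∀ x ∈ X, ∀ t ∈ T, x * t = t * x := fun x hx t ht => (mem_centralizer_iff.mp hx t ht).symm
  have two : ∀ x ∈ X, x ∈ normalizer (K : Set G) → (∃ n : ℕ, x ^ 2 ^ n = 1) → x ∈ centralizer (K : Set G) :=
    fun x hx hxN h => F.f2 x hxN h (hXT x hx)
  have hkn : g * w * g⁻¹ ∉ normalizer (K : Set G) := by
    intro hk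
    have h3 : cj g K ≤ normalizer (K : Set G) := F'.gen _ (h2.trans (hcn _)) (hT'.trans (hcn _)) hk
    exact std g (F'.le_of_two fun x hx h => two x (hLX hx) (h3 hx) h)
  -- conjugation by `w`
  have hwX : ∀ x ∈ X, w * x * w⁻¹ ∈ X := by
    intro x hx
    rw [hX, mem_centralizer_iff] at hx ⊢
    intro t ht
    have h3 : w⁻¹ * t * w ∈ T := (mem_normalizer_iff''.mp F.wT t).mp ht
    have h4 := hx _ h3
    calc t * (w * x * w⁻¹) = w * (w⁻¹ * t * w * x) * w⁻¹ := by group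
      _ = w * (x * (w⁻¹ * t * w)) * w⁻¹ := by rw [h4]
      _ = w * x * w⁻¹ * t := by group
  let f : ↥X →* ↥X :=
  { toFun := fun x => ⟨w * x * w⁻¹, hwX x x.2⟩
    map_one' := Subtype.ext (by show w * 1 * w⁻¹ = 1; group)
    map_mul' := fun x y => Subtype.ext (by
      show w * (x * y : G) * w⁻¹ = w * x * w⁻¹ * (w * y * w⁻¹)
      group) }
  have hf : ∀ x : ↥X, ((f x : ↥X) : G) = w * x * w⁻¹ := fun _ => rfl
  set H : Subgroup ↥X := (normalizer (K : Set G)).subgroupOf X with hH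
  set C : Subgroup ↥X := (centralizer (K : Set G)).subgroupOf X with hC
  have memH : ∀ {x : ↥X}, x ∈ H ↔ (x : G) ∈ normalizer (K : Set G) := Iff.rfl
  have memC : ∀ {x : ↥X}, x ∈ C ↔ (x : G) ∈ centralizer (K : Set G) := Iff.rfl
  have hw' : w ∈ normalizer (K : Set G) := le_normalizer F.w_mem
  have hpow : ∀ {x : ↥X} {n : ℕ}, x ^ 2 ^ n = 1 → (x : G) ^ 2 ^ n = 1 := by
    intro x n h
    have := congrArg Subtype.val h
    simpa using this
  have h2X : ∀ x ∈ H, (∃ n : ℕ, x ^ 2 ^ n = 1) → x ∈ C := by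
    rintro x hx ⟨n, hn⟩
    exact two x x.2 hx ⟨n, hpow hn⟩
  have hord : ∀ {x : ↥X}, orderOf x = 2 → orderOf (x : G) = 2 := by
    intro x h
    rw [Subgroup.orderOf_coe, h]
  have hSE : IsStronglyEmbedded H := by
    refine ⟨?_, ?_, ?_⟩
    · intro h
      apply hkn
      have : (⟨g * w * g⁻¹, hLX F'.w_mem⟩ : ↥X) ∈ H := by rw [h]; trivial
      exact this
    · have haX : a ∈ X := hCX (h2 ha)
      have h3 : (⟨a, haX⟩ : ↥X) ∈ H := hcn _ (h2 ha)
      refine even_of_mem (u := (⟨a, haX⟩ : ↥X)) ?_ h3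
      rw [Subgroup.orderOf_mk]; exact ha2
    · intro x hx
      apply odd_of_forall
      intro u hu hu2
      obtain ⟨hu1, v, hv, hvu⟩ := hu
      have hvu' : x * v * x⁻¹ = u := hvu
      have hv2 : orderOf v = 2 := by rw [← hu2, ← hvu', orderOf_conj]
      have sq : ∀ {y : ↥X}, orderOf y = 2 → ∃ n : ℕ, y ^ 2 ^ n = 1 := by
        intro y hy
        exact ⟨1, by rw [pow_one, ← hy]; exact pow_orderOf_eq_one y⟩
      have huC := h2X u hu1 (sq hu2)
      have hvC := h2X v hv (sq hv2)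
      apply hx
      apply hK.tight x v hvC (hord hv2)
      have : (x : G) * v * (x : G)⁻¹ = u := by
        have := congrArg Subtype.val hvu'
        simpa using this
      rw [this]
      exact huC
  have hCP : CommPair ↥X := by
    refine ⟨⟨a, hCX (h2 ha)⟩, ⟨b, hCX (h2 hb)⟩, ?_, ?_, ?_, ?_⟩
    · rw [Subgroup.orderOf_mk]; exact ha2
    · rw [Subgroup.orderOf_mk]; exact hb2
    · intro h; exact hab (congrArg Subtype.val h)
    · exact Subtype.ext habc
  have hO := oddCore_le hSE hCP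
  have hC0 : ∀ c ∈ C, c ∈ oddCore ↥X → c = 1 := by
    have h3 : (C ⊓ oddCore ↥X).map X.subtype = ⊥ := by
      apply core
      · rintro _ ⟨x, ⟨hx, -⟩, rfl⟩
        exact hx
      · rintro x hx _ ⟨o, ⟨ho, ho'⟩, rfl⟩
        have hxC : (⟨x, hCX hx⟩ : ↥X) ∈ C := hx
        refine ⟨(⟨x, hCX hx⟩ : ↥X) * o * (⟨x, hCX hx⟩ : ↥X)⁻¹, ⟨?_, ?_⟩, rfl⟩
        · exact C.mul_mem (C.mul_mem hxC ho) (C.inv_mem hxC)
        · exact (inferInstance : (oddCore ↥X).Normal).conj_mem o ho' _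
      · rw [Nat.card_congr ((C ⊓ oddCore ↥X).equivMapOfInjective X.subtype X.subtype_injective).symm.toEquiv]
        exact (odd_oddCore ↥X).of_dvd_nat (Subgroup.card_dvd_of_le inf_le_right)
    intro c hc hc'
    have h4 : (c : G) ∈ (C ⊓ oddCore ↥X).map X.subtype := ⟨c, ⟨hc, hc'⟩, rfl⟩
    rw [h3, mem_bot] at h4
    exact Subtype.ext h4
  -- `C(K) ≤ N(L)`
  have hCL : centralizer (K : Set G) ≤ normalizer ((cj g K : Subgroup G) : Set G) := by
    intro c hc
    exact hL.mem (h1 hs0) hs02 (mem_centralizer_iff.mp hc s0 (F.S_le hs0)).symm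
  have key := abs (hBen _) hSE hCP f
    (fun x => by
      rw [memH, memH, hf]
      constructor
      · intro h
        have := mul_mem (mul_mem (inv_mem hw') h) hw'
        have e : w⁻¹ * (w * (x : G) * w⁻¹) * w = x := by group
        rwa [e] at this
      · intro h
        exact mul_mem (mul_mem hw' h) (inv_mem hw'))
    (C := C) (fun x hx => hcn _ hx)
    (fun c hc => Subtype.ext (by
      rw [hf]
      have := mem_centralizer_iff.mp (memC.mp hc) w F.w_mem
      rw [this]; group))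
    h2X hC0 (T := (cj g T).subgroupOf X) (fun t ht => hT' ht) (k := ⟨g * w * g⁻¹, hLX F'.w_mem⟩)
    (fun h => hkn h)
    (fun t ht => by
      have h3 : (g * w * g⁻¹)⁻¹ * (t : G) * (g * w * g⁻¹) ∈ cj g T :=
        (mem_normalizer_iff''.mp F'.wT (t : G)).mp ht
      exact hcn _ (hT' h3))
    (fun u hu ⟨n, hn⟩ hut => by
      by_contra hu1
      have hu' : (u : G) ∈ centralizer ((cj g K : Subgroup G) : Set G) := by
        apply F'.f2 u (hCL hu) ⟨n, hpow hn⟩
        intro t ht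
        have htX : t ∈ X := hCX (hT' ht)
        exact congrArg Subtype.val (hut ⟨t, htX⟩ ht)
      have h3 : ∃ v ∈ zpowers (u : G), orderOf v = 2 := by
        apply exists_invol_of_two
        · exact isPGroup_zpowers_of_pow (hpow hn)
        · intro h
          rw [zpowers_eq_bot] at h
          exact hu1 (Subtype.ext h)
      obtain ⟨v, hv, hv2⟩ := h3
      have hvK : v ∈ centralizer (K : Set G) := (zpowers_le.mpr (memC.mp hu)) hv
      have hvL : v ∈ centralizer ((cj g K : Subgroup G) : Set G) := (zpowers_le.mpr hu') hv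
      exact hg (hK.eq hvK hv2 hvL))
  -- `L` commutes with `O(X)`
  have hLO : cj g K ≤ centralizer (((oddCore ↥X).map X.subtype : Subgroup G) : Set G) := by
    apply F'.simp
    · intro k hk x hx
      rw [mem_centralizer_iff] at hx ⊢
      rintro _ ⟨o, ho, rfl⟩
      have h3 : ((⟨k, hLX hk⟩ : ↥X)⁻¹ * o * ⟨k, hLX hk⟩) ∈ oddCore ↥X := by
        have := (inferInstance : (oddCore ↥X).Normal).conj_mem o ho (⟨k, hLX hk⟩ : ↥X)⁻¹
        rwa [inv_inv] at this
      have h4 := hx _ ⟨_, h3, rfl⟩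
      have h5 : k⁻¹ * (o : G) * k * x = x * (k⁻¹ * (o : G) * k) := h4
      show (o : G) * (k * x * k⁻¹) = k * x * k⁻¹ * (o : G)
      calc (o : G) * (k * x * k⁻¹) = k * (k⁻¹ * o * k * x) * k⁻¹ := by group
        _ = k * (x * (k⁻¹ * o * k)) * k⁻¹ := by rw [h5]
        _ = k * x * k⁻¹ * o := by group
    · refine ⟨a, ?_, F'.S_le ha, ha1⟩
      rw [mem_centralizer_iff]
      rintro _ ⟨o, ho, rfl⟩
      have haX : a ∈ X := hCX (h2 ha)
      have h3 : (⟨a, haX⟩ : ↥X) * o * ⟨a, haX⟩⁻¹ * o⁻¹ = 1 := by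
        apply hC0
        · have e : (⟨a, haX⟩ : ↥X) * o * ⟨a, haX⟩⁻¹ * o⁻¹ = ⟨a, haX⟩ * (o * ⟨a, haX⟩⁻¹ * o⁻¹) := by group
          rw [e]
          refine mul_mem (show (⟨a, haX⟩ : ↥X) ∈ C from h2 ha) ?_
          exact hnc K o (memH.mp (hO ho)) _ (inv_mem (h2 ha))
        · have := (inferInstance : (oddCore ↥X).Normal).conj_mem o ho ⟨a, haX⟩
          exact mul_mem this (inv_mem ho)
      have h4 : (⟨a, haX⟩ : ↥X) * o = o * ⟨a, haX⟩ := by
        have := congrArg (fun y => y * o * ⟨a, haX⟩) h3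
        simpa [mul_assoc] using this
      exact (congrArg Subtype.val h4).symm
  -- `w` centralizes `L`
  have h5 : cj g K ≤ centralizer ({w} : Set G) := by
    apply F'.le_of_two
    rintro l hl ⟨n, hn⟩
    have h6 := key ⟨l, hLX hl⟩
    set o : ↥X := (⟨l, hLX hl⟩ : ↥X)⁻¹ * f ⟨l, hLX hl⟩ with ho
    have ho' : (o : G) = l⁻¹ * (w * l * w⁻¹) := rfl
    have h7 : l * (o : G) = o * l := (mem_centralizer_iff.mp (hLO hl) o ⟨o, h6, rfl⟩).symm
    have h8 : (o : G) ^ 2 ^ n = 1 := by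
      have h9 : Commute l⁻¹ (w * l * w⁻¹) := by
        show l⁻¹ * (w * l * w⁻¹) = w * l * w⁻¹ * l⁻¹
        have : l * (l⁻¹ * (w * l * w⁻¹)) = l⁻¹ * (w * l * w⁻¹) * l := by rw [← ho']; exact h7
        calc l⁻¹ * (w * l * w⁻¹) = l⁻¹ * (w * l * w⁻¹) * l * l⁻¹ := by group
          _ = l * (l⁻¹ * (w * l * w⁻¹)) * l⁻¹ := by rw [this]
          _ = w * l * w⁻¹ * l⁻¹ := by group
      rw [ho', h9.mul_pow, conj_pow', inv_pow, hn]
      group
    have h9 : (o : G) = 1 := by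
      refine eq_one_of_odd (N := (oddCore ↥X).map X.subtype) ?_ ⟨o, h6, rfl⟩ h8
      rw [Nat.card_congr ((oddCore ↥X).equivMapOfInjective X.subtype X.subtype_injective).symm.toEquiv]
      exact odd_oddCore ↥X
    rw [mem_centralizer_singleton_iff]
    rw [ho'] at h9
    calc l * w = l * (l⁻¹ * (w * l * w⁻¹)) * w := by rw [h9, mul_one]
      _ = w * l := by group
  apply hw
  apply hcn
  rw [mem_centralizer_iff]
  intro x hx
  exact mem_centralizer_singleton_iff.mp (h5 hx)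

end Main

end Cfsg.Agent.OddHalf.D4.Digon
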