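import Cfsg.Agent.OddHalf.D4.MaxClassFix
import Cfsg.Agent.OddHalf.D4.Basic
import Cfsg.Agent.OddHalf.D4.CommConj
import Cfsg.Agent.OddHalf.D4.FullPair
import Cfsg.Agent.GH.TOne.CfgTools
import Cfsg.Agent.OddHalf.TFormula

/-!
# D4, even centre, case (II): `C(K)` has an involution `c ≠ z` and no `c` commutes with another conjugate of `z`

`z` the involution of `Z(K)`, `M = C(z) = N(K)`, `Q = C(K)`.  See `Cfsg.Agent.OddHalf.D4.EvenCen.false_of_hyp`.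
-/

set_option autoImplicit false

namespace Cfsg.Agent.OddHalf.D4.EvenCen

open Subgroup Basic
open Cfsg.Agent.OddHalf.D4.CommConj (Tight cj mem_cj mem_cj_mul exists_norm_elt exists_pow_involution)

variable {G : Type*} [Group G]

/-- Two commuting conjugates. -/
structure Two (Q₁ M₁ Q₂ M₂ : Subgroup G) (z a : G) : Prop where
  t1 : Tight Q₁ M₁
  t2 : Tight Q₂ M₂
  c1 : ∀ m ∈ M₁, m * z = z * m
  c2 : ∀ m ∈ M₂, m * a = a * m
  hz : z ∈ Q₁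
  ha : a ∈ Q₂
  z2 : orderOf z = 2
  a2 : orderOf a = 2
  za : z * a = a * z
  disj : ∀ x ∈ Q₁, x ∈ Q₂ → orderOf x ≠ 2
  uz : ∀ c ∈ Q₁, orderOf c = 2 → c * a = a * c → c = z
  ua : ∀ c ∈ Q₂, orderOf c = 2 → c * z = z * c → c = a
  bz : ∃ c ∈ Q₁, orderOf c = 2 ∧ c ≠ z
  ba : ∃ c ∈ Q₂, orderOf c = 2 ∧ c ≠ a

theorem Two.symm {Q₁ M₁ Q₂ M₂ : Subgroup G} {z a : G} (h : Two Q₁ M₁ Q₂ M₂ z a) : Two Q₂ M₂ Q₁ M₁ a z :=
  ⟨h.t2, h.t1, h.c2, h.c1, h.ha, h.hz, h.a2, h.z2, h.za.symm, fun x hx hx' => h.disj x hx' hx, h.ua, h.uz,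
    h.ba, h.bz⟩

theorem sq_of_two {x : G} (h : orderOf x = 2) : x * x = 1 := by
  rw [← pow_two, ← h, pow_orderOf_eq_one]

theorem ne_of_two {x : G} (h : orderOf x = 2) : x ≠ 1 := by
  rintro rfl
  rw [orderOf_one] at h
  exact absurd h (by norm_num)

theorem two_of {x : G} (h : x * x = 1) (h1 : x ≠ 1) : orderOf x = 2 :=
  orderOf_eq_prime (by rw [pow_two, h]) h1

/-- elements commuting with an involution of the tight subgroup -/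
theorem _root_.Cfsg.Agent.OddHalf.D4.CommConj.Tight.mem_of_commute {Q M : Subgroup G} (h : Tight Q M) {x u : G}
    (hu : u ∈ Q) (hu2 : orderOf u = 2) (hx : x * u = u * x) : x ∈ M := by
  apply h.tight x u hu hu2
  have : x * u * x⁻¹ = u := by rw [hx]; group
  rw [this]; exact hu

section pair

variable [Finite G] {Q₁ M₁ Q₂ M₂ P S : Subgroup G} {z a : G}

/-- a 2-element commuting with `z`, `a` etc. lies in the Sylow group; `z, a ∈ P` -/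
theorem central_mem {M P : Subgroup G} (hP : IsSyl P M) {z : G} (hz : z ∈ M) (hz2 : orderOf z = 2)
    (hc : ∀ m ∈ M, m * z = z * m) : z ∈ P := by
  have hp : IsPGroup 2 ↥(zpowers z) := by
    rw [IsPGroup.iff_card]; exact ⟨1, by rw [Nat.card_zpowers, hz2]; norm_num⟩
  obtain ⟨m, hm, hmz⟩ := hP.conj_into hp (by rw [zpowers_le]; exact hz)
  have h1 := hmz z (mem_zpowers z)
  rw [hc m hm] at h1
  simpa using h1

theorem Two.aM (h : Two Q₁ M₁ Q₂ M₂ z a) : a ∈ M₁ := h.t1.mem_of_commute h.hz h.z2 h.za.symm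

theorem Two.zM (h : Two Q₁ M₁ Q₂ M₂ z a) : z ∈ M₂ := h.t2.mem_of_commute h.ha h.a2 h.za

theorem Two.zP (h : Two Q₁ M₁ Q₂ M₂ z a) (hP : IsSyl P (M₁ ⊓ M₂)) : z ∈ P :=
  central_mem hP ⟨h.t1.le h.hz, h.zM⟩ h.z2 fun m hm => h.c1 m hm.1

theorem Two.aP (h : Two Q₁ M₁ Q₂ M₂ z a) (hP : IsSyl P (M₁ ⊓ M₂)) : a ∈ P :=
  central_mem hP ⟨h.aM, h.t2.le h.ha⟩ h.a2 fun m hm => h.c2 m hm.2

omit [Finite G] in
theorem Two.symmP (hP : IsSyl P (M₁ ⊓ M₂)) : IsSyl P (M₂ ⊓ M₁) := by rw [inf_comm]; exact hP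

/-- a 2-element of `Q₁ ∩ Q₂` is trivial -/
theorem Two.eq_one (h : Two Q₁ M₁ Q₂ M₂ z a) (hP : IsPGroup 2 ↥P) {x : G} (hx : x ∈ P) (h1 : x ∈ Q₁)
    (h2 : x ∈ Q₂) : x = 1 := by
  by_contra hne
  obtain ⟨n, hn⟩ := exists_pow_involution hP hx hne
  exact h.disj _ (pow_mem h1 n) (pow_mem h2 n) hn

/-- `P ∩ Q₁` and `P ∩ Q₂` commute -/
theorem Two.comm (h : Two Q₁ M₁ Q₂ M₂ z a) (hP : IsSyl P (M₁ ⊓ M₂)) {x u : G} (hx : x ∈ P) (hx1 : x ∈ Q₁)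
    (hu : u ∈ P) (hu2 : u ∈ Q₂) : x * u = u * x := by
  have h1 : x * u * x⁻¹ * u⁻¹ = 1 := by
    apply h.eq_one hP.two (P.mul_mem (P.mul_mem (P.mul_mem hx hu) (P.inv_mem hx)) (P.inv_mem hu))
    · have h2 := h.t1.norm u (hP.le hu).1 x⁻¹ (inv_mem hx1)
      have e : x * u * x⁻¹ * u⁻¹ = x * (u * x⁻¹ * u⁻¹) := by group
      rw [e]
      exact Q₁.mul_mem hx1 h2
    · exact Q₂.mul_mem (h.t2.norm x (hP.le hx).2 u hu2) (Q₂.inv_mem hu2)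
  calc x * u = (x * u * x⁻¹ * u⁻¹) * (u * x) := by group
    _ = u * x := by rw [h1, one_mul]

/-- an element of `Q₂ ∩ P`, `≠ 1`, commutes in `Q₁` only with elements of `M₂` -/
theorem Two.fix (h : Two Q₁ M₁ Q₂ M₂ z a) (hP : IsSyl P (M₁ ⊓ M₂)) {x u : G} (hu : u ∈ P) (hu2 : u ∈ Q₂)
    (hu1 : u ≠ 1) (hxu : x * u = u * x) : x ∈ M₂ := by
  obtain ⟨n, hn⟩ := exists_pow_involution hP.two hu hu1
  apply h.t2.mem_of_commute (pow_mem hu2 n) hn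
  exact ((show Commute x u from hxu).pow_right n).eq

/-- `S ∩ M₂ = P` for `P ≤ S ∈ Syl₂(M₁)` -/
theorem Two.inf_le (hP : IsSyl P (M₁ ⊓ M₂)) (hS : IsSyl S M₁) (hPS : P ≤ S) : S ⊓ M₂ ≤ P := by
  apply hP.max _ (hS.two.to_le inf_le_left) (le_inf hPS (hP.le.trans inf_le_right))
  exact inf_le_inf_right _ hS.le

/-- involutions of `P ∩ Q₁` -/
theorem Two.uniq (h : Two Q₁ M₁ Q₂ M₂ z a) (hP : IsSyl P (M₁ ⊓ M₂)) {x : G} (hx : x ∈ P) (hx1 : x ∈ Q₁)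
    (hx2 : orderOf x = 2) : x = z :=
  h.uz x hx1 hx2 (h.c2 x (hP.le hx).2)

/-- the elements `w`: normalizing `Y = (P ∩ Q₁)(P ∩ Q₂)` -/
structure IsW (Q₁ Q₂ P S : Subgroup G) (w : G) : Prop where
  mem : w ∈ S
  memQ : w ∈ Q₁
  nmem : w ∉ P
  nor : ∀ x ∈ P, x ∈ Q₁ → w * x * w⁻¹ ∈ P
  com : ∀ u ∈ P, u ∈ Q₂ → u * w * u⁻¹ * w⁻¹ ∈ P ∧ u * w * u⁻¹ * w⁻¹ ∈ Q₁

/-- `Y = (P ∩ Q₁)(P ∩ Q₂)` -/
abbrev Yg (Q₁ Q₂ P : Subgroup G) : Subgroup G := (P ⊓ Q₁) ⊔ (P ⊓ Q₂)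

omit [Finite G] in
theorem Yg_le : Yg Q₁ Q₂ P ≤ P := sup_le inf_le_left inf_le_left

theorem Two.isW (h : Two Q₁ M₁ Q₂ M₂ z a) (hP : IsSyl P (M₁ ⊓ M₂)) {w : G} (hw : w ∈ S) (hwQ : w ∈ Q₁)
    (hwY : w ∉ Yg Q₁ Q₂ P) (hn : w ∈ normalizer (Yg Q₁ Q₂ P : Set G)) : IsW Q₁ Q₂ P S w := by
  have hn' : ∀ x ∈ Yg Q₁ Q₂ P, w * x * w⁻¹ ∈ Yg Q₁ Q₂ P := fun x hx => (mem_normalizer_iff.mp hn x).mp hx
  refine ⟨hw, hwQ, fun hwP => hwY (mem_sup_left ⟨hwP, hwQ⟩), fun x hx hx1 => ?_, fun u hu hu2 => ⟨?_, ?_⟩⟩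
  · exact Yg_le (hn' x (mem_sup_left ⟨hx, hx1⟩))
  · have h1 := Yg_le (hn' u⁻¹ (mem_sup_right ⟨P.inv_mem hu, Q₂.inv_mem hu2⟩))
    have e : u * w * u⁻¹ * w⁻¹ = u * (w * u⁻¹ * w⁻¹) := by group
    rw [e]
    exact P.mul_mem hu h1
  · exact Q₁.mul_mem (h.t1.norm u (hP.le hu).1 w hwQ) (Q₁.inv_mem hwQ)

theorem IsW.inj (h : Two Q₁ M₁ Q₂ M₂ z a) (hP : IsSyl P (M₁ ⊓ M₂)) (hS : IsSyl S M₁) (hPS : P ≤ S) {w u : G}
    (hw : IsW Q₁ Q₂ P S w) (hu : u ∈ P) (hu2 : u ∈ Q₂) (hwu : w * u = u * w) : u = 1 := by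
  by_contra hne
  exact hw.nmem (Two.inf_le hP hS hPS ⟨hw.mem, h.fix hP hu hu2 hne hwu⟩)

theorem IsW.inj' (h : Two Q₁ M₁ Q₂ M₂ z a) (hP : IsSyl P (M₁ ⊓ M₂)) (hS : IsSyl S M₁) (hPS : P ≤ S) {w u v : G}
    (hw : IsW Q₁ Q₂ P S w) (hu : u ∈ P) (hu2 : u ∈ Q₂) (hv : v ∈ P) (hv2 : v ∈ Q₂)
    (he : u * w * u⁻¹ * w⁻¹ = v * w * v⁻¹ * w⁻¹) : u = v := by
  have h1 : v⁻¹ * u = 1 := by
    apply hw.inj h hP hS hPS (P.mul_mem (P.inv_mem hv) hu) (Q₂.mul_mem (Q₂.inv_mem hv2) hu2)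
    have h2 : u * w * u⁻¹ = v * w * v⁻¹ := mul_right_cancel he
    calc w * (v⁻¹ * u) = v⁻¹ * (v * w * v⁻¹) * u := by group
      _ = v⁻¹ * (u * w * u⁻¹) * u := by rw [h2]
      _ = v⁻¹ * u * w := by group
  exact (inv_mul_eq_one.mp h1).symm

/-- `|P ∩ Q₂| ≤ |P ∩ Q₁|` -/
theorem IsW.card_le (h : Two Q₁ M₁ Q₂ M₂ z a) (hP : IsSyl P (M₁ ⊓ M₂)) (hS : IsSyl S M₁) (hPS : P ≤ S) {w : G}
    (hw : IsW Q₁ Q₂ P S w) : Nat.card ↥(P ⊓ Q₂) ≤ Nat.card ↥(P ⊓ Q₁) := by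
  apply Nat.card_le_card_of_injective
    (fun u : ↥(P ⊓ Q₂) => (⟨(u : G) * w * (u : G)⁻¹ * w⁻¹, hw.com u u.2.1 u.2.2⟩ : ↥(P ⊓ Q₁)))
  intro u v huv
  exact Subtype.ext (hw.inj' h hP hS hPS u.2.1 u.2.2 v.2.1 v.2.2 (congrArg Subtype.val huv))

/-- if `|P ∩ Q₁| = |P ∩ Q₂|` the map is onto -/
theorem IsW.surj (h : Two Q₁ M₁ Q₂ M₂ z a) (hP : IsSyl P (M₁ ⊓ M₂)) (hS : IsSyl S M₁) (hPS : P ≤ S) {w : G}
    (hw : IsW Q₁ Q₂ P S w) (hle : Nat.card ↥(P ⊓ Q₁) ≤ Nat.card ↥(P ⊓ Q₂)) {x : G} (hx : x ∈ P)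
    (hx1 : x ∈ Q₁) : ∃ u ∈ P, u ∈ Q₂ ∧ u * w * u⁻¹ * w⁻¹ = x := by
  have hinj : Function.Injective
    (fun u : ↥(P ⊓ Q₂) => (⟨(u : G) * w * (u : G)⁻¹ * w⁻¹, hw.com u u.2.1 u.2.2⟩ : ↥(P ⊓ Q₁))) := by
    intro u v huv
    exact Subtype.ext (hw.inj' h hP hS hPS u.2.1 u.2.2 v.2.1 v.2.2 (congrArg Subtype.val huv))
  obtain ⟨u, hu⟩ := (hinj.bijective_of_nat_card_le hle).2 ⟨x, hx, hx1⟩
  exact ⟨u, u.2.1, u.2.2, congrArg Subtype.val hu⟩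

/-- `[a, w] = z` -/
theorem IsW.comm_a (h : Two Q₁ M₁ Q₂ M₂ z a) (hP : IsSyl P (M₁ ⊓ M₂)) (hS : IsSyl S M₁) (hPS : P ≤ S) {w : G}
    (hw : IsW Q₁ Q₂ P S w) : a * w * a⁻¹ * w⁻¹ = z := by
  have ha := h.aP hP
  obtain ⟨h1, h2⟩ := hw.com a ha h.ha
  have haa := sq_of_two h.a2
  apply h.uniq hP h1 h2
  apply two_of
  · have h3 := h.comm hP h1 h2 ha h.ha
    calc a * w * a⁻¹ * w⁻¹ * (a * w * a⁻¹ * w⁻¹) = (a * w * a⁻¹ * w⁻¹ * a) * w * a⁻¹ * w⁻¹ := by group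
      _ = (a * a) * w * (a * a)⁻¹ * w⁻¹ := by rw [h3]; group
      _ = 1 := by rw [haa]; group
  · intro h3
    have h4 := hw.inj' h hP hS hPS ha h.ha (one_mem P) (one_mem Q₂) (by rw [h3]; group)
    exact ne_of_two h.a2 h4

theorem IsW.mul_mem (h : Two Q₁ M₁ Q₂ M₂ z a) (hP : IsSyl P (M₁ ⊓ M₂)) (hS : IsSyl S M₁) (hPS : P ≤ S) {w v : G}
    (hw : IsW Q₁ Q₂ P S w) (hv : IsW Q₁ Q₂ P S v) : w * v ∈ P := by
  apply Two.inf_le hP hS hPS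
  refine ⟨S.mul_mem hw.mem hv.mem, h.t2.mem_of_commute h.ha h.a2 ?_⟩
  have h1 : a * w = z * w * a := by
    calc a * w = (a * w * a⁻¹ * w⁻¹) * w * a := by group
      _ = z * w * a := by rw [hw.comm_a h hP hS hPS]
  have h2 : a * v = z * v * a := by
    calc a * v = (a * v * a⁻¹ * v⁻¹) * v * a := by group
      _ = z * v * a := by rw [hv.comm_a h hP hS hPS]
  have hwz := h.c1 w (h.t1.le hw.memQ)
  have hzz := sq_of_two h.z2
  symm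
  calc a * (w * v) = z * w * (a * v) := by rw [← mul_assoc, h1]; group
    _ = z * (w * z) * v * a := by rw [h2]; group
    _ = (z * z) * w * v * a := by rw [hwz]; group
    _ = w * v * a := by rw [hzz, one_mul]

/-- `w` inverts `P ∩ Q₁` -/
theorem IsW.inverts (h : Two Q₁ M₁ Q₂ M₂ z a) (hP : IsSyl P (M₁ ⊓ M₂)) (hS : IsSyl S M₁) (hPS : P ≤ S) {w : G}
    (hw : IsW Q₁ Q₂ P S w) (hle : Nat.card ↥(P ⊓ Q₁) ≤ Nat.card ↥(P ⊓ Q₂)) {x : G} (hx : x ∈ P)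
    (hx1 : x ∈ Q₁) : w * x * w⁻¹ = x⁻¹ := by
  obtain ⟨u, hu, hu2, rfl⟩ := hw.surj h hP hS hPS hle hx hx1
  have h1 := h.comm hP (hw.mul_mem h hP hS hPS hw) (Q₁.mul_mem hw.memQ hw.memQ) hu hu2
  calc w * (u * w * u⁻¹ * w⁻¹) * w⁻¹ = w * u * w * (w * w * u)⁻¹ := by group
    _ = w * u * w * (u * (w * w))⁻¹ := by rw [h1]
    _ = (u * w * u⁻¹ * w⁻¹)⁻¹ := by group

theorem IsW.abel (h : Two Q₁ M₁ Q₂ M₂ z a) (hP : IsSyl P (M₁ ⊓ M₂)) (hS : IsSyl S M₁) (hPS : P ≤ S) {w : G}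
    (hw : IsW Q₁ Q₂ P S w) (hle : Nat.card ↥(P ⊓ Q₁) ≤ Nat.card ↥(P ⊓ Q₂)) {x y : G} (hx : x ∈ P)
    (hx1 : x ∈ Q₁) (hy : y ∈ P) (hy1 : y ∈ Q₁) : x * y = y * x := by
  have h1 := hw.inverts h hP hS hPS hle (P.mul_mem hx hy) (Q₁.mul_mem hx1 hy1)
  have h2 := hw.inverts h hP hS hPS hle hx hx1
  have h3 := hw.inverts h hP hS hPS hle hy hy1
  have h4 : x⁻¹ * y⁻¹ = (x * y)⁻¹ := by
    rw [← h1, ← h2, ← h3]; group
  calc x * y = (x * y) * ((x⁻¹ * y⁻¹) * (y * x)) := by group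
    _ = y * x := by rw [h4]; group

/-- an involution of `S ∩ Q₁` other than `z` -/
theorem Two.exists_c (h : Two Q₁ M₁ Q₂ M₂ z a) (hS : IsSyl S M₁) :
    ∃ c ∈ S, c ∈ Q₁ ∧ orderOf c = 2 ∧ c ≠ z := by
  obtain ⟨c, hc, hc2, hcz⟩ := h.bz
  have hn : S ≤ normalizer (Q₁ : Set G) := by
    intro s hs
    apply mem_normalizer_fintype
    intro q hq
    exact h.t1.norm s (hS.le hs) q hq
  have hp : IsPGroup 2 ↥(zpowers c) := by
    rw [IsPGroup.iff_card]; exact ⟨1, by rw [Nat.card_zpowers, hc2]; norm_num⟩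
  obtain ⟨i, hi, hic⟩ := hS.conj_into_inf h.t1.le hn hp (by rw [zpowers_le]; exact hc)
  have h1 := hic c (mem_zpowers c)
  refine ⟨i * c * i⁻¹, h1.1, h1.2, by rw [Basic.orderOf_conj]; exact hc2, ?_⟩
  intro h2
  apply hcz
  have h3 := h.c1 i (h.t1.le hi)
  calc c = i⁻¹ * (i * c * i⁻¹) * i := by group
    _ = i⁻¹ * (i * z) := by rw [h2, mul_assoc, h3]
    _ = z := by group

theorem Two.nmem (h : Two Q₁ M₁ Q₂ M₂ z a) (hP : IsSyl P (M₁ ⊓ M₂)) {c : G} (hc : c ∈ Q₁) (hc2 : orderOf c = 2)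
    (hcz : c ≠ z) : c ∉ P := fun hcP => hcz (h.uniq hP hcP hc hc2)

theorem Two.normQ (h : Two Q₁ M₁ Q₂ M₂ z a) (hS : IsSyl S M₁) : ∀ s ∈ S, ∀ b ∈ S ⊓ Q₁, s * b * s⁻¹ ∈ S ⊓ Q₁ :=
  fun s hs b hb => ⟨S.mul_mem (S.mul_mem hs hb.1) (S.inv_mem hs), h.t1.norm s (hS.le hs) b hb.2⟩

/-- existence of `w` -/
theorem Two.exists_w (h : Two Q₁ M₁ Q₂ M₂ z a) (hP : IsSyl P (M₁ ⊓ M₂)) (hS : IsSyl S M₁) (hPS : P ≤ S) :
    ∃ w, IsW Q₁ Q₂ P S w ∧ w ∈ normalizer (Yg Q₁ Q₂ P : Set G) ∧ w * w ∈ Yg Q₁ Q₂ P := by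
  obtain ⟨c, hcS, hcQ, hc2, hcz⟩ := h.exists_c hS
  obtain ⟨b, hb, hbY, hbb, hbn⟩ := exists_norm_elt (S := S) (E := Yg Q₁ Q₂ P) (B := S ⊓ Q₁) hS.two
    (Yg_le.trans hPS) inf_le_left (h.normQ hS) (fun hle => h.nmem hP hcQ hc2 hcz (Yg_le (hle ⟨hcS, hcQ⟩)))
  exact ⟨b, h.isW hP hb.1 hb.2 hbY hbn, hbn, hbb⟩

/-- `|P ∩ Q₁| ≤ |P ∩ Q₂|` -/
theorem Two.card_le (h : Two Q₁ M₁ Q₂ M₂ z a) (hP : IsSyl P (M₁ ⊓ M₂)) :
    Nat.card ↥(P ⊓ Q₁) ≤ Nat.card ↥(P ⊓ Q₂) := by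
  obtain ⟨T, hT, hPT⟩ := exists_isSyl hP.two (hP.le.trans inf_le_right)
  obtain ⟨w, hw, -, -⟩ := h.symm.exists_w (Two.symmP hP) hT hPT
  exact hw.card_le h.symm (Two.symmP hP) hT hPT

/-- `P ∩ Q₁` is abelian -/
theorem Two.abel (h : Two Q₁ M₁ Q₂ M₂ z a) (hP : IsSyl P (M₁ ⊓ M₂)) {x y : G} (hx : x ∈ P)
    (hx1 : x ∈ Q₁) (hy : y ∈ P) (hy1 : y ∈ Q₁) : x * y = y * x := by
  obtain ⟨S, hS, hPS⟩ := exists_isSyl hP.two (hP.le.trans inf_le_left)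
  obtain ⟨w, hw, -, -⟩ := h.exists_w hP hS hPS
  exact hw.abel h hP hS hPS (h.card_le hP) hx hx1 hy hy1

omit [Finite G] in
theorem mem_Yg (hc : ∀ x ∈ P ⊓ Q₁, ∀ u ∈ P ⊓ Q₂, x * u = u * x) {y : G} (hy : y ∈ Yg Q₁ Q₂ P) :
    ∃ x ∈ P ⊓ Q₁, ∃ u ∈ P ⊓ Q₂, y = x * u :=
  (Cfsg.Agent.GH.TOne.mem_sup_comm hc).mp hy

/-- `Y` is abelian -/
theorem Two.abelY (h : Two Q₁ M₁ Q₂ M₂ z a) (hP : IsSyl P (M₁ ⊓ M₂)) {x y : G} (hx : x ∈ Yg Q₁ Q₂ P)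
    (hy : y ∈ Yg Q₁ Q₂ P) : x * y = y * x := by
  have hc : ∀ x ∈ P ⊓ Q₁, ∀ u ∈ P ⊓ Q₂, x * u = u * x := fun x hx u hu => h.comm hP hx.1 hx.2 hu.1 hu.2
  obtain ⟨x1, hx1, u1, hu1, rfl⟩ := mem_Yg hc hx
  obtain ⟨x2, hx2, u2, hu2, rfl⟩ := mem_Yg hc hy
  have e1 := h.abel hP hx1.1 hx1.2 hx2.1 hx2.2
  have e2 := h.symm.abel (Two.symmP hP) hu1.1 hu1.2 hu2.1 hu2.2
  have e3 := hc x2 hx2 u1 hu1
  have e4 := hc x1 hx1 u2 hu2
  calc x1 * u1 * (x2 * u2) = x1 * (u1 * x2) * u2 := by group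
    _ = (x1 * x2) * (u1 * u2) := by rw [← e3]; group
    _ = (x2 * x1) * (u2 * u1) := by rw [e1, e2]
    _ = x2 * (x1 * u2) * u1 := by group
    _ = x2 * u2 * (x1 * u1) := by rw [e4]; group

/-- `Y ∪ Yw⁻¹` -/
def adj (Y : Subgroup G) (w : G) (hn : w ∈ normalizer (Y : Set G)) (h2 : w * w ∈ Y) : Subgroup G where
  carrier := {x | x ∈ Y ∨ x * w ∈ Y}
  one_mem' := Or.inl (one_mem Y)
  mul_mem' := by
    have hn' : ∀ y ∈ Y, w⁻¹ * y * w ∈ Y := fun y hy => (mem_normalizer_iff''.mp hn y).mp hy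
    rintro x y (hx | hx) (hy | hy)
    · exact Or.inl (Y.mul_mem hx hy)
    · right
      have : x * y * w = x * (y * w) := by group
      rw [this]; exact Y.mul_mem hx hy
    · right
      have : x * y * w = (x * w) * (w⁻¹ * y * w) := by group
      rw [this]; exact Y.mul_mem hx (hn' y hy)
    · left
      have : x * y = (x * w) * (w⁻¹ * (y * w) * w) * (w * w)⁻¹ := by group
      rw [this]; exact Y.mul_mem (Y.mul_mem hx (hn' _ hy)) (Y.inv_mem h2)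
  inv_mem' := by
    have hn' : ∀ y ∈ Y, w⁻¹ * y * w ∈ Y := fun y hy => (mem_normalizer_iff''.mp hn y).mp hy
    rintro x (hx | hx)
    · exact Or.inl (Y.inv_mem hx)
    · right
      have h3 : w * (x * w)⁻¹ * w⁻¹ ∈ Y := (mem_normalizer_iff.mp hn _).mp (Y.inv_mem hx)
      have : x⁻¹ * w = (w * (x * w)⁻¹ * w⁻¹) * (w * w) := by group
      rw [this]; exact Y.mul_mem h3 h2

omit [Finite G] in
theorem mem_adj {Y : Subgroup G} {w : G} {hn : w ∈ normalizer (Y : Set G)} {h2 : w * w ∈ Y} {x : G} :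
    x ∈ adj Y w hn h2 ↔ x ∈ Y ∨ x * w ∈ Y := Iff.rfl

omit [Finite G] in
theorem adj_sq {Y : Subgroup G} {w : G} {hn : w ∈ normalizer (Y : Set G)} {h2 : w * w ∈ Y} {x : G}
    (hx : x ∈ adj Y w hn h2) : x * x ∈ Y := by
  rcases hx with hx | hx
  · exact Y.mul_mem hx hx
  · have h3 : w⁻¹ * (x * w) * w ∈ Y := (mem_normalizer_iff''.mp hn _).mp hx
    have : x * x = (x * w) * (w⁻¹ * (x * w) * w) * (w * w)⁻¹ := by group
    rw [this]
    exact Y.mul_mem (Y.mul_mem hx h3) (Y.inv_mem h2)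

/-- **the dichotomy** -/
theorem Two.dich (h : Two Q₁ M₁ Q₂ M₂ z a) (hP : IsSyl P (M₁ ⊓ M₂)) (hS : IsSyl S M₁) (hPS : P ≤ S) :
    (∀ x ∈ S, x ∈ Q₁ → x ∉ P → IsW Q₁ Q₂ P S x) ∨ ∀ u ∈ P, u ∈ Q₂ → u = 1 ∨ u = a := by
  by_cases hA : ∀ x ∈ S, x ∈ Q₁ → x ∉ P → IsW Q₁ Q₂ P S x
  · exact Or.inl hA
  right
  push Not at hA
  obtain ⟨x, hxS, hxQ, hxP, hxW⟩ := hA
  obtain ⟨w, hw, hwn, hww⟩ := h.exists_w hP hS hPS
  have hwY : w ∉ Yg Q₁ Q₂ P := fun h' => hw.nmem (Yg_le h')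
  have hYn : ∀ y ∈ Yg Q₁ Q₂ P, y ∈ normalizer (Yg Q₁ Q₂ P : Set G) := fun y hy => le_normalizer hy
  have hNS : adj (Yg Q₁ Q₂ P) w hwn hww ≤ S := by
    rintro y (hy | hy)
    · exact hPS (Yg_le hy)
    · have : y = y * w * w⁻¹ := by group
      rw [this]
      exact S.mul_mem (hPS (Yg_le hy)) (S.inv_mem hw.mem)
  have hne : ¬ (S ⊓ Q₁ ≤ adj (Yg Q₁ Q₂ P) w hwn hww) := by
    intro hle
    apply hxW
    rcases hle ⟨hxS, hxQ⟩ with h1 | h1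
    · exact absurd (Yg_le h1) hxP
    · apply h.isW hP hxS hxQ (fun h' => hxP (Yg_le h'))
      have : x = x * w * w⁻¹ := by group
      rw [this]
      exact mul_mem (hYn _ h1) (inv_mem hwn)
  obtain ⟨b, hb, hbN, -, hbn⟩ := exists_norm_elt (S := S) (E := adj (Yg Q₁ Q₂ P) w hwn hww) (B := S ⊓ Q₁)
    hS.two hNS inf_le_left (h.normQ hS) hne
  have hbY : ¬ (∀ y ∈ Yg Q₁ Q₂ P, b * y * b⁻¹ ∈ Yg Q₁ Q₂ P) := by
    intro hall
    apply hbN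
    have hbW := h.isW hP hb.1 hb.2 (fun h' => hbN (Or.inl h')) (mem_normalizer_fintype hall)
    right
    exact mem_sup_left ⟨hbW.mul_mem h hP hS hPS hw, Q₁.mul_mem hb.2 hw.memQ⟩
  push Not at hbY
  obtain ⟨y, hy, hyb⟩ := hbY
  have hybN : b * y * b⁻¹ ∈ adj (Yg Q₁ Q₂ P) w hwn hww := (mem_normalizer_iff.mp hbn _).mp (Or.inl hy)
  have hybw : b * y * b⁻¹ * w ∈ Yg Q₁ Q₂ P := by
    rcases hybN with h1 | h1
    · exact absurd h1 hyb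
    · exact h1
  intro u hu hu2
  have huN : b⁻¹ * u * b ∈ adj (Yg Q₁ Q₂ P) w hwn hww :=
    (mem_normalizer_iff''.mp hbn _).mp (Or.inl (mem_sup_right ⟨hu, hu2⟩))
  have h1 := adj_sq huN
  have h2 : u * u = 1 := by
    apply hw.inj h hP hS hPS (P.mul_mem hu hu) (Q₂.mul_mem hu2 hu2)
    have e1 := h.abelY hP h1 hy
    have e2 : u * u * (b * y * b⁻¹) = b * y * b⁻¹ * (u * u) := by
      calc u * u * (b * y * b⁻¹) = b * (b⁻¹ * u * b * (b⁻¹ * u * b) * y) * b⁻¹ := by group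
        _ = b * (y * (b⁻¹ * u * b * (b⁻¹ * u * b))) * b⁻¹ := by rw [e1]
        _ = b * y * b⁻¹ * (u * u) := by group
    have e3 := h.abelY hP (mem_sup_right (S := P ⊓ Q₁) (T := P ⊓ Q₂) (⟨P.mul_mem hu hu, Q₂.mul_mem hu2 hu2⟩ : u * u ∈ P ⊓ Q₂)) hybw
    have e4 : w = (b * y * b⁻¹)⁻¹ * (b * y * b⁻¹ * w) := by group
    calc w * (u * u) = (b * y * b⁻¹)⁻¹ * ((b * y * b⁻¹ * w) * (u * u)) := by group
      _ = (b * y * b⁻¹)⁻¹ * (u * u) * (b * y * b⁻¹ * w) := by rw [← e3]; group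
      _ = (b * y * b⁻¹)⁻¹ * (u * u * (b * y * b⁻¹)) * w := by group
      _ = u * u * w := by rw [e2]; group
  by_cases hu1 : u = 1
  · exact Or.inl hu1
  · right
    exact h.symm.uniq (Two.symmP hP) hu hu2 (two_of h2 hu1)

/-- **structure of `S ∩ Q₁`**: the elements which are not involutions `≠ z` form a subgroup of index two. -/
theorem Two.struct (h : Two Q₁ M₁ Q₂ M₂ z a) (hP : IsSyl P (M₁ ⊓ M₂)) (hS : IsSyl S M₁) (hPS : P ≤ S) :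
    ∃ C : Subgroup G, (∀ x ∈ S ⊓ Q₁, ∀ y ∈ S ⊓ Q₁, x ∉ C → y ∉ C → x * y ∈ C) ∧
      ∀ x ∈ S ⊓ Q₁, (x ∉ C ↔ orderOf x = 2 ∧ x ≠ z) := by
  obtain ⟨c, hcS, hcQ, hc2, hcz⟩ := h.exists_c hS
  have hcP := h.nmem hP hcQ hc2 hcz
  rcases h.dich hP hS hPS with hA | hB
  · refine ⟨P ⊓ Q₁, ?_, ?_⟩
    · intro x hx y hy hxC hyC
      have h1 := hA x hx.1 hx.2 fun h' => hxC ⟨h', hx.2⟩
      have h2 := hA y hy.1 hy.2 fun h' => hyC ⟨h', hy.2⟩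
      exact ⟨h1.mul_mem h hP hS hPS h2, Q₁.mul_mem hx.2 hy.2⟩
    · intro x hx
      constructor
      · intro hxC
        have hxP : x ∉ P := fun h' => hxC ⟨h', hx.2⟩
        have h1 := hA x hx.1 hx.2 hxP
        have h2 := hA c hcS hcQ hcP
        have hcc := sq_of_two hc2
        have hci : c⁻¹ = c := inv_eq_of_mul_eq_one_left hcc
        have h3 := h2.inverts h hP hS hPS (h.card_le hP) (h1.mul_mem h hP hS hPS h2) (Q₁.mul_mem hx.2 hcQ)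
        have hxx : x * x = 1 := by
          calc x * x = (x * c) * (c * (x * c) * c⁻¹) := by
                have : (x * c) * (c * (x * c) * c⁻¹) = x * (c * c) * x := by group
                rw [this, hcc, mul_one]
            _ = 1 := by rw [h3, mul_inv_cancel]
        refine ⟨two_of hxx ?_, ?_⟩
        · rintro rfl
          exact hxP (one_mem P)
        · rintro rfl
          exact hxP (h.zP hP)
      · rintro ⟨h1, h2⟩ hxC
        exact h2 (h.uniq hP hxC.1 hxC.2 h1)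
  · -- `P ∩ Q₁ = {1, z}`
    obtain ⟨w, hw, -, -⟩ := h.exists_w hP hS hPS
    have hfix : ∀ x ∈ S ⊓ Q₁, x * a = a * x → x = 1 ∨ x = z := by
      intro x hx hxa
      have hxP : x ∈ P := Two.inf_le hP hS hPS ⟨hx.1, h.t2.mem_of_commute h.ha h.a2 hxa⟩
      obtain ⟨u, hu, hu2, rfl⟩ := hw.surj h hP hS hPS (h.card_le hP) hxP hx.2
      rcases hB u hu hu2 with rfl | rfl
      · left; group
      · right; exact hw.comm_a h hP hS hPS
    have haS : a ∈ S := hPS (h.aP hP)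
    have hRn : ∀ s ∈ S, s ∈ normalizer ((S ⊓ Q₁ : Subgroup G) : Set G) := fun s hs =>
      mem_normalizer_fintype (h.normQ hS s hs)
    have haa := sq_of_two h.a2
    set X : Subgroup G := adj (S ⊓ Q₁) a (hRn a haS) (by rw [haa]; exact one_mem _) with hX
    have hXS : X ≤ S := by
      rintro x (hx | hx)
      · exact hx.1
      · have : x = x * a * a⁻¹ := by group
        rw [this]
        exact S.mul_mem hx.1 (S.inv_mem haS)
    have hRX : S ⊓ Q₁ ≤ X := fun x hx => Or.inl hx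
    have haX : a ∈ X := Or.inr (by rw [haa]; exact one_mem _)
    have haR : a ∉ S ⊓ Q₁ := fun h' => h.disj a h'.2 h.ha h.a2
    have hzS : z ∈ S := hPS (h.zP hP)
    have hzR : z ∈ S ⊓ Q₁ := ⟨hzS, h.hz⟩
    have hcR : c ∈ S ⊓ Q₁ := ⟨hcS, hcQ⟩
    obtain ⟨C, hC1, hC2⟩ := MaxClassFix.main (X := ↥X) (hS.two.to_le hXS) ((S ⊓ Q₁).subgroupOf X)
      (a := ⟨a, haX⟩) (z := ⟨z, hRX hzR⟩) (c := ⟨c, hRX hcR⟩)
      (Subtype.ext haa) (fun h' => haR (mem_subgroupOf.mp h'))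
      (fun x hx => by
        rw [mem_subgroupOf] at hx ⊢
        rcases x.2 with h1 | h1
        · exact absurd h1 hx
        · exact h1)
      (mem_subgroupOf.mpr hzR) (Subtype.ext (sq_of_two h.z2))
      (fun h' => ne_of_two h.z2 (congrArg Subtype.val h'))
      (fun x => Subtype.ext (h.c1 x (hS.le (hXS x.2))))
      (fun x hx hxa => by
        rw [mem_subgroupOf] at hx
        rcases hfix x hx (congrArg Subtype.val hxa) with h1 | h1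
        · exact Or.inl (Subtype.ext h1)
        · exact Or.inr (Subtype.ext h1))
      (mem_subgroupOf.mpr hcR) (Subtype.ext (sq_of_two hc2)) (fun h' => ne_of_two hc2 (congrArg Subtype.val h'))
      (fun h' => hcz (congrArg Subtype.val h'))
    have hmem : ∀ x (hx : x ∈ X), x ∈ C.map X.subtype ↔ (⟨x, hx⟩ : ↥X) ∈ C := by
      intro x hx
      constructor
      · rintro ⟨y, hy, rfl⟩
        exact hy
      · intro h'
        exact ⟨⟨x, hx⟩, h', rfl⟩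
    refine ⟨C.map X.subtype, ?_, ?_⟩
    · intro x hx y hy hxC hyC
      rw [hmem x (hRX hx)] at hxC
      rw [hmem y (hRX hy)] at hyC
      rw [hmem (x * y) (hRX (mul_mem hx hy))]
      exact hC1 _ _ hxC hyC
    · intro x hx
      rw [hmem x (hRX hx), hC2 ⟨x, hRX hx⟩ (mem_subgroupOf.mpr hx)]
      constructor
      · rintro ⟨h1, h2, h3⟩
        exact ⟨two_of (congrArg Subtype.val h1) (fun h' => h2 (Subtype.ext h')), fun h' => h3 (Subtype.ext h')⟩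
      · rintro ⟨h1, h2⟩
        exact ⟨Subtype.ext (sq_of_two h1), fun h' => ne_of_two h1 (congrArg Subtype.val h'),
          fun h' => h2 (congrArg Subtype.val h')⟩

end pair

/-! ### the transfer -/

/-- transfer to a Sylow 2-subgroup lying in a subgroup of odd index -/
theorem transfer_kill [Finite G] (hG : commutator G = ⊤) {S : Subgroup G} (hodd : Odd S.index) {c : G}
    (hc : c * c = 1) (hcS : c ∈ S) {A : Type*} [CommGroup A] (φ : ↥S →* A)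
    (hφ : ∀ g, ∀ hg : g⁻¹ * c * g ∈ S, φ ⟨g⁻¹ * c * g, hg⟩ = φ ⟨c, hcS⟩) : φ ⟨c, hcS⟩ = 1 := by
  classical
  have := Fintype.ofFinite (G ⧸ S)
  obtain ⟨f, hf, hprod⟩ := Cfsg.Agent.StdL3.OneParity.transfer_eq_prod_fixed S φ c hc
  have hci : c⁻¹ = c := inv_eq_of_mul_eq_one_left hc
  have hfix : ∀ q ∈ Finset.univ.filter (fun q : G ⧸ S => c • q = q), f q = φ ⟨c, hcS⟩ := by
    intro q hq
    rw [Finset.mem_filter] at hq
    obtain ⟨g, rfl⟩ := QuotientGroup.mk_surjective q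
    have h1 := hq.2
    rw [MulAction.Quotient.smul_mk, smul_eq_mul, QuotientGroup.eq] at h1
    have e : (c * g)⁻¹ * g = g⁻¹ * c * g := by rw [mul_inv_rev, hci]
    rw [e] at h1
    rw [hf _ g rfl h1, hφ g h1]
  have hcard : Odd (Finset.univ.filter (fun q : G ⧸ S => c • q = q)).card := by
    have hp : IsPGroup 2 ↥(zpowers c) := Cfsg.Agent.GH.TOne.isPGroup_zpowers_of_sq hc
    have : Fact (Nat.Prime 2) := ⟨Nat.prime_two⟩
    have h1 := hp.card_modEq_card_fixedPoints (G ⧸ S)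
    have h2 : Nat.card (MulAction.fixedPoints ↥(zpowers c) (G ⧸ S)) =
        (Finset.univ.filter (fun q : G ⧸ S => c • q = q)).card := by
      rw [← Nat.subtype_card (p := fun q => c • q = q) _ (by intro q; simp)]
      apply Nat.card_congr
      refine Equiv.subtypeEquivRight ?_
      intro q
      rw [MulAction.mem_fixedPoints]
      constructor
      · intro h
        exact h ⟨c, mem_zpowers c⟩
      · intro h x
        obtain ⟨n, hn⟩ := mem_zpowers_iff.mp x.2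
        have : c ∈ MulAction.stabilizer G q := h
        have h3 := zpow_mem this n
        rw [hn] at h3
        exact h3
    rw [h2] at h1
    have h3 : Nat.card (G ⧸ S) = S.index := rfl
    rw [h3] at h1
    rw [Nat.odd_iff] at hodd ⊢
    rw [← hodd]
    exact h1.symm
  have h4 := Cfsg.Agent.OddHalf.TFormula.hom_eq_one hG (MonoidHom.transfer φ) c
  rw [hprod, Finset.prod_congr rfl hfix, Finset.prod_const] at h4
  obtain ⟨k, hk⟩ := hcard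
  have h5 : φ ⟨c, hcS⟩ * φ ⟨c, hcS⟩ = 1 := by
    rw [← map_mul]
    have : (⟨c, hcS⟩ : ↥S) * ⟨c, hcS⟩ = 1 := Subtype.ext hc
    rw [this, map_one]
  rw [hk, pow_succ, pow_mul, pow_two, h5, one_pow, one_mul] at h4
  exact h4

/-- The hypotheses of THEOREM II. `M = C(z)`, `Q = C(K)`, `z` the involution of `Z(K)`. -/
structure Hyp (Q M K : Subgroup G) (z : G) : Prop where
  tight : Tight Q M
  cM : ∀ m ∈ M, m * z = z * m
  hz : z ∈ Q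
  z2 : orderOf z = 2
  KM : K ≤ M
  norm : ∀ m ∈ M, ∀ k ∈ K, m * k * m⁻¹ ∈ K
  inter : ∀ x ∈ K, x ∈ Q → orderOf x = 2 → x = z
  bz : ∃ c ∈ Q, orderOf c = 2 ∧ c ≠ z
  two : ∀ c ∈ Q, orderOf c = 2 → c ≠ z → ∀ g : G, c * (g * z * g⁻¹) = g * z * g⁻¹ * c → g * z * g⁻¹ = z

theorem mem_of_conj_eq {Q M K : Subgroup G} {z : G} (h : Hyp Q M K z) {g : G} (hg : g * z * g⁻¹ = z) : g ∈ M := by
  apply h.tight.mem_of_commute h.hz h.z2
  calc g * z = g * z * g⁻¹ * g := by group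
    _ = z * g := by rw [hg]

theorem two_of_hyp {Q M K : Subgroup G} {z : G} (h : Hyp Q M K z) {g : G} (hg : g * z * g⁻¹ ≠ z)
    (hc : z * (g * z * g⁻¹) = g * z * g⁻¹ * z) : Two Q M (cj g Q) (cj g M) z (g * z * g⁻¹) := by
  have hginv : g⁻¹ * z * g ≠ z := by
    intro h1
    apply hg
    calc g * z * g⁻¹ = g * (g⁻¹ * z * g) * g⁻¹ := by rw [h1]
      _ = z := by group
  refine ⟨h.tight, tight_cj h.tight g, h.cM, ?_, h.hz, mem_cj_mul h.hz, h.z2, by rw [Basic.orderOf_conj]; exact h.z2,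
    hc, ?_, ?_, ?_, h.bz, ?_⟩
  · intro m hm
    have h1 := h.cM _ (mem_cj.mp hm)
    calc m * (g * z * g⁻¹) = g * ((g⁻¹ * m * g) * z) * g⁻¹ := by group
      _ = g * (z * (g⁻¹ * m * g)) * g⁻¹ := by rw [h1]
      _ = g * z * g⁻¹ * m := by group
  · intro x hx hx' hx2
    have h1 : g⁻¹ ∈ M := h.tight.tight g⁻¹ x hx hx2 (by rw [inv_inv]; exact mem_cj.mp hx')
    have h2 := h.cM g (by simpa using M.inv_mem h1)
    apply hg
    rw [h2]; group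
  · intro c hc hc2 hca
    by_contra hcz
    exact hg (h.two c hc hc2 hcz g hca)
  · intro c hc hc2 hcz
    have h1 : g⁻¹ * c * g ∈ Q := mem_cj.mp hc
    have h2 : orderOf (g⁻¹ * c * g) = 2 := by
      have := Basic.orderOf_conj g⁻¹ c
      rw [inv_inv] at this
      rw [this, hc2]
    by_contra hca
    apply hginv
    have h3 : g⁻¹ * c * g ≠ z := by
      intro h4
      apply hca
      rw [← h4]; group
    have h4 := h.two _ h1 h2 h3 g⁻¹ (by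
      rw [inv_inv]
      calc g⁻¹ * c * g * (g⁻¹ * z * g) = g⁻¹ * (c * z) * g := by group
        _ = g⁻¹ * (z * c) * g := by rw [hcz]
        _ = g⁻¹ * z * g * (g⁻¹ * c * g) := by group)
    rwa [inv_inv] at h4
  · obtain ⟨c, hc, hc2, hcz⟩ := h.bz
    refine ⟨g * c * g⁻¹, mem_cj_mul hc, by rw [Basic.orderOf_conj]; exact hc2, ?_⟩
    intro h1
    exact hcz (mul_left_cancel (mul_right_cancel h1))

/-- `|G : M|` is odd -/
theorem Hyp.odd_index [Finite G] {Q M K : Subgroup G} {z : G} (h : Hyp Q M K z) : Odd M.index := by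
  classical
  obtain ⟨c, hc, hc2, hcz⟩ := h.bz
  have hcc := sq_of_two hc2
  have := Fintype.ofFinite (G ⧸ M)
  have hp : IsPGroup 2 ↥(zpowers c) := Cfsg.Agent.GH.TOne.isPGroup_zpowers_of_sq hcc
  have : Fact (Nat.Prime 2) := ⟨Nat.prime_two⟩
  have h1 := hp.card_modEq_card_fixedPoints (G ⧸ M)
  have h2 : Nat.card (MulAction.fixedPoints ↥(zpowers c) (G ⧸ M)) = 1 := by
    rw [Nat.card_eq_one_iff_unique]
    constructor
    · constructor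
      have key : ∀ q : MulAction.fixedPoints ↥(zpowers c) (G ⧸ M), (q : G ⧸ M) = ((1 : G) : G ⧸ M) := by
        rintro ⟨q, hq⟩
        obtain ⟨g, rfl⟩ := QuotientGroup.mk_surjective q
        have h3 := hq ⟨c, mem_zpowers c⟩
        have h4 : c • (g : G ⧸ M) = (g : G ⧸ M) := h3
        rw [MulAction.Quotient.smul_mk, smul_eq_mul, QuotientGroup.eq] at h4
        have h5 := h.cM _ h4
        have h6 : c * (g * z * g⁻¹) = g * z * g⁻¹ * c := by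
          have hci : c⁻¹ = c := inv_eq_of_mul_eq_one_left hcc
          have e : (c * g)⁻¹ * g = g⁻¹ * c * g := by rw [mul_inv_rev, hci]
          rw [e] at h5
          calc c * (g * z * g⁻¹) = g * (g⁻¹ * c * g * z) * g⁻¹ := by group
            _ = g * (z * (g⁻¹ * c * g)) * g⁻¹ := by rw [h5]
            _ = g * z * g⁻¹ * c := by group
        have h7 := mem_of_conj_eq h (h.two c hc hc2 hcz g h6)
        show (g : G ⧸ M) = ((1 : G) : G ⧸ M)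
        rw [eq_comm, QuotientGroup.eq, inv_one, one_mul]
        exact h7
      intro q r
      exact Subtype.ext ((key q).trans (key r).symm)
    · refine ⟨⟨((1 : G) : G ⧸ M), ?_⟩⟩
      intro x
      have hx : (x : G) ∈ M := (zpowers_le.mpr (h.tight.le hc)) x.2
      show (x : G) • ((1 : G) : G ⧸ M) = ((1 : G) : G ⧸ M)
      rw [MulAction.Quotient.smul_mk, smul_eq_mul, mul_one, eq_comm, QuotientGroup.eq, inv_one, one_mul]
      exact hx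
  rw [h2] at h1
  have h3 : Nat.card (G ⧸ M) = M.index := rfl
  rw [h3] at h1
  rw [Nat.odd_iff]
  exact h1

/-- `S ∩ KQ = (S ∩ K)(S ∩ Q)` -/
theorem split [Finite G] {S M K Q : Subgroup G} (hS : IsSyl S M) (hKM : K ≤ M) (hQM : Q ≤ M)
    (hK : ∀ m ∈ M, ∀ k ∈ K, m * k * m⁻¹ ∈ K) (hQ : ∀ m ∈ M, ∀ k ∈ Q, m * k * m⁻¹ ∈ Q) {x k q : G} (hx : x ∈ S)
    (hk : k ∈ K) (hq : q ∈ Q) (he : x = k * q) : ∃ k' ∈ K, ∃ q' ∈ Q, k' ∈ S ∧ q' ∈ S ∧ x = k' * q' := by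
  obtain ⟨P, hP⟩ := hS.toSylow
  have hKn : (K.subgroupOf M).Normal := by
    refine ⟨?_⟩
    intro n hn g
    rw [mem_subgroupOf] at hn ⊢
    exact hK g g.2 n hn
  have hQn : (Q.subgroupOf M).Normal := by
    refine ⟨?_⟩
    intro n hn g
    rw [mem_subgroupOf] at hn ⊢
    exact hQ g g.2 n hn
  have hPm : ∀ y : ↥M, y ∈ P ↔ (y : G) ∈ S := by
    intro y
    have : y ∈ P ↔ y ∈ (P : Subgroup ↥M) := Iff.rfl
    rw [this, hP, mem_subgroupOf]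
  obtain ⟨k', hk', q', hq', h1, h2, h3⟩ := Cfsg.Agent.GH.TOne.sylow_split P (K.subgroupOf M) (Q.subgroupOf M)
    (x := ⟨x, hS.le hx⟩) ((hPm _).mpr hx) (a := ⟨k, hKM hk⟩) (b := ⟨q, hQM hq⟩) (mem_subgroupOf.mpr hk)
    (mem_subgroupOf.mpr hq) (Subtype.ext he)
  exact ⟨k', mem_subgroupOf.mp hk', q', mem_subgroupOf.mp hq', (hPm _).mp h1, (hPm _).mp h2,
    congrArg Subtype.val h3⟩

/-- **THEOREM II** -/
theorem false_of_hyp [Finite G] (hG : commutator G = ⊤) {Q M K : Subgroup G} {z : G} (h : Hyp Q M K z)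
    (hcyc : ∀ S : Subgroup G, IsSyl S M → ∃ s ∈ S, ∀ x ∈ S, ∃ n : ℕ, ∃ k ∈ K, ∃ q ∈ Q, x = s ^ n * k * q)
    (hZ : ∃ g : G, g * z * g⁻¹ ≠ z ∧ z * (g * z * g⁻¹) = g * z * g⁻¹ * z) : False := by
  classical
  obtain ⟨g, hg, hc⟩ := hZ
  have h2 := two_of_hyp h hg hc
  obtain ⟨P, hP, -⟩ := exists_isSyl (G := G) (M := M ⊓ cj g M) (Q := ⊥) (IsPGroup.of_bot) bot_le
  obtain ⟨S, hS, hPS⟩ := exists_isSyl hP.two (hP.le.trans inf_le_left)
  obtain ⟨C, hC1, hC2⟩ := h2.struct hP hS hPS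
  obtain ⟨c, hcS, hcQ, hc2, hcz⟩ := h2.exists_c hS
  have hcR : c ∈ S ⊓ Q := ⟨hcS, hcQ⟩
  have hcC : c ∉ C := (hC2 c hcR).mpr ⟨hc2, hcz⟩
  have hRn := h2.normQ hS
  -- `C₀ = C ∩ S ∩ Q`
  set C₀ : Subgroup G := C ⊓ (S ⊓ Q) with hC₀
  have hC₀n : ∀ s ∈ S, ∀ x ∈ C₀, s * x * s⁻¹ ∈ C₀ := by
    intro s hs x hx
    refine ⟨?_, hRn s hs x hx.2⟩
    by_contra hn
    have h3 := (hC2 _ (hRn s hs x hx.2)).mp hn
    have h4 : x ∉ C := by
      rw [hC2 x hx.2]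
      refine ⟨by rw [← h3.1, Basic.orderOf_conj], ?_⟩
      rintro rfl
      apply h3.2
      rw [h.cM s (hS.le hs)]; group
    exact h4 hx.1
  -- the normal subgroup
  have hKS : ∀ s ∈ S, ∀ k ∈ K, s * k * s⁻¹ ∈ K := fun s hs => h.norm s (hS.le hs)
  have hC₀K : C₀ ≤ normalizer (K : Set G) := by
    intro s hs
    exact mem_normalizer_fintype (hKS s hs.2.1)
  have hmemKC : ∀ x, x ∈ K ⊔ C₀ → ∃ k ∈ K, ∃ r ∈ C₀, x = k * r := by
    intro x hx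
    have hx' : x ∈ ((K ⊔ C₀ : Subgroup G) : Set G) := hx
    rw [sup_comm, coe_mul_of_left_le_normalizer_right C₀ K hC₀K] at hx'
    obtain ⟨r, hr, k, hk, rfl⟩ := hx'
    exact ⟨r * k * r⁻¹, hKS r hr.2.1 k hk, r, hr, by group⟩
  let N : Subgroup ↥S := (K ⊔ C₀).subgroupOf S
  have hN : N.Normal := by
    refine ⟨?_⟩
    intro x hx s
    rw [mem_subgroupOf] at hx ⊢
    obtain ⟨k, hk, r, hr, he⟩ := hmemKC _ hx
    have e : ((s * x * s⁻¹ : ↥S) : G) = ((s : G) * k * (s : G)⁻¹) * ((s : G) * r * (s : G)⁻¹) := by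
      show (s : G) * x * (s : G)⁻¹ = _
      rw [he]; group
    rw [e]
    exact mul_mem (mem_sup_left (hKS s s.2 k hk)) (mem_sup_right (hC₀n s s.2 r hr))
  have hcN : (⟨c, hcS⟩ : ↥S) ∉ N := by
    intro h3
    rw [mem_subgroupOf] at h3
    obtain ⟨k, hk, r, hr, he⟩ := hmemKC _ h3
    have he' : c = k * r := he
    have hk' : k = c * r⁻¹ := by rw [he']; group
    have hkR : k ∈ S ⊓ Q := by rw [hk']; exact mul_mem hcR (inv_mem hr.2)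
    have hkC : k ∉ C := by
      intro h4
      apply hcC
      rw [he']
      exact mul_mem h4 hr.1
    have h5 := (hC2 k hkR).mp hkC
    exact h5.2 (h.inter k hk hkR.2 h5.1)
  -- all elements of `R ∖ C` are equal mod `N`
  have hRC : ∀ x (hx : x ∈ S ⊓ Q), x ∉ C → (QuotientGroup.mk' N) ⟨x, hx.1⟩ = (QuotientGroup.mk' N) ⟨c, hcS⟩ := by
    intro x hx hxC
    rw [QuotientGroup.mk'_apply, QuotientGroup.mk'_apply, QuotientGroup.eq, mem_subgroupOf]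
    apply mem_sup_right
    have hxi : x⁻¹ ∉ C := fun h4 => hxC (by simpa using C.inv_mem h4)
    exact ⟨hC1 _ ((S ⊓ Q).inv_mem hx) c hcR hxi hcC, (S ⊓ Q).mul_mem ((S ⊓ Q).inv_mem hx) hcR⟩
  have hR1 : ∀ x (hx : x ∈ S ⊓ Q), x ∈ C → (QuotientGroup.mk' N) ⟨x, hx.1⟩ = 1 := by
    intro x hx hxC
    rw [QuotientGroup.mk'_apply, QuotientGroup.eq_one_iff, mem_subgroupOf]
    exact mem_sup_right ⟨hxC, hx⟩
  have hK1 : ∀ x (hx : x ∈ S), x ∈ K → (QuotientGroup.mk' N) ⟨x, hx⟩ = 1 := by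
    intro x hx hxK
    rw [QuotientGroup.mk'_apply, QuotientGroup.eq_one_iff, mem_subgroupOf]
    exact mem_sup_left hxK
  -- `R` central mod `N`
  have hcen : ∀ y : ↥S, ∀ x (hx : x ∈ S ⊓ Q),
      (QuotientGroup.mk' N) y * (QuotientGroup.mk' N) ⟨x, hx.1⟩ =
        (QuotientGroup.mk' N) ⟨x, hx.1⟩ * (QuotientGroup.mk' N) y := by
    intro y x hx
    have h3 : (QuotientGroup.mk' N) (y * ⟨x, hx.1⟩ * y⁻¹) = (QuotientGroup.mk' N) ⟨x, hx.1⟩ := by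
      have hyx : (y : G) * x * (y : G)⁻¹ ∈ S ⊓ Q := hRn y y.2 x hx
      have e : y * ⟨x, hx.1⟩ * y⁻¹ = ⟨(y : G) * x * (y : G)⁻¹, hyx.1⟩ := rfl
      rw [e]
      by_cases hxC : x ∈ C
      · rw [hR1 x hx hxC, hR1 _ hyx (hC₀n y y.2 x ⟨hxC, hx⟩).1]
      · rw [hRC x hx hxC, hRC _ hyx ?_]
        intro h4
        apply hxC
        have h5 := hC₀n (y : G)⁻¹ (S.inv_mem y.2) _ ⟨h4, hyx⟩
        have e2 : (y : G)⁻¹ * ((y : G) * x * (y : G)⁻¹) * (y : G)⁻¹⁻¹ = x := by group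
        rw [e2] at h5
        exact h5.1
    rw [map_mul, map_mul, map_inv] at h3
    calc (QuotientGroup.mk' N) y * (QuotientGroup.mk' N) ⟨x, hx.1⟩
        = ((QuotientGroup.mk' N) y * (QuotientGroup.mk' N) ⟨x, hx.1⟩ * ((QuotientGroup.mk' N) y)⁻¹) *
          (QuotientGroup.mk' N) y := by group
      _ = _ := by rw [h3]
  obtain ⟨s, hs, hsx⟩ := hcyc S hS
  have hform : ∀ x : ↥S, ∃ n : ℕ, ∃ r, ∃ hr : r ∈ S ⊓ Q,
      (QuotientGroup.mk' N) x = (QuotientGroup.mk' N) ⟨s, hs⟩ ^ n * (QuotientGroup.mk' N) ⟨r, hr.1⟩ := by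
    intro x
    obtain ⟨n, k, hk, q, hq, he⟩ := hsx x x.2
    obtain ⟨k', hk', q', hq', hkS, hqS, he'⟩ := split hS h.KM h.tight.le h.norm h.tight.norm
      (x := (s ^ n)⁻¹ * x) (S.mul_mem (S.inv_mem (pow_mem hs n)) x.2) hk hq (by rw [he]; group)
    refine ⟨n, q', ⟨hqS, hq'⟩, ?_⟩
    have e : x = ⟨s, hs⟩ ^ n * (⟨k', hkS⟩ * ⟨q', hqS⟩) := by
      apply Subtype.ext
      show (x : G) = s ^ n * (k' * q')
      rw [← he']; group
    rw [e, map_mul, map_mul, map_pow, hK1 k' hkS hk', one_mul]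
  have hcomm : ∀ x y : ↥S ⧸ N, x * y = y * x := by
    intro x y
    obtain ⟨x, rfl⟩ := QuotientGroup.mk'_surjective N x
    obtain ⟨y, rfl⟩ := QuotientGroup.mk'_surjective N y
    obtain ⟨n, r, hr, e1⟩ := hform x
    obtain ⟨m, t, ht, e2⟩ := hform y
    have h3 := hcen (⟨s, hs⟩ ^ m) r hr
    have h4 := hcen (⟨s, hs⟩ ^ n) t ht
    have h5 := hcen ⟨r, hr.1⟩ t ht
    rw [map_pow] at h3 h4
    rw [e1, e2]
    set σ := (QuotientGroup.mk' N) ⟨s, hs⟩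
    set ρ := (QuotientGroup.mk' N) ⟨r, hr.1⟩
    set τ := (QuotientGroup.mk' N) ⟨t, ht.1⟩
    calc σ ^ n * ρ * (σ ^ m * τ) = σ ^ n * (ρ * σ ^ m) * τ := by group
      _ = σ ^ n * σ ^ m * (ρ * τ) := by rw [← h3]; group
      _ = σ ^ (n + m) * (ρ * τ) := by rw [pow_add]
      _ = σ ^ (m + n) * (τ * ρ) := by rw [h5, Nat.add_comm]
      _ = σ ^ m * (σ ^ n * τ) * ρ := by rw [pow_add]; group
      _ = σ ^ m * τ * (σ ^ n * ρ) := by rw [h4]; group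
  let inst : CommGroup (↥S ⧸ N) := { (inferInstance : Group (↥S ⧸ N)) with mul_comm := hcomm }
  have hodd : Odd S.index := by
    have h3 : (S.subgroupOf M).index * M.index = S.index := relIndex_mul_index hS.le
    rw [← h3]
    apply Odd.mul _ h.odd_index
    obtain ⟨P', hP'⟩ := hS.toSylow
    have : Fact (Nat.Prime 2) := ⟨Nat.prime_two⟩
    have h4 := P'.not_dvd_index
    rw [hP'] at h4
    rw [← Nat.not_even_iff_odd, even_iff_two_dvd]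
    exact h4
  have h6 := transfer_kill hG hodd (sq_of_two hc2) hcS (A := ↥S ⧸ N) (QuotientGroup.mk' N) (by
    intro y hy
    have hyM := hS.le hy
    have h7 := h.cM _ hyM
    have h8 : c * (y * z * y⁻¹) = y * z * y⁻¹ * c := by
      calc c * (y * z * y⁻¹) = y * (y⁻¹ * c * y * z) * y⁻¹ := by group
        _ = y * (z * (y⁻¹ * c * y)) * y⁻¹ := by rw [h7]
        _ = y * z * y⁻¹ * c := by group
    have h9 := h.two c hcQ hc2 hcz y h8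
    have h10 := mem_of_conj_eq h h9
    have h11 : y⁻¹ * c * y ∈ Q := by
      have := h.tight.norm y⁻¹ (M.inv_mem h10) c hcQ
      rwa [inv_inv] at this
    apply hRC _ ⟨hy, h11⟩
    rw [hC2 _ ⟨hy, h11⟩]
    constructor
    · have := Basic.orderOf_conj y⁻¹ c
      rw [inv_inv] at this
      rw [this, hc2]
    · intro h12
      apply hcz
      rw [← h9, ← h12]; group)
  rw [← MonoidHom.mem_ker, QuotientGroup.ker_mk'] at h6
  exact hcN h6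

end Cfsg.Agent.OddHalf.D4.EvenCen
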