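import Cfsg.Agent.OddHalf.D4.EvenCen
import Cfsg.Agent.OddHalf.D4.EvenPair

/-!
# THEOREM II for standard subgroups

`K` standard in the perfect group `G` with trivial odd core (simple is not used), the involutions of `Z(K)` are `z`
alone, `m_2(C(K)) ≥ 2`, `Out(K)` has cyclic Sylow 2-subgroups (`OutCyc`).  Then some involution `c ≠ z` of `C(K)`
commutes with a conjugate of `z` other than `z`.
-/

set_option autoImplicit false

namespace Cfsg.Agent.OddHalf.D4.EvenCen

open Subgroup Basic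
open Cfsg.Agent.OddHalf.D4.CommConj (Tight cj mem_cj mem_cj_mul exists_norm_elt exists_pow_involution)

variable {G : Type*} [Group G]

/-- The `Z*`-theorem for `G`. -/
def ZStar (G : Type*) [Group G] : Prop :=
  ∀ (P : Sylow 2 G) (u : G), orderOf u = 2 → u ∈ P → (∀ g : G, g * u * g⁻¹ ∈ P → g * u * g⁻¹ = u) →
    ∃ N : Subgroup G, N.Normal ∧ Odd (Nat.card N) ∧ ∀ g : G, (u * g * u⁻¹ * g⁻¹) ∈ N

/-- an involution commutes with another conjugate -/
theorem exists_comm_conj [Finite G] [IsSimpleGroup G] (hZ : ZStar G) (hG : commutator G = ⊤) {z : G}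
    (hz : orderOf z = 2) : ∃ g : G, g * z * g⁻¹ ≠ z ∧ z * (g * z * g⁻¹) = g * z * g⁻¹ * z := by
  by_contra hcon
  push Not at hcon
  have : Fact (Nat.Prime 2) := ⟨Nat.prime_two⟩
  have hz1 : z ≠ 1 := ne_of_two hz
  have hp : IsPGroup 2 ↥(zpowers z) := by
    rw [IsPGroup.iff_card]; exact ⟨1, by rw [Nat.card_zpowers, hz]; norm_num⟩
  obtain ⟨P, hP⟩ := hp.exists_le_sylow
  have hzP : z ∈ P := hP (mem_zpowers z)
  -- `z ∈ Z(P)`
  have hcen : ∀ x ∈ P, x * z = z * x := by
    by_contra hne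
    push Not at hne
    obtain ⟨x, hxP, hx⟩ := hne
    obtain ⟨y, hyP, hyT, hy⟩ := Cfsg.Agent.GH.TOne.exists_mem_normalizer (T := (P : Subgroup G) ⊓ centralizer {z})
      (P := (P : Subgroup G)) P.2 inf_le_left (by
        intro h
        apply hx
        have h1 : x ∈ (P : Subgroup G) ⊓ centralizer {z} := by rw [h]; exact hxP
        exact mem_centralizer_singleton_iff.mp h1.2)
    have hzT : z ∈ (P : Subgroup G) ⊓ centralizer {z} := ⟨hzP, mem_centralizer_singleton_iff.mpr rfl⟩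
    have h1 := hy z hzT
    have h2 : y * z * y⁻¹ ≠ z := by
      intro h3
      apply hyT
      refine ⟨hyP, mem_centralizer_singleton_iff.mpr ?_⟩
      calc y * z = y * z * y⁻¹ * y := by group
        _ = z * y := by rw [h3]
    exact hcon y h2 (mem_centralizer_singleton_iff.mp h1.2).symm
  obtain ⟨N, hN, hodd, hNz⟩ := hZ P z hz hzP (by
    intro g hg
    by_contra h
    exact hcon g h (hcen _ hg).symm)
  rcases hN.eq_bot_or_eq_top with h | h
  · -- `z` central
    have h1 : z ∈ center G := by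
      rw [mem_center_iff]
      intro g
      have h2 := hNz g
      rw [h, mem_bot] at h2
      calc g * z = (z * g * z⁻¹ * g⁻¹)⁻¹ * (z * g) := by group
        _ = z * g := by rw [h2]; group
    rcases (inferInstance : (center G).Normal).eq_bot_or_eq_top with h2 | h2
    · rw [h2, mem_bot] at h1
      exact hz1 h1
    · have h3 : commutator G = ⊥ := by
        rw [commutator_def, commutator_eq_bot_iff_le_centralizer]
        intro x _
        rw [mem_centralizer_iff]
        intro y _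
        have : x ∈ center G := by rw [h2]; exact mem_top x
        exact mem_center_iff.mp this y
      rw [hG] at h3
      have h4 : z ∈ (⊤ : Subgroup G) := mem_top z
      rw [h3, mem_bot] at h4
      exact hz1 h4
  · rw [h] at hodd
    have h1 : orderOf z ∣ Nat.card ↥(⊤ : Subgroup G) := by
      rw [Subgroup.card_top]; exact orderOf_dvd_natCard z
    rw [hz] at h1
    exact (Nat.not_even_iff_odd.mpr hodd) (even_iff_two_dvd.mpr h1)

/-- The 2-subgroups of `Out(X)` are cyclic. -/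
def OutCyc (X : Type*) [Group X] : Prop :=
  ∀ P : Subgroup (MulAut X), IsPGroup 2 ↥P → ∃ s ∈ P, ∀ x ∈ P, ∃ n : ℕ, ∃ y : X, x = s ^ n * MulAut.conj y

theorem OutCyc.syl {K : Subgroup G} (h : OutCyc ↥K) {S : Subgroup G} (hS : IsPGroup 2 ↥S)
    (hSM : S ≤ normalizer (K : Set G)) :
    ∃ s ∈ S, ∀ x ∈ S, ∃ n : ℕ, ∃ k ∈ K, ∃ q ∈ centralizer (K : Set G), x = s ^ n * k * q := by
  have hP : IsPGroup 2 ↥((S.subgroupOf (normalizer (K : Set G))).map K.normalizerMonoidHom) :=
    (hS.comap_subtype).map _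
  obtain ⟨σ, hσ, hx⟩ := h _ hP
  obtain ⟨s, hs, rfl⟩ := hσ
  refine ⟨s, mem_subgroupOf.mp hs, ?_⟩
  intro x hxS
  obtain ⟨n, y, hy⟩ := hx (K.normalizerMonoidHom ⟨x, hSM hxS⟩) ⟨⟨x, hSM hxS⟩, mem_subgroupOf.mpr hxS, rfl⟩
  have hact : ∀ k : ↥K, x * (k : G) * x⁻¹ = (s : G) ^ n * ((y : G) * k * (y : G)⁻¹) * ((s : G) ^ n)⁻¹ := by
    intro k
    have h1 := congrArg (fun f : MulAut ↥K => ((f k : ↥K) : G)) hy
    rw [← map_pow] at h1
    exact h1
  refine ⟨n, y, y.2, (y : G)⁻¹ * ((s : G) ^ n)⁻¹ * x, ?_, by group⟩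
  rw [mem_centralizer_iff]
  intro k hk
  have h1 := hact ⟨k, hk⟩
  have h2 : x * k * x⁻¹ = (s : G) ^ n * ((y : G) * k * (y : G)⁻¹) * ((s : G) ^ n)⁻¹ := h1
  calc k * ((y : G)⁻¹ * ((s : G) ^ n)⁻¹ * x)
      = (y : G)⁻¹ * ((s : G) ^ n)⁻¹ * ((s : G) ^ n * ((y : G) * k * (y : G)⁻¹) * ((s : G) ^ n)⁻¹) * x := by group
    _ = (y : G)⁻¹ * ((s : G) ^ n)⁻¹ * x * k := by rw [← h2]; group

/-- **THEOREM II, standard form.** -/
theorem exists_caseI [Finite G] [IsSimpleGroup G] (hZ : ZStar G) (hG : commutator G = ⊤) {K : Subgroup G}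
    (hK : IsStandardSubgroup K) (hrk : ¬ PRankLE 2 1 ↥(centralizer (K : Set G))) {z : G} (hzK : z ∈ K)
    (hzC : z ∈ centralizer (K : Set G)) (hz : orderOf z = 2)
    (huniq : ∀ x ∈ K, x ∈ centralizer (K : Set G) → orderOf x = 2 → x = z) (hout : OutCyc ↥K) :
    ∃ c ∈ centralizer (K : Set G), orderOf c = 2 ∧ c ≠ z ∧ ∃ g : G, g * z * g⁻¹ ≠ z ∧
      c * (g * z * g⁻¹) = g * z * g⁻¹ * c := by
  by_contra hcon
  push Not at hcon
  have ht := EvenPair.tight_of_standard hK
  have hnK : ∀ m ∈ normalizer (K : Set G), ∀ k ∈ K, m * k * m⁻¹ ∈ K := fun m hm k hk =>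
    (mem_normalizer_iff.mp hm k).mp hk
  refine false_of_hyp hG (Q := centralizer (K : Set G)) (M := normalizer (K : Set G)) (K := K) (z := z)
    ⟨ht, ?_, hzC, hz, le_normalizer, hnK, huniq, ?_, ?_⟩ (fun S hS => hout.syl hS.two hS.le)
    (exists_comm_conj hZ hG hz)
  · intro m hm
    have h1 := huniq (m * z * m⁻¹) (hnK m hm z hzK) (ht.norm m hm z hzC) (by rw [Basic.orderOf_conj]; exact hz)
    calc m * z = m * z * m⁻¹ * m := by group
      _ = z * m := by rw [h1]
  · obtain ⟨a, b, ha, hb, ha2, hb2, -, hne⟩ := EvenPair.exists_two_of_not_pRankLE hrk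
    by_cases haz : a = z
    · exact ⟨b, hb, hb2, fun h => hne (haz.trans h.symm)⟩
    · exact ⟨a, ha, ha2, haz⟩
  · intro c hc hc2 hcz g hcg
    by_contra hg
    exact hcon c hc hc2 hcz g hg hcg

end Cfsg.Agent.OddHalf.D4.EvenCen
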