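import Mathlib
import Cfsg.Agent.OddHalf.D4.EvenCyc

/-!
# ODD, D4: `Z(K)` cyclic and nontrivial, `m_2(C(K)) ≥ 2`: the kill for `2.M12` (text: helper378, ODD #10322 (2))

A bad pair is a pair of commuting involutory automorphisms `α ≠ β` with `C(α) ≤ C(β)`, `C(αβ) ≤ C(β)`.
`Facts`: (m1) the members of a bad pair are not both inner; (m2) for a bad pair some `k` and a perfect `L₀`
fixed by `α`, `β` with `α(k)⁻¹k, β(k)⁻¹k ∈ L₀`, `β(k) ≠ k`; (m3) commutators of automorphisms are inner;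
(P2) `SqDiff`.  `row`: then `m_2(C(K)) ≤ 1`.
-/

set_option autoImplicit false

namespace Cfsg.Agent.OddHalf.D4.EvenCycM12

open Cfsg Subgroup Basic
open Cfsg.Agent.OddHalf.D4.EvenCyc

/-- a bad pair of automorphisms -/
structure Bad {X : Type*} [Group X] (α β : MulAut X) : Prop where
  a2 : α * α = 1
  b2 : β * β = 1
  comm : α * β = β * α
  a1 : α ≠ 1
  b1 : β ≠ 1
  ne : α ≠ β
  ca : ∀ x, α x = x → β x = x
  cab : ∀ x, α (β x) = x → β x = x

/-- the facts on `K` (for `2.M12`) -/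
structure Facts (X : Type*) [Group X] : Prop where
  m1 : ∀ α β : MulAut X, Bad α β → (∃ a, α = MulAut.conj a) → ¬ ∃ b, β = MulAut.conj b
  m2 : ∀ α β : MulAut X, Bad α β → ∃ (k : X) (L : Subgroup X), ⁅L, L⁆ = L ∧ (∀ l ∈ L, α l = l ∧ β l = l) ∧
    (α k)⁻¹ * k ∈ L ∧ (β k)⁻¹ * k ∈ L ∧ (β k)⁻¹ * k ≠ 1
  m3 : ∀ α β : MulAut X, ∃ a, α * β * α⁻¹ * β⁻¹ = MulAut.conj a

variable {G : Type*} [Group G] [Finite G] {K : Subgroup G} {z : G}

omit [Finite G] in
theorem act_apply_eq {x : G} (hx : x ∈ normalizer (K : Set G)) (k : ↥K) :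
    Ev.act K ⟨x, hx⟩ k = k ↔ x * k = k * x := by
  constructor
  · intro h
    have h2 : x * (k : G) * x⁻¹ = k := congrArg Subtype.val h
    calc x * (k : G) = (x * (k : G) * x⁻¹) * x := by group
      _ = k * x := by rw [h2]
  · intro h
    apply Subtype.ext
    show x * (k : G) * x⁻¹ = k
    rw [h]
    group

/-- a pair gives a bad pair -/
theorem bad_of_pair (E : Ev K z) {g c v d : G} (P : Ev.Pair K z g c v d) :
    Bad (Ev.act K ⟨d, P.dM⟩) (Ev.act K ⟨v, P.vM⟩) := by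
  have hcc := mul_self_of_order P.c2
  have hzz := mul_self_of_order E.z2
  have hvv : v * v = 1 := by
    rw [P.v_def]
    calc g⁻¹ * z * g * (g⁻¹ * z * g) = g⁻¹ * (z * z) * g := by group
      _ = 1 := by rw [hzz]; group
  have hdd : d * d = 1 := by
    rw [P.d_def]
    calc g⁻¹ * c * g * (g⁻¹ * c * g) = g⁻¹ * (c * c) * g := by group
      _ = 1 := by rw [hcc]; group
  have hone : ∀ {x : G} (hx : x ∈ normalizer (K : Set G)), x * x = 1 →
      Ev.act K ⟨x, hx⟩ * Ev.act K ⟨x, hx⟩ = 1 := by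
    intro x hx hxx
    rw [← Ev.act_mul]
    have : (⟨x, hx⟩ * ⟨x, hx⟩ : ↥(normalizer (K : Set G))) = 1 := Subtype.ext hxx
    rw [this]
    exact map_one _
  refine ⟨hone _ hdd, hone _ hvv, ?_, ?_, ?_, ?_, ?_, ?_⟩
  · rw [← Ev.act_mul, ← Ev.act_mul]
    congr 1
    exact Subtype.ext P.comm
  · rw [Ne, Ev.act_eq_one_iff]
    exact P.dC
  · rw [Ne, Ev.act_eq_one_iff]
    exact P.vC
  · intro h2
    apply P.dvC
    have h3 : Ev.act K (⟨d, P.dM⟩ * ⟨v, P.vM⟩) = 1 := by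
      rw [Ev.act_mul, h2]
      exact hone _ hvv
    exact Ev.act_eq_one_iff.mp h3
  · intro k hk
    rw [act_apply_eq] at hk ⊢
    exact P.centd k k.2 hk
  · intro k hk
    have h3 : Ev.act K (⟨d, P.dM⟩ * ⟨v, P.vM⟩) k = k := by
      rw [Ev.act_mul]
      exact hk
    have h4 := (act_apply_eq (x := d * v) (mul_mem P.dM P.vM) k).mp h3
    rw [act_apply_eq]
    exact P.centdv k k.2 h4

/-- **Case (I) for `2.M12`.** -/
theorem not_hasPair (E : Ev K z) (F : Facts ↥K) : ¬ Ev.HasPair K z := by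
  intro h
  obtain ⟨g, c, v, d, P⟩ := E.exists_pair h
  obtain ⟨k, L, hL, hLf, hxd, hxv, hxv1⟩ := F.m2 _ _ (bad_of_pair E P)
  have hdd : d⁻¹ = d := by
    rw [inv_eq_iff_mul_eq_one, P.d_def]
    calc g⁻¹ * c * g * (g⁻¹ * c * g) = g⁻¹ * (c * c) * g := by group
      _ = 1 := by rw [mul_self_of_order P.c2]; group
  have hvv : v⁻¹ = v := by
    rw [inv_eq_iff_mul_eq_one, P.v_def]
    calc g⁻¹ * z * g * (g⁻¹ * z * g) = g⁻¹ * (z * z) * g := by group
      _ = 1 := by rw [mul_self_of_order E.z2]; group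
  -- the elements `x_d`, `x_v` of `L`
  obtain ⟨xd, hxdef⟩ : ∃ x : G, x = (((Ev.act K ⟨d, P.dM⟩ k)⁻¹ * k : ↥K) : G) := ⟨_, rfl⟩
  obtain ⟨xv, hxvef⟩ : ∃ x : G, x = (((Ev.act K ⟨v, P.vM⟩ k)⁻¹ * k : ↥K) : G) := ⟨_, rfl⟩
  have exd : (k : G)⁻¹ * d * k = d * xd := by
    have : xd = (d * (k : G) * d⁻¹)⁻¹ * k := hxdef
    rw [this]
    have e1 : ∀ d k : G, d * ((d * k * d⁻¹)⁻¹ * k) = d * d * k⁻¹ * d⁻¹ * k := by intro d k; group
    rw [e1, hdd]
    have hd2 : d * d = 1 := by rw [← inv_eq_iff_mul_eq_one]; exact hdd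
    rw [hd2, one_mul]
  have exv : (k : G)⁻¹ * v * k = v * xv := by
    have : xv = (v * (k : G) * v⁻¹)⁻¹ * k := hxvef
    rw [this]
    have e1 : ∀ d k : G, d * ((d * k * d⁻¹)⁻¹ * k) = d * d * k⁻¹ * d⁻¹ * k := by intro d k; group
    rw [e1, hvv]
    have hd2 : v * v = 1 := by rw [← inv_eq_iff_mul_eq_one]; exact hvv
    rw [hd2, one_mul]
  have hLc : ∀ l ∈ L, v * (l : G) = (l : G) * v := fun l hl => (act_apply_eq P.vM l).mp (hLf l hl).2
  -- conjugate by `g`: `g L g⁻¹ ≤ C(z) = N(K)`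
  have hgv : g * v * g⁻¹ = z := by rw [P.v_def]; group
  have hgd : g * d * g⁻¹ = c := by rw [P.d_def]; group
  have hLM : ∀ l ∈ L, g * (l : G) * g⁻¹ ∈ normalizer (K : Set G) := by
    intro l hl
    rw [E.mem_iff, ← hgv]
    calc g * (l : G) * g⁻¹ * (g * v * g⁻¹) = g * ((l : G) * v) * g⁻¹ := by group
      _ = g * (v * (l : G)) * g⁻¹ := by rw [hLc l hl]
      _ = _ := by group
  -- `g L g⁻¹` acts as inner automorphisms
  let f : ↥L →* MulAut ↥K :=
    { toFun := fun l => Ev.act K ⟨g * ((l : ↥K) : G) * g⁻¹, hLM l l.2⟩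
      map_one' := by
        have h1 : (⟨g * (((1 : ↥L) : ↥K) : G) * g⁻¹, hLM _ (1 : ↥L).2⟩ : ↥(normalizer (K : Set G))) = 1 :=
          Subtype.ext (by simp)
        rw [h1]
        exact map_one _
      map_mul' := by
        intro a b
        rw [← Ev.act_mul]
        congr 1
        exact Subtype.ext (by
          show g * (((a * b : ↥L) : ↥K) : G) * g⁻¹ = g * ((a : ↥K) : G) * g⁻¹ * (g * ((b : ↥K) : G) * g⁻¹)
          simp [mul_assoc]) }
  have hinn : ∀ l : ↥L, f l ∈ (MulAut.conj (G := ↥K)).range := by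
    have hle : ∀ l ∈ ⁅(⊤ : Subgroup ↥L), (⊤ : Subgroup ↥L)⁆, f l ∈ (MulAut.conj (G := ↥K)).range := by
      intro l hl
      have : ⁅(⊤ : Subgroup ↥L), (⊤ : Subgroup ↥L)⁆ ≤ ((MulAut.conj (G := ↥K)).range).comap f := by
        rw [commutator_le]
        intro a _ b _
        rw [mem_comap, map_commutatorElement]
        obtain ⟨x, hx⟩ := F.m3 (f a) (f b)
        exact ⟨x, hx.symm⟩
      exact this hl
    intro l
    apply hle
    -- `L` is perfect
    have h1 : (⁅(⊤ : Subgroup ↥L), (⊤ : Subgroup ↥L)⁆).map L.subtype = ⁅L, L⁆ := by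
      rw [map_commutator, ← MonoidHom.range_eq_map, range_subtype]
    have h2 : (l : ↥K) ∈ (⁅(⊤ : Subgroup ↥L), (⊤ : Subgroup ↥L)⁆).map L.subtype := by
      rw [h1, hL]
      exact l.2
    obtain ⟨l', hl', hll⟩ := h2
    have : l' = l := Subtype.ext hll
    rw [← this]
    exact hl'
  -- the new pair
  set h := g * (k : G)⁻¹ * g⁻¹ with hh
  have hhz : h * z * h⁻¹ = z * (g * xv * g⁻¹) := by
    rw [hh, ← hgv]
    calc g * (k : G)⁻¹ * g⁻¹ * (g * v * g⁻¹) * (g * (k : G)⁻¹ * g⁻¹)⁻¹ = g * ((k : G)⁻¹ * v * k) * g⁻¹ := by group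
      _ = g * (v * xv) * g⁻¹ := by rw [exv]
      _ = g * v * g⁻¹ * (g * xv * g⁻¹) := by group
  have hhc : h * c * h⁻¹ = c * (g * xd * g⁻¹) := by
    rw [hh, ← hgd]
    calc g * (k : G)⁻¹ * g⁻¹ * (g * d * g⁻¹) * (g * (k : G)⁻¹ * g⁻¹)⁻¹ = g * ((k : G)⁻¹ * d * k) * g⁻¹ := by group
      _ = g * (d * xd) * g⁻¹ := by rw [exd]
      _ = g * d * g⁻¹ * (g * xd * g⁻¹) := by group
  have hyvM : g * xv * g⁻¹ ∈ normalizer (K : Set G) := by rw [hxvef]; exact hLM _ hxv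
  have hydM : g * xd * g⁻¹ ∈ normalizer (K : Set G) := by rw [hxdef]; exact hLM _ hxd
  have hyz : (g * xv * g⁻¹) * z = z * (g * xv * g⁻¹) := E.mem_iff.mp hyvM
  have hyc : (g * xd * g⁻¹) * z = z * (g * xd * g⁻¹) := E.mem_iff.mp hydM
  have hcz : c * z = z * c := E.z_comm P.cC
  have P' : Ev.Pair K z h⁻¹ c (h⁻¹⁻¹ * z * h⁻¹) (h⁻¹⁻¹ * c * h⁻¹) := by
    refine E.pair_of ?_ P.cC P.c2 P.cz ?_
    · rw [inv_inv]
      intro h1
      have h2 : h * z * h⁻¹ = z := by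
        calc h * z * h⁻¹ = h * (h⁻¹ * z * h) * h⁻¹ := by rw [h1]
          _ = z := by group
      rw [hhz] at h2
      have h3 : g * xv * g⁻¹ = 1 := mul_eq_left.mp h2
      have h4 : xv = 1 := by
        calc xv = g⁻¹ * (g * xv * g⁻¹) * g := by group
          _ = 1 := by rw [h3]; group
      exact hxv1 (Subtype.ext (hxvef.symm.trans h4))
    · rw [inv_inv]
      have h1 : (h * c * h⁻¹) * z = z * (h * c * h⁻¹) := by
        rw [hhc]
        calc c * (g * xd * g⁻¹) * z = c * (z * (g * xd * g⁻¹)) := by rw [mul_assoc, hyc]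
          _ = (c * z) * (g * xd * g⁻¹) := by group
          _ = z * (c * (g * xd * g⁻¹)) := by rw [hcz]; group
      calc c * (h⁻¹ * z * h) = h⁻¹ * ((h * c * h⁻¹) * z) * h := by group
        _ = h⁻¹ * (z * (h * c * h⁻¹)) * h := by rw [h1]
        _ = h⁻¹ * z * h * c := by group
  -- both members act as elements of `g L g⁻¹`
  have hact : ∀ (r y : G) (hr : r ∈ centralizer (K : Set G)) (hy : y ∈ normalizer (K : Set G))
      (x : G) (hx : x ∈ normalizer (K : Set G)), x = r * y →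
      Ev.act K ⟨x, hx⟩ = Ev.act K ⟨y, hy⟩ := by
    intro r y hr hy x hx hxy
    ext k
    rw [Ev.act_coe, Ev.act_coe]
    show x * (k : G) * x⁻¹ = y * (k : G) * y⁻¹
    have h1 : y * (k : G) * y⁻¹ ∈ K := (mem_normalizer_iff.mp hy k).mp k.2
    have h2 := mem_centralizer_iff.mp hr _ h1
    rw [hxy]
    calc r * y * (k : G) * (r * y)⁻¹ = r * (y * (k : G) * y⁻¹) * r⁻¹ := by group
      _ = (y * (k : G) * y⁻¹) * r * r⁻¹ := by rw [h2]
      _ = y * (k : G) * y⁻¹ := by group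
  have hfin : ∀ (l : ↥K) (hl : l ∈ L) (y : G) (hy : y ∈ normalizer (K : Set G)), y = g * (l : G) * g⁻¹ →
      ∃ a, Ev.act K ⟨y, hy⟩ = MulAut.conj a := by
    intro l hl y hy hyl
    obtain ⟨a, ha⟩ := hinn ⟨l, hl⟩
    refine ⟨a, ?_⟩
    rw [ha]
    subst hyl
    rfl
  obtain ⟨a, ha⟩ := hfin _ hxd (g * xd * g⁻¹) hydM (by rw [hxdef])
  obtain ⟨b, hb⟩ := hfin _ hxv (g * xv * g⁻¹) hyvM (by rw [hxvef])
  exact F.m1 _ _ (bad_of_pair E P')
    ⟨a, (hact c _ P.cC hydM _ P'.dM (by rw [inv_inv]; exact hhc)).trans ha⟩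
    ⟨b, (hact z _ E.zC hyvM _ P'.vM (by rw [inv_inv]; exact hhz)).trans hb⟩

/-- **`2.M12`**: the facts and (P2) imply `m_2(C(K)) ≤ 1`. -/
theorem main [IsSimpleGroup G] (E : Ev K z) (F : Facts ↥K) (h2 : SqDiff ↥K) :
    PRankLE 2 1 ↥(centralizer (K : Set G)) :=
  main_of_not E (not_hasPair E F) h2

/-- **The row `2.M12`** from the facts. -/
theorem row {G : Type*} [Group G] {K : Subgroup G} (C : Iface.Ctx G) (S : Iface.Std0 G K)
    (hcyc : IsCyclic ↥(center ↥K)) (hne : center ↥K ≠ ⊥) (F : Facts ↥K) (h2 : SqDiff ↥K) :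
    PRankLE 2 1 ↥(centralizer (K : Set G)) := by
  haveI := C.fin
  haveI := C.simple
  obtain ⟨z, E⟩ := ev_of_std S hcyc hne
  exact main E F h2

end Cfsg.Agent.OddHalf.D4.EvenCycM12
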