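import Cfsg.Agent.OddHalf.D4.EvenEEight
import Cfsg.Agent.OddHalf.D9.EEight.RowFinal
import Cfsg.Agent.OddHalf.D4.Cut

/-!
# ODD, D4: the row `2.Ω₈⁺(2)` (`D4.Cut.RowsCov.o82`)
-/

set_option autoImplicit false

namespace Cfsg.Agent.OddHalf.D4.EvenERow

open Cfsg Subgroup Cfsg.Agent.OddHalf Cfsg.Agent.OddHalf.D9.EEight

universe u

/-- (P1), (P2) for `2.Ω₈⁺(2)`. -/
theorem facts {K : Type u} [Group K] [Finite K] (hp : commutator K = ⊤)
    (h : D9.Cut.Two (fun X _ => D9.Cut.XO82 X) K) : EvenCyc.PairFree K ∧ EvenCyc.SqDiff K := by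
  obtain ⟨θ⟩ := RowFinal.ident K inferInstance hp h.1 h.2
  exact ⟨EvenEEight.pairFree θ RowFinal.autConj, EvenEEight.sqDiff θ RowFinal.autConj⟩

/-- **The row `2.Ω₈⁺(2)` of D4**, the field `o82` of `D4.Cut.RowsCov`. -/
theorem o82 : D4.Cut.Row0.{u} (fun K _ => D9.Cut.Two (fun X _ => D9.Cut.XO82 X) K) := by
  intro G _ C K S hr hK
  have := C.fin
  have hp : commutator ↥K = ⊤ := S.std.1.1.commutator_eq_top
  have hcyc : IsCyclic ↥(center ↥K) := isCyclic_of_prime_card (p := 2) hK.1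
  have hne : center ↥K ≠ ⊥ := by
    intro h
    have h1 := hK.1
    rw [h, Subgroup.card_bot] at h1
    omega
  have hf := facts (K := ↥K) hp hK
  exact hr (EvenCyc.row C S hcyc hne hf.1 hf.2)

end Cfsg.Agent.OddHalf.D4.EvenERow
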