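import Cfsg.Agent.OddHalf.D7F4.KFront

/-!
# `F₄(q)`, `q` even: the centralisers of the elements of `Z(U) = X_ρ X_σ` (ODD, D4, LEMMA INPUT; helper949)

* `c47_m24`, `c44_m33` : `[x_ρ(t), x_{-α₃}(s)] = x₄₆(ts)`, `[x_σ(t), x_{-α₀}(s)] = x₄₀(ts)`;
* `cent_mixed` : `C_K(x_ρ x_σ) = LK` for nontrivial `x_ρ`, `x_σ`;
* `cases_Z` : the nontrivial elements of `Z(U)`.
-/

set_option autoImplicit false
set_option Elab.async false
set_option linter.unusedSectionVars false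

namespace Cfsg.Agent.OddHalf.D4.F4Mixed

open CoxeterSystem Cfsg.Agent.ChevalleyStructure.CoxeterGeom Cfsg.Agent.Tits.Roots Cfsg.Agent.Tits.Core
open Cfsg.Lie Cfsg.Agent.ChevalleyStructure Cfsg.Agent.ChevalleyStructure.Elts
  Cfsg.Agent.ChevalleyStructure.RootVec Cfsg.Agent.ChevalleyStructure.CoxeterGeomTypes
open Cfsg.Agent.Nodes Cfsg.Agent.Nodes.Reps Cfsg.Agent.Nodes.BNOf Cfsg.Agent.Nodes.RGDChev Cfsg.Agent.Nodes.Coroot
  Cfsg.Agent.Nodes.KindF Cfsg.Agent.Nodes.Bruhat Cfsg.Agent.KFacts.ChevTwo Cfsg.Agent.KFacts.ChevTwoTab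
  Cfsg.Agent.KFacts.ChevTwoInst Cfsg.Agent.KFacts.RgdTI
  Cfsg.Agent.KFacts.F4Star Cfsg.Agent.KFacts.F4Cent Cfsg.Agent.KFacts.F4Pair Cfsg.Agent.KFacts.F4Torus
  Cfsg.Agent.KFacts.F4Perf Cfsg.Agent.OddHalf.D7F4.KFront
open scoped commutatorElement

universe u

variable {K : Type u} [Field K] [Finite K] [CharP K 2]

/-! ### Commutators with `X_{-α₃}`, `X_{-α₀}` -/

theorem chkNeg : (lin 1 46 1 47 1 23 && decide (carB chevF4 47 23 = -1) && decide (carB chevF4 23 47 = -1) &&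
    lin 1 40 1 44 1 14 && decide (carB chevF4 44 14 = -1) && decide (carB chevF4 14 44 = -1) &&
    (nn 23).testBit 44 && (nn 14).testBit 47) = true := by decide +kernel

theorem neg_facts : v 46 = v 47 + v 23 ∧ cpr c4 isType.isCartan (v 23) (v 47) = -1 ∧
    cpr c4 isType.isCartan (v 47) (v 23) = -1 ∧ v 40 = v 44 + v 14 ∧ cpr c4 isType.isCartan (v 14) (v 44) = -1 ∧
    cpr c4 isType.isCartan (v 44) (v 14) = -1 ∧ 0 ≤ cpr c4 isType.isCartan (v 44) (v 23) ∧
    0 ≤ cpr c4 isType.isCartan (v 47) (v 14) := by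
  have h := chkNeg
  simp only [Bool.and_eq_true, decide_eq_true_eq] at h
  obtain ⟨⟨⟨⟨⟨⟨⟨h1, h2⟩, h3⟩, h4⟩, h5⟩, h6⟩, h7⟩, h8⟩ := h
  refine ⟨lin_one h1, ?_, ?_, lin_one h4, ?_, ?_, ?_, ?_⟩
  · rw [cpr_v c4 (by norm_num) (by norm_num)]; exact h2
  · rw [cpr_v c4 (by norm_num) (by norm_num)]; exact h3
  · rw [cpr_v c4 (by norm_num) (by norm_num)]; exact h5
  · rw [cpr_v c4 (by norm_num) (by norm_num)]; exact h6
  · exact (testBit_nn c4 (by norm_num) (by norm_num)).1 h7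
  · exact (testBit_nn c4 (by norm_num) (by norm_num)).1 h8

theorem c47_m24 (a t : K) : ⁅eF K (v 47) a, eF K (v 23) t⁆ = eF K (v 46) (a * t) := by
  obtain ⟨h1, h2, h3, -⟩ := neg_facts
  rw [(dat (K := K)).comm1 _ _ (rv (by norm_num)) (rv (by norm_num)) h3 h2, ← h1]

theorem c44_m33 (a t : K) : ⁅eF K (v 44) a, eF K (v 14) t⁆ = eF K (v 40) (a * t) := by
  obtain ⟨-, -, -, h1, h2, h3, -⟩ := neg_facts
  rw [(dat (K := K)).comm1 _ _ (rv (by norm_num)) (rv (by norm_num)) h3 h2, ← h1]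

theorem c44_m24 (a t : K) : eF K (v 44) a * eF K (v 23) t = eF K (v 23) t * eF K (v 44) a := by
  obtain ⟨-, -, -, -, -, -, h1, -⟩ := neg_facts
  exact (dat (K := K)).comm_of_nonneg (rv (by norm_num)) (rv (by norm_num)) h1 a t

theorem c47_m33 (a t : K) : eF K (v 47) a * eF K (v 14) t = eF K (v 14) t * eF K (v 47) a := by
  obtain ⟨-, -, -, -, -, -, -, h1⟩ := neg_facts
  exact (dat (K := K)).comm_of_nonneg (rv (by norm_num)) (rv (by norm_num)) h1 a t

/-- mixed elements of `Z(U)` -/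
def Mixed (w : ↥(chevF4.group K)) : Prop := ∃ t u : K, t ≠ 0 ∧ u ≠ 0 ∧ w = eF K (v 47) t * eF K (v 44) u

theorem X_inf : X1 K ⊓ X2 K = ⊥ := by
  rw [Subgroup.eq_bot_iff_forall]
  rintro x ⟨h1, h2⟩
  obtain ⟨t, rfl⟩ := (mem_XF (rv (by norm_num))).1 h1
  obtain ⟨u, hu⟩ := (mem_XF (rv (by norm_num))).1 h2
  have h3 := c47_m24 t (1 : K)
  have h4 : ⁅eF K (v 47) t, eF K (v 23) 1⁆ = 1 := by
    rw [commutatorElement_eq_one_iff_mul_comm, ← hu, c44_m24]
  rw [h4, mul_one] at h3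
  by_contra hne
  have h5 : t ≠ 0 := by
    rintro rfl
    exact hne ((dat (K := K)).zero (rv (by norm_num)))
  exact (dat (K := K)).ne_one (rv (by norm_num)) h5 h3.symm

theorem mixed_iff {w : ↥(chevF4.group K)} : Mixed w ↔ ∃ a ∈ X1 K, ∃ b ∈ X2 K, a ≠ 1 ∧ b ≠ 1 ∧ w = a * b := by
  have D := dat (K := K)
  constructor
  · rintro ⟨t, u, ht, hu, rfl⟩
    exact ⟨_, e_mem_X (rv (by norm_num)) t, _, e_mem_X (rv (by norm_num)) u, D.ne_one (rv (by norm_num)) ht,
      D.ne_one (rv (by norm_num)) hu, rfl⟩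
  · rintro ⟨a, ha, b, hb, ha1, hb1, rfl⟩
    obtain ⟨t, rfl⟩ := (mem_XF (rv (by norm_num))).1 ha
    obtain ⟨u, rfl⟩ := (mem_XF (rv (by norm_num))).1 hb
    refine ⟨t, u, ?_, ?_, rfl⟩
    · rintro rfl; exact ha1 (D.zero (rv (by norm_num)))
    · rintro rfl; exact hb1 (D.zero (rv (by norm_num)))

/-- An element normalising `X_ρ` and `X_σ` permutes the mixed elements. -/
theorem Mixed.conj {w : ↥(chevF4.group K)} (hw : Mixed w) {g : ↥(chevF4.group K)}
    (h1 : ∀ x ∈ X1 K, g * x * g⁻¹ ∈ X1 K) (h2 : ∀ x ∈ X2 K, g * x * g⁻¹ ∈ X2 K) : Mixed (g * w * g⁻¹) := by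
  obtain ⟨a, ha, b, hb, ha1, hb1, rfl⟩ := mixed_iff.1 hw
  refine mixed_iff.2 ⟨_, h1 a ha, _, h2 b hb, fun h => ha1 ?_, fun h => hb1 ?_, by group⟩
  · calc a = g⁻¹ * (g * a * g⁻¹) * g := by group
      _ = 1 := by rw [h]; group
  · calc b = g⁻¹ * (g * b * g⁻¹) * g := by group
      _ = 1 := by rw [h]; group

theorem Mixed.mem {w : ↥(chevF4.group K)} (hw : Mixed w) : w ∈ ZK K := by
  obtain ⟨a, ha, b, hb, -, -, rfl⟩ := mixed_iff.1 hw
  exact mem_ZK.2 ⟨a, ha, b, hb, rfl⟩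

/-- the nontrivial elements of `Z(U)` -/
theorem cases_Z {w : ↥(chevF4.group K)} (hw : w ∈ ZK K) (hw1 : w ≠ 1) : w ∈ X1 K ∨ w ∈ X2 K ∨ Mixed w := by
  obtain ⟨a, ha, b, hb, rfl⟩ := mem_ZK.1 hw
  by_cases h1 : a = 1
  · right; left; rw [h1, one_mul]; exact hb
  by_cases h2 : b = 1
  · left; rw [h2, mul_one]; exact ha
  exact Or.inr (Or.inr (mixed_iff.2 ⟨a, ha, b, hb, h1, h2, rfl⟩))

/-- `x_{-α₃}(1)` moves the mixed elements -/
theorem not_comm_23 {w : ↥(chevF4.group K)} (hw : Mixed w) {s : K} (hs : s ≠ 0) :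
    eF K (v 23) s * w ≠ w * eF K (v 23) s := by
  obtain ⟨t, u, ht, hu, rfl⟩ := hw
  intro h
  have h1 : ⁅eF K (v 47) t, eF K (v 23) s⁆ = 1 := by
    rw [commutatorElement_eq_one_iff_mul_comm]
    have h2 : eF K (v 47) t * eF K (v 23) s * eF K (v 44) u = eF K (v 23) s * eF K (v 47) t * eF K (v 44) u := by
      calc eF K (v 47) t * eF K (v 23) s * eF K (v 44) u = eF K (v 47) t * (eF K (v 23) s * eF K (v 44) u) := by group
        _ = eF K (v 47) t * (eF K (v 44) u * eF K (v 23) s) := by rw [c44_m24]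
        _ = eF K (v 47) t * eF K (v 44) u * eF K (v 23) s := by group
        _ = eF K (v 23) s * (eF K (v 47) t * eF K (v 44) u) := h.symm
        _ = _ := by group
    exact mul_right_cancel h2
  rw [c47_m24] at h1
  exact (dat (K := K)).ne_one (rv (by norm_num)) (mul_ne_zero ht hs) h1

theorem not_comm_14 {w : ↥(chevF4.group K)} (hw : Mixed w) {s : K} (hs : s ≠ 0) :
    eF K (v 14) s * w ≠ w * eF K (v 14) s := by
  obtain ⟨t, u, ht, hu, rfl⟩ := hw
  intro h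
  have h1 : ⁅eF K (v 44) u, eF K (v 14) s⁆ = 1 := by
    rw [commutatorElement_eq_one_iff_mul_comm]
    have h2 : eF K (v 47) t * (eF K (v 44) u * eF K (v 14) s) = eF K (v 47) t * (eF K (v 14) s * eF K (v 44) u) := by
      calc eF K (v 47) t * (eF K (v 44) u * eF K (v 14) s) = (eF K (v 47) t * eF K (v 44) u) * eF K (v 14) s := by group
        _ = eF K (v 14) s * (eF K (v 47) t * eF K (v 44) u) := h.symm
        _ = (eF K (v 14) s * eF K (v 47) t) * eF K (v 44) u := by group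
        _ = (eF K (v 47) t * eF K (v 14) s) * eF K (v 44) u := by rw [c47_m33]
        _ = _ := by group
    exact mul_left_cancel h2
  rw [c44_m33] at h1
  exact (dat (K := K)).ne_one (rv (by norm_num)) (mul_ne_zero hu hs) h1

/-! ### The torus -/

theorem tor_X {t : ↥(chevF4.group K)} (ht : t ∈ TF K) {x : Fin 4 → ℤ} (hx : IsRoot c4 isType.isCartan x)
    {g : ↥(chevF4.group K)} (hg : g ∈ XF K x) : t * g * t⁻¹ ∈ XF K x := by
  have h1 := (rgd (K := K) isType c4 2).tor x hx t ht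
  have h2 : t * g * t⁻¹ ∈ cj t ((XV chevF4 4 K x).subgroupOf (chevF4.group K)) := conj_mem_cj.2 hg
  rw [h1] at h2
  exact h2

theorem tor_L {t : ↥(chevF4.group K)} (ht : t ∈ TF K) {g : ↥(chevF4.group K)} (hg : g ∈ LK K) :
    t * g * t⁻¹ ∈ LK K := by
  have h1 : LK K ≤ (LK K).comap (MulAut.conj t).toMonoidHom := by
    refine RGD.Sup_le fun x hx z hz => ?_
    show t * z * t⁻¹ ∈ LK K
    exact RGD.le_Sup hx (tor_X ht hx.1.1 hz)
  exact h1 hg

/-- the torus part of the centraliser of a mixed element -/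
theorem torus_mem_L {w : ↥(chevF4.group K)} (hw : Mixed w) {t : ↥(chevF4.group K)} (ht : t ∈ TF K)
    (htw : t * w = w * t) : t ∈ LK K := by
  have D := dat (K := K)
  obtain ⟨a, b, ha, hb, rfl⟩ := hw
  -- `t` centralises both factors
  have k1 : t * eF K (v 47) a * t⁻¹ ∈ X1 K := tor_X ht (rv (by norm_num)) (e_mem_X (rv (by norm_num)) a)
  have k2 : t * eF K (v 44) b * t⁻¹ ∈ X2 K := tor_X ht (rv (by norm_num)) (e_mem_X (rv (by norm_num)) b)
  have k3 : (t * eF K (v 47) a * t⁻¹) * (t * eF K (v 44) b * t⁻¹) = eF K (v 47) a * eF K (v 44) b := by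
    calc (t * eF K (v 47) a * t⁻¹) * (t * eF K (v 44) b * t⁻¹) = (t * (eF K (v 47) a * eF K (v 44) b)) * t⁻¹ := by group
      _ = _ := by rw [htw]; group
  have k4 : (eF K (v 47) a)⁻¹ * (t * eF K (v 47) a * t⁻¹) = eF K (v 44) b * (t * eF K (v 44) b * t⁻¹)⁻¹ := by
    calc (eF K (v 47) a)⁻¹ * (t * eF K (v 47) a * t⁻¹)
        = (eF K (v 47) a)⁻¹ * ((t * eF K (v 47) a * t⁻¹) * (t * eF K (v 44) b * t⁻¹)) *
            (t * eF K (v 44) b * t⁻¹)⁻¹ := by group
      _ = _ := by rw [k3]; group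
  have k5 : (eF K (v 47) a)⁻¹ * (t * eF K (v 47) a * t⁻¹) = 1 := by
    have h1 : (eF K (v 47) a)⁻¹ * (t * eF K (v 47) a * t⁻¹) ∈ X1 K ⊓ X2 K := by
      refine Subgroup.mem_inf.2 ⟨mul_mem (inv_mem (e_mem_X (rv (by norm_num)) a)) k1, ?_⟩
      rw [k4]
      exact mul_mem (e_mem_X (rv (by norm_num)) b) (inv_mem k2)
    rwa [X_inf, Subgroup.mem_bot] at h1
  have k6 : t * eF K (v 47) a * t⁻¹ = eF K (v 47) a := (inv_mul_eq_one.1 k5).symm
  have k7 : t * eF K (v 44) b * t⁻¹ = eF K (v 44) b := by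
    rw [k6] at k3
    exact mul_left_cancel k3
  obtain ⟨c, rfl⟩ := exists_hel c4 ht
  have key : ∀ (y : Fin 4 → ℤ) (_ : IsRoot c4 isType.isCartan y) (i : Fin 4)
      (_ : ∀ j, pairing (cartanOf chevF4 4) j y = if j = i then 1 else 0) (u : K) (_ : u ≠ 0)
      (_ : hprod c * eF K y u * (hprod c)⁻¹ = eF K y u), ((c i : Kˣ) : K) = 1 := by
    intro y hy i hi u hu h1
    rw [hprod_conj c4 c hy u] at h1
    have h2 := D.injective hy h1
    have h3 : (((hchi c y).toMul : Kˣ) : K) = 1 := mul_right_cancel₀ hu (by rw [one_mul]; exact h2)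
    have h4 : hchi c y = Additive.ofMul (c i) := by
      rw [hchi_apply, Finset.sum_eq_single i]
      · rw [hi, if_pos rfl, one_zsmul]
      · intro j _ hj
        rw [hi, if_neg hj, zero_zsmul]
      · intro h; exact absurd (Finset.mem_univ i) h
    rwa [h4, toMul_ofMul] at h3
  have e3 := key _ (rv (by norm_num)) 3 pair47 a ha k6
  have e0 := key _ (rv (by norm_num)) 0 pair44 b hb k7
  have h5 : ∀ j : Fin 4, hel (eF K) (sr j) (c j) ∈ LK K := by
    intro j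
    by_cases hj : j = 3
    · rw [hj, e3, hel_one c4 (isRoot_sr c4 _ 3)]; exact one_mem _
    by_cases hj' : j = 0
    · rw [hj', e0, hel_one c4 (isRoot_sr c4 _ 0)]; exact one_mem _
    obtain ⟨h6, h7⟩ := ge_of_pairing c4 (rv (r := 47) (by norm_num)) (i := j) (by rw [pair47, if_neg hj])
    obtain ⟨h8, h9⟩ := ge_of_pairing c4 (rv (r := 44) (by norm_num)) (i := j) (by rw [pair44, if_neg hj'])
    have q1 : (sr j : Fin 4 → ℤ) ∈ SL := ⟨h6, h8⟩
    have q2 : -(sr j : Fin 4 → ℤ) ∈ SL := ⟨h7, h9⟩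
    exact hel_mem_of c4 (isRoot_sr c4 _ j) q1 q2 _
  exact mul_mem (mul_mem (mul_mem (h5 0) (h5 1)) (h5 2)) (h5 3)

/-! ### The centraliser of a mixed element -/

theorem fix47 {i : Fin 4} (hi : i ≠ 3) : rep c4 isType.isCartan (c4.simple i) (v 47) = v 47 := by
  rw [rep_simple_eq, pair47, if_neg hi, zero_smul, sub_zero]

theorem fix44 {i : Fin 4} (hi : i ≠ 0) : rep c4 isType.isCartan (c4.simple i) (v 44) = v 44 := by
  rw [rep_simple_eq, pair44, if_neg hi, zero_smul, sub_zero]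

theorem mem_LJ_of_mixed : ∀ {x : CoxeterMatrix.F₄.Group} {k : ↥(chevF4.group K)},
    Rp c4 (rgd (K := K) isType c4 2).nsys x k → ∀ w w' : ↥(chevF4.group K), Mixed w → Mixed w' → k * w = w' * k →
    k ∈ LJ c4 isType.isCartan (TF K) (XF K) ({1, 2} : Set (Fin 4)) := by
  have D := dat (K := K)
  intro x
  induction hn : c4.length x using Nat.strong_induction_on generalizing x with
  | _ N ih =>
  intro k hk w w' hw hw' hkw
  by_cases hx1 : x = 1
  · rw [hx1] at hk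
    exact T_le_LJ hk.mem_of_one
  obtain ⟨i, hi⟩ := c4.exists_leftDescent_of_ne_one hx1
  have hi' : c4.length (c4.simple i * x) < c4.length x := hi
  have hneg : rep c4 isType.isCartan x⁻¹ (sr i) ≤ 0 := by
    refine nonpos_of_lt c4 isType.isCartan x⁻¹ i ?_
    rw [← c4.length_inv x, ← c4.length_inv (c4.simple i * x), mul_inv_rev, inv_simple] at hi'
    exact hi'
  -- `X_{-α_i}` centralises `w'`
  have hcomm : ∀ y ∈ XF K (-sr i), y * w' = w' * y := by
    intro y hy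
    have h3 : k⁻¹ * y * k ∈ XF K (-rep c4 isType.isCartan x⁻¹ (sr i)) := by
      have := (rgd (K := K) isType c4 2).conj_mem' hk (isRoot_sr c4 isType.isCartan i).neg hy
      rwa [map_neg] at this
    have h3' : -rep c4 isType.isCartan x⁻¹ (sr i) ∈ RGD.Pos c4 isType.isCartan :=
      ⟨((isRoot_sr c4 isType.isCartan i).act x⁻¹).neg, neg_nonneg.2 hneg⟩
    have h4 : k⁻¹ * y * k ∈ UK K := RGD.le_Sup h3' h3
    have h5 := L_commZ (U_le_L h4) hw.mem
    have e : w' = k * w * k⁻¹ := by rw [hkw]; group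
    rw [e]
    calc y * (k * w * k⁻¹) = k * ((k⁻¹ * y * k) * w) * k⁻¹ := by group
      _ = k * (w * (k⁻¹ * y * k)) * k⁻¹ := by rw [h5]
      _ = _ := by group
  have hi0 : i ≠ 0 := by
    rintro rfl
    refine not_comm_14 hw' one_ne_zero (hcomm _ ?_)
    rw [← v33, ← v_neg (r := 33) (by norm_num)]
    exact e_mem_X (rv (by norm_num)) 1
  have hi3 : i ≠ 3 := by
    rintro rfl
    refine not_comm_23 hw' one_ne_zero (hcomm _ ?_)
    rw [← v24, ← v_neg (r := 24) (by norm_num)]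
    exact e_mem_X (rv (by norm_num)) 1
  have hiJ : i ∈ ({1, 2} : Set (Fin 4)) := by
    fin_cases i
    · exact absurd rfl hi0
    · exact Or.inl rfl
    · exact Or.inr rfl
    · exact absurd rfl hi3
  obtain ⟨m, hm⟩ : ∃ m : ↥(chevF4.group K), m = ⟨nn isType K i, nn_mem_group isType i⟩ := ⟨_, rfl⟩
  have hmR : Rp c4 (rgd (K := K) isType c4 2).nsys (c4.simple i) m := by
    rw [hm]; exact rp_simple c4 (rgd (K := K) isType c4 2).nsys i
  have hmJ : m ∈ LJ c4 isType.isCartan (TF K) (XF K) ({1, 2} : Set (Fin 4)) := by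
    rw [hm]; exact n_mem_LJ (rgd (K := K) isType c4 2) hiJ
  have hk2 : Rp c4 (rgd (K := K) isType c4 2).nsys (c4.simple i * x) (m⁻¹ * k) := by
    have := hmR.inv.mul hk
    rwa [inv_simple] at this
  have h7 := ih (c4.length (c4.simple i * x)) (by omega) rfl hk2 w (m⁻¹ * w' * m⁻¹⁻¹) hw (by
    refine hw'.conj ?_ ?_
    · intro y hy
      have h8 := (rgd (K := K) isType c4 2).conj_mem hmR.inv (rv (r := 47) (by norm_num)) hy
      rwa [inv_simple, fix47 hi3] at h8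
    · intro y hy
      have h8 := (rgd (K := K) isType c4 2).conj_mem hmR.inv (rv (r := 44) (by norm_num)) hy
      rwa [inv_simple, fix44 hi0] at h8) (by
    calc m⁻¹ * k * w = m⁻¹ * (k * w) := by group
      _ = _ := by rw [hkw]; group)
  have h8 : k = m * (m⁻¹ * k) := by group
  rw [h8]
  exact mul_mem hmJ h7

theorem chkJ : ((List.range 48).all fun r => !decide (rt chevF4 r 0 = 0) || !decide (rt chevF4 r 3 = 0) ||
    SM.testBit r) = true := by decide +kernel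

theorem LJ_le : LJ c4 isType.isCartan (TF K) (XF K) ({1, 2} : Set (Fin 4)) ≤ TF K ⊔ LK K := by
  refine sup_le_sup_left (RGD.Sup_le fun x hx => ?_) _
  obtain ⟨r, hr, rfl⟩ := exists_v c4 hx.1
  have h0 : rt chevF4 r 0 = 0 := hx.2 0 (by decide)
  have h3 : rt chevF4 r 3 = 0 := hx.2 3 (by decide)
  have h1 := List.all_eq_true.1 chkJ r (List.mem_range.2 hr)
  rw [h0, h3] at h1
  exact RGD.le_Sup ((mem_SL hr).2 (by simpa using h1))

/-- **`C_K(x_ρ x_σ) = LK`** -/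
theorem cent_mixed {w : ↥(chevF4.group K)} (hw : Mixed w) {g : ↥(chevF4.group K)} (hg : g * w = w * g) :
    g ∈ LK K := by
  have hGG : g ∈ GG c4 isType.isCartan (TF K) (XF K) := by
    have h1 : RGDLib.G1 c4 isType.isCartan (XF K) ≤ GG c4 isType.isCartan (TF K) (XF K) :=
      RGD.Sup_le fun x hx => X_le_GG hx
    exact h1 (by rw [show RGDLib.G1 c4 isType.isCartan (XF K) = ⊤ from G1_eq_top isType c4]; exact Subgroup.mem_top g)
  have hTN : TF K ≤ Subgroup.normalizer (LK K : Set ↥(chevF4.group K)) := by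
    intro t ht
    rw [Subgroup.mem_normalizer_iff]
    intro y
    refine ⟨fun h => tor_L ht h, fun h => ?_⟩
    have h1 := tor_L (inv_mem ht) h
    have e : t⁻¹ * (t * y * t⁻¹) * t⁻¹⁻¹ = y := by group
    rwa [e] at h1
  have hBL : RGD.B c4 isType.isCartan (TF K) (XF K) ≤ TF K ⊔ LK K := sup_le_sup_left U_le_L _
  -- `B` permutes the mixed elements
  have hB : ∀ b ∈ RGD.B c4 isType.isCartan (TF K) (XF K), Mixed (b * w * b⁻¹) := by
    intro b hb
    obtain ⟨t, ht, u, hu, rfl⟩ := (rgd (K := K) isType c4 2).mem_B.1 hb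
    have h1 : t * u * w * (t * u)⁻¹ = t * w * t⁻¹ := by
      have h2 := L_commZ (U_le_L hu) hw.mem
      calc t * u * w * (t * u)⁻¹ = t * (u * w) * u⁻¹ * t⁻¹ := by group
        _ = _ := by rw [h2]; group
    rw [h1]
    exact hw.conj (fun y hy => tor_X ht (rv (by norm_num)) hy) (fun y hy => tor_X ht (rv (by norm_num)) hy)
  obtain ⟨x, b₁, hb₁, k, hk, b₂, hb₂, e⟩ := (mem_GG (rgd (K := K) isType c4 2)).1 hGG
  have h1 := mem_LJ_of_mixed hk _ _ (hB b₂ hb₂) (hB b₁⁻¹ (inv_mem hb₁)) (by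
    have e1 : k = b₁⁻¹ * g * b₂⁻¹ := by rw [e]; group
    rw [e1]
    calc b₁⁻¹ * g * b₂⁻¹ * (b₂ * w * b₂⁻¹) = b₁⁻¹ * (g * w) * b₂⁻¹ := by group
      _ = _ := by rw [hg]; group)
  have h2 : g ∈ TF K ⊔ LK K := by
    rw [e]
    exact mul_mem (mul_mem (hBL hb₁) (LJ_le h1)) (hBL hb₂)
  have h3 : g ∈ ((TF K ⊔ LK K : Subgroup ↥(chevF4.group K)) : Set ↥(chevF4.group K)) := h2
  rw [Subgroup.coe_mul_of_left_le_normalizer_right _ _ hTN] at h3
  obtain ⟨t, ht, y, hy, e2⟩ := h3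
  have h4 : t * w = w * t := by
    have h5 := L_commZ (K := K) hy hw.mem
    have h6 : t * w * y = w * t * y := by
      calc t * w * y = t * (w * y) := by group
        _ = (t * y) * w := by rw [← h5]; group
        _ = g * w := by rw [← e2]
        _ = w * g := hg
        _ = _ := by rw [← e2]; group
    exact mul_right_cancel h6
  rw [← e2]
  exact mul_mem (torus_mem_L hw ht h4) hy

theorem cent_mixed_iff {w : ↥(chevF4.group K)} (hw : Mixed w) {g : ↥(chevF4.group K)} :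
    g * w = w * g ↔ g ∈ LK K := ⟨cent_mixed hw, fun h => L_commZ h hw.mem⟩

end Cfsg.Agent.OddHalf.D4.F4Mixed
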