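import Cfsg.Agent.OddHalf.D4.F4Mixed

/-!
# `F₄(q)`, `q ≥ 4` even: noncentral normal subgroups of the centralisers of the elements of `Z(U)` contain `Z(U)`
(ODD, D4, LEMMA INPUT; helper949)

* `exists_two` : a normal subgroup `M` of `U`, `M ≰ Z(U)`, contains `b ∉ Z(U)` with `[b,U] ≤ Z(U)`;
* `Z_le_of_two` : if `N` is normalised by `LK` and contains such a `b`, then `Z(U) ≤ N`;
* `Z_le_of_normal` : the result, for `LK ≤ H`, `Q ≤ U` normal in `H`, `C(Q) ≤ U`.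
-/

set_option autoImplicit false
set_option Elab.async false
set_option linter.unusedSectionVars false

namespace Cfsg.Agent.OddHalf.D4.F4Nor

open CoxeterSystem Cfsg.Agent.ChevalleyStructure.CoxeterGeom Cfsg.Agent.Tits.Roots Cfsg.Agent.Tits.Core
open Cfsg.Lie Cfsg.Agent.ChevalleyStructure Cfsg.Agent.ChevalleyStructure.Elts
  Cfsg.Agent.ChevalleyStructure.RootVec Cfsg.Agent.ChevalleyStructure.CoxeterGeomTypes
open Cfsg.Agent.Nodes Cfsg.Agent.Nodes.Reps Cfsg.Agent.Nodes.BNOf Cfsg.Agent.Nodes.RGDChev Cfsg.Agent.Nodes.Coroot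
  Cfsg.Agent.Nodes.KindF Cfsg.Agent.Nodes.Bruhat Cfsg.Agent.KFacts.ChevTwo Cfsg.Agent.KFacts.ChevTwoTab
  Cfsg.Agent.KFacts.ChevTwoInst Cfsg.Agent.KFacts.RgdTI
  Cfsg.Agent.KFacts.F4Star Cfsg.Agent.KFacts.F4Cent Cfsg.Agent.KFacts.F4Pair Cfsg.Agent.KFacts.F4Torus
  Cfsg.Agent.KFacts.F4Perf Cfsg.Agent.OddHalf.D7F4.KFront Cfsg.Agent.OddHalf.D4.F4Mixed
open scoped commutatorElement

universe u

variable {K : Type u} [Field K] [Finite K] [CharP K 2]

/-! ### The commutators of `x₄₆`, `x₄₀` with Levi root elements -/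

theorem chk2 : (lin 1 44 1 46 1 19 && lin 1 42 1 46 2 19 && decide (carB chevF4 19 46 = -2) &&
    decide (carB chevF4 46 19 = -1) && lin 1 36 1 17 1 40 && lin 1 47 1 17 2 40 &&
    decide (carB chevF4 40 17 = -2) && decide (carB chevF4 17 40 = -1) && decide (carB chevF4 28 44 = 0) &&
    decide (carB chevF4 28 42 = -2) && decide (carB chevF4 28 47 = 0) && decide (carB chevF4 28 36 = -1) &&
    SM.testBit 28 && SM.testBit 19 && SM.testBit 17 && SM.testBit 24 && SM.testBit 33) = true := by decide +kernel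

theorem facts2 : v 44 = v 46 + v 19 ∧ v 42 = v 46 + (2 : ℤ) • v 19 ∧ cpr c4 isType.isCartan (v 46) (v 19) = -2 ∧
    cpr c4 isType.isCartan (v 19) (v 46) = -1 ∧ v 36 = v 17 + v 40 ∧ v 47 = v 17 + (2 : ℤ) • v 40 ∧
    cpr c4 isType.isCartan (v 17) (v 40) = -2 ∧ cpr c4 isType.isCartan (v 40) (v 17) = -1 ∧
    cpr c4 isType.isCartan (v 44) (v 28) = 0 ∧ cpr c4 isType.isCartan (v 42) (v 28) = -2 ∧
    cpr c4 isType.isCartan (v 47) (v 28) = 0 ∧ cpr c4 isType.isCartan (v 36) (v 28) = -1 ∧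
    v 28 ∈ SL ∧ v 19 ∈ SL ∧ v 17 ∈ SL ∧ v 24 ∈ SL ∧ v 33 ∈ SL := by
  have h := chk2
  simp only [Bool.and_eq_true, decide_eq_true_eq] at h
  obtain ⟨⟨⟨⟨⟨⟨⟨⟨⟨⟨⟨⟨⟨⟨⟨⟨h1, h2⟩, h3⟩, h4⟩, h5⟩, h6⟩, h7⟩, h8⟩, h9⟩, h10⟩, h11⟩, h12⟩, h13⟩, h14⟩, h15⟩, h16⟩, h17⟩ := h
  refine ⟨lin_one h1, lin_two h2, ?_, ?_, lin_one h5, lin_two h6, ?_, ?_, ?_, ?_, ?_, ?_, (mem_SL (by norm_num)).2 h13,
    (mem_SL (by norm_num)).2 h14, (mem_SL (by norm_num)).2 h15, (mem_SL (by norm_num)).2 h16,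
    (mem_SL (by norm_num)).2 h17⟩
  · rw [cpr_v c4 (by norm_num) (by norm_num)]; exact h3
  · rw [cpr_v c4 (by norm_num) (by norm_num)]; exact h4
  · rw [cpr_v c4 (by norm_num) (by norm_num)]; exact h7
  · rw [cpr_v c4 (by norm_num) (by norm_num)]; exact h8
  · rw [cpr_v c4 (by norm_num) (by norm_num)]; exact h9
  · rw [cpr_v c4 (by norm_num) (by norm_num)]; exact h10
  · rw [cpr_v c4 (by norm_num) (by norm_num)]; exact h11
  · rw [cpr_v c4 (by norm_num) (by norm_num)]; exact h12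

theorem c46_19 (a s : K) : ⁅eF K (v 46) a, eF K (v 19) s⁆ = eF K (v 44) (a * s) * eF K (v 42) (a * s ^ 2) := by
  obtain ⟨h1, h2, h3, h4, -⟩ := facts2
  rw [(dat (K := K)).comm2 _ _ (rv (by norm_num)) (rv (by norm_num)) h3 h4, ← h1, ← h2]

theorem c17_40 (s c : K) : ⁅eF K (v 17) s, eF K (v 40) c⁆ = eF K (v 36) (s * c) * eF K (v 47) (s * c ^ 2) := by
  obtain ⟨-, -, -, -, h1, h2, h3, h4, -⟩ := facts2
  rw [(dat (K := K)).comm2 _ _ (rv (by norm_num)) (rv (by norm_num)) h3 h4, ← h1, ← h2]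

theorem hel28_mem (l : K) : hel (eF K) (v 28) l ∈ LK K := by
  obtain ⟨-, -, -, -, -, -, -, -, -, -, -, -, h1, h2, -⟩ := facts2
  refine hel_mem_of c4 (rv (by norm_num)) h1 ?_ l
  rw [← v_neg (r := 28) (by norm_num)]; exact h2

/-- `[m z, u] = [m, u]` -/
theorem comm_z {m z u : ↥(chevF4.group K)} (hz : z ∈ ZK K) (hu : u ∈ LK K) : ⁅m * z, u⁆ = ⁅m, u⁆ := by
  have h1 := L_commZ hu hz
  rw [commutatorElement_def, commutatorElement_def]
  calc m * z * u * (m * z)⁻¹ * u⁻¹ = m * (z * u) * z⁻¹ * m⁻¹ * u⁻¹ := by group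
    _ = m * u * m⁻¹ * u⁻¹ := by rw [← h1]; group

theorem comm_z' {m z u : ↥(chevF4.group K)} (hz : z ∈ ZK K) (hu : u ∈ LK K) : ⁅u, m * z⁆ = ⁅u, m⁆ := by
  rw [← commutatorElement_inv, comm_z hz hu, commutatorElement_inv]

theorem exists_sqrt (x : K) : ∃ s : K, s ^ 2 = x := by
  have h1 : Function.Injective (frobenius K 2) := frobenius_inj K 2
  obtain ⟨s, hs⟩ := Finite.surjective_of_injective h1 x
  exact ⟨s, hs⟩

theorem mem_e {N : Subgroup ↥(chevF4.group K)} {r : ℕ} (hr : r < 48) (h : ∀ t : K, eF K (v r) t ∈ N) :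
    XF K (v r) ≤ N := by
  intro x hx
  obtain ⟨t, rfl⟩ := (mem_XF (rv hr)).1 hx
  exact h t

theorem add_ne {l : K} {k : ℤ} (h : l ^ k ≠ 1) : (1 : K) + l ^ k ≠ 0 := by
  intro h1
  apply h
  have h9 : (2 : K) = 0 := CharTwo.two_eq_zero
  linear_combination h1 - h9

/-- **`Z(U) ≤ N`** if `N` is normalised by `LK` and contains an element of the second centre outside `Z(U)`. -/
theorem Z_le_of_two (hK : 2 < Nat.card K) {N : Subgroup ↥(chevF4.group K)}
    (hN : ∀ y ∈ LK K, ∀ n ∈ N, y * n * y⁻¹ ∈ N) {b : ↥(chevF4.group K)} (hb : b ∈ N) (hbZ : b ∉ ZK K)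
    (hbU : ∀ u ∈ UK K, ⁅b, u⁆ ∈ ZK K) : ZK K ≤ N := by
  have D := dat (K := K)
  obtain ⟨l, hl, hl2⟩ := exists_zpow_ne hK
  have hcom : ∀ y ∈ LK K, ⁅b, y⁆ ∈ N := by
    intro y hy
    rw [commutatorElement_def]
    have e : b * y * b⁻¹ * y⁻¹ = b * (y * b⁻¹ * y⁻¹) := by group
    rw [e]
    exact mul_mem hb (hN y hy _ (inv_mem hb))
  have hcom' : ∀ y ∈ LK K, ⁅y, b⁆ ∈ N := fun y hy => by
    rw [← commutatorElement_inv]; exact inv_mem (hcom y hy)
  obtain ⟨a, c, z, hz, rfl⟩ := mem_Z2 hK hbU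
  obtain ⟨-, -, -, -, -, -, -, -, g1, g2, g3, g4, l28, l19, l17, l24, l33⟩ := facts2
  -- `X_ρ` from `a ≠ 0`
  have hρ : a ≠ 0 → X1 K ≤ N := by
    intro ha
    refine mem_e (by norm_num) fun s => ?_
    have h1 := hcom _ (e_mem_L (K := K) l24 (a⁻¹ * s))
    rw [comm_z hz (e_mem_L l24 _)] at h1
    have h2 : ⁅eF K (v 46) a * eF K (v 40) c, eF K (v 24) (a⁻¹ * s)⁆ = eF K (v 47) s := by
      obtain ⟨-, -, -, -, -, -, -, -, q2⟩ := chk_facts
      have q3 : eF K (v 40) c * eF K (v 24) (a⁻¹ * s) = eF K (v 24) (a⁻¹ * s) * eF K (v 40) c :=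
        D.comm_of_nonneg (rv (by norm_num)) (rv (by norm_num)) q2 _ _
      have q4 := c46_24 a (a⁻¹ * s)
      rw [mul_inv_cancel_left₀ ha] at q4
      rw [← q4, commutatorElement_def, commutatorElement_def]
      calc eF K (v 46) a * eF K (v 40) c * eF K (v 24) (a⁻¹ * s) * (eF K (v 46) a * eF K (v 40) c)⁻¹ *
            (eF K (v 24) (a⁻¹ * s))⁻¹
          = eF K (v 46) a * (eF K (v 40) c * eF K (v 24) (a⁻¹ * s)) * (eF K (v 40) c)⁻¹ * (eF K (v 46) a)⁻¹ *
            (eF K (v 24) (a⁻¹ * s))⁻¹ := by group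
        _ = _ := by rw [q3]; group
    rwa [h2] at h1
  -- `X_σ` from `c ≠ 0`
  have hσ : c ≠ 0 → X2 K ≤ N := by
    intro hc
    refine mem_e (by norm_num) fun s => ?_
    have h1 := hcom _ (e_mem_L (K := K) l33 (c⁻¹ * s))
    rw [comm_z hz (e_mem_L l33 _)] at h1
    have h2 : ⁅eF K (v 46) a * eF K (v 40) c, eF K (v 33) (c⁻¹ * s)⁆ = eF K (v 44) s := by
      obtain ⟨-, -, -, -, -, -, -, q1, -⟩ := chk_facts
      have q3 : eF K (v 46) a * eF K (v 33) (c⁻¹ * s) = eF K (v 33) (c⁻¹ * s) * eF K (v 46) a :=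
        D.comm_of_nonneg (rv (by norm_num)) (rv (by norm_num)) q1 _ _
      have q4 := c40_33 c (c⁻¹ * s)
      rw [mul_inv_cancel_left₀ hc] at q4
      have q5 : eF K (v 46) a * eF K (v 44) s = eF K (v 44) s * eF K (v 46) a :=
        (L_comm2 (U_le_L (e_mem_U (by norm_num) (by norm_num) a)) (e_mem_X (rv (by norm_num)) s))
      have q6 : eF K (v 40) c * eF K (v 33) (c⁻¹ * s) = eF K (v 44) s * eF K (v 33) (c⁻¹ * s) * eF K (v 40) c := by
        rw [← q4, commutatorElement_def]; group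
      rw [commutatorElement_def]
      calc eF K (v 46) a * eF K (v 40) c * eF K (v 33) (c⁻¹ * s) * (eF K (v 46) a * eF K (v 40) c)⁻¹ *
            (eF K (v 33) (c⁻¹ * s))⁻¹
          = eF K (v 46) a * (eF K (v 40) c * eF K (v 33) (c⁻¹ * s)) * (eF K (v 40) c)⁻¹ * (eF K (v 46) a)⁻¹ *
            (eF K (v 33) (c⁻¹ * s))⁻¹ := by group
        _ = (eF K (v 46) a * eF K (v 44) s) * eF K (v 33) (c⁻¹ * s) * (eF K (v 46) a)⁻¹ *
            (eF K (v 33) (c⁻¹ * s))⁻¹ := by rw [q6]; group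
        _ = eF K (v 44) s * (eF K (v 46) a * eF K (v 33) (c⁻¹ * s)) * (eF K (v 46) a)⁻¹ *
            (eF K (v 33) (c⁻¹ * s))⁻¹ := by rw [q5]; group
        _ = _ := by rw [q3]; group
    rwa [h2] at h1
  -- the torus element
  have htor : ∀ {r : ℕ}, r < 48 → ∀ t : K, hel (eF K) (v 28) l * eF K (v r) t * (hel (eF K) (v 28) l)⁻¹ =
      eF K (v r) (l ^ cpr c4 isType.isCartan (v r) (v 28) * t) := fun hr t =>
    D.hel_conj (rv hr) (rv (by norm_num)) hl t
  by_cases ha : a = 0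
  · by_cases hc : c = 0
    · exfalso
      apply hbZ
      rw [ha, hc, D.zero (rv (by norm_num)), D.zero (rv (by norm_num)), one_mul, one_mul]
      exact hz
    · -- `a = 0`
      have hs := hσ hc
      refine sup_le ?_ hs
      have hgen : ∀ t : K, eF K (v 36) (t * c) * eF K (v 47) (t * c ^ 2) ∈ N := by
        intro t
        have h1 := hcom' _ (e_mem_L (K := K) l17 t)
        rw [comm_z' hz (e_mem_L l17 _), ha, D.zero (rv (by norm_num)), one_mul, c17_40] at h1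
        exact h1
      have h36 : ∀ x : K, eF K (v 36) x ∈ N := by
        intro x
        have h4 : l ^ (-1 : ℤ) ≠ 1 := hl2 (-1) (by norm_num) (by norm_num) (by norm_num)
        set t : K := x * ((1 + l ^ (-1 : ℤ)) * c)⁻¹ with ht
        have hne : (1 + l ^ (-1 : ℤ)) * c ≠ 0 := mul_ne_zero (add_ne h4) hc
        have h1 := hN _ (hel28_mem l) _ (hgen t)
        have h2 : hel (eF K) (v 28) l * (eF K (v 36) (t * c) * eF K (v 47) (t * c ^ 2)) * (hel (eF K) (v 28) l)⁻¹ =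
            eF K (v 36) (l ^ (-1 : ℤ) * (t * c)) * eF K (v 47) (t * c ^ 2) := by
          have e1 := htor (r := 36) (by norm_num) (t * c)
          have e2 := htor (r := 47) (by norm_num) (t * c ^ 2)
          rw [g4] at e1
          rw [g3, zpow_zero, one_mul] at e2
          calc _ = (hel (eF K) (v 28) l * eF K (v 36) (t * c) * (hel (eF K) (v 28) l)⁻¹) *
                (hel (eF K) (v 28) l * eF K (v 47) (t * c ^ 2) * (hel (eF K) (v 28) l)⁻¹) := by group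
            _ = _ := by rw [e1, e2]
        rw [h2] at h1
        have h3 := mul_mem h1 (inv_mem (hgen t))
        have h5 : eF K (v 36) (l ^ (-1 : ℤ) * (t * c)) * eF K (v 47) (t * c ^ 2) *
            (eF K (v 36) (t * c) * eF K (v 47) (t * c ^ 2))⁻¹ = eF K (v 36) x := by
          rw [mul_inv_rev]
          calc _ = eF K (v 36) (l ^ (-1 : ℤ) * (t * c)) * (eF K (v 36) (t * c))⁻¹ := by group
            _ = eF K (v 36) (l ^ (-1 : ℤ) * (t * c) + t * c) := by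
                rw [D.inv (rv (by norm_num)), ← D.add _ (rv (by norm_num))]
            _ = _ := by
                congr 1
                have : l ^ (-1 : ℤ) * (t * c) + t * c = t * ((1 + l ^ (-1 : ℤ)) * c) := by ring
                rw [this, ht, inv_mul_cancel_right₀ hne]
        rwa [h5] at h3
      refine mem_e (by norm_num) fun x => ?_
      have h1 := hgen (x * (c ^ 2)⁻¹)
      rw [inv_mul_cancel_right₀ (pow_ne_zero 2 hc)] at h1
      exact (Subgroup.mul_mem_cancel_left _ (h36 _)).1 h1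
  · by_cases hc : c = 0
    · -- `c = 0`
      have hs := hρ ha
      refine sup_le hs ?_
      have hgen : ∀ s : K, eF K (v 44) (a * s) * eF K (v 42) (a * s ^ 2) ∈ N := by
        intro s
        have h1 := hcom _ (e_mem_L (K := K) l19 s)
        rw [comm_z hz (e_mem_L l19 _), hc, D.zero (rv (by norm_num)), mul_one, c46_19] at h1
        exact h1
      have h42 : ∀ x : K, eF K (v 42) x ∈ N := by
        intro x
        have h4 : l ^ (-2 : ℤ) ≠ 1 := hl2 (-2) (by norm_num) (by norm_num) (by norm_num)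
        have hne : (1 + l ^ (-2 : ℤ)) * a ≠ 0 := mul_ne_zero (add_ne h4) ha
        obtain ⟨s, hs⟩ := exists_sqrt (x * ((1 + l ^ (-2 : ℤ)) * a)⁻¹)
        have h1 := hN _ (hel28_mem l) _ (hgen s)
        have h2 : hel (eF K) (v 28) l * (eF K (v 44) (a * s) * eF K (v 42) (a * s ^ 2)) * (hel (eF K) (v 28) l)⁻¹ =
            eF K (v 44) (a * s) * eF K (v 42) (l ^ (-2 : ℤ) * (a * s ^ 2)) := by
          have e1 := htor (r := 42) (by norm_num) (a * s ^ 2)
          have e2 := htor (r := 44) (by norm_num) (a * s)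
          rw [g2] at e1
          rw [g1, zpow_zero, one_mul] at e2
          calc _ = (hel (eF K) (v 28) l * eF K (v 44) (a * s) * (hel (eF K) (v 28) l)⁻¹) *
                (hel (eF K) (v 28) l * eF K (v 42) (a * s ^ 2) * (hel (eF K) (v 28) l)⁻¹) := by group
            _ = _ := by rw [e1, e2]
        rw [h2] at h1
        have h3 := mul_mem (inv_mem (hgen s)) h1
        have h5 : (eF K (v 44) (a * s) * eF K (v 42) (a * s ^ 2))⁻¹ *
            (eF K (v 44) (a * s) * eF K (v 42) (l ^ (-2 : ℤ) * (a * s ^ 2))) = eF K (v 42) x := by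
          rw [mul_inv_rev]
          calc _ = (eF K (v 42) (a * s ^ 2))⁻¹ * eF K (v 42) (l ^ (-2 : ℤ) * (a * s ^ 2)) := by group
            _ = eF K (v 42) (a * s ^ 2 + l ^ (-2 : ℤ) * (a * s ^ 2)) := by
                rw [D.inv (rv (by norm_num)), ← D.add _ (rv (by norm_num))]
            _ = _ := by
                congr 1
                have : a * s ^ 2 + l ^ (-2 : ℤ) * (a * s ^ 2) = s ^ 2 * ((1 + l ^ (-2 : ℤ)) * a) := by ring
                rw [this, hs, inv_mul_cancel_right₀ hne]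
        rwa [h5] at h3
      refine mem_e (by norm_num) fun x => ?_
      have h1 := hgen (a⁻¹ * x)
      rw [mul_inv_cancel_left₀ ha] at h1
      exact (Subgroup.mul_mem_cancel_right _ (h42 _)).1 h1
    · exact sup_le (hρ ha) (hσ hc)

/-- An element of the second centre in a normal subgroup of `U`. -/
theorem exists_two {M : Subgroup ↥(chevF4.group K)} (hMU : M ≤ UK K) (hMn : ∀ u ∈ UK K, ∀ m ∈ M, u * m * u⁻¹ ∈ M)
    (hMZ : ¬ M ≤ ZK K) : ∃ b ∈ M, b ∉ ZK K ∧ ∀ u ∈ UK K, ⁅b, u⁆ ∈ ZK K := by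
  have : Fact (Nat.Prime 2) := ⟨Nat.prime_two⟩
  have hp : IsPGroup 2 ↥(UK K) := RGD.isPGroup_Upos (rgd (K := K) isType c4 2)
  have hnil : Group.IsNilpotent ↥(UK K) := hp.isNilpotent
  obtain ⟨n, hn⟩ := (Subgroup.isNilpotent_iff_lowerCentralSeries (S := UK K)).1 hnil
  let P : ℕ → Prop := fun k => ∃ b ∈ M, b ∉ ZK K ∧ b ∈ (UK K).lowerCentralSeries k
  have h0 : P 0 := by
    obtain ⟨b, hb, hbZ⟩ := Set.not_subset.1 hMZ
    exact ⟨b, hb, hbZ, hMU hb⟩
  have h1 : ¬ P n := by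
    rintro ⟨b, -, hbZ, hb⟩
    rw [hn, Subgroup.mem_bot] at hb
    apply hbZ
    rw [hb]; exact one_mem _
  obtain ⟨k, hk, hk'⟩ : ∃ k, P k ∧ ¬ P (k + 1) := by
    by_contra hcon
    push Not at hcon
    have h2 : ∀ k, P k := by
      intro k
      induction k with
      | zero => exact h0
      | succ k ih => exact hcon k ih
    exact h1 (h2 n)
  obtain ⟨b, hbM, hbZ, hbk⟩ := hk
  refine ⟨b, hbM, hbZ, fun u hu => ?_⟩
  by_contra hcon
  apply hk'
  refine ⟨⁅b, u⁆, ?_, hcon, ?_⟩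
  · rw [commutatorElement_def]
    have e : b * u * b⁻¹ * u⁻¹ = b * (u * b⁻¹ * u⁻¹) := by group
    rw [e]
    exact mul_mem hbM (hMn u hu _ (inv_mem hbM))
  · rw [Subgroup.lowerCentralSeries_succ]
    exact Subgroup.commutator_mem_commutator hbk hu

/-- **Noncentral normal subgroups of `H` contain `Z(U)`.** -/
theorem Z_le_of_normal (hK : 2 < Nat.card K) {H Q : Subgroup ↥(chevF4.group K)} (hLH : LK K ≤ H) (hQU : Q ≤ UK K)
    (hQn : ∀ y ∈ H, ∀ q ∈ Q, y * q * y⁻¹ ∈ Q) (hCQ : ∀ g, (∀ q ∈ Q, g * q = q * g) → g ∈ UK K)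
    (hmove : ∀ z ∈ ZK K, (∃ y ∈ H, y * z ≠ z * y) → ∃ y ∈ H, ⁅z, y⁆ ∈ UK K ∧ ⁅z, y⁆ ∉ ZK K)
    {N : Subgroup ↥(chevF4.group K)} (hNH : N ≤ H) (hNn : ∀ y ∈ H, ∀ n ∈ N, y * n * y⁻¹ ∈ N)
    (hnc : ∃ n ∈ N, ∃ y ∈ H, y * n ≠ n * y) : ZK K ≤ N := by
  have : Fact (Nat.Prime 2) := ⟨Nat.prime_two⟩
  have hUH : UK K ≤ H := U_le_L.trans hLH
  have hcomN : ∀ n ∈ N, ∀ y ∈ H, ⁅n, y⁆ ∈ N := by
    intro n hn y hy
    rw [commutatorElement_def]
    have e : n * y * n⁻¹ * y⁻¹ = n * (y * n⁻¹ * y⁻¹) := by group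
    rw [e]
    exact mul_mem hn (hNn y hy _ (inv_mem hn))
  by_cases hM : N ⊓ UK K ≤ ZK K
  · exfalso
    by_cases hcen : ∀ z ∈ N ⊓ UK K, ∀ y ∈ H, y * z = z * y
    · -- `N` is central
      have hsq : ∀ n ∈ N, ∀ q ∈ Q, n ^ 2 * q = q * n ^ 2 := by
        intro n hn q hq
        have h1 : ⁅n, q⁆ ∈ N ⊓ UK K := by
          refine ⟨hcomN n hn q (hUH (hQU hq)), ?_⟩
          rw [commutatorElement_def]
          exact (UK K).mul_mem (hQU (hQn n (hNH hn) q hq)) ((UK K).inv_mem (hQU hq))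
        obtain ⟨z, hz⟩ : ∃ z, z = ⁅n, q⁆ := ⟨_, rfl⟩
        rw [← hz] at h1
        have h2 : n * z = z * n := hcen z h1 n (hNH hn)
        have h3 : z * z = 1 := Zsq (hM h1)
        have h4 : n * q = z * q * n := by rw [hz, commutatorElement_def]; group
        calc n ^ 2 * q = n * (n * q) := by rw [pow_two]; group
          _ = (n * z) * q * n := by rw [h4]; group
          _ = z * (n * q) * n := by rw [h2]; group
          _ = (z * z) * q * n ^ 2 := by rw [h4, pow_two]; group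
          _ = q * n ^ 2 := by rw [h3, one_mul]
      have hN2 : IsPGroup 2 ↥N := by
        rintro ⟨n, hn⟩
        refine ⟨2, Subtype.ext ?_⟩
        have h1 : n ^ 2 ∈ N ⊓ UK K := ⟨pow_mem hn 2, hCQ _ (hsq n hn)⟩
        have h2 : n ^ 2 * n ^ 2 = 1 := Zsq (hM h1)
        show n ^ 2 ^ 2 = 1
        calc n ^ 2 ^ 2 = n ^ 2 * n ^ 2 := by group
          _ = 1 := h2
      have hUN : IsPGroup 2 ↥(N ⊔ UK K : Subgroup ↥(chevF4.group K)) := by
        apply IsPGroup.to_sup_of_normal_left' hN2 (RGD.isPGroup_Upos (rgd (K := K) isType c4 2))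
        intro u hu
        rw [Subgroup.mem_normalizer_iff]
        intro y
        refine ⟨fun h => hNn u (hUH hu) y h, fun h => ?_⟩
        have h1 := hNn u⁻¹ (inv_mem (hUH hu)) _ h
        have e : u⁻¹ * (u * y * u⁻¹) * u⁻¹⁻¹ = y := by group
        rwa [e] at h1
      have hle : N ≤ UK K := le_sup_left.trans ((kf0 (K := K) hK).maxU _ hUN le_sup_right)
      obtain ⟨n, hn, y, hy, hne⟩ := hnc
      exact hne (hcen n ⟨hn, hle hn⟩ y hy)
    · push Not at hcen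
      obtain ⟨z, hz, y, hy, hne⟩ := hcen
      obtain ⟨y', hy', h1, h2⟩ := hmove z (hM hz) ⟨y, hy, hne⟩
      exact h2 (hM ⟨hcomN z hz.1 y' hy', h1⟩)
  · obtain ⟨b, hb, hbZ, hbU⟩ := exists_two (M := N ⊓ UK K) inf_le_right (by
      rintro u hu m ⟨hm, hm'⟩
      exact Subgroup.mem_inf.2 ⟨hNn u (hUH hu) m hm, mul_mem (mul_mem hu hm') (inv_mem hu)⟩) hM
    exact Z_le_of_two hK (fun y hy n hn => hNn y (hLH hy) n hn) hb.1 hbZ hbU

end Cfsg.Agent.OddHalf.D4.F4Nor
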