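import Cfsg.Agent.OddHalf.D4.Basic
import Cfsg.Agent.OddHalf.D4.CommConj

/-!
# Commuting families of tightly embedded subgroups

`Δ` is an invariant family of subgroups of `G`, different members have no common involution, and a member
containing an involution which normalises another member commutes with it elementwise.  Every involution of a
member lies in a four-subgroup of it, and commuting members generate their direct product.  Then two involutions
in different members generating a 2-group commute.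
-/

set_option autoImplicit false

namespace Cfsg.Agent.OddHalf.D4.Fam

open Subgroup Cfsg.Agent.OddHalf.D4.CommConj

variable {G : Type*} [Group G]

/-- `u` is an involution -/
def Iv (u : G) : Prop := u * u = 1 ∧ u ≠ 1

theorem Iv.inv {u : G} (h : Iv u) : u⁻¹ = u := inv_eq_of_mul_eq_one_right h.1

theorem iv_iff {u : G} : Iv u ↔ orderOf u = 2 := by
  constructor
  · rintro ⟨h1, h2⟩
    exact orderOf_eq_prime (by rw [pow_two, h1]) h2
  · intro h
    refine ⟨?_, ?_⟩
    · rw [← pow_two, ← h]; exact pow_orderOf_eq_one u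
    · rintro rfl
      rw [orderOf_one] at h
      exact absurd h (by norm_num)

theorem Iv.conj {u : G} (h : Iv u) (g : G) : Iv (g * u * g⁻¹) := by
  refine ⟨?_, ?_⟩
  · calc g * u * g⁻¹ * (g * u * g⁻¹) = g * (u * u) * g⁻¹ := by group
      _ = 1 := by rw [h.1]; group
  · intro h1
    apply h.2
    calc u = g⁻¹ * (g * u * g⁻¹) * g := by group
      _ = 1 := by rw [h1]; group

/-- `D` and `E` commute elementwise -/
def Cm (D E : Subgroup G) : Prop := ∀ d ∈ D, ∀ e ∈ E, d * e = e * d

theorem Cm.symm {D E : Subgroup G} (h : Cm D E) : Cm E D := fun e he d hd => (h d hd e he).symm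

theorem Cm.cj {D E : Subgroup G} (h : Cm D E) (g : G) : Cm (cj g D) (cj g E) := by
  intro d hd e he
  rw [mem_cj] at hd he
  have h1 := h _ hd _ he
  calc d * e = g * ((g⁻¹ * d * g) * (g⁻¹ * e * g)) * g⁻¹ := by group
    _ = g * ((g⁻¹ * e * g) * (g⁻¹ * d * g)) * g⁻¹ := by rw [h1]
    _ = e * d := by group

theorem cj_one (D : Subgroup G) : cj (1 : G) D = D := by
  ext x
  rw [mem_cj]
  simp

/-- elements commuting with `D` normalise `D` -/
theorem cj_eq_of_forall {D : Subgroup G} {g : G} (h : ∀ d ∈ D, g * d = d * g) : cj g D = D := by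
  have key : ∀ d ∈ D, g * d * g⁻¹ = d := fun d hd => by rw [h d hd, mul_inv_cancel_right]
  ext x
  rw [mem_cj]
  constructor
  · intro hx
    have h1 := key _ hx
    have h2 : x = g * (g⁻¹ * x * g) * g⁻¹ := by group
    rw [h2, h1]
    exact hx
  · intro hx
    have h2 : g⁻¹ * x * g = x := by
      rw [mul_assoc, ← h x hx, inv_mul_cancel_left]
    rw [h2]
    exact hx

/-- A commuting family of tightly embedded subgroups. -/
structure CFam (Δ : Set (Subgroup G)) : Prop where
  conj : ∀ D ∈ Δ, ∀ g : G, cj g D ∈ Δ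
  ti : ∀ D ∈ Δ, ∀ E ∈ Δ, ∀ u ∈ D, u ∈ E → Iv u → D = E
  cp : ∀ D ∈ Δ, ∀ E ∈ Δ, D ≠ E → ∀ u ∈ D, Iv u → cj u E = E → Cm D E
  four : ∀ D ∈ Δ, ∀ u ∈ D, Iv u → ∃ x ∈ D, Iv x ∧ x ≠ u ∧ x * u = u * x
  dp : ∀ D ∈ Δ, ∀ C : Set (Subgroup G), C ⊆ Δ → D ∉ C → (∀ E ∈ C, Cm D E) →
    (∀ E ∈ C, ∀ F ∈ C, E ≠ F → Cm E F) → ∀ x ∈ D, x ∈ sSup C → x = 1

variable {Δ : Set (Subgroup G)}

namespace CFam

theorem cj_eq (h : CFam Δ) {E : Subgroup G} (hE : E ∈ Δ) {v g : G} (hv : v ∈ E) (hvi : Iv v)
    (hg : g * v = v * g) : cj g E = E := by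
  refine h.ti _ (h.conj E hE g) _ hE v ?_ hv hvi
  rw [mem_cj, mul_assoc, ← hg, inv_mul_cancel_left]
  exact hv

theorem cm_of_comm (h : CFam Δ) {D E : Subgroup G} (hD : D ∈ Δ) (hE : E ∈ Δ) (hne : D ≠ E) {u v : G}
    (hu : u ∈ D) (hui : Iv u) (hv : v ∈ E) (hvi : Iv v) (huv : u * v = v * u) : Cm D E :=
  h.cp D hD E hE hne u hu hui (h.cj_eq hE hv hvi huv)

/-- **L1.** Involutions in different members do not have a product of order 4. -/
theorem cm_of_four (h : CFam Δ) {D E : Subgroup G} (hD : D ∈ Δ) (hE : E ∈ Δ) (hne : D ≠ E) {u v : G}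
    (hu : u ∈ D) (hui : Iv u) (hv : v ∈ E) (hvi : Iv v)
    (h4 : u * v * (u * v) * (u * v * (u * v)) = 1) : Cm D E := by
  by_contra hcm
  have A1 : ∀ x ∈ D, Iv x → cj x E ≠ E := fun x hx hxi he => hcm (h.cp D hD E hE hne x hx hxi he)
  have A2 : ∀ y ∈ E, Iv y → cj y D ≠ D :=
    fun y hy hyi he => hcm (h.cp E hE D hD hne.symm y hy hyi he).symm
  have hvv := hvi.1
  have huu := hui.1
  -- `D` and `D^v` commute
  have hu' : v * u * v ∈ cj v D := by
    rw [mem_cj, hvi.inv]
    have : v * (v * u * v) * v = (v * v) * u * (v * v) := by group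
    rw [this, hvv, one_mul, mul_one]
    exact hu
  have hui' : Iv (v * u * v) := by
    have := hui.conj v
    rwa [hvi.inv] at this
  have hcomm1 : u * (v * u * v) = v * u * v * u := by
    have h1 : u * (v * u * v) * (u * (v * u * v)) = 1 := by
      calc u * (v * u * v) * (u * (v * u * v)) = u * v * (u * v) * (u * v * (u * v)) := by group
        _ = 1 := h4
    have h2 : u * (v * u * v) = (u * (v * u * v))⁻¹ := eq_inv_of_mul_eq_one_left h1
    rw [mul_inv_rev, hui'.inv, hui.inv] at h2
    exact h2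
  have hDD : Cm D (cj v D) :=
    h.cm_of_comm hD (h.conj D hD v) (A2 v hv hvi).symm hu hui hu' hui' hcomm1
  have hmem' : ∀ x ∈ D, v * x * v ∈ cj v D := by
    intro x hx
    rw [mem_cj, hvi.inv]
    have : v * (v * x * v) * v = (v * v) * x * (v * v) := by group
    rw [this, hvv, one_mul, mul_one]
    exact hx
  -- `E` and `E^x` commute
  have hEE : ∀ x ∈ D, Iv x → Cm E (cj x E) := by
    intro x hx hxi
    have hvx : x * v * x ∈ cj x E := by
      rw [mem_cj, hxi.inv]
      have : x * (x * v * x) * x = (x * x) * v * (x * x) := by group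
      rw [this, hxi.1, one_mul, mul_one]
      exact hv
    have hvxi : Iv (x * v * x) := by
      have := hvi.conj x
      rwa [hxi.inv] at this
    refine h.cm_of_comm hE (h.conj E hE x) (A1 x hx hxi).symm hv hvi hvx hvxi ?_
    have h1 := hDD x hx _ (hmem' x hx)
    calc v * (x * v * x) = v * x * v * x := by group
      _ = x * (v * x * v) := h1.symm
      _ = x * v * x * v := by group
  obtain ⟨x, hx, hxi, hxu, hxc⟩ := h.four D hD u hu hui
  have huxi : Iv (u * x) := by
    refine ⟨?_, ?_⟩
    · calc u * x * (u * x) = u * (x * u) * x := by group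
        _ = u * (u * x) * x := by rw [hxc]
        _ = (u * u) * (x * x) := by group
        _ = 1 := by rw [huu, hxi.1, one_mul]
    · intro h1
      apply hxu
      have := eq_inv_of_mul_eq_one_right h1
      rw [this, hui.inv]
  have hux : u * x ∈ D := D.mul_mem hu hx
  have c2 := hEE u hu hui
  have c3 := hEE x hx hxi
  have c4 := hEE _ hux huxi
  have e23 : cj x E = cj u (cj (u * x) E) := by
    rw [← cj_mul, ← mul_assoc, huu, one_mul]
  have c23 : Cm (cj u E) (cj x E) := by
    rw [e23]; exact c4.cj u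
  have e24 : cj (u * x) E = cj u (cj x E) := by rw [← cj_mul]
  have c24 : Cm (cj u E) (cj (u * x) E) := by
    rw [e24]; exact c3.cj u
  have e34 : cj (u * x) E = cj x (cj u E) := by rw [← cj_mul, hxc]
  have c34 : Cm (cj x E) (cj (u * x) E) := by
    rw [e34]; exact c2.cj x
  -- the relation
  have hx' := hDD u hu _ (hmem' x hx)
  have hrel : u * x * v * (u * x)⁻¹ = u * v * u * v * (x * v * x) := by
    rw [huxi.inv]
    have h1 : v * (u * x * v * (u * x)) = v * (u * v * u * v * (x * v * x)) := by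
      calc v * (u * x * v * (u * x)) = v * u * x * v * u * x := by group
        _ = v * u * (v * v) * x * v * u * x := by rw [hvv, mul_one]
        _ = v * u * v * ((v * x * v) * u) * x := by group
        _ = v * u * v * (u * (v * x * v)) * x := by rw [hx']
        _ = v * (u * v * u * v * (x * v * x)) := by group
    exact mul_left_cancel h1
  have hv2 : v = u * v * u * (u * x * v * (u * x)⁻¹) * (x * v * x) := by
    rw [hrel]
    calc v = v * (x * x) := by rw [hxi.1, mul_one]
      _ = v * (x * v * v * x) := by rw [mul_assoc x v v, hvv, mul_one]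
      _ = v * (x * v * (x * x) * v * x) := by rw [hxi.1, mul_one]
      _ = (u * v * (u * u) * v * u) * v * (x * v * (x * x) * v * x) := by
          rw [huu, mul_one, mul_assoc u v v, hvv, mul_one, huu, one_mul]
      _ = u * v * u * (u * v * u * v * (x * v * x)) * (x * v * x) := by group
  have hfin : v = 1 := by
    refine h.dp E hE {cj u E, cj x E, cj (u * x) E} ?_ ?_ ?_ ?_ v hv ?_
    · rintro F (rfl | rfl | rfl)
      · exact h.conj E hE u
      · exact h.conj E hE x
      · exact h.conj E hE _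
    · rintro (h1 | h1 | h1)
      · exact A1 u hu hui h1.symm
      · exact A1 x hx hxi h1.symm
      · exact A1 _ hux huxi h1.symm
    · rintro F (rfl | rfl | rfl)
      · exact c2
      · exact c3
      · exact c4
    · rintro F (rfl | rfl | rfl) F' (rfl | rfl | rfl) hFF
      · exact absurd rfl hFF
      · exact c23
      · exact c24
      · exact c23.symm
      · exact absurd rfl hFF
      · exact c34
      · exact c24.symm
      · exact c34.symm
      · exact absurd rfl hFF
    · have m2 : u * v * u ∈ cj u E := by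
        have := mem_cj_mul (g := u) hv
        rwa [hui.inv] at this
      have m3 : x * v * x ∈ cj x E := by
        have := mem_cj_mul (g := x) hv
        rwa [hxi.inv] at this
      have m4 : u * x * v * (u * x)⁻¹ ∈ cj (u * x) E := mem_cj_mul hv
      rw [hv2]
      refine mul_mem (mul_mem ?_ ?_) ?_
      · exact le_sSup (a := cj u E) (by simp) m2
      · exact le_sSup (a := cj (u * x) E) (by simp) m4
      · exact le_sSup (a := cj x E) (by simp) m3
  exact hvi.2 hfin

/-- **L2.** Involutions in different members generating a 2-group commute. -/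
theorem cm_of_two (h : CFam Δ) {D E : Subgroup G} (hD : D ∈ Δ) (hE : E ∈ Δ) (hne : D ≠ E) {u v : G}
    (hu : u ∈ D) (hui : Iv u) (hv : v ∈ E) (hvi : Iv v) (h2 : ∃ k : ℕ, (u * v) ^ 2 ^ k = 1) :
    Cm D E := by
  classical
  set k := Nat.find h2 with hk
  have hk1 : (u * v) ^ 2 ^ k = 1 := Nat.find_spec h2
  by_cases hk2 : k ≤ 2
  · apply h.cm_of_four hD hE hne hu hui hv hvi
    have h1 : (u * v) ^ 4 = 1 := by
      obtain ⟨m, hm⟩ := Nat.exists_eq_add_of_le hk2
      have : (4 : ℕ) = 2 ^ k * 2 ^ m := by rw [← pow_add, ← hm]; norm_num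
      rw [this, pow_mul, hk1, one_pow]
    calc u * v * (u * v) * (u * v * (u * v)) = (u * v) ^ 4 := by
          rw [show (4 : ℕ) = 2 + 2 from rfl, pow_add, pow_two]
      _ = 1 := h1
  · exfalso
    push Not at hk2
    obtain ⟨m, hm⟩ := Nat.exists_eq_add_of_le hk2
    set σ := (u * v) ^ 2 ^ m with hσ
    have hσ8 : (σ * σ) * (σ * σ) * ((σ * σ) * (σ * σ)) = 1 := by
      have : σ ^ 8 = 1 := by
        rw [hσ, ← pow_mul, show 2 ^ m * 8 = 2 ^ k from by rw [hm, pow_add]; norm_num; ring]
        exact hk1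
      calc (σ * σ) * (σ * σ) * ((σ * σ) * (σ * σ)) = σ ^ 8 := by
            rw [show (8 : ℕ) = 2 * 2 * 2 from rfl, pow_mul, pow_mul, pow_two, pow_two, pow_two]
        _ = 1 := this
    have hσ4 : (σ * σ) * (σ * σ) ≠ 1 := by
      intro h1
      have h3 : (u * v) ^ 2 ^ (m + 2) = 1 := by
        rw [pow_add, pow_mul, ← hσ]
        calc σ ^ 2 ^ 2 = (σ * σ) * (σ * σ) := by
              rw [show (2 : ℕ) ^ 2 = 2 * 2 from rfl, pow_mul, pow_two, pow_two]
          _ = 1 := h1
      have h4 : ¬ (u * v) ^ 2 ^ (m + 2) = 1 := Nat.find_min h2 (by omega)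
      exact h4 h3
    have hinvu : u * σ⁻¹ * u = σ := by
      have h1 : u * (u * v)⁻¹ * u = u * v := by
        rw [mul_inv_rev, hui.inv, hvi.inv]
        calc u * (v * u) * u = u * v * (u * u) := by group
          _ = u * v := by rw [hui.1, mul_one]
      have h3 : ∀ j : ℕ, u * ((u * v) ^ j)⁻¹ * u = (u * v) ^ j := by
        intro j
        induction j with
        | zero => simp [hui.1]
        | succ j ih =>
          rw [pow_succ, mul_inv_rev]
          calc u * ((u * v)⁻¹ * ((u * v) ^ j)⁻¹) * u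
              = u * (u * v)⁻¹ * 1 * ((u * v) ^ j)⁻¹ * u := by group
            _ = u * (u * v)⁻¹ * (u * u) * ((u * v) ^ j)⁻¹ * u := by rw [hui.1]
            _ = (u * (u * v)⁻¹ * u) * (u * ((u * v) ^ j)⁻¹ * u) := by group
            _ = (u * v) * (u * v) ^ j := by rw [h1, ih]
            _ = (u * v) ^ j * (u * v) := by rw [← pow_succ', pow_succ]
      exact h3 _
    have hinvv : v * σ⁻¹ * v = σ := by
      have h1 : v * (u * v)⁻¹ * v = u * v := by
        rw [mul_inv_rev, hui.inv, hvi.inv]
        calc v * (v * u) * v = (v * v) * u * v := by group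
          _ = u * v := by rw [hvi.1, one_mul]
      have h3 : ∀ j : ℕ, v * ((u * v) ^ j)⁻¹ * v = (u * v) ^ j := by
        intro j
        induction j with
        | zero => simp [hvi.1]
        | succ j ih =>
          rw [pow_succ, mul_inv_rev]
          calc v * ((u * v)⁻¹ * ((u * v) ^ j)⁻¹) * v
              = v * (u * v)⁻¹ * 1 * ((u * v) ^ j)⁻¹ * v := by group
            _ = v * (u * v)⁻¹ * (v * v) * ((u * v) ^ j)⁻¹ * v := by rw [hvi.1]
            _ = (v * (u * v)⁻¹ * v) * (v * ((u * v) ^ j)⁻¹ * v) := by group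
            _ = (u * v) * (u * v) ^ j := by rw [h1, ih]
            _ = (u * v) ^ j * (u * v) := by rw [← pow_succ', pow_succ]
      exact h3 _
    -- the common argument
    have key : ∀ F ∈ Δ, ∀ w ∈ F, Iv w → w * σ⁻¹ * w = σ → σ * σ ∈ F := by
      intro F hF w hw hwi hinv
      have hprod : w * (σ⁻¹ * w * σ) = σ * σ := by
        calc w * (σ⁻¹ * w * σ) = w * σ⁻¹ * w * σ := by group
          _ = σ * σ := by rw [hinv]
      have hw' : σ⁻¹ * w * σ ∈ cj σ⁻¹ F := by
        rw [mem_cj]
        have : σ⁻¹⁻¹ * (σ⁻¹ * w * σ) * σ⁻¹ = w := by group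
        rw [this]; exact hw
      have hwi' : Iv (σ⁻¹ * w * σ) := by
        have := hwi.conj σ⁻¹
        rwa [inv_inv] at this
      by_cases hFF : F = cj σ⁻¹ F
      · rw [← hFF] at hw'
        rw [← hprod]
        exact F.mul_mem hw hw'
      · exfalso
        have hc : Cm F (cj σ⁻¹ F) := by
          apply h.cm_of_four hF (h.conj F hF _) hFF hw hwi hw' hwi'
          rw [hprod]
          exact hσ8
        have h1 := hc w hw _ hw'
        apply hσ4
        calc (σ * σ) * (σ * σ) = w * (σ⁻¹ * w * σ) * (w * (σ⁻¹ * w * σ)) := by rw [hprod]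
          _ = w * (σ⁻¹ * w * σ) * (σ⁻¹ * w * σ * w) := by rw [h1]
          _ = w * ((σ⁻¹ * w * σ) * (σ⁻¹ * w * σ)) * w := by group
          _ = 1 := by rw [hwi'.1, mul_one, hwi.1]
    have hD2 := key D hD u hu hui hinvu
    have hE2 := key E hE v hv hvi hinvv
    exact hne (h.ti D hD E hE _ (D.mul_mem hD2 hD2) (E.mul_mem hE2 hE2) ⟨hσ8, hσ4⟩)

end CFam

end Cfsg.Agent.OddHalf.D4.Fam
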