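import Cfsg.Prelude.Def_TwoFusion
import Cfsg.Agent.OddHalf.D4.Fam

/-!
# Commuting families of tightly embedded subgroups: a strongly closed subgroup

`Δ` is a commuting family (`CFam`), and for commuting members `D ≠ E` the centraliser of a product `d e` of
involutions `d ∈ D`, `e ∈ E` permutes `{d, e}` (`PairFix`).  Let `Dl T` be the set of the members of `Δ` with an
involution in `T`.  For a Sylow 2-subgroup `S` the intersection of `S` with the product of the members of `Dl S` is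
strongly closed in `S`.
-/

set_option autoImplicit false

namespace Cfsg.Agent.OddHalf.D4.FamClosed

open Subgroup Cfsg.Agent.OddHalf.D4.CommConj Cfsg.Agent.OddHalf.D4.Fam Cfsg.Agent.OddHalf.D4.Basic

variable {G : Type*} [Group G]

/-- centralisers of products of two involutions in commuting members -/
def PairFix (Δ : Set (Subgroup G)) : Prop :=
  ∀ D ∈ Δ, ∀ E ∈ Δ, D ≠ E → Cm D E → ∀ d ∈ D, Iv d → ∀ e ∈ E, Iv e → ∀ g : G,
    g * (d * e) = (d * e) * g → g * d * g⁻¹ = d ∨ g * d * g⁻¹ = e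

/-- the members of `Δ` with an involution in `T` -/
def Dl (Δ : Set (Subgroup G)) (T : Subgroup G) : Set (Subgroup G) :=
  {D | D ∈ Δ ∧ ∃ u ∈ D, u ∈ T ∧ Iv u}

variable {Δ : Set (Subgroup G)}

theorem Dl_mono {T T' : Subgroup G} (h : T ≤ T') : Dl Δ T ⊆ Dl Δ T' := by
  rintro D ⟨hD, u, hu, huT, hui⟩
  exact ⟨hD, u, hu, h huT, hui⟩

theorem mem_Dl_cj (h : CFam Δ) {T D : Subgroup G} (hD : D ∈ Dl Δ T) (g : G) :
    cj g D ∈ Dl Δ (cj g T) := by
  obtain ⟨hD, u, hu, huT, hui⟩ := hD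
  exact ⟨h.conj D hD g, g * u * g⁻¹, mem_cj_mul hu, mem_cj_mul huT, hui.conj g⟩

theorem cj_cj_inv (g : G) (D : Subgroup G) : cj g (cj g⁻¹ D) = D := by
  rw [← cj_mul, mul_inv_cancel, cj_one]

theorem cj_inv_cj (g : G) (D : Subgroup G) : cj g⁻¹ (cj g D) = D := by
  rw [← cj_mul, inv_mul_cancel, cj_one]

theorem Dl_cj (h : CFam Δ) (g : G) (T : Subgroup G) : Dl Δ (cj g T) = (cj g) '' Dl Δ T := by
  ext D
  constructor
  · intro hD
    refine ⟨cj g⁻¹ D, ?_, cj_cj_inv g D⟩
    have h1 := mem_Dl_cj h hD g⁻¹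
    rwa [cj_inv_cj] at h1
  · rintro ⟨E, hE, rfl⟩
    exact mem_Dl_cj h hE g

theorem cj_injective (g : G) : Function.Injective (cj g : Subgroup G → Subgroup G) := by
  intro D E hDE
  have : cj g⁻¹ (cj g D) = cj g⁻¹ (cj g E) := by rw [hDE]
  rwa [cj_inv_cj, cj_inv_cj] at this

theorem ncard_Dl_cj (h : CFam Δ) (g : G) (T : Subgroup G) :
    (Dl Δ (cj g T)).ncard = (Dl Δ T).ncard := by
  rw [Dl_cj h, Set.ncard_image_of_injective _ (cj_injective g)]

/-- the product of the members of `Dl T` -/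
def Y (Δ : Set (Subgroup G)) (T : Subgroup G) : Subgroup G := sSup (Dl Δ T)

theorem mem_Y_cj (h : CFam Δ) {T : Subgroup G} {w : G} (hw : w ∈ Y Δ T) (g : G) :
    g * w * g⁻¹ ∈ Y Δ (cj g T) := by
  have h1 : Y Δ T ≤ (Y Δ (cj g T)).comap (MulAut.conj g).toMonoidHom := by
    apply sSup_le
    intro D hD x hx
    rw [mem_comap]
    exact le_sSup (mem_Dl_cj h hD g) (mem_cj_mul hx)
  exact h1 hw

theorem cj_self_of_mem {T : Subgroup G} {t : G} (ht : t ∈ T) : cj t T = T := by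
  ext x
  rw [mem_cj]
  constructor
  · intro hx
    have : x = t * (t⁻¹ * x * t) * t⁻¹ := by group
    rw [this]
    exact T.mul_mem (T.mul_mem ht hx) (T.inv_mem ht)
  · intro hx
    exact T.mul_mem (T.mul_mem (T.inv_mem ht) hx) ht

theorem cj_mem_Dl (h : CFam Δ) {T D : Subgroup G} (hD : D ∈ Dl Δ T) {t : G} (ht : t ∈ T) :
    cj t D ∈ Dl Δ T := by
  have := mem_Dl_cj h hD t
  rwa [cj_self_of_mem ht] at this

/-- members with involutions in a 2-group commute -/
theorem Dl_cm (h : CFam Δ) {T : Subgroup G} (hT : IsPGroup 2 ↥T) {D E : Subgroup G}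
    (hD : D ∈ Dl Δ T) (hE : E ∈ Dl Δ T) (hne : D ≠ E) : Cm D E := by
  obtain ⟨hD, u, hu, huT, hui⟩ := hD
  obtain ⟨hE, v, hv, hvT, hvi⟩ := hE
  refine h.cm_of_two hD hE hne hu hui hv hvi ?_
  obtain ⟨k, hk⟩ := hT ⟨u * v, T.mul_mem huT hvT⟩
  exact ⟨k, congrArg Subtype.val hk⟩

/-- elements of `Y T` normalise the members of `Dl T` -/
theorem cj_eq_of_mem_Y (h : CFam Δ) {T : Subgroup G} (hT : IsPGroup 2 ↥T) {D : Subgroup G}
    (hD : D ∈ Dl Δ T) {w : G} (hw : w ∈ Y Δ T) : cj w D = D := by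
  have h1 : Y Δ T ≤ normalizer (D : Set G) := by
    apply sSup_le
    intro E hE
    by_cases hne : E = D
    · rw [hne]; exact le_normalizer
    · intro e he
      apply mem_normalizer_of_cj_eq
      exact cj_eq_of_forall (fun d hd => Dl_cm h hT hE hD hne e he d hd)
  exact cj_eq_of_mem_normalizer (h1 hw)

theorem exists_fix [Finite G] {T : Subgroup G} (hT : IsPGroup 2 ↥T) {D : Subgroup G}
    (hD : D ∈ Dl Δ T) {t : G} (ht : t ∈ T) (htD : cj t D = D) :
    ∃ u ∈ D, u ∈ T ∧ Iv u ∧ t * u = u * t := by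
  obtain ⟨_, u, hu, huT, hui⟩ := hD
  let T' : Subgroup G := T ⊓ normalizer (D : Set G)
  have hT' : IsPGroup 2 ↥T' := hT.to_le inf_le_left
  have htT' : t ∈ T' := ⟨ht, mem_normalizer_of_cj_eq htD⟩
  have hN : D ⊓ T ≤ T' := fun x hx => ⟨hx.2, le_normalizer hx.1⟩
  have hne : D ⊓ T ≠ ⊥ := by
    intro h0
    have : u ∈ D ⊓ T := ⟨hu, huT⟩
    rw [h0, mem_bot] at this
    exact hui.2 this
  obtain ⟨z, hz, hz2, hzc⟩ := exists_central_invol hT' hN hne (by
    rintro s ⟨hs1, hs2⟩ n ⟨hn1, hn2⟩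
    exact ⟨(mem_normalizer_iff.mp hs2 n).mp hn1, T.mul_mem (T.mul_mem hs1 hn2) (T.inv_mem hs1)⟩)
  exact ⟨z, hz.1, hz.2, iv_iff.mpr hz2, hzc t htT'⟩

theorem Dl_finite [Finite G] (T : Subgroup G) : (Dl Δ T).Finite := Set.toFinite _

theorem ncard_Dl_sylow [Finite G] (h : CFam Δ) (S S' : Sylow 2 G) :
    (Dl Δ (S' : Subgroup G)).ncard = (Dl Δ (S : Subgroup G)).ncard := by
  have : Fact (Nat.Prime 2) := ⟨Nat.prime_two⟩
  obtain ⟨g, hg⟩ := MulAction.exists_smul_eq G S S'
  rw [← hg, Sylow.coe_subgroup_smul]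
  exact ncard_Dl_cj h g _

/-- **L4.** For `w ∈ S ∩ Y S`, `r = w^g` and a 2-group `Q` centralising `r` there is a 2-group `T ≥ Q` centralising
`r` with `r ∈ Y T` and `|Dl T| = |Dl S|`. -/
theorem exists_good [Finite G] (h : CFam Δ) (S : Sylow 2 G) {w : G} (hwS : w ∈ S)
    (hwY : w ∈ Y Δ (S : Subgroup G)) (g : G) (Q : Subgroup G) (hQ : IsPGroup 2 ↥Q)
    (hQr : ∀ q ∈ Q, q * (g * w * g⁻¹) = (g * w * g⁻¹) * q) :
    ∃ T : Subgroup G, IsPGroup 2 ↥T ∧ Q ≤ T ∧ (∀ t ∈ T, t * (g * w * g⁻¹) = (g * w * g⁻¹) * t) ∧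
      g * w * g⁻¹ ∈ Y Δ T ∧ (Dl Δ T).ncard = (Dl Δ (S : Subgroup G)).ncard := by
  have : Fact (Nat.Prime 2) := ⟨Nat.prime_two⟩
  have hC : IsPGroup 2 ↥((S : Subgroup G) ⊓ centralizer {w}) := S.2.to_le inf_le_left
  obtain ⟨T0, hT0, hle⟩ := exists_isSyl hC (M := centralizer {w}) inf_le_right
  obtain ⟨S0, hS0⟩ := hT0.two.exists_le_sylow
  have h1 : Dl Δ (S : Subgroup G) ⊆ Dl Δ T0 := by
    intro D hD
    obtain ⟨u, hu, huS, hui, huw⟩ := exists_fix S.2 hD hwS (cj_eq_of_mem_Y h S.2 hD hwY)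
    exact ⟨hD.1, u, hu, hle ⟨huS, mem_centralizer_singleton_iff.mpr huw.symm⟩, hui⟩
  have h2 : Dl Δ T0 ⊆ Dl Δ (S0 : Subgroup G) := Dl_mono hS0
  have h3 : Dl Δ (S : Subgroup G) = Dl Δ (S0 : Subgroup G) :=
    Set.eq_of_subset_of_ncard_le (h1.trans h2) (ncard_Dl_sylow h S S0).le (Dl_finite _)
  have h4 : Dl Δ T0 = Dl Δ (S : Subgroup G) := by
    apply Set.Subset.antisymm
    · rw [h3]; exact h2
    · exact h1
  have hwT0 : w ∈ Y Δ T0 := by unfold Y at hwY ⊢; rw [h4]; exact hwY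
  -- conjugate `Q`
  have hQ0 : IsPGroup 2 ↥(cj g⁻¹ Q) := hQ.map _
  have hQ0C : cj g⁻¹ Q ≤ centralizer {w} := by
    intro q hq
    rw [mem_cj, inv_inv] at hq
    have h5 := hQr _ hq
    rw [mem_centralizer_singleton_iff]
    calc q * w = g⁻¹ * ((g * q * g⁻¹) * (g * w * g⁻¹)) * g := by group
      _ = g⁻¹ * ((g * w * g⁻¹) * (g * q * g⁻¹)) * g := by rw [h5]
      _ = w * q := by group
  obtain ⟨m, hm, hmq⟩ := hT0.conj_into hQ0 hQ0C
  rw [mem_centralizer_singleton_iff] at hm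
  have hr : (g * m⁻¹) * w * (g * m⁻¹)⁻¹ = g * w * g⁻¹ := by
    have : m⁻¹ * w * m = w := by rw [mul_assoc, ← hm, inv_mul_cancel_left]
    calc (g * m⁻¹) * w * (g * m⁻¹)⁻¹ = g * (m⁻¹ * w * m) * g⁻¹ := by group
      _ = g * w * g⁻¹ := by rw [this]
  refine ⟨cj (g * m⁻¹) T0, hT0.two.map _, ?_, ?_, ?_, ?_⟩
  · intro q hq
    rw [mem_cj]
    have h6 := hmq (g⁻¹ * q * g) (by
      rw [mem_cj, inv_inv]
      have : g * (g⁻¹ * q * g) * g⁻¹ = q := by group
      rw [this]; exact hq)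
    have : (g * m⁻¹)⁻¹ * q * (g * m⁻¹) = m * (g⁻¹ * q * g) * m⁻¹ := by group
    rw [this]; exact h6
  · intro t ht
    rw [mem_cj] at ht
    have h7 := hT0.le ht
    rw [mem_centralizer_singleton_iff] at h7
    rw [← hr]
    calc t * (g * m⁻¹ * w * (g * m⁻¹)⁻¹)
        = (g * m⁻¹) * (((g * m⁻¹)⁻¹ * t * (g * m⁻¹)) * w) * (g * m⁻¹)⁻¹ := by group
      _ = (g * m⁻¹) * (w * ((g * m⁻¹)⁻¹ * t * (g * m⁻¹))) * (g * m⁻¹)⁻¹ := by rw [h7]
      _ = g * m⁻¹ * w * (g * m⁻¹)⁻¹ * t := by group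
  · rw [← hr]; exact mem_Y_cj h hwT0 _
  · rw [ncard_Dl_cj h, h4]

/-- **L5**, one step. -/
theorem fix_step [Finite G] (h : CFam Δ) (hP : PairFix Δ) (S : Sylow 2 G) {w : G} (hwS : w ∈ S)
    (hwY : w ∈ Y Δ (S : Subgroup G)) (g : G) (hr : g * w * g⁻¹ ∈ S) {D : Subgroup G}
    (hD : D ∈ Dl Δ (S : Subgroup G)) (h2 : cj (g * w * g⁻¹ * (g * w * g⁻¹)) D = D) :
    cj (g * w * g⁻¹) D = D := by
  by_contra hne
  set r := g * w * g⁻¹ with hrdef
  have hD2 : cj r D ∈ Dl Δ (S : Subgroup G) := cj_mem_Dl h hD hr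
  have hDD : Cm D (cj r D) := Dl_cm h S.2 hD hD2 (Ne.symm hne)
  obtain ⟨x, hx, hxS, hxi, hxr⟩ := exists_fix S.2 hD (S.1.mul_mem hr hr) h2
  set x' := r * x * r⁻¹ with hx'def
  have hx' : x' ∈ cj r D := mem_cj_mul hx
  have hxi' : Iv x' := hxi.conj r
  have hxx := hDD x hx x' hx'
  have hrx' : r * x' * r⁻¹ = x := by
    calc r * x' * r⁻¹ = (r * r * x) * (r * r)⁻¹ := by rw [hx'def]; group
      _ = x * (r * r) * (r * r)⁻¹ := by rw [hxr]
      _ = x := by group
  have hxx' : x ≠ x' := by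
    intro he
    apply hne
    rw [← he] at hx'
    exact (h.ti D hD.1 _ hD2.1 x hx hx' hxi).symm
  have hci : Iv (x * x') := by
    refine ⟨?_, ?_⟩
    · calc x * x' * (x * x') = x * (x' * x) * x' := by group
        _ = x * (x * x') * x' := by rw [hxx]
        _ = (x * x) * (x' * x') := by group
        _ = 1 := by rw [hxi.1, hxi'.1, one_mul]
    · intro h1
      apply hxx'
      rw [eq_inv_of_mul_eq_one_left h1, hxi'.inv]
  set c := x * x' with hcdef
  have hcr : c * r = r * c := by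
    have h3 : r * c * r⁻¹ = c := by
      calc r * c * r⁻¹ = (r * x * r⁻¹) * (r * x' * r⁻¹) := by rw [hcdef]; group
        _ = x' * x := by rw [hrx', ← hx'def]
        _ = c := hxx.symm
    calc c * r = (r * c * r⁻¹) * r := by rw [h3]
      _ = r * c := by group
  -- the 2-group generated by `c`
  have hQ : IsPGroup 2 ↥(zpowers c) := by
    rw [IsPGroup.iff_card]
    exact ⟨1, by rw [Nat.card_zpowers, iv_iff.mp hci, pow_one]⟩
  obtain ⟨T, hT, hcT, hTr, hrT, -⟩ := exists_good h S hwS hwY g (zpowers c) hQ (by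
    intro q hq
    obtain ⟨n, rfl⟩ := mem_zpowers_iff.mp hq
    have : Commute c r := hcr
    exact this.zpow_left n)
  rw [← hrdef] at hTr hrT
  have hcT' : c ∈ T := hcT (mem_zpowers c)
  have hfix : ∀ E ∈ Dl Δ T, cj r E = E := fun E hE => cj_eq_of_mem_Y h hT hE hrT
  have hDT : ∀ E ∈ Dl Δ T, E ≠ D := by
    rintro E hE rfl
    exact hne (hfix E hE)
  -- swapping is impossible: the basic argument
  have swap : ∀ E ∈ Δ, E ≠ D → ∀ y ∈ E, Iv y → y * x * y⁻¹ = x' → Cm E D := by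
    intro E hE hED y hy hyi hyx
    refine h.cm_of_four hE hD.1 hED hy hyi hx hxi ?_
    rw [hyi.inv] at hyx
    have h3 : y * x * (y * x) = x' * x := by
      calc y * x * (y * x) = (y * x * y) * x := by group
        _ = x' * x := by rw [hyx]
    rw [h3, ← hxx]
    exact hci.1
  -- all members in `Dl T` commute with `D`
  have hall : ∀ E ∈ Dl Δ T, Cm E D := by
    intro E hE
    have hED := hDT E hE
    by_cases hcE : cj c E = E
    · obtain ⟨y, hy, hyT, hyi, hyc⟩ := exists_fix hT hE hcT' hcE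
      rcases hP D hD.1 _ hD2.1 (Ne.symm hne) hDD x hx hxi x' hx' hxi' y hyc.symm with h3 | h3
      · refine h.cm_of_comm hE.1 hD.1 hED hy hyi hx hxi ?_
        calc y * x = (y * x * y⁻¹) * y := by group
          _ = x * y := by rw [h3]
      · exact swap E hE.1 hED y hy hyi h3
    · exfalso
      have hE2 : cj c E ∈ Dl Δ T := cj_mem_Dl h hE hcT'
      have hEE : Cm E (cj c E) := Dl_cm h hT hE hE2 (Ne.symm hcE)
      -- an involution `y` of `E` such that `y y^c` centralises `x`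
      have hmem : ∀ y ∈ E, c * y * c⁻¹ ∈ cj c E := fun y hy => mem_cj_mul hy
      have hfc : ∀ y ∈ E, (y * (c * y * c⁻¹)) * c = c * (y * (c * y * c⁻¹)) := by
        intro y hy
        have h3 := hEE y hy _ (hmem y hy)
        rw [hci.inv] at h3 ⊢
        calc y * (c * y * c) * c = y * (c * y) * (c * c) := by group
          _ = y * (c * y) := by rw [hci.1, mul_one]
          _ = (c * c) * y * (c * y) := by rw [hci.1, one_mul]
          _ = c * ((c * y * c) * y) := by group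
          _ = c * (y * (c * y * c)) := by rw [← h3]
      have hdich : ∀ y ∈ E, (y * (c * y * c⁻¹)) * x * (y * (c * y * c⁻¹))⁻¹ = x ∨
          (y * (c * y * c⁻¹)) * x * (y * (c * y * c⁻¹))⁻¹ = x' := by
        intro y hy
        exact hP D hD.1 _ hD2.1 (Ne.symm hne) hDD x hx hxi x' hx' hxi' _ (hfc y hy)
      have hexy : ∃ y ∈ E, Iv y ∧ (y * (c * y * c⁻¹)) * x * (y * (c * y * c⁻¹))⁻¹ = x := by
        obtain ⟨hEΔ, y, hy, -, hyi⟩ := hE
        obtain ⟨y', hy', hyi', hyy, hyc⟩ := h.four E hEΔ y hy hyi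
        rcases hdich y hy with h3 | h3
        · exact ⟨y, hy, hyi, h3⟩
        rcases hdich y' hy' with h4 | h4
        · exact ⟨y', hy', hyi', h4⟩
        have hyyi : Iv (y * y') := by
          refine ⟨?_, ?_⟩
          · calc y * y' * (y * y') = y * (y' * y) * y' := by group
              _ = y * (y * y') * y' := by rw [hyc]
              _ = (y * y) * (y' * y') := by group
              _ = 1 := by rw [hyi.1, hyi'.1, one_mul]
          · intro h1
            apply hyy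
            rw [eq_inv_of_mul_eq_one_right h1, hyi.inv]
        refine ⟨y * y', E.mul_mem hy hy', hyyi, ?_⟩
        set f := y * (c * y * c⁻¹) with hf
        set f' := y' * (c * y' * c⁻¹) with hf'
        have hff : y * y' * (c * (y * y') * c⁻¹) = f * f' := by
          have h5 := hEE y' hy' _ (hmem y hy)
          calc y * y' * (c * (y * y') * c⁻¹) = y * (y' * (c * y * c⁻¹)) * (c * y' * c⁻¹) := by group
            _ = y * ((c * y * c⁻¹) * y') * (c * y' * c⁻¹) := by rw [h5]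
            _ = f * f' := by rw [hf, hf']; group
        have hfx' : f * x' * f⁻¹ = x := by
          have h6 := hfc y hy
          have h7 : f * c * f⁻¹ = c := by rw [h6, mul_inv_cancel_right]
          have h8 : (f * x * f⁻¹) * (f * x' * f⁻¹) = c := by
            calc (f * x * f⁻¹) * (f * x' * f⁻¹) = f * (x * x') * f⁻¹ := by group
              _ = c := h7
          rw [h3] at h8
          calc f * x' * f⁻¹ = (x' * x') * (f * x' * f⁻¹) := by rw [hxi'.1, one_mul]
            _ = x' * (x' * (f * x' * f⁻¹)) := mul_assoc _ _ _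
            _ = x' * (x' * x) := by rw [h8, ← hxx]
            _ = (x' * x') * x := (mul_assoc _ _ _).symm
            _ = x := by rw [hxi'.1, one_mul]
        rw [hff]
        calc f * f' * x * (f * f')⁻¹ = f * (f' * x * f'⁻¹) * f⁻¹ := by group
          _ = f * x' * f⁻¹ := by rw [h4]
          _ = x := hfx'
      obtain ⟨y, hy, hyi, hyx⟩ := hexy
      -- `x` normalises `{E, E^c}`
      have hcomm : x * (y * (c * y * c⁻¹)) = (y * (c * y * c⁻¹)) * x := by
        calc x * (y * (c * y * c⁻¹))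
            = ((y * (c * y * c⁻¹)) * x * (y * (c * y * c⁻¹))⁻¹) * (y * (c * y * c⁻¹)) := by rw [hyx]
          _ = (y * (c * y * c⁻¹)) * x := by group
      have hCm : Cm D E := by
        rcases hP E hE.1 _ hE2.1 (Ne.symm hcE) hEE y hy hyi _ (hmem y hy) (hyi.conj c) x hcomm with
          h3 | h3
        · refine h.cm_of_comm hD.1 hE.1 hED.symm hx hxi hy hyi ?_
          calc x * y = (x * y * x⁻¹) * x := by group
            _ = y * x := by rw [h3]
        · refine h.cm_of_four hD.1 hE.1 hED.symm hx hxi hy hyi ?_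
          rw [hxi.inv] at h3
          have h4 : x * y * (x * y) = (c * y * c⁻¹) * y := by
            calc x * y * (x * y) = (x * y * x) * y := by group
              _ = (c * y * c⁻¹) * y := by rw [h3]
          have h5 := hEE y hy _ (hmem y hy)
          rw [h4, ← h5]
          calc y * (c * y * c⁻¹) * (y * (c * y * c⁻¹)) = y * ((c * y * c⁻¹) * y) * (c * y * c⁻¹) := by
                group
            _ = y * (y * (c * y * c⁻¹)) * (c * y * c⁻¹) := by rw [← h5]
            _ = (y * y) * ((c * y * c⁻¹) * (c * y * c⁻¹)) := by group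
            _ = 1 := by rw [hyi.1, (hyi.conj c).1, one_mul]
      have hCm2 : Cm (cj r D) E := by
        have := hCm.cj r
        rwa [hfix E hE] at this
      apply hcE
      apply cj_eq_of_forall
      intro e he
      have h6 := hCm x hx e he
      have h7 := hCm2 x' hx' e he
      calc c * e = x * (x' * e) := by rw [hcdef]; group
        _ = x * (e * x') := by rw [h7]
        _ = (x * e) * x' := by group
        _ = (e * x) * x' := by rw [h6]
        _ = e * c := by rw [hcdef]; group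
  apply hne
  have hcent : Y Δ T ≤ centralizer (D : Set G) := by
    apply sSup_le
    intro E hE e he
    rw [mem_centralizer_iff]
    intro d hd
    exact (hall E hE e he d hd).symm
  apply cj_eq_of_forall
  intro d hd
  exact (mem_centralizer_iff.mp (hcent hrT) d hd).symm

theorem Y_pow {T : Subgroup G} {w : G} (hw : w ∈ Y Δ T) (n : ℕ) : w ^ n ∈ Y Δ T :=
  (Y Δ T).pow_mem hw n

/-- **L5.** -/
theorem fix_all [Finite G] (h : CFam Δ) (hP : PairFix Δ) (S : Sylow 2 G) {w : G} (hwS : w ∈ S)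
    (hwY : w ∈ Y Δ (S : Subgroup G)) (g : G) (hr : g * w * g⁻¹ ∈ S) {D : Subgroup G}
    (hD : D ∈ Dl Δ (S : Subgroup G)) : cj (g * w * g⁻¹) D = D := by
  obtain ⟨k, hk⟩ := S.2 ⟨w, hwS⟩
  have hk' : w ^ 2 ^ k = 1 := congrArg Subtype.val hk
  have key : ∀ j : ℕ, j ≤ k → cj (g * w ^ 2 ^ (k - j) * g⁻¹) D = D := by
    intro j
    induction j with
    | zero =>
      intro _
      rw [Nat.sub_zero, hk', mul_one, mul_inv_cancel, cj_one]
    | succ j ih =>
      intro hj
      have h1 := ih (by omega)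
      set w' := w ^ 2 ^ (k - (j + 1)) with hw'
      have h2 : w ^ 2 ^ (k - j) = w' * w' := by
        rw [hw', ← pow_two, ← pow_mul, show k - j = (k - (j + 1)) + 1 by omega, pow_succ]
      have hw'S : w' ∈ S := S.1.pow_mem hwS _
      have hw'r : g * w' * g⁻¹ ∈ S := by
        rw [hw', ← conj_pow]
        exact S.1.pow_mem hr _
      refine fix_step h hP S hw'S (Y_pow hwY _) g hw'r hD ?_
      rw [h2] at h1
      have h3 : g * w' * g⁻¹ * (g * w' * g⁻¹) = g * (w' * w') * g⁻¹ := by group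
      rw [h3]
      exact h1
  have := key k le_rfl
  rwa [Nat.sub_self, pow_zero, pow_one] at this

/-- **Theorem W.** `S ∩ ∏ (members of Δ with an involution in S)` is strongly closed in `S`. -/
theorem isStronglyClosed [Finite G] (h : CFam Δ) (hP : PairFix Δ) (S : Sylow 2 G) :
    Cfsg.IsStronglyClosed ((S : Subgroup G) ⊓ Y Δ (S : Subgroup G)) (S : Subgroup G) := by
  refine ⟨inf_le_left, ?_⟩
  rintro w ⟨hwS, hwY⟩ g hr
  refine ⟨hr, ?_⟩
  set r := g * w * g⁻¹ with hrdef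
  obtain ⟨T, hT, hQT, hTr, hrT, hcard⟩ := exists_good h S hwS hwY g
    ((S : Subgroup G) ⊓ centralizer {r}) (S.2.to_le inf_le_left) (by
      rintro q ⟨-, hq⟩
      exact mem_centralizer_singleton_iff.mp hq)
  rw [← hrdef] at hrT
  have h1 : Dl Δ (S : Subgroup G) ⊆ Dl Δ T := by
    intro D hD
    obtain ⟨u, hu, huS, hui, hur⟩ := exists_fix S.2 hD hr (fix_all h hP S hwS hwY g hr hD)
    exact ⟨hD.1, u, hu, hQT ⟨huS, mem_centralizer_singleton_iff.mpr hur.symm⟩, hui⟩
  have h2 : Dl Δ (S : Subgroup G) = Dl Δ T :=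
    Set.eq_of_subset_of_ncard_le h1 hcard.le (Dl_finite _)
  unfold Y at hrT ⊢
  rw [h2]
  exact hrT

end Cfsg.Agent.OddHalf.D4.FamClosed
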