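import Cfsg.Prelude.Def_Balance
import Cfsg.Agent.OddHalf.D4.FamClosed
import Cfsg.Agent.WeakTI.ZStarMod

/-!
# Commuting families: centralisers of products of two involutions

By Glauberman's `Z*`-theorem the condition `PairFix` holds for a commuting family in a group with
`O(C(c)) = 1` for all involutions `c`.
-/

set_option autoImplicit false

universe u

namespace Cfsg.Agent.OddHalf.D4.FamPair

open Subgroup Cfsg.Agent.OddHalf.D4.CommConj Cfsg.Agent.OddHalf.D4.Fam
  Cfsg.Agent.OddHalf.D4.FamClosed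

variable {G : Type u} [Group G] {Δ : Set (Subgroup G)}

theorem mem_zpowers_iv {c : G} (hc : Iv c) {a : G} (ha : a ∈ zpowers c) : a = 1 ∨ a = c := by
  obtain ⟨n, rfl⟩ := mem_zpowers_iff.mp ha
  have h2 : c ^ (2 : ℤ) = 1 := by
    rw [show (2 : ℤ) = 1 + 1 from rfl, zpow_add, zpow_one]
    exact hc.1
  rcases Int.even_or_odd' n with ⟨m, rfl | rfl⟩
  · left
    rw [zpow_mul, h2, one_zpow]
  · right
    rw [zpow_add, zpow_mul, h2, one_zpow, one_mul, zpow_one]

/-- the basic dichotomy -/
theorem key (h : CFam Δ) {D1 D2 : Subgroup G} (hD1 : D1 ∈ Δ) (hD2 : D2 ∈ Δ) (hne : D1 ≠ D2)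
    (hcm : Cm D1 D2) {d1 d2 : G} (hd1 : d1 ∈ D1) (hi1 : Iv d1) (hd2 : d2 ∈ D2) (hi2 : Iv d2)
    {k : G} (hk : k * (d1 * d2) = (d1 * d2) * k)
    (h4 : ((k * d1 * k⁻¹) * d1) * ((k * d1 * k⁻¹) * d1) * (((k * d1 * k⁻¹) * d1) *
      ((k * d1 * k⁻¹) * d1)) = 1) : k * d1 * k⁻¹ = d1 ∨ k * d1 * k⁻¹ = d2 := by
  have h12 : d1 * d2 = d2 * d1 := hcm d1 hd1 d2 hd2
  have hkc : k * (d1 * d2) * k⁻¹ = d1 * d2 := by rw [hk, mul_inv_cancel_right]
  obtain ⟨e, he⟩ : ∃ e, e = k * d1 * k⁻¹ := ⟨_, rfl⟩
  obtain ⟨e2, he2⟩ : ∃ e2, e2 = k * d2 * k⁻¹ := ⟨_, rfl⟩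
  have hei : Iv e := he ▸ hi1.conj k
  have hei2 : Iv e2 := he2 ▸ hi2.conj k
  have hee : e * e2 = d1 * d2 := by
    rw [← hkc, he, he2]; group
  have heE : e ∈ cj k D1 := he ▸ mem_cj_mul hd1
  have heE2 : e2 ∈ cj k D2 := he2 ▸ mem_cj_mul hd2
  have hEE : cj k D1 ≠ cj k D2 := fun hh => hne (cj_injective k hh)
  have hcEE : Cm (cj k D1) (cj k D2) := hcm.cj k
  have heec := hcEE e heE e2 heE2
  rw [← he] at h4 ⊢
  have hE1Δ := h.conj D1 hD1 k
  have hE2Δ := h.conj D2 hD2 k
  have he2' : e2 = e * (d1 * d2) := by rw [← hee, ← mul_assoc, hei.1, one_mul]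
  by_cases hE : cj k D1 = D1
  · -- `e ∈ D1`
    left
    rw [hE] at heE hEE hcEE
    have c1 : e * d2 = d2 * e := hcm e heE d2 hd2
    have c2 : d2 * e2 = e2 * d2 := by
      rw [he2', h12]
      calc d2 * (e * (d2 * d1)) = (d2 * e) * d2 * d1 := by group
        _ = e * d2 * d2 * d1 := by rw [c1]
        _ = e * (d2 * (d2 * d1)) := by group
        _ = e * (d2 * (d1 * d2)) := by rw [h12]
        _ = e * (d2 * d1) * d2 := by group
    have hy : d1 * e = d2 * e2 := by
      calc d1 * e = d1 * e * (e2 * e2) := by rw [hei2.1, mul_one]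
        _ = d1 * (e * e2) * e2 := by group
        _ = d1 * (d1 * d2) * e2 := by rw [hee]
        _ = (d1 * d1) * d2 * e2 := by group
        _ = d2 * e2 := by rw [hi1.1, one_mul]
    have h1 : d1 * e = 1 := by
      refine h.dp D1 hD1 {D2, cj k D2} ?_ ?_ ?_ ?_ _ (D1.mul_mem hd1 heE) ?_
      · rintro F (rfl | rfl)
        · exact hD2
        · exact hE2Δ
      · rintro (h1 | h1)
        · exact hne h1
        · exact hEE h1
      · rintro F (rfl | rfl)
        · exact hcm
        · exact hcEE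
      · rintro F (rfl | rfl) F' (rfl | rfl) hFF
        · exact absurd rfl hFF
        · exact h.cm_of_comm hD2 hE2Δ hFF hd2 hi2 heE2 hei2 c2
        · exact h.cm_of_comm hE2Δ hD2 hFF heE2 hei2 hd2 hi2 c2.symm
        · exact absurd rfl hFF
      · rw [hy]
        exact mul_mem (le_sSup (a := D2) (by simp) hd2) (le_sSup (a := cj k D2) (by simp) heE2)
    rw [eq_inv_of_mul_eq_one_right h1, hi1.inv]
  · have hcE1 : Cm (cj k D1) D1 := h.cm_of_four hE1Δ hD1 hE heE hei hd1 hi1 h4
    have c1 : e * d1 = d1 * e := hcE1 e heE d1 hd1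
    have cc : e * (d1 * d2) = (d1 * d2) * e := by
      calc e * (d1 * d2) = e * (e * e2) := by rw [hee]
        _ = e * (e2 * e) := by rw [heec]
        _ = (e * e2) * e := by group
        _ = (d1 * d2) * e := by rw [hee]
    have c2 : e * d2 = d2 * e := by
      calc e * d2 = e * ((d1 * d1) * d2) := by rw [hi1.1, one_mul]
        _ = (e * d1) * (d1 * d2) := by group
        _ = (d1 * e) * (d1 * d2) := by rw [c1]
        _ = d1 * (e * (d1 * d2)) := by group
        _ = d1 * ((d1 * d2) * e) := by rw [cc]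
        _ = (d1 * d1) * d2 * e := by group
        _ = d2 * e := by rw [hi1.1, one_mul]
    have c3 : d1 * e2 = e2 * d1 := by
      rw [he2']
      calc d1 * (e * (d1 * d2)) = (d1 * e) * (d1 * d2) := by group
        _ = (e * d1) * (d1 * d2) := by rw [c1]
        _ = e * (d1 * (d1 * d2)) := by group
        _ = e * (d1 * (d2 * d1)) := by rw [h12]
        _ = e * (d1 * d2) * d1 := by group
    have c4 : d2 * e2 = e2 * d2 := by
      rw [he2']
      calc d2 * (e * (d1 * d2)) = (d2 * e) * (d1 * d2) := by group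
        _ = (e * d2) * (d1 * d2) := by rw [c2]
        _ = e * (d2 * d1) * d2 := by group
        _ = e * (d1 * d2) * d2 := by rw [h12]
    by_cases hE' : cj k D1 = D2
    · right
      rw [hE'] at heE hEE hcEE
      have hy : d2 * e = d1 * e2 := by
        calc d2 * e = d2 * e * (e2 * e2) := by rw [hei2.1, mul_one]
          _ = d2 * (e * e2) * e2 := by group
          _ = d2 * (d1 * d2) * e2 := by rw [hee]
          _ = d2 * (d2 * d1) * e2 := by rw [h12]
          _ = (d2 * d2) * d1 * e2 := by group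
          _ = d1 * e2 := by rw [hi2.1, one_mul]
      have h1 : d2 * e = 1 := by
        refine h.dp D2 hD2 {D1, cj k D2} ?_ ?_ ?_ ?_ _ (D2.mul_mem hd2 heE) ?_
        · rintro F (rfl | rfl)
          · exact hD1
          · exact hE2Δ
        · rintro (h1 | h1)
          · exact hne h1.symm
          · exact hEE h1
        · rintro F (rfl | rfl)
          · exact hcm.symm
          · exact hcEE
        · rintro F (rfl | rfl) F' (rfl | rfl) hFF
          · exact absurd rfl hFF
          · exact h.cm_of_comm hD1 hE2Δ hFF hd1 hi1 heE2 hei2 c3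
          · exact h.cm_of_comm hE2Δ hD1 hFF heE2 hei2 hd1 hi1 c3.symm
          · exact absurd rfl hFF
        · rw [hy]
          exact mul_mem (le_sSup (a := D1) (by simp) hd1) (le_sSup (a := cj k D2) (by simp) heE2)
      rw [eq_inv_of_mul_eq_one_right h1, hi2.inv]
    · exfalso
      have hcE2 : Cm (cj k D1) D2 := h.cm_of_comm hE1Δ hD2 hE' heE hei hd2 hi2 c2
      have hy : e = d1 * d2 * e2 := by
        rw [← hee, mul_assoc, hei2.1, mul_one]
      apply hei.2
      refine h.dp _ hE1Δ {D1, D2, cj k D2} ?_ ?_ ?_ ?_ e heE ?_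
      · rintro F (rfl | rfl | rfl)
        · exact hD1
        · exact hD2
        · exact hE2Δ
      · rintro (h1 | h1 | h1)
        · exact hE h1
        · exact hE' h1
        · exact hEE h1
      · rintro F (rfl | rfl | rfl)
        · exact hcE1
        · exact hcE2
        · exact hcEE
      · rintro F (rfl | rfl | rfl) F' (rfl | rfl | rfl) hFF
        · exact absurd rfl hFF
        · exact hcm
        · exact h.cm_of_comm hD1 hE2Δ hFF hd1 hi1 heE2 hei2 c3
        · exact hcm.symm
        · exact absurd rfl hFF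
        · exact h.cm_of_comm hD2 hE2Δ hFF hd2 hi2 heE2 hei2 c4
        · exact h.cm_of_comm hE2Δ hD1 hFF heE2 hei2 hd1 hi1 c3.symm
        · exact h.cm_of_comm hE2Δ hD2 hFF heE2 hei2 hd2 hi2 c4.symm
        · exact absurd rfl hFF
      · rw [hy]
        refine mul_mem (mul_mem ?_ ?_) ?_
        · exact le_sSup (a := D1) (by simp) hd1
        · exact le_sSup (a := D2) (by simp) hd2
        · exact le_sSup (a := cj k D2) (by simp) heE2

/-- **L3.** -/
theorem pairFix [Finite G] (h : CFam Δ)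
    (hO : ∀ c : G, orderOf c = 2 → Cfsg.centralizerPPrimeCore 2 c = ⊥) : PairFix Δ := by
  intro D1 hD1 D2 hD2 hne hcm d1 hd1 hi1 d2 hd2 hi2 g hg
  have h12 : d1 * d2 = d2 * d1 := hcm d1 hd1 d2 hd2
  obtain ⟨c, hc⟩ : ∃ c, c = d1 * d2 := ⟨_, rfl⟩
  have hci : Iv c := by
    refine ⟨?_, ?_⟩
    · rw [hc]
      calc d1 * d2 * (d1 * d2) = d1 * (d2 * d1) * d2 := by group
        _ = d1 * (d1 * d2) * d2 := by rw [h12]
        _ = (d1 * d1) * (d2 * d2) := by group
        _ = 1 := by rw [hi1.1, hi2.1, one_mul]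
    · intro h1
      rw [hc] at h1
      have h2 : d1 = d2 := by
        rw [eq_inv_of_mul_eq_one_left h1, hi2.inv]
      rw [← h2] at hd2
      exact hne (h.ti D1 hD1 D2 hD2 d1 hd1 hd2 hi1)
  have hcd1 : c * d1 = d1 * c := by
    rw [hc]
    calc d1 * d2 * d1 = d1 * (d2 * d1) := by group
      _ = d1 * (d1 * d2) := by rw [h12]
  have hd1A : d1 ∉ zpowers c := by
    intro hd
    rcases mem_zpowers_iv hci hd with h1 | h1
    · exact hi1.2 h1
    · rw [hc] at h1
      have : d2 = 1 := by
        have h2 : d1 * 1 = d1 * d2 := by rw [mul_one]; exact h1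
        exact (mul_left_cancel h2).symm
      exact hi2.2 this
  have hsq : ∀ a ∈ zpowers c, a * a = 1 := by
    intro a ha
    rcases mem_zpowers_iv hci ha with rfl | rfl
    · rw [one_mul]
    · exact hci.1
  have hd1C : d1 ∈ centralizer ({c} : Set G) := mem_centralizer_singleton_iff.mpr hcd1.symm
  have h1 := Cfsg.Agent.WeakTI.ZStarMod.commutator_mem (G := G) (A := zpowers c)
    (K := centralizer ({c} : Set G)) (by
      rw [zpowers_le]; exact mem_centralizer_singleton_iff.mpr rfl) (by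
      intro k hk a ha
      have hkc : k * c = c * k := mem_centralizer_singleton_iff.mp hk
      rcases mem_zpowers_iv hci ha with rfl | rfl
      · simp
      · exact hkc) hsq (b := d1) hi1.1 hd1A (le_normalizer hd1C) (by
      rw [mem_normalizer_iff]
      intro x
      have hz : ∀ y ∈ zpowers c, d1 * y * d1⁻¹ = y := by
        intro y hy
        rcases mem_zpowers_iv hci hy with rfl | rfl
        · simp
        · rw [← hcd1, mul_inv_cancel_right]
      constructor
      · intro hx; rw [hz x hx]; exact hx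
      · intro hx
        have h2 : x = d1 * (d1 * x * d1⁻¹) * d1⁻¹ := by
          rw [hi1.inv]
          calc x = (d1 * d1) * x * (d1 * d1) := by rw [hi1.1, one_mul, mul_one]
            _ = d1 * (d1 * x * d1) * d1 := by group
        rw [h2, hz _ hx]
        exact hx) (by
      intro k hk hcomm
      have hkc : k * (d1 * d2) = (d1 * d2) * k := by
        rw [← hc]; exact mem_centralizer_singleton_iff.mp hk
      have hei : Iv (k * d1 * k⁻¹) := hi1.conj k
      have h4 : ((k * d1 * k⁻¹) * d1) * ((k * d1 * k⁻¹) * d1) * (((k * d1 * k⁻¹) * d1) *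
          ((k * d1 * k⁻¹) * d1)) = 1 := by
        have h5 : ((k * d1 * k⁻¹) * d1) * ((k * d1 * k⁻¹) * d1) =
            (k * d1 * k⁻¹) * d1 * (k * d1 * k⁻¹)⁻¹ * d1⁻¹ := by
          rw [hei.inv, hi1.inv]; group
        rw [h5]
        exact hsq _ hcomm
      rcases key h hD1 hD2 hne hcm hd1 hi1 hd2 hi2 hkc h4 with h6 | h6
      · rw [h6, mul_inv_cancel]; exact one_mem _
      · rw [h6, hi1.inv, ← h12, ← hc]; exact mem_zpowers c) g (by
      rw [mem_centralizer_singleton_iff, hc]; exact hg)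
  obtain ⟨a, ha, x, hx, hax⟩ := h1
  have hOc : (Cfsg.pPrimeCore 2 (centralizer ({c} : Set G))).map
      (centralizer ({c} : Set G)).subtype = ⊥ := hO c (iv_iff.mp hci)
  rw [hOc, mem_bot] at hx
  rw [hx, mul_one] at hax
  have h2 : g * d1 * g⁻¹ = a⁻¹ * d1 := by
    have h3 : a⁻¹ = g * d1 * g⁻¹ * d1⁻¹ := by rw [← hax]; group
    rw [h3]; group
  rcases mem_zpowers_iv hci ha with rfl | rfl
  · left
    rw [h2]; simp
  · right
    rw [h2, hci.inv, hc, h12, mul_assoc, hi1.1, mul_one]

/-- **Theorem W.** -/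
theorem theoremW [Finite G] (h : CFam Δ)
    (hO : ∀ c : G, orderOf c = 2 → Cfsg.centralizerPPrimeCore 2 c = ⊥) (S : Sylow 2 G) :
    Cfsg.IsStronglyClosed ((S : Subgroup G) ⊓ Y Δ (S : Subgroup G)) (S : Subgroup G) :=
  isStronglyClosed h (pairFix h hO) S

end Cfsg.Agent.OddHalf.D4.FamPair
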