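import Mathlib
import Cfsg.Agent.OddHalf.D4.LemmaOut
import Cfsg.Agent.OddHalf.D4.NoGraph

/-!
# ODD, D4, (1B): field and graph automorphisms

`F` a 2-subgroup with `KMaxE K F`. `E₁ = F ∩ M₁` the elements of `F` centralizing `Z(S ∩ K)` (no field automorphism).
If `b ∈ N_K(F) ∖ F` with `[F, b] ≤ W ≤ F` and `W` centralizes all `Z(S ∩ K)^n`, then `E₁` is normal in `N(F)`
(Gleason). A relative line normalizing `E₁` gives a contradiction: LEMMA OUT (all elements of the hull are inner on `K`)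
and the barycentre lemma.
-/

set_option autoImplicit false

namespace Cfsg.Agent.OddHalf.D4.GraphCore

open Cfsg Subgroup Cfsg.Agent.OddHalf.D4 Cfsg.Agent.OddHalf.D4.Basic Cfsg.Agent.OddHalf.D4.BaryEnd
open Cfsg.Agent.OddHalf.D4.Line Cfsg.Agent.OddHalf.D4.BaryGen Cfsg.Agent.OddHalf.D4.KMax
open Cfsg.Agent.OddHalf.D4.LineR Cfsg.Agent.OddHalf.D4.LemmaOut Cfsg.Agent.OddHalf.D4.NoGraph
open Cfsg.Agent.OddHalf.D4.CommConj (Tight MaxE cj mem_cj mem_cj_mul exists_central_involution)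

variable {G : Type*} [Group G] [Finite G] {K F E₁ Q S : Subgroup G}

/-- **a relative line normalizing `E₁`**, elements of the hull possibly outer on `K` -/
theorem KMaxE.false_of_lineR_out {B : Type*} [CommGroup B] (h : KMaxE K F) (ht : TightAt K)
    (hcen : ∀ x ∈ K, x ∈ centralizer (K : Set G) → x = 1)
    (hQ : IsSyl Q (centralizer (K : Set G))) (hQE : Q ≤ E₁) (hle : E₁ ≤ F) (hFK : F ⊓ K ≤ E₁)
    (χ : ↥(normalizer (K : Set G)) →* B)
    (hχC : ∀ c ∈ centralizer (K : Set G), ∀ hc : c ∈ normalizer (K : Set G), χ ⟨c, hc⟩ = 1)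
    (hχ : ∀ e ∈ E₁, ∀ he : e ∈ normalizer (K : Set G), χ ⟨e, he⟩ = 1 →
      ∃ c ∈ centralizer (K : Set G), ∃ k ∈ K, e = c * k)
    (hinn : ∃ n ∈ normalizer (E₁ : Set G), n ∉ normalizer (K : Set G) ∧
      ∃ z ∈ omegaZ E₁ (centralizer (K : Set G)), z ≠ 1 ∧
        ∃ c ∈ centralizer (K : Set G), ∃ k ∈ K, n * z * n⁻¹ = c * k)
    {D l : Subgroup G} (hl : IsLineR (E₁ ⊓ K) D l) (hl2 : IsPGroup 2 ↥l) (hlK : l ≤ K)
    (hlN : l ≤ normalizer (E₁ : Set G)) (hlE : ¬ l ≤ E₁) (hD : D ≤ E₁) : False := by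
  set N := normalizer (E₁ : Set G) with hN
  set C := centralizer (K : Set G) with hC
  set V₀ := omegaZ E₁ C with hV₀d
  have hcomm : ∀ k ∈ K, ∀ c ∈ C, k * c = c * k := fun k hk c hc => mem_centralizer_iff.mp hc k hk
  have hKM : ∀ m ∈ normalizer (K : Set G), ∀ k ∈ K, m * k * m⁻¹ ∈ K := fun m hm k hk => (mem_normalizer_iff.mp hm k).mp hk
  have hEM : E₁ ≤ normalizer (K : Set G) := hle.trans h.maxE.le
  have hVZ := hull_omegaZ (C := C) (E := E₁)
  have hVE : hull N V₀ ≤ E₁ := fun v hv => (hVZ v hv).1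
  have hV₀V : V₀ ≤ hull N V₀ := fun x hx => subset_closure ⟨1, one_mem _, x, hx, by group⟩
  have hV2 : ∀ v ∈ hull N V₀, v * v = 1 := fun v hv => (hVZ v hv).2.1
  have hab : ∀ x ∈ hull N V₀, ∀ y ∈ hull N V₀, x * y = y * x :=
    fun x hx y hy => (hVZ y hy).2.2 x (hVZ x hx).1
  have hDV : ∀ d ∈ D, ∀ v ∈ hull N V₀, d * v = v * d := fun d hd v hv => (hVZ v hv).2.2 d (hD hd)
  have hV₀C : ∀ c ∈ V₀, c ∈ C := fun c hc => hc.2.1
  obtain ⟨n₀, hn₀, hn₀M, z, hz, hz1, c₀, hc₀, k₀, hk₀, hck₀⟩ := hinn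
  have hz2 : orderOf z = 2 := orderOf_eq_prime (by rw [pow_two]; exact hz.2.2.1) hz1
  have hinv : ∃ x ∈ E₁, x ∈ C ∧ orderOf x = 2 := ⟨z, hz.1, hz.2.1, hz2⟩
  have hl2' : ∀ x ∈ l, ∃ k : ℕ, x ^ 2 ^ k = 1 := by
    intro x hx
    obtain ⟨k, hk⟩ := hl2 ⟨x, hx⟩
    exact ⟨k, congrArg Subtype.val hk⟩
  have hbr : ∀ v ∈ hull N V₀, ∀ x ∈ l, v * x * v⁻¹ * x⁻¹ ∈ hull N V₀ ∧ v * x * v⁻¹ * x⁻¹ ∈ E₁ ⊓ K := by
    intro v hv x hx
    have h1 : v * x * v⁻¹ * x⁻¹ ∈ hull N V₀ := by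
      have e : v * x * v⁻¹ * x⁻¹ = v * (x * v⁻¹ * x⁻¹) := by group
      rw [e]
      exact mul_mem hv (hull_cj (hlN hx) (inv_mem hv))
    refine ⟨h1, hVE h1, ?_⟩
    exact K.mul_mem (hKM v (hEM (hVE hv)) x (hlK hx)) (K.inv_mem (hlK hx))
  -- squares act trivially
  have hsq : ∀ x ∈ l, ∀ v ∈ hull N V₀, x * x * v = v * (x * x) := fun x hx v hv => hDV _ (hl.sq x hx) v hv
  -- `[v, x]` commutes with `x`
  have hself : ∀ v ∈ hull N V₀, ∀ x ∈ l, x * (v * x * v⁻¹ * x⁻¹) = (v * x * v⁻¹ * x⁻¹) * x := by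
    intro v hv x hx
    have hvv := hV2 v hv
    have e1 : v⁻¹ = v := inv_eq_of_mul_eq_one_right hvv
    have h4 : x * v * x⁻¹ * v = v * (x * v * x⁻¹) := hab _ (hull_cj (hlN hx) hv) v hv
    have h5 := hsq x hx v hv
    have h6 : x * (x * v * x⁻¹) * x⁻¹ = v := by
      calc x * (x * v * x⁻¹) * x⁻¹ = x * x * v * (x * x)⁻¹ := by group
        _ = v := by rw [h5]; group
    rw [e1]
    calc x * (v * x * v * x⁻¹) = x * v * x⁻¹ * (x * (x * v * x⁻¹) * x⁻¹) * x := by group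
      _ = x * v * x⁻¹ * v * x := by rw [h6]
      _ = v * (x * v * x⁻¹) * x := by rw [h4]
      _ = v * x * v * x⁻¹ * x := by group
  have hquad : ∀ v ∈ hull N V₀, ∀ x ∈ l, ∀ x' ∈ l,
      x' * (v * x * v⁻¹ * x⁻¹) = (v * x * v⁻¹ * x⁻¹) * x' := by
    intro v hv x hx x' hx'
    by_cases hxD : x ∈ D
    · have h1 : v * x * v⁻¹ * x⁻¹ = 1 := by
        rw [← hDV x hxD v hv]; group
      rw [h1]; simp
    · exact hl.star _ (hbr v hv x hx).2 x hx hxD (hself v hv x hx) x' hx'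
  -- elements outside `D` act nontrivially
  have hnt : ∀ t ∈ l, t ∉ D → ∃ v ∈ hull N V₀, t * v ≠ v * t := by
    intro t htl htD
    by_contra hcon
    push Not at hcon
    apply hlE
    intro x hx
    have hv : n₀ * z * n₀⁻¹ ∈ hull N V₀ := hull_cj hn₀ (hV₀V hz)
    have hv' := hVZ _ hv
    rw [hck₀] at hv'
    have hcV : c₀ ∈ V₀ := comp_omegaZ ht hcen hQ hQE hEM hc₀ hk₀ hv'.1 hv'.2.1 hv'.2.2
    have hkE : k₀ ∈ E₁ ⊓ K := by
      refine mem_inf.mpr ⟨?_, hk₀⟩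
      have h1 : k₀ = c₀⁻¹ * (c₀ * k₀) := by group
      rw [h1]
      exact mul_mem (inv_mem hcV.1) hv'.1
    have htk : t * k₀ = k₀ * t := by
      have h1 := hcon _ hv
      rw [hck₀] at h1
      have h2 : t * c₀ = c₀ * t := hcomm t (hlK htl) c₀ hc₀
      have h3 : c₀ * (t * k₀) = c₀ * (k₀ * t) := by
        calc c₀ * (t * k₀) = (c₀ * t) * k₀ := by group
          _ = t * c₀ * k₀ := by rw [h2]
          _ = t * (c₀ * k₀) := by group
          _ = c₀ * k₀ * t := h1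
          _ = c₀ * (k₀ * t) := by group
      exact mul_left_cancel h3
    have hxk := hl.star k₀ hkE t htl htD htk x hx
    have hxv : x * (n₀ * z * n₀⁻¹) = n₀ * z * n₀⁻¹ * x := by
      rw [hck₀]
      calc x * (c₀ * k₀) = (x * c₀) * k₀ := by group
        _ = (c₀ * x) * k₀ := by rw [hcomm x (hlK hx) c₀ hc₀]
        _ = c₀ * (x * k₀) := by group
        _ = c₀ * (k₀ * x) := by rw [hxk]
        _ = c₀ * k₀ * x := by group
    refine h.semi hle hFK hinv hn₀ hn₀M (hlN hx) (hlK hx) (hl2' x hx) ?_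
    have h1 : n₀⁻¹ * (n₀ * z * n₀⁻¹) * n₀ ∈ C := by
      have e : n₀⁻¹ * (n₀ * z * n₀⁻¹) * n₀ = z := by group
      rw [e]; exact hz.2.1
    refine Tight.mem_of_comm ht h1 ?_ hxv
    rw [Basic.orderOf_conj]; exact hz2
  obtain ⟨a, ha, b, hb, haD, hbD, habD⟩ := hl.pair
  have hout := hull_out (M := normalizer (K : Set G)) (N := N) (V₀ := V₀) (T := l) χ (fun v hv => hEM (hVE hv)) hab
    (by
      intro n _ hnc
      have h1 : (1 : G)⁻¹ * z * 1 ∈ C := by simpa using hz.2.1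
      have h2 := Tight.mem_of_comm ht h1 hz2 (hnc z (hV₀V hz))
      simpa using h2)
    (fun v hv hvM => hχC v (hV₀C v hv) hvM) hlN (hlK.trans le_normalizer)
    (by
      intro n hn hnM s hs hns v hv
      exact (hVZ v hv).2.2 s (h.semi hle hFK hinv hn hnM (hlN hs) (hlK hs) (hl2' s hs) hns))
    (by
      intro v hv
      refine ⟨a, ha, b, hb, hsq a ha, hsq b hb, ?_, hnt a ha haD, hnt b hb hbD,
        hnt _ (mul_mem (inv_mem ha) hb) habD, ?_⟩
      · -- `a b` and `b a` act in the same way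
        intro w hw
        have h1 : a * b * (a * b) * w = w * (a * b * (a * b)) := hsq _ (mul_mem ha hb) w hw
        have h2 := hsq a ha
        have h3 := hsq b hb
        have h4 : a * b * (b * a * w * (b * a)⁻¹) * (a * b)⁻¹ = w := by
          have h5 : a * w * a⁻¹ ∈ hull N V₀ := hull_cj (hlN ha) hw
          calc a * b * (b * a * w * (b * a)⁻¹) * (a * b)⁻¹
              = a * (b * b * (a * w * a⁻¹) * (b * b)⁻¹) * a⁻¹ := by group
            _ = a * (a * w * a⁻¹) * a⁻¹ := by rw [h3 _ h5]; group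
            _ = a * a * w * (a * a)⁻¹ := by group
            _ = w := by rw [h2 w hw]; group
        have h6 : a * b * (a * b * w * (a * b)⁻¹) * (a * b)⁻¹ = w := by
          calc a * b * (a * b * w * (a * b)⁻¹) * (a * b)⁻¹ = a * b * (a * b) * w * (a * b * (a * b))⁻¹ := by
                group
            _ = w := by rw [h1]; group
        have h7 : a * b * (a * b * w * (a * b)⁻¹) * (a * b)⁻¹ = a * b * (b * a * w * (b * a)⁻¹) * (a * b)⁻¹ := by
          rw [h6, h4]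
        exact mul_left_cancel (mul_right_cancel h7)
      · have hvv := hV2 v hv
        have e1 : v⁻¹ = v := inv_eq_of_mul_eq_one_right hvv
        have h5 : b * (v * a * v⁻¹ * a⁻¹) = v * a * v⁻¹ * a⁻¹ * b := hquad v hv a ha b hb
        rw [e1] at h5
        have h6 : (v * a * v * a⁻¹) * (v * a * v * a⁻¹) = 1 := by
          have h7 := hV2 _ (hbr v hv a ha).1
          rwa [e1] at h7
        have hba : (b * v * b⁻¹) * (a * b * v * (a * b)⁻¹) = b * (v * (a * v * a⁻¹)) * b⁻¹ := by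
          have h1 : a * b * (a * b) * v = v * (a * b * (a * b)) := hsq _ (mul_mem ha hb) v hv
          have h5 : a * v * a⁻¹ ∈ hull N V₀ := hull_cj (hlN ha) hv
          have h4 : a * b * (b * a * v * (b * a)⁻¹) * (a * b)⁻¹ = v := by
            calc a * b * (b * a * v * (b * a)⁻¹) * (a * b)⁻¹
                = a * (b * b * (a * v * a⁻¹) * (b * b)⁻¹) * a⁻¹ := by group
              _ = a * (a * v * a⁻¹) * a⁻¹ := by rw [hsq b hb _ h5]; group
              _ = a * a * v * (a * a)⁻¹ := by group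
              _ = v := by rw [hsq a ha v hv]; group
          have h6 : a * b * (a * b * v * (a * b)⁻¹) * (a * b)⁻¹ = v := by
            calc a * b * (a * b * v * (a * b)⁻¹) * (a * b)⁻¹ = a * b * (a * b) * v * (a * b * (a * b))⁻¹ := by
                  group
              _ = v := by rw [h1]; group
          have h7 : a * b * (a * b * v * (a * b)⁻¹) * (a * b)⁻¹ =
              a * b * (b * a * v * (b * a)⁻¹) * (a * b)⁻¹ := by
            rw [h6, h4]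
          have h8 : a * b * v * (a * b)⁻¹ = b * a * v * (b * a)⁻¹ := mul_left_cancel (mul_right_cancel h7)
          rw [h8]; group
        rw [mul_assoc (v * (a * v * a⁻¹)), hba]
        calc v * (a * v * a⁻¹) * (b * (v * (a * v * a⁻¹)) * b⁻¹)
            = (v * a * v * a⁻¹) * (b * (v * a * v * a⁻¹)) * b⁻¹ := by group
          _ = (v * a * v * a⁻¹) * (v * a * v * a⁻¹ * b) * b⁻¹ := by rw [h5]
          _ = (v * a * v * a⁻¹) * (v * a * v * a⁻¹) := by group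
          _ = 1 := h6)
  refine KMaxE.false_of_lineR_omegaZ h ht hcen hQ hQE hle hFK ⟨n₀, hn₀, hn₀M⟩ ?_ hl hl2 hlK hlN hlE hD
  intro n hn v hv
  have h1 : n * v * n⁻¹ ∈ hull N V₀ := hull_cj hn (hV₀V hv)
  have h2 : n * v * n⁻¹ ∈ E₁ := hVE h1
  exact hχ _ h2 (hEM h2) (hout _ h1 (hEM h2))

/-- **all field characters agree**: `F ∩ M₁` is normal in `N(F)` -/
theorem fplus_normal {M₁ W : Subgroup G} {b : G}
    (h : MaxE (centralizer (K : Set G)) (normalizer (K : Set G)) F)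
    (hM₁c : ∀ a ∈ normalizer (K : Set G), ∀ m ∈ normalizer (K : Set G), a * m * a⁻¹ * m⁻¹ ∈ M₁)
    (hM₁ : ∀ e ∈ F, (e ∈ M₁ ↔ ∀ z ∈ zc K S, e * z = z * e))
    (hbM : b ∈ normalizer (K : Set G)) (hb2 : ∃ k : ℕ, b ^ 2 ^ k = 1) (hbF : b ∉ F) (hWF : W ≤ F)
    (hbW : ∀ e ∈ F, e * b * e⁻¹ * b⁻¹ ∈ W) (hWb : ∀ w ∈ W, b⁻¹ * w * b ∈ W)
    (hA : ∀ n ∈ normalizer (F : Set G), n ∉ normalizer (K : Set G) →
      ∀ z ∈ zc K S, ∀ u ∈ W, u * (n * z * n⁻¹) = n * z * n⁻¹ * u) :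
    normalizer (F : Set G) ≤ normalizer ((F ⊓ M₁ : Subgroup G) : Set G) := by
  classical
  set M := normalizer (K : Set G) with hM
  set C := centralizer (K : Set G) with hC
  set N := normalizer (F : Set G) with hN
  have hcjF : ∀ n ∈ N, ∀ x ∈ F, n⁻¹ * x * n ∈ F := fun n hn x hx => (mem_normalizer_iff''.mp hn x).mp hx
  have hcjF' : ∀ n ∈ N, ∀ x ∈ F, n * x * n⁻¹ ∈ F := fun n hn x hx => (mem_normalizer_iff.mp hn x).mp hx
  have hbN : b ∈ N := by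
    apply mem_normalizer_fintype
    intro e he
    have h5 := hWF (hbW e he)
    have e1 : b * e * b⁻¹ = (e * b * e⁻¹ * b⁻¹)⁻¹ * e := by group
    rw [e1]
    exact mul_mem (inv_mem h5) he
  have hbW' : ∀ e ∈ F, e * b⁻¹ * e⁻¹ * b ∈ W := by
    intro e he
    have h8 := hWb _ (hbW e he)
    have h9 := inv_mem h8
    have e1 : (b⁻¹ * (e * b * e⁻¹ * b⁻¹) * b)⁻¹ = e * b⁻¹ * e⁻¹ * b := by group
    rwa [e1] at h9
  -- the predicate
  let P : G → G → Prop := fun n e => e ∈ F ∧ ∀ z ∈ zc K S, e * (n * z * n⁻¹) = n * z * n⁻¹ * e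
  have hPmul : ∀ g ∈ N, ∀ n e, P (g * n) e ↔ P n (g⁻¹ * e * g) := by
    intro g hg n e
    constructor
    · rintro ⟨he, hz⟩
      refine ⟨hcjF g hg e he, fun z hz' => ?_⟩
      have h5 := hz z hz'
      calc g⁻¹ * e * g * (n * z * n⁻¹) = g⁻¹ * (e * (g * n * z * (g * n)⁻¹)) * g := by group
        _ = g⁻¹ * (g * n * z * (g * n)⁻¹ * e) * g := by rw [h5]
        _ = n * z * n⁻¹ * (g⁻¹ * e * g) := by group
    · rintro ⟨he, hz⟩
      have he' : e ∈ F := by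
        have h5 := hcjF' g hg _ he
        have e1 : g * (g⁻¹ * e * g) * g⁻¹ = e := by group
        rwa [e1] at h5
      refine ⟨he', fun z hz' => ?_⟩
      have h5 := hz z hz'
      calc e * (g * n * z * (g * n)⁻¹) = g * (g⁻¹ * e * g * (n * z * n⁻¹)) * g⁻¹ := by group
        _ = g * (n * z * n⁻¹ * (g⁻¹ * e * g)) * g⁻¹ := by rw [h5]
        _ = g * n * z * (g * n)⁻¹ * e := by group
  have hP1 : ∀ e, P 1 e ↔ e ∈ F ⊓ M₁ := by
    intro e
    rw [mem_inf]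
    constructor
    · rintro ⟨he, hz⟩
      refine ⟨he, (hM₁ e he).mpr fun z hz' => ?_⟩
      simpa using hz z hz'
    · rintro ⟨he, he1⟩
      refine ⟨he, fun z hz' => ?_⟩
      have h5 := (hM₁ e he).mp he1 z hz'
      simpa using h5
  have hinnM : ∀ m ∈ N, m ∈ M → ∀ e ∈ F ⊓ M₁, m⁻¹ * e * m ∈ F ⊓ M₁ := by
    rintro m hm hmM e ⟨he, he1⟩
    refine mem_inf.mpr ⟨hcjF m hm _ he, ?_⟩
    have e1 : m⁻¹ * e * m = (m⁻¹ * e * m⁻¹⁻¹ * e⁻¹) * e := by group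
    rw [e1]
    exact mul_mem (hM₁c m⁻¹ (inv_mem hmM) e (h.le he)) he1
  have hPM : ∀ m ∈ N, m ∈ M → ∀ e, P m e ↔ P 1 e := by
    intro m hm hmM e
    have h5 := hPmul m hm 1 e
    rw [mul_one] at h5
    rw [h5, hP1, hP1]
    constructor
    · intro h6
      have h7 := hinnM m⁻¹ (inv_mem hm) (inv_mem hmM) _ h6
      have e1 : m⁻¹⁻¹ * (m⁻¹ * e * m) * m⁻¹ = e := by group
      rwa [e1] at h7
    · exact hinnM m hm hmM e
  -- `b` preserves the predicate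
  have hPb : ∀ n ∈ N, ∀ e, P (b * n) e ↔ P n e := by
    intro n hn e
    by_cases hnM : n ∈ M
    · rw [hPM _ (mul_mem hbN hn) (mul_mem hbM hnM), hPM n hn hnM]
    · rw [hPmul b hbN n e]
      have key : ∀ u ∈ W, ∀ e ∈ F, (∀ z ∈ zc K S, e * (n * z * n⁻¹) = n * z * n⁻¹ * e) →
          ∀ z ∈ zc K S, e * u * (n * z * n⁻¹) = n * z * n⁻¹ * (e * u) := by
        intro u hu e _ hz z hz'
        have h6 := hA n hn hnM z hz' _ hu
        have h7 := hz z hz'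
        calc e * u * (n * z * n⁻¹) = e * (u * (n * z * n⁻¹)) := by group
          _ = e * (n * z * n⁻¹ * u) := by rw [h6]
          _ = (e * (n * z * n⁻¹)) * u := by group
          _ = (n * z * n⁻¹ * e) * u := by rw [h7]
          _ = n * z * n⁻¹ * (e * u) := by group
      constructor
      · rintro ⟨he, hz⟩
        have he' : e ∈ F := by
          have h5 := hcjF' b hbN _ he
          have e1 : b * (b⁻¹ * e * b) * b⁻¹ = e := by group
          rwa [e1] at h5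
        refine ⟨he', fun z hz' => ?_⟩
        have h4 : b⁻¹ * e * b ∈ F := he
        have h5 := key _ (hbW (b⁻¹ * e * b)⁻¹ (inv_mem h4)) _ he hz z hz'
        have e1 : b⁻¹ * e * b * ((b⁻¹ * e * b)⁻¹ * b * (b⁻¹ * e * b)⁻¹⁻¹ * b⁻¹) = e := by group
        rwa [e1] at h5
      · rintro ⟨he, hz⟩
        refine ⟨hcjF b hbN e he, fun z hz' => ?_⟩
        have h5 := key _ (hbW' e⁻¹ (inv_mem he)) e he hz z hz'
        have e1 : e * (e⁻¹ * b⁻¹ * e⁻¹⁻¹ * b) = b⁻¹ * e * b := by group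
        rwa [e1] at h5
  -- the stabilizer of the predicate
  let H : Subgroup ↥N :=
    { carrier := {x | ∀ n ∈ N, ∀ e, P (x * n) e ↔ P n e}
      one_mem' := by
        intro n _ e
        simp
      mul_mem' := by
        intro x y hx hy n hn e
        have e1 : ((x * y : ↥N) : G) * n = x * (y * n) := by push_cast; group
        rw [e1, hx _ (mul_mem y.2 hn), hy n hn]
      inv_mem' := by
        intro x hx n hn e
        have h5 := hx ((x⁻¹ : ↥N) * n) (mul_mem (x⁻¹ : ↥N).2 hn) e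
        have e1 : (x : G) * (((x⁻¹ : ↥N) : G) * n) = n := by push_cast; group
        rw [e1] at h5
        exact h5.symm }
  have hHn : H.Normal := by
    refine ⟨?_⟩
    intro x hx g n hn e
    have e1 : ((g * x * g⁻¹ : ↥N) : G) * n = g * (x * ((g : G)⁻¹ * n)) := by push_cast; group
    rw [e1, hPmul g g.2, hx _ (mul_mem (inv_mem g.2) hn), ← hPmul g g.2]
    have e2 : (g : G) * ((g : G)⁻¹ * n) = n := by group
    rw [e2]
  have hbH : (⟨b, hbN⟩ : ↥N) ∈ H := fun n hn e => hPb n hn e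
  have htrans := fun g : ↥N => gleason (Y := M.subgroupOf N) (B := H) hHn hbH (mem_subgroupOf.mpr hbM)
    (by obtain ⟨k, hk⟩ := hb2; exact ⟨k, Subtype.ext hk⟩) (by
      intro g hg hgb
      apply hbF
      exact h.mem_of_conj g.2 (fun h' => hg (mem_subgroupOf.mpr h')) hbN hbM hb2 (mem_subgroupOf.mp hgb)) g
  have hPall : ∀ g ∈ N, ∀ e, P g e ↔ P 1 e := by
    intro g hg e
    obtain ⟨x, hx, hxg⟩ := htrans ⟨g, hg⟩
    have h5 : (x : G)⁻¹ * g ∈ M := mem_subgroupOf.mp hxg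
    have h6 : (x : G)⁻¹ * g ∈ N := mul_mem (inv_mem x.2) hg
    have h7 := hx _ h6 e
    have e1 : (x : G) * ((x : G)⁻¹ * g) = g := by group
    rw [e1] at h7
    rw [h7]
    exact hPM _ h6 h5 e
  intro g hg
  apply mem_normalizer_fintype
  intro e he
  have h5 := hPmul g⁻¹ (inv_mem hg) 1 e
  rw [mul_one, inv_inv] at h5
  exact (hP1 _).mp (h5.mp ((hPall _ (inv_mem hg) e).mpr ((hP1 e).mpr he)))

/-- **(1B), field and graph automorphisms.** -/
theorem coreG {B : Type*} [CommGroup B] (ht : TightAt K) (hcen : ∀ x ∈ K, x ∈ centralizer (K : Set G) → x = 1)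
    (h : KMaxE K F) (hQ : IsSyl Q (centralizer (K : Set G))) (hQF : Q ≤ F) (hFS : F ≤ S)
    (χ : ↥(normalizer (K : Set G)) →* B)
    (hχC : ∀ c ∈ centralizer (K : Set G), ∀ hc : c ∈ normalizer (K : Set G), χ ⟨c, hc⟩ = 1)
    (hχ : ∀ e ∈ F, ∀ he : e ∈ normalizer (K : Set G), χ ⟨e, he⟩ = 1 →
      ∃ c ∈ centralizer (K : Set G), ∃ k ∈ K, e = c * k)
    {M₁ W : Subgroup G} {b : G}
    (hM₁c : ∀ a ∈ normalizer (K : Set G), ∀ m ∈ normalizer (K : Set G), a * m * a⁻¹ * m⁻¹ ∈ M₁)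
    (hM₁ : ∀ e ∈ F, (e ∈ M₁ ↔ ∀ z ∈ zc K S, e * z = z * e))
    (hinn : ∃ n ∈ normalizer (F : Set G), n ∉ normalizer (K : Set G) ∧ ∃ v ∈ F, orderOf v = 2 ∧
      n⁻¹ * v * n ∈ centralizer (K : Set G) ∧ (∀ e ∈ F, e * v = v * e) ∧
      ∃ c ∈ centralizer (K : Set G), ∃ k ∈ K, v = c * k)
    (hbM : b ∈ normalizer (K : Set G)) (hb2 : ∃ k : ℕ, b ^ 2 ^ k = 1) (hbF : b ∉ F) (hWF : W ≤ F)
    (hbW : ∀ e ∈ F, e * b * e⁻¹ * b⁻¹ ∈ W) (hWb : ∀ w ∈ W, b⁻¹ * w * b ∈ W)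
    (hA : ∀ n ∈ normalizer (F : Set G), n ∉ normalizer (K : Set G) →
      ∀ z ∈ zc K S, ∀ u ∈ W, u * (n * z * n⁻¹) = n * z * n⁻¹ * u)
    {D l : Subgroup G} (hl : IsLineR (F ⊓ K) D l) (hl2 : IsPGroup 2 ↥l) (hlK : l ≤ K)
    (hlN : ∀ x ∈ l, ∀ e ∈ F, e ∈ M₁ → x * e * x⁻¹ ∈ F) (hlF : ¬ l ≤ F) (hD : D ≤ F ⊓ K) : False := by
  set C := centralizer (K : Set G) with hC
  have hcomm : ∀ k ∈ K, ∀ c ∈ C, k * c = c * k := fun k hk c hc => mem_centralizer_iff.mp hc k hk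
  have hN := fplus_normal h.maxE hM₁c hM₁ hbM hb2 hbF hWF hbW hWb hA
  have hCM₁ : ∀ e ∈ F, e ∈ C → e ∈ M₁ := fun e he heC =>
    (hM₁ e he).mpr fun z hz => (hcomm z (mem_zc.mp hz).1.2 e heC).symm
  have hKM₁ : F ⊓ K ≤ F ⊓ M₁ := by
    rintro x ⟨hxF, hxK⟩
    exact mem_inf.mpr ⟨hxF, (hM₁ x hxF).mpr fun z hz => (mem_zc.mp hz).2 x (mem_inf.mpr ⟨hFS hxF, hxK⟩)⟩
  obtain ⟨n₀, hn₀, hn₀M, v, hvF, hv2, hvC, hvc, c₀, hc₀, k₀, hk₀, hvck⟩ := hinn
  have hzF : n₀⁻¹ * v * n₀ ∈ F := (mem_normalizer_iff''.mp hn₀ v).mp hvF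
  have hvv : v * v = 1 := by rw [← pow_two, ← hv2]; exact pow_orderOf_eq_one v
  refine KMaxE.false_of_lineR_out (E₁ := F ⊓ M₁) (Q := Q) (l := l) (D := D) h ht hcen hQ ?_ inf_le_left hKM₁ χ hχC
    (fun e he => hχ e he.1) ⟨n₀, hN hn₀, hn₀M, n₀⁻¹ * v * n₀, ⟨?_, hvC, ?_, ?_⟩, ?_, c₀, hc₀, k₀, hk₀, ?_⟩
    ?_ hl2 hlK ?_ ?_ ?_
  · exact fun q hq => mem_inf.mpr ⟨hQF hq, hCM₁ q (hQF hq) (hQ.le hq)⟩
  · exact mem_inf.mpr ⟨hzF, hCM₁ _ hzF hvC⟩
  · calc n₀⁻¹ * v * n₀ * (n₀⁻¹ * v * n₀) = n₀⁻¹ * (v * v) * n₀ := by group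
      _ = 1 := by rw [hvv]; group
  · intro e he
    have h1 : n₀ * e * n₀⁻¹ ∈ F := (mem_normalizer_iff.mp hn₀ e).mp he.1
    have h2 := hvc _ h1
    calc e * (n₀⁻¹ * v * n₀) = n₀⁻¹ * (n₀ * e * n₀⁻¹ * v) * n₀ := by group
      _ = n₀⁻¹ * (v * (n₀ * e * n₀⁻¹)) * n₀ := by rw [h2]
      _ = n₀⁻¹ * v * n₀ * e := by group
  · intro h1
    have h2 : v = 1 := by
      calc v = n₀ * (n₀⁻¹ * v * n₀) * n₀⁻¹ := by group
        _ = 1 := by rw [h1]; group
    rw [h2, orderOf_one] at hv2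
    exact absurd hv2 (by norm_num)
  · rw [← hvck]; group
  · exact hl.mono fun y hy => mem_inf.mpr ⟨hy.1.1, hy.2⟩
  · intro x hx
    apply mem_normalizer_fintype
    rintro e ⟨he, he1⟩
    refine mem_inf.mpr ⟨hlN x hx e he he1, ?_⟩
    have e1 : x * e * x⁻¹ = (x * e * x⁻¹ * e⁻¹) * e := by group
    rw [e1]
    exact mul_mem (hM₁c x (le_normalizer (hlK hx)) e (h.maxE.le he)) he1
  · intro hle
    exact hlF (hle.trans inf_le_left)
  · exact hD.trans hKM₁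

end Cfsg.Agent.OddHalf.D4.GraphCore
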