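import Mathlib
import Cfsg.Agent.OddHalf.D4.GraphCore

/-!
# ODD, D4, (1B): field and graph automorphisms, filtration form

`FltG K S F U L`: a central series of `S ∩ K`, normalized by `F` line by line, on which the elements of `F` without
field automorphism act trivially. For graph automorphisms: refine the height filtration, first the lines
`{x_r(t) x_r'(t)}` (`r' = r^τ`) and the root groups of the fixed roots, then the `X_r`, `r ≠ r^τ`.
-/

set_option autoImplicit false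

namespace Cfsg.Agent.OddHalf.D4.GraphFilt

open Cfsg Subgroup Cfsg.Agent.OddHalf.D4 Cfsg.Agent.OddHalf.D4.Basic Cfsg.Agent.OddHalf.D4.BaryEnd
open Cfsg.Agent.OddHalf.D4.Line Cfsg.Agent.OddHalf.D4.BaryGen Cfsg.Agent.OddHalf.D4.KMax
open Cfsg.Agent.OddHalf.D4.LineR Cfsg.Agent.OddHalf.D4.LemmaOut Cfsg.Agent.OddHalf.D4.NoGraph
open Cfsg.Agent.OddHalf.D4.GraphCore
open scoped Pointwise
open Cfsg.Agent.OddHalf.D4.CommConj (Tight MaxE cj mem_cj mem_cj_mul exists_central_involution)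

variable {G : Type*} [Group G]

/-- **base points**: a 2-group acting on a nontrivial section which is a 2-group -/
theorem exists_base [Finite G] {F A V : Subgroup G} (hF : IsPGroup 2 ↥F) (hA : IsPGroup 2 ↥A)
    (hFA : ∀ e ∈ F, ∀ a ∈ A, e * a * e⁻¹ ∈ A) (hFV : ∀ e ∈ F, ∀ u ∈ V, e * u * e⁻¹ ∈ V)
    (hAV : ∀ a ∈ A, ∀ u ∈ V, a * u * a⁻¹ ∈ V) (hne : ¬ A ≤ V) :
    ∃ b ∈ A, b ∉ V ∧ ∀ e ∈ F, e * b * e⁻¹ * b⁻¹ ∈ V := by
  classical
  set H : Subgroup G := A ⊔ F with hH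
  have hFN : F ≤ normalizer (A : Set G) := fun e he => mem_normalizer_fintype fun a ha => hFA e he a ha
  have hH2 : IsPGroup 2 ↥H := hA.to_sup_of_normal_left' hF hFN
  have hHV : H ≤ normalizer (V : Set G) := sup_le (fun a ha => mem_normalizer_fintype fun u hu => hAV a ha u hu)
    fun e he => mem_normalizer_fintype fun u hu => hFV e he u hu
  have hHA : H ≤ normalizer (A : Set G) := sup_le le_normalizer hFN
  have hVn : (V.subgroupOf H).Normal := by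
    refine ⟨fun u hu x => ?_⟩
    rw [mem_subgroupOf] at hu ⊢
    exact (mem_normalizer_iff.mp (hHV x.2) u).mp hu
  let π : ↥H →* ↥H ⧸ V.subgroupOf H := QuotientGroup.mk' (V.subgroupOf H)
  have hπ : Function.Surjective π := QuotientGroup.mk'_surjective _
  have h1 : IsPGroup 2 ↥(⊤ : Subgroup (↥H ⧸ V.subgroupOf H)) := (hH2.of_surjective π hπ).to_subgroup ⊤
  obtain ⟨a, ha, haV⟩ := SetLike.not_le_iff_exists.mp hne
  have haH : a ∈ H := mem_sup_left ha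
  obtain ⟨z, -, hzA, hz2, hzc⟩ := exists_central_involution (S := (⊤ : Subgroup (↥H ⧸ V.subgroupOf H)))
    (N := (A.subgroupOf H).map π) h1 (by
      rintro s - _ ⟨n, hn, rfl⟩
      obtain ⟨s, rfl⟩ := hπ s
      refine ⟨s * n * s⁻¹, ?_, by simp⟩
      have hn' : (n : G) ∈ A := mem_subgroupOf.mp hn
      exact mem_subgroupOf.mpr ((mem_normalizer_iff.mp (hHA s.2) _).mp hn')) ⟨π ⟨a, haH⟩, mem_top _,
        ⟨⟨a, haH⟩, mem_subgroupOf.mpr ha, rfl⟩, by
          intro h2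
          apply haV
          have h3 : (⟨a, haH⟩ : ↥H) ∈ V.subgroupOf H := (QuotientGroup.eq_one_iff _).mp h2
          exact mem_subgroupOf.mp h3⟩
  obtain ⟨b, hb, rfl⟩ := hzA
  refine ⟨b, mem_subgroupOf.mp hb, ?_, ?_⟩
  · intro hbV
    have h2 : π b = 1 := (QuotientGroup.eq_one_iff _).mpr (mem_subgroupOf.mpr hbV)
    rw [h2, orderOf_one] at hz2
    exact absurd hz2 (by norm_num)
  · intro e he
    have heH : e ∈ H := mem_sup_right he
    have h2 := hzc (π ⟨e, heH⟩) (mem_top _)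
    have h3 : π (⟨e, heH⟩ * b * ⟨e, heH⟩⁻¹ * b⁻¹) = 1 := by
      rw [map_mul, map_mul, map_mul, map_inv, map_inv, h2]
      group
    have h4 : (⟨e, heH⟩ * b * ⟨e, heH⟩⁻¹ * b⁻¹ : ↥H) ∈ V.subgroupOf H := (QuotientGroup.eq_one_iff _).mp h3
    exact mem_subgroupOf.mp h4

/-- A central series of `S ∩ K` generated by relative lines, normalized by `F` line by line; the elements of `F` without
field automorphism act trivially on each line modulo the next term. `gen` only for involutions of `Z(F) ∩ K`. -/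
structure FltG (K S F : Subgroup G) (U : ℕ → Subgroup G) (L : ℕ → Set (Subgroup G)) : Prop where
  zero : U 0 = S ⊓ K
  bot : ∃ n, U n = ⊥
  le : ∀ j, U (j + 1) ≤ U j
  comm : ∀ j, ∀ u ∈ U j, ∀ s ∈ S ⊓ K, s * u * s⁻¹ * u⁻¹ ∈ U (j + 1)
  inv : ∀ j, ∀ u ∈ U j, ∀ e ∈ F, e * u * e⁻¹ ∈ U j
  gen : ∀ j, ∀ x ∈ S ⊓ K, x * x = 1 → (∀ e ∈ F, e * x = x * e) → (∀ u ∈ U (j + 1), u * x = x * u) →
    (∀ l ∈ L j, ∀ y ∈ l, y * x = x * y) → ∀ u ∈ U j, u * x = x * u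
  line_le : ∀ j, ∀ l ∈ L j, l ≤ U j
  line : ∀ j, ∀ l ∈ L j, IsLineR (S ⊓ K) (U (j + 1)) l
  norm : ∀ j, ∀ l ∈ L j, ∀ e ∈ F, ∀ x ∈ l, e * x * e⁻¹ ∈ l ⊔ U (j + 1)
  fix : ∀ j, ∀ l ∈ L j, ∀ x ∈ l, ∀ e ∈ F, (∀ z ∈ zc K S, e * z = z * e) → e * x * e⁻¹ * x⁻¹ ∈ U (j + 1)

theorem FltG.le_zero {K S F : Subgroup G} {U : ℕ → Subgroup G} {L : ℕ → Set (Subgroup G)} (h : FltG K S F U L)
    (i : ℕ) : U i ≤ S ⊓ K := by
  induction i with
  | zero => exact h.zero.le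
  | succ i ih => exact (h.le i).trans ih

variable [Finite G] {K F Q S : Subgroup G}

/-- **(1B)** -/
theorem core_filt {B : Type*} [CommGroup B] (ht : TightAt K)
    (hcen : ∀ x ∈ K, x ∈ centralizer (K : Set G) → x = 1)
    (h : KMaxE K F) (hQ : IsSyl Q (centralizer (K : Set G))) (hQF : Q ≤ F) (hS : IsPGroup 2 ↥S)
    (hSM : S ≤ normalizer (K : Set G)) (hFS : F ≤ S)
    (χ : ↥(normalizer (K : Set G)) →* B)
    (hχC : ∀ c ∈ centralizer (K : Set G), ∀ hc : c ∈ normalizer (K : Set G), χ ⟨c, hc⟩ = 1)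
    (hχ : ∀ e ∈ F, ∀ he : e ∈ normalizer (K : Set G), χ ⟨e, he⟩ = 1 →
      ∃ c ∈ centralizer (K : Set G), ∃ k ∈ K, e = c * k)
    {M₁ : Subgroup G}
    (hM₁c : ∀ a ∈ normalizer (K : Set G), ∀ m ∈ normalizer (K : Set G), a * m * a⁻¹ * m⁻¹ ∈ M₁)
    (hM₁ : ∀ e ∈ F, (e ∈ M₁ ↔ ∀ z ∈ zc K S, e * z = z * e))
    {U : ℕ → Subgroup G} {L : ℕ → Set (Subgroup G)} (hU : FltG K S F U L)
    (hinn : ∃ n ∈ normalizer (F : Set G), n ∉ normalizer (K : Set G) ∧ ∃ v ∈ F, orderOf v = 2 ∧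
      n⁻¹ * v * n ∈ centralizer (K : Set G) ∧ (∀ e ∈ F, e * v = v * e) ∧
      ∃ c ∈ centralizer (K : Set G), ∃ k ∈ K, v = c * k)
    (hA : ∀ j, U (j + 1) ≤ F → zc K S ≤ F → ∀ n ∈ normalizer (F : Set G), n ∉ normalizer (K : Set G) →
      ∀ z ∈ zc K S, ∀ u ∈ U (j + 1), u * (n * z * n⁻¹) = n * z * n⁻¹ * u)
    (hUF : ¬ S ⊓ K ≤ F) : False := by
  classical
  set C := centralizer (K : Set G) with hC
  have hF2 : IsPGroup 2 ↥F := h.maxE.isPGroup
  have hcomm : ∀ k ∈ K, ∀ c ∈ C, k * c = c * k := fun k hk c hc => mem_centralizer_iff.mp hc k hk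
  have hKM : ∀ m ∈ normalizer (K : Set G), ∀ k ∈ K, m * k * m⁻¹ ∈ K :=
    fun m hm k hk => (mem_normalizer_iff.mp hm k).mp hk
  have hinn' := hinn
  obtain ⟨n₀, hn₀, hn₀M, v, hvF, hv2, hvC, hvc, c₀, hc₀, k₀, hk₀, hvck⟩ := hinn'
  have hvv : v * v = 1 := by rw [← pow_two, ← hv2]; exact pow_orderOf_eq_one v
  have hc₀Q : c₀ ∈ Q := comp_mem_Q hcen hF2 hQ hQF hc₀ hk₀ (by rw [← hvck]; exact hvF)
  have hk₀F : k₀ ∈ F := by
    have e : k₀ = c₀⁻¹ * v := by rw [hvck]; group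
    rw [e]; exact mul_mem (inv_mem (hQF hc₀Q)) hvF
  have hk₀U : k₀ ∈ S ⊓ K := mem_inf.mpr ⟨hFS hk₀F, hk₀⟩
  -- uniqueness of the decomposition
  have huniq : ∀ c ∈ C, ∀ k ∈ K, ∀ c' ∈ C, ∀ k' ∈ K, c * k = c' * k' → k = k' := by
    intro c hc k hk c' hc' k' hk' h
    have h1 : c'⁻¹ * c = k' * k⁻¹ := by
      calc c'⁻¹ * c = c'⁻¹ * (c * k) * k⁻¹ := by group
        _ = c'⁻¹ * (c' * k') * k⁻¹ := by rw [h]
        _ = k' * k⁻¹ := by group
    have h2 := hcen _ (mul_mem hk' (inv_mem hk)) (by rw [← h1]; exact mul_mem (inv_mem hc') hc)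
    exact (mul_inv_eq_one.mp h2).symm
  have hk₀2 : k₀ * k₀ = 1 := by
    refine huniq (c₀ * c₀) (mul_mem hc₀ hc₀) _ (mul_mem hk₀ hk₀) 1 (one_mem _) 1 (one_mem _) ?_
    have h2 := hcomm k₀ hk₀ c₀ hc₀
    calc c₀ * c₀ * (k₀ * k₀) = c₀ * (c₀ * k₀) * k₀ := by group
      _ = c₀ * (k₀ * c₀) * k₀ := by rw [h2]
      _ = (c₀ * k₀) * (c₀ * k₀) := by group
      _ = 1 * 1 := by rw [← hvck, hvv, one_mul]
  have hk₀c : ∀ e ∈ F, e * k₀ = k₀ * e := by
    intro e he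
    have heM : e ∈ normalizer (K : Set G) := h.maxE.le he
    have h2 := hvc e he
    have h3 : e * c₀ * e⁻¹ * (e * k₀ * e⁻¹) = c₀ * k₀ := by
      calc e * c₀ * e⁻¹ * (e * k₀ * e⁻¹) = e * (c₀ * k₀) * e⁻¹ := by group
        _ = e * v * e⁻¹ := by rw [← hvck]
        _ = v * e * e⁻¹ := by rw [h2]
        _ = c₀ * k₀ := by rw [← hvck]; group
    have h4 := huniq _ (ht.norm e heM c₀ hc₀) _ (hKM e heM k₀ hk₀) _ hc₀ _ hk₀ h3
    calc e * k₀ = e * k₀ * e⁻¹ * e := by group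
      _ = k₀ * e := by rw [h4]
  -- commuting with `k₀` gives membership in `F`
  have hkF : ∀ x ∈ S, x ∈ K → x * k₀ = k₀ * x → x ∈ F := by
    intro x hxS hxK hx
    have h1 : x * v = v * x := by
      rw [hvck]
      calc x * (c₀ * k₀) = (x * c₀) * k₀ := by group
        _ = (c₀ * x) * k₀ := by rw [hcomm x hxK c₀ hc₀]
        _ = c₀ * (x * k₀) := by group
        _ = c₀ * (k₀ * x) := by rw [hx]
        _ = c₀ * k₀ * x := by group
    exact mem_of_conj h.maxE hS hSM hFS hn₀ hn₀M hxS (Tight.mem_of_comm ht hvC hv2 h1)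
  have hZF : zc K S ≤ F := by
    intro z hz
    rw [mem_zc] at hz
    exact hkF z hz.1.1 hz.1.2 (hz.2 k₀ hk₀U).symm
  -- the level
  have hex : ∃ j, U j ≤ F := by
    obtain ⟨n, hn⟩ := hU.bot
    exact ⟨n, by rw [hn]; exact bot_le⟩
  have h1 := Nat.find_spec hex
  have h2 : Nat.find hex ≠ 0 := by
    intro h0
    rw [h0, hU.zero] at h1
    exact hUF h1
  obtain ⟨i, hi⟩ := Nat.exists_eq_succ_of_ne_zero h2
  rw [hi] at h1
  have h3 : ¬ U i ≤ F := Nat.find_min hex (by omega)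
  obtain ⟨l, hlL, hlF⟩ : ∃ l ∈ L i, ¬ l ≤ F := by
    by_contra hcon
    push Not at hcon
    apply h3
    intro u hu
    have h5 := hU.gen i k₀ hk₀U hk₀2 hk₀c (fun u hu => hk₀c u (h1 hu)) (fun l hl y hy => hk₀c y (hcon l hl hy)) u hu
    have h6 := mem_inf.mp (hU.le_zero i hu)
    exact hkF u h6.1 h6.2 h5
  have hlU : l ≤ U i := hU.line_le i l hlL
  have hlS : l ≤ S ⊓ K := hlU.trans (hU.le_zero i)
  have hline := hU.line i l hlL
  have hl2 : IsPGroup 2 ↥l := hS.to_le (hlS.trans inf_le_left)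
  have hUi : U (i + 1) ≤ S ⊓ K := hU.le_zero (i + 1)
  -- conjugation by `S ∩ K`
  have hcjU : ∀ s ∈ S ⊓ K, ∀ u ∈ U (i + 1), s * u * s⁻¹ ∈ U (i + 1) := by
    intro s hs u hu
    have e : s * u * s⁻¹ = s * u * s⁻¹ * u⁻¹ * u := by group
    rw [e]
    exact mul_mem (hU.le (i + 1) (hU.comm (i + 1) u hu s hs)) hu
  have hlFn : ∀ x ∈ l, x ∉ U (i + 1) → x ∉ F := by
    intro x hx hxU hxF
    apply hlF
    intro y hy
    have h5 := hline.star k₀ hk₀U x hx hxU (hk₀c x hxF) y hy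
    exact hkF y (hlS hy).1 (hlS hy).2 h5
  set A : Subgroup G := l ⊔ U (i + 1) with hAd
  have hAS : A ≤ S ⊓ K := sup_le hlS hUi
  have hAle : ¬ A ≤ U (i + 1) := fun h' => hlF ((le_sup_left.trans h').trans h1)
  obtain ⟨b, hbA, hbU, hbF⟩ := exists_base (F := F) (A := A) (V := U (i + 1)) hF2
    (hS.to_le (hAS.trans inf_le_left)) (by
      intro e he a ha
      have hle : A ≤ A.comap (MulAut.conj e).toMonoidHom := by
        refine sup_le ?_ ?_
        · intro x hx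
          exact hU.norm i l hlL e he x hx
        · intro x hx
          exact mem_sup_right (hU.inv (i + 1) x hx e he)
      exact hle ha) (fun e he u hu => hU.inv (i + 1) u hu e he)
    (fun a ha u hu => hcjU a (hAS ha) u hu) hAle
  have hbnF : b ∉ F := by
    intro hbF'
    have hlN : l ≤ normalizer (U (i + 1) : Set G) := fun x hx =>
      mem_normalizer_fintype fun u hu => hcjU x (hlS hx) u hu
    have h5 : b ∈ (l : Set G) * (U (i + 1) : Set G) := by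
      rw [← coe_mul_of_left_le_normalizer_right l (U (i + 1)) hlN]
      exact hbA
    obtain ⟨x, hx, u, hu, hxu⟩ := h5
    have hxu' : x * u = b := hxu
    have hxF : x ∈ F := by
      have e : x = b * u⁻¹ := by rw [← hxu']; group
      rw [e]
      exact mul_mem hbF' (inv_mem (h1 hu))
    have hxU : x ∉ U (i + 1) := fun h' => hbU (by rw [← hxu']; exact mul_mem h' hu)
    exact hlFn x hx hxU hxF
  have hbS := mem_inf.mp (hAS hbA)
  refine coreG (S := S) (W := U (i + 1)) (b := b) (D := U (i + 1)) (l := l) ht hcen h hQ hQF hFS χ hχC hχ hM₁c hM₁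
    hinn (le_normalizer hbS.2) ?_ hbnF h1 hbF ?_ (fun n hn hnM z hz u hu => hA i h1 hZF n hn hnM z hz u hu)
    (hline.mono fun y hy => mem_inf.mpr ⟨hFS hy.1, hy.2⟩) hl2 (hlS.trans inf_le_right) ?_ hlF
    (le_inf h1 (hUi.trans inf_le_right))
  · obtain ⟨k, hk⟩ := hS ⟨b, hbS.1⟩
    exact ⟨k, congrArg Subtype.val hk⟩
  · intro w hw
    have h5 := hcjU b⁻¹ (inv_mem (hAS hbA)) w hw
    rwa [inv_inv] at h5
  · intro x hx e he heM
    have h5 := hU.fix i l hlL x hx e he ((hM₁ e he).mp heM)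
    have e1 : x * e * x⁻¹ = (e * x * e⁻¹ * x⁻¹)⁻¹ * e := by group
    rw [e1]
    exact mul_mem (inv_mem (h1 h5)) he

end Cfsg.Agent.OddHalf.D4.GraphFilt
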