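import Mathlib

/-!
# ODD, D4: two general lemmas for the instances of LEMMA INPUT, in a file with light imports

* `ind_of` (helper422) : direct indecomposability, from: every non-central normal subgroup contains `X ≠ 1`;
* `schreier` (helper851) : perfect subgroups of `N(f.range)` lie in `f.range C(f.range)`.
-/

set_option autoImplicit false

namespace Cfsg.Agent.OddHalf.D4.IndOf

open Subgroup
open scoped commutatorElement

section

variable {G : Type*} [Group G]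

/-- Direct indecomposability, from: every non-central normal subgroup contains `X ≠ 1`. -/
theorem ind_of {H X : Subgroup G} (perf : H ≤ ⁅H, H⁆) (hX : X ≠ ⊥)
    (hn : ∀ B : Subgroup G, B ≤ H → (∀ y ∈ H, ∀ b ∈ B, y * b * y⁻¹ ∈ B) → (∃ b ∈ B, ∃ y ∈ H, y * b ≠ b * y) → X ≤ B)
    (A B : Subgroup G) (hA : A ≤ H) (hB : B ≤ H) (hAB : ∀ a ∈ A, ∀ b ∈ B, a * b = b * a) (hdis : A ⊓ B = ⊥)
    (hH : ∀ y ∈ H, ∃ a ∈ A, ∃ b ∈ B, y = a * b) : A = ⊥ ∨ B = ⊥ := by
  -- one of the two is central: it is trivial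
  have key : ∀ A B : Subgroup G, A ≤ H → B ≤ H → (∀ a ∈ A, ∀ b ∈ B, a * b = b * a) → A ⊓ B = ⊥ →
      (∀ y ∈ H, ∃ a ∈ A, ∃ b ∈ B, y = a * b) → (∀ a ∈ A, ∀ y ∈ H, y * a = a * y) → A = ⊥ := by
    intro A B hA hB hAB hdis hH hc
    have h1 : ⁅H, H⁆ ≤ B := by
      rw [commutator_le]
      intro x hx y hy
      obtain ⟨a, ha, b, hb, rfl⟩ := hH x hx
      obtain ⟨a', ha', b', hb', rfl⟩ := hH y hy
      have ca : ∀ z ∈ H, a * z = z * a := fun z hz => (hc a ha z hz).symm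
      have ca' : ∀ z ∈ H, a' * z = z * a' := fun z hz => (hc a' ha' z hz).symm
      have e : ⁅a * b, a' * b'⁆ = b * b' * b⁻¹ * b'⁻¹ := by
        rw [commutatorElement_def, _root_.mul_inv_rev, _root_.mul_inv_rev]
        have e1 := ca' b (hB hb)
        have e2 : a * (b * b' * b⁻¹ * b'⁻¹) = (b * b' * b⁻¹ * b'⁻¹) * a := ca _ (mul_mem (mul_mem (mul_mem (hB hb)
          (hB hb')) (inv_mem (hB hb))) (inv_mem (hB hb')))
        have e3 : a' * (a * (b * b' * b⁻¹ * b'⁻¹) * a⁻¹) = (a * (b * b' * b⁻¹ * b'⁻¹) * a⁻¹) * a' :=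
          ca' _ (mul_mem (mul_mem (hA ha) (mul_mem (mul_mem (mul_mem (hB hb) (hB hb')) (inv_mem (hB hb)))
            (inv_mem (hB hb')))) (inv_mem (hA ha)))
        have e4 : a⁻¹ * b'⁻¹ = b'⁻¹ * a⁻¹ := by
          have := ca b' (hB hb')
          calc a⁻¹ * b'⁻¹ = (b' * a)⁻¹ := by group
            _ = (a * b')⁻¹ := by rw [this]
            _ = _ := by group
        have e5 : a * a' = a' * a := ca a' (hA ha')
        calc a * b * (a' * b') * (b⁻¹ * a⁻¹) * (b'⁻¹ * a'⁻¹)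
            = a * (b * a') * b' * b⁻¹ * (a⁻¹ * b'⁻¹) * a'⁻¹ := by group
          _ = a * (a' * b) * b' * b⁻¹ * (b'⁻¹ * a⁻¹) * a'⁻¹ := by rw [e1, e4]
          _ = (a * a') * (b * b' * b⁻¹ * b'⁻¹) * a⁻¹ * a'⁻¹ := by group
          _ = (a' * a) * (b * b' * b⁻¹ * b'⁻¹) * a⁻¹ * a'⁻¹ := by rw [e5]
          _ = (a' * (a * (b * b' * b⁻¹ * b'⁻¹) * a⁻¹)) * a'⁻¹ := by group
          _ = ((a * (b * b' * b⁻¹ * b'⁻¹)) * a⁻¹) * a' * a'⁻¹ := by rw [e3]
          _ = (((b * b' * b⁻¹ * b'⁻¹) * a) * a⁻¹) * a' * a'⁻¹ := by rw [e2]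
          _ = _ := by group
      rw [e]
      exact mul_mem (mul_mem (mul_mem hb hb') (inv_mem hb)) (inv_mem hb')
    rw [eq_bot_iff, ← hdis]
    exact le_inf le_rfl (hA.trans (perf.trans h1))
  have nor : ∀ A B : Subgroup G, A ≤ H → (∀ a ∈ A, ∀ b ∈ B, a * b = b * a) →
      (∀ y ∈ H, ∃ a ∈ A, ∃ b ∈ B, y = a * b) → ∀ y ∈ H, ∀ a ∈ A, y * a * y⁻¹ ∈ A := by
    intro A B hA hAB hH y hy a ha
    obtain ⟨a', ha', b, hb, rfl⟩ := hH y hy
    have e : a' * b * a * (a' * b)⁻¹ = a' * a * a'⁻¹ := by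
      have h1 := hAB a ha b hb
      calc a' * b * a * (a' * b)⁻¹ = a' * (b * a) * b⁻¹ * a'⁻¹ := by group
        _ = a' * (a * b) * b⁻¹ * a'⁻¹ := by rw [h1]
        _ = _ := by group
    rw [e]
    exact mul_mem (mul_mem ha' ha) (inv_mem ha')
  have hBA : ∀ b ∈ B, ∀ a ∈ A, b * a = a * b := fun b hb a ha => (hAB a ha b hb).symm
  have hH' : ∀ y ∈ H, ∃ b ∈ B, ∃ a ∈ A, y = b * a := by
    intro y hy
    obtain ⟨a, ha, b, hb, e⟩ := hH y hy
    exact ⟨b, hb, a, ha, by rw [e, hAB a ha b hb]⟩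
  by_cases h1 : ∃ a ∈ A, ∃ y ∈ H, y * a ≠ a * y
  · by_cases h2 : ∃ b ∈ B, ∃ y ∈ H, y * b ≠ b * y
    · exfalso
      apply hX
      rw [eq_bot_iff, ← hdis]
      exact le_inf (hn A hA (nor A B hA hAB hH) h1) (hn B hB (nor B A hB hBA hH') h2)
    · push Not at h2
      right
      exact key B A hB hA hBA (by rw [inf_comm]; exact hdis) hH' h2
  · push Not at h1
    left
    exact key A B hA hB hAB hdis hH h1

end

theorem schreier {Y G : Type*} [Group Y] [Group G] (f : Y →* G) (hf : Function.Injective f)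
    (out : ∀ H : Subgroup (MulAut Y), H ≤ ⁅H, H⁆ → ∀ α ∈ H, ∃ y, α = MulAut.conj y) :
    ∀ H : Subgroup G, H ≤ Subgroup.normalizer (f.range : Set G) → H ≤ ⁅H, H⁆ →
      ∀ x ∈ H, ∃ k ∈ f.range, ∃ c : G, (∀ y ∈ f.range, c * y = y * c) ∧ x = k * c := by
  intro H hHN hHp x hx
  -- the action of the normaliser on `Y`
  let e : Y ≃* ↥f.range := MonoidHom.ofInjective hf
  let φ : ↥(Subgroup.normalizer (f.range : Set G)) →* MulAut Y :=
    (MulAut.congr e.symm).toMonoidHom.comp (Subgroup.normalizerMonoidHom f.range)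
  have hφ : ∀ (c : ↥(Subgroup.normalizer (f.range : Set G))) (y : Y), f (φ c y) = c * f y * (c : G)⁻¹ := by
    intro c y
    have h1 : φ c y = e.symm (Subgroup.normalizerMonoidHom f.range c (e y)) := rfl
    have h2 : ∀ z : ↥f.range, f (e.symm z) = z := by
      intro z
      have : ((e (e.symm z) : ↥f.range) : G) = z := by rw [MulEquiv.apply_symm_apply]
      exact this
    rw [h1, h2]
    rfl
  have h1 : ((H.subgroupOf (Subgroup.normalizer (f.range : Set G))).map φ) ≤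
      ⁅(H.subgroupOf (Subgroup.normalizer (f.range : Set G))).map φ,
        (H.subgroupOf (Subgroup.normalizer (f.range : Set G))).map φ⁆ := by
    rw [← Subgroup.map_commutator]
    apply Subgroup.map_mono
    intro y hy
    have hy' : (y : G) ∈ ⁅H, H⁆ := hHp (Subgroup.mem_subgroupOf.1 hy)
    have h2 : ⁅H, H⁆ = ⁅H.subgroupOf (Subgroup.normalizer (f.range : Set G)),
        H.subgroupOf (Subgroup.normalizer (f.range : Set G))⁆.map (Subgroup.normalizer (f.range : Set G)).subtype := by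
      rw [Subgroup.map_commutator, Subgroup.map_subgroupOf_eq_of_le hHN]
    rw [h2] at hy'
    obtain ⟨y', hy1, hy2⟩ := hy'
    have : y' = y := Subtype.ext hy2
    rwa [← this]
  have h2 : φ ⟨x, hHN hx⟩ ∈ (H.subgroupOf (Subgroup.normalizer (f.range : Set G))).map φ :=
    ⟨⟨x, hHN hx⟩, hx, rfl⟩
  obtain ⟨y, hy⟩ := out _ h1 _ h2
  refine ⟨f y, ⟨y, rfl⟩, (f y)⁻¹ * x, ?_, by group⟩
  rintro _ ⟨z, rfl⟩
  have h3 := hφ ⟨x, hHN hx⟩ z
  rw [hy, MulAut.conj_apply, map_mul, map_mul, map_inv] at h3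
  have h4 : f y * f z * (f y)⁻¹ = x * f z * x⁻¹ := h3
  calc (f y)⁻¹ * x * f z = (f y)⁻¹ * (x * f z * x⁻¹) * x := by group
    _ = f z * ((f y)⁻¹ * x) := by rw [← h4]; group

end Cfsg.Agent.OddHalf.D4.IndOf
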