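import Cfsg.Agent.OddHalf.D4.InpOf
import Cfsg.Agent.OddHalf.DblR.RowL
import Cfsg.Agent.KFacts.RgdLocL

/-!
# ODD, D4: `KInp` from `SheetL`; no full pair with a Sylow 2-subgroup of `K` in `N(L)`

* **`kinp`** : `KInp ⟨X a : a > 0⟩ ⟨X a : ⟨a, r^∨⟩ ≥ 0⟩ (X r)` for the highest root `r` (long), from `SheetL R r`, `ind`;
* **`false_of_pair`** : `f : Y →* G` injective with image `K`; `FullPair K L Q U` and a Sylow 2-subgroup of `K` contained
  in `N(L)` is impossible.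
-/

set_option autoImplicit false
set_option linter.unusedSectionVars false

namespace Cfsg.Agent.OddHalf.D4.InpL

open CoxeterSystem Cfsg.Agent.ChevalleyStructure.CoxeterGeom Cfsg.Agent.Tits.Roots Cfsg.Agent.Tits.Core
  Cfsg.Agent.Tits.RootComb Cfsg.Agent.Tits.Exchange Cfsg.Agent.Nodes.Reps Cfsg.Agent.Nodes.BNOf
  Cfsg.Agent.Nodes.StabComb Cfsg.Agent.Nodes.Bruhat Cfsg.Agent.Nodes.OppDec Cfsg.Agent.Nodes.LeviDec
  Cfsg.Agent.Nodes.NormX Cfsg.Agent.Nodes.Coroot Cfsg.Agent.Nodes.PosPair Cfsg.Agent.KFacts.RgdPar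
  Cfsg.Agent.KFacts.RgdSL Cfsg.Agent.KFacts.RgdTI Cfsg.Agent.KFacts.RgdCent Cfsg.Agent.KFacts.RgdOdd
  Cfsg.Agent.KFacts.RgdEx Cfsg.Agent.KFacts.RgdTor Cfsg.Agent.KFacts.RgdKfour
open Cfsg.Agent.OddHalf.DblR Cfsg.Agent.OddHalf.D4.InpOf
open Cfsg.Agent.OddHalf.D4 (FullPair TightAt)
open Cfsg.Agent.OddHalf.D4.Basic (IsSyl exists_invol_of_two)
open scoped commutatorElement

variable {I W Y : Type*} [Fintype I] [DecidableEq I] [Group W] [Group Y] {M : CoxeterMatrix I}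
  {cs : CoxeterSystem M W} {A : I → I → ℤ} {h : IsCartan M A} {T : Subgroup Y} {n : I → Y}
  {X : (I → ℤ) → Subgroup Y}

/-- every root group commutes with an involution of `P` -/
theorem gen_of_cov [Finite W] [Finite Y] {R : RGD cs h 2 T n X} {r : I → ℤ}
    (top : RGD.Sup X {x | IsRoot cs h x} = ⊤)
    (cov : ∀ b, IsRoot cs h b → ∃ a, LR R a ∧ 0 ≤ cpr cs h a r ∧ 0 ≤ cpr cs h b a)
    (J : Subgroup Y) (hJ : ∀ x ∈ RGD.Sup X (Ge cs h r), x * x = 1 → x ≠ 1 → ∀ k, k * x = x * k → k ∈ J) : J = ⊤ := by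
  rw [eq_top_iff, ← top]
  refine RGD.Sup_le fun b hb => ?_
  obtain ⟨a, L, ha, hba⟩ := cov b hb
  have h1 : IsPGroup 2 ↥(X a) := by
    refine (isPGroup_rad R L.root).to_le (RGD.le_Sup ⟨L.root, ?_⟩)
    rw [cpr_self cs h L.root]; norm_num
  obtain ⟨x, hx, hx2⟩ := exists_invol_of_two h1 (X_ne_bot R L.root)
  intro k hk
  apply hJ x (RGD.le_Sup (S := Ge cs h r) ⟨L.root, ha⟩ hx)
  · rw [← pow_two, ← hx2]; exact pow_orderOf_eq_one x
  · rintro rfl
    rw [orderOf_one] at hx2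
    norm_num at hx2
  · exact L.comm b hb hba k hk x hx

/-- **`KInp`** -/
theorem kinp [Finite W] [Finite Y] {R : RGD cs h 2 T n X} {r : I → ℤ} (S : SheetL R r) (hr0 : 0 ≤ r)
    (hge : ∀ a, IsRoot cs h a → 0 ≤ a → 0 ≤ cpr cs h a r)
    (cov : ∀ b, IsRoot cs h b → ∃ a, LR R a ∧ 0 ≤ cpr cs h a r ∧ 0 ≤ cpr cs h b a)
    (simp : ∀ N : Subgroup Y, N.Normal → N = ⊥ ∨ N = ⊤) (ctr : ∀ y : Y, (∀ x, x * y = y * x) → y = 1)
    (ind : ∀ A B : Subgroup Y, A ≤ RGD.Sup X (Ge cs h r) → B ≤ RGD.Sup X (Ge cs h r) →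
      (∀ a ∈ A, ∀ b ∈ B, a * b = b * a) → A ⊓ B = ⊥ →
      (∀ y ∈ RGD.Sup X (Ge cs h r), ∃ a ∈ A, ∃ b ∈ B, y = a * b) → A = ⊥ ∨ B = ⊥) :
    KInp (RGD.Sup X (RGD.Pos cs h)) (RGD.Sup X (Ge cs h r)) (X r) where
  two := R.isPGroup_Upos
  max := by
    have : Fact (Nat.Prime 2) := ⟨Nat.prime_two⟩
    intro Q hQ hle
    have hGG : GG cs h T X = ⊤ := Cfsg.Agent.KFacts.RgdRigid.GG_eq_top S.top
    exact (Cfsg.Agent.Nodes.NormalForm.eq_U_of_isPGroup R hQ hle (by rw [hGG]; exact le_top)).le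
  simp := simp
  ctr := ctr
  ZS := RGD.le_Sup (S := RGD.Pos cs h) ⟨S.long.lr.root, hr0⟩
  SP := RGD.Sup_mono fun a ha => ⟨ha.1, hge a ha.1 ha.2⟩
  cen := fun y hy z hz => S.long.lr.comm' hy hz
  perf := S.perf
  k1 := by
    intro α hα
    apply S.k1 r S.long α
    intro a ha x hx
    apply hα x
    refine RGD.le_Sup (S := RGD.Pos cs h) ⟨ha.1, ?_⟩ hx
    rcases ha.1.pos_or_neg with h1 | h1
    · exact h1
    · exfalso
      have h2 := hge (-a) ha.1.neg (by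
        intro k
        have := h1 k
        simp only [Pi.zero_apply, Pi.neg_apply] at this ⊢
        omega)
      rw [cpr_neg_left _ S.long.lr.root] at h2
      have := ha.2
      omega
  res := by
    intro w hw hw1 E hE hEw
    have hGG : GG cs h T X = ⊤ := Cfsg.Agent.KFacts.RgdRigid.GG_eq_top S.top
    exact le_P_of_perfect R S.long.lr S.tab hw hw1 (by rw [hGG]; exact le_top) hEw hE
  out := S.out
  ind := ind
  gen := fun J hJ => gen_of_cov S.top cov J hJ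

/-- **No full pair such that `N(L)` contains a Sylow 2-subgroup of `K`.** -/
theorem false_of_pair [Finite W] [Finite Y] {R : RGD cs h 2 T n X} {r : I → ℤ} (S : SheetL R r)
    (hfull : Cfsg.Agent.KFacts.RgdLocL.HasFull cs h T X r)
    (hk : KInp (RGD.Sup X (RGD.Pos cs h)) (RGD.Sup X (Ge cs h r)) (X r))
    {G : Type*} [Group G] [Finite G] (f : Y →* G) (hf : Function.Injective f) {K : Subgroup G} (hK : f.range = K)
    (tight : TightAt K) (std : ∀ g : G, ¬ ∀ k ∈ K, ∀ l ∈ Cfsg.Agent.OddHalf.D4.CommConj.cj g K, k * l = l * k)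
    (core : ∀ Q : Subgroup G, IsSyl Q (Subgroup.centralizer (K : Set G)) → ∀ P : Subgroup G,
      P ≤ Subgroup.centralizer (K : Set G) → (∀ x ∈ P, ∀ q ∈ Q, x * q = q * x) → P ≤ ⁅P, P⁆ → P = ⊥)
    {L Q U S' : Subgroup G} (hp : FullPair K L Q U) (hQ : 2 < Nat.card Q) (hS' : IsSyl S' K)
    (hS'L : S' ≤ Subgroup.normalizer (L : Set G)) : False := by
  subst hK
  have hQ1 : Q ≠ ⊥ := by
    rintro rfl
    rw [Subgroup.card_bot] at hQ
    omega
  obtain ⟨u, hu, hu2⟩ := exists_invol_of_two hp.sylQ.two hQ1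
  have even : Even (Nat.card ↥(Subgroup.centralizer (f.range : Set G))) :=
    Cfsg.Agent.OddHalf.D4.Basic.even_of_mem hu2 (hp.sylQ.le hu)
  have inp := hk.inp f hf tight even std core
  obtain ⟨k, hk, γ, h1, h2, h3, h4, h5, h6, h7, h8⟩ := inp.root_pair hp hS' hS'L
  obtain ⟨ι, hι, V, st, i, T', Fu⟩ := hfull
  have hctr : ∀ k ∈ f.range, (∀ x ∈ f.range, k * x = x * k) → k = 1 := fun k hk hx =>
    inp.ctr k hk (Subgroup.mem_centralizer_iff.2 fun x hx' => (hx x hx').symm)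
  have St : Std1 f.range := by
    refine ⟨?_, ?_, hctr⟩
    · intro t ht htt ht1 g hg k hk
      have h9 := tight.mem ht (orderOf_eq_prime (by rw [pow_two]; exact htt) ht1) hg
      exact (Subgroup.mem_normalizer_iff.1 h9 k).1 hk
    · intro t ht htt ht1 g hg
      have h9 : g ∈ Subgroup.normalizer (f.range : Set G) :=
        tight.tight g t ht (orderOf_eq_prime (by rw [pow_two]; exact htt) ht1) hg
      exact Cfsg.Agent.OddHalf.D4.CommConj.cj_eq_of_mem_normalizer h9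
  -- two elements of `Q`
  obtain ⟨t, t', ht1, ht1', hne⟩ : ∃ t t' : ↥Q, t ≠ 1 ∧ t' ≠ 1 ∧ t' ≠ t := by
    classical
    have : Fintype ↥Q := Fintype.ofFinite _
    rw [Nat.card_eq_fintype_card] at hQ
    obtain ⟨a, b, c, hab, hac, hbc⟩ := Fintype.two_lt_card_iff.1 hQ
    by_cases ha : a = 1
    · subst ha
      exact ⟨b, c, hab.symm, hac.symm, hbc.symm⟩
    · by_cases hb : b = 1
      · subst hb
        exact ⟨a, c, ha, hbc.symm, hac.symm⟩
      · exact ⟨a, b, ha, hb, hab.symm⟩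
  have hle : ∀ D : Subgroup Y, D.map f ≤ f.range := by
    rintro D _ ⟨y, -, rfl⟩
    exact ⟨y, rfl⟩
  refine S.row f hf rfl St hp.sylQ.le hp.sylQ.two (fun D hQD hD hD2 => hp.sylQ.max D hD2 hQD hD) ?_
    t.2 (fun e => ht1 (Subtype.ext e)) t'.2 (fun e => ht1' (Subtype.ext e)) (fun e => hne (Subtype.ext e))
    (T0 := T ⊓ (X r ⊔ X (-r))) inf_le_left
    (fun amb two k3 => (Fu.map f hf).loc (hle _) (hle _) amb two k3)
    (γ := γ) (k := 1) (one_mem _) h5 (by rw [cj_one]; exact h6) h7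
  intro H hH hHp
  refine core Q hp.sylQ H (fun x hx => (hH hx).1) ?_ hHp
  intro x hx q hq
  exact (Subgroup.mem_centralizer_iff.1 (hH hx).2 q hq).symm

/-- Some root group datum of `Y` has `SheetL`, `HasFull` and `KInp`. -/
def HasInpL (Y : Type*) [Group Y] : Prop :=
  ∃ (l : ℕ) (M : CoxeterMatrix (Fin l)) (A : Fin l → Fin l → ℤ) (h : IsCartan M A) (T : Subgroup Y) (n : Fin l → Y)
    (X : (Fin l → ℤ) → Subgroup Y) (_ : Finite M.Group) (R : RGD M.toCoxeterSystem h 2 T n X) (r : Fin l → ℤ),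
    SheetL R r ∧ Cfsg.Agent.KFacts.RgdLocL.HasFull M.toCoxeterSystem h T X r ∧
      KInp (RGD.Sup X (RGD.Pos M.toCoxeterSystem h)) (RGD.Sup X (Ge M.toCoxeterSystem h r)) (X r)

/-- **No full pair such that `N(L)` contains a Sylow 2-subgroup of `K`.** -/
theorem HasInpL.false_of_pair {Y : Type*} [Group Y] [Finite Y] (H : HasInpL Y)
    {G : Type*} [Group G] [Finite G] (f : Y →* G) (hf : Function.Injective f) {K : Subgroup G} (hK : f.range = K)
    (tight : TightAt K) (std : ∀ g : G, ¬ ∀ k ∈ K, ∀ l ∈ Cfsg.Agent.OddHalf.D4.CommConj.cj g K, k * l = l * k)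
    (core : ∀ Q : Subgroup G, IsSyl Q (Subgroup.centralizer (K : Set G)) → ∀ P : Subgroup G,
      P ≤ Subgroup.centralizer (K : Set G) → (∀ x ∈ P, ∀ q ∈ Q, x * q = q * x) → P ≤ ⁅P, P⁆ → P = ⊥)
    {L Q U S' : Subgroup G} (hp : FullPair K L Q U) (hQ : 2 < Nat.card Q) (hS' : IsSyl S' K)
    (hS'L : S' ≤ Subgroup.normalizer (L : Set G)) : False := by
  obtain ⟨l, M, A, h, T, n, X, _, R, r, S, hfull, hk⟩ := H
  exact InpL.false_of_pair S hfull hk f hf hK tight std core hp hQ hS' hS'L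

theorem HasInpL.congr {Y Y' : Type*} [Group Y] [Group Y'] [Finite Y] (H : HasInpL Y) (e : Y' ≃* Y)
    {G : Type*} [Group G] [Finite G] (f : Y' →* G) (hf : Function.Injective f) {K : Subgroup G} (hK : f.range = K)
    (tight : TightAt K) (std : ∀ g : G, ¬ ∀ k ∈ K, ∀ l ∈ Cfsg.Agent.OddHalf.D4.CommConj.cj g K, k * l = l * k)
    (core : ∀ Q : Subgroup G, IsSyl Q (Subgroup.centralizer (K : Set G)) → ∀ P : Subgroup G,
      P ≤ Subgroup.centralizer (K : Set G) → (∀ x ∈ P, ∀ q ∈ Q, x * q = q * x) → P ≤ ⁅P, P⁆ → P = ⊥)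
    {L Q U S' : Subgroup G} (hp : FullPair K L Q U) (hQ : 2 < Nat.card Q) (hS' : IsSyl S' K)
    (hS'L : S' ≤ Subgroup.normalizer (L : Set G)) : False := by
  refine H.false_of_pair (f.comp e.symm.toMonoidHom) (hf.comp e.symm.injective) ?_ tight std core hp hQ hS' hS'L
  rw [← hK, MonoidHom.range_comp, MonoidHom.range_eq_top.2 e.symm.surjective, ← MonoidHom.range_eq_map]

end Cfsg.Agent.OddHalf.D4.InpL
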