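import Cfsg.Agent.OddHalf.D4.Input
import Cfsg.Agent.KFacts.RgdAutChev

/-!
# ODD, D4: the facts `Inp` on `K = f(Y)` from facts on the abstract group `Y`

* `KInp S P Z` : facts on the abstract simple group `Y`: `S` is a Sylow 2-subgroup, `Z = Z(S)`, `P` the largest perfect
  subgroup of `C(z)`, `1 ≠ z ∈ Z`;
* **`KInp.inp`** : `Input.Inp` for `K = f.range`, `f` injective;
* `dich`, `ind_of` : `ind` from `irr` (`Q / Z` irreducible), `core` (`O₂(P) = Q`), `cent` (`C(Q) = Z`).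
-/

set_option autoImplicit false

namespace Cfsg.Agent.OddHalf.D4.InpOf

open Cfsg Subgroup Cfsg.Agent.OddHalf.D4 Cfsg.Agent.OddHalf.D4.Basic Cfsg.Agent.OddHalf.D4.Input
open Cfsg.Agent.OddHalf.D4.CommConj (Tight cj mem_cj cj_mul card_cj cj_eq_of_mem_normalizer mem_normalizer_of_cj_eq
  mem_cj_mul)

open scoped commutatorElement

variable {Y : Type*} [Group Y]

/-- The facts on the abstract group `Y`. -/
structure KInp (S P Z : Subgroup Y) : Prop where
  two : IsPGroup 2 ↥S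
  max : ∀ Q : Subgroup Y, IsPGroup 2 ↥Q → S ≤ Q → Q ≤ S
  simp : ∀ N : Subgroup Y, N.Normal → N = ⊥ ∨ N = ⊤
  ctr : ∀ y : Y, (∀ x, x * y = y * x) → y = 1
  ZS : Z ≤ S
  SP : S ≤ P
  cen : ∀ y ∈ P, ∀ z ∈ Z, y * z = z * y
  perf : P ≤ ⁅P, P⁆
  k1 : ∀ α : MulAut Y, (∀ s ∈ S, α s = s) → ∃ z ∈ Z, α = MulAut.conj z
  res : ∀ w ∈ Z, w ≠ 1 → ∀ E : Subgroup Y, E ≤ ⁅E, E⁆ → (∀ y ∈ E, y * w = w * y) → E ≤ P
  /-- perfect groups of automorphisms are inner -/
  out : ∀ H : Subgroup (MulAut Y), H ≤ ⁅H, H⁆ → ∀ α ∈ H, ∃ y, α = MulAut.conj y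
  /-- `P` is directly indecomposable -/
  ind : ∀ A B : Subgroup Y, A ≤ P → B ≤ P → (∀ a ∈ A, ∀ b ∈ B, a * b = b * a) → A ⊓ B = ⊥ →
    (∀ y ∈ P, ∃ a ∈ A, ∃ b ∈ B, y = a * b) → A = ⊥ ∨ B = ⊥
  gen : ∀ J : Subgroup Y, (∀ x ∈ P, x * x = 1 → x ≠ 1 → ∀ k, k * x = x * k → k ∈ J) → J = ⊤

/-! ### `ind` -/

/-- A normal subgroup of `P` is in `Z` or contains `Q`. -/
theorem dich {P Q Z : Subgroup Y} (hQP : Q ≤ P) (hQN : ∀ p ∈ P, ∀ q ∈ Q, p * q * p⁻¹ ∈ Q)
    (cen : ∀ y ∈ P, ∀ z ∈ Z, y * z = z * y) (sq : ∀ z ∈ Z, z * z = 1)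
    (irr : ∀ N : Subgroup Y, N ≤ Q → (∀ g ∈ P, ∀ x ∈ N, g * x * g⁻¹ ∈ N) → N ≤ Z ∨ N = Q)
    (core : ∀ E : Subgroup Y, E ≤ P → IsPGroup 2 ↥E → (∀ p ∈ P, ∀ d ∈ E, p * d * p⁻¹ ∈ E) → E ≤ Q)
    (cent : ∀ c ∈ P, (∀ v ∈ Q, c * v = v * c) → c ∈ Z)
    (B : Subgroup Y) (hB : B ≤ P) (hBN : ∀ y ∈ P, ∀ b ∈ B, y * b * y⁻¹ ∈ B) : B ≤ Z ∨ Q ≤ B := by
  rcases irr (B ⊓ Q) inf_le_right (fun g hg x hx =>
    Subgroup.mem_inf.2 ⟨hBN g hg x hx.1, hQN g hg x hx.2⟩) with h | h
  · left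
    -- `B` is a 2-group
    have h4 : ∀ b ∈ B, b ^ 2 ∈ Z := by
      intro b hb
      apply cent _ (hB (pow_mem hb 2))
      intro v hv
      have h5 : b * v * b⁻¹ * v⁻¹ ∈ Z := by
        apply h
        refine Subgroup.mem_inf.2 ⟨?_, ?_⟩
        · have h6 := mul_mem hb (hBN v (hQP hv) _ (inv_mem hb))
          have e : b * v * b⁻¹ * v⁻¹ = b * (v * b⁻¹ * v⁻¹) := by group
          rw [e]; exact h6
        · exact mul_mem (hQN b (hB hb) v hv) (inv_mem hv)
      set z := b * v * b⁻¹ * v⁻¹ with hz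
      have h7 : b * v * b⁻¹ = z * v := by rw [hz]; group
      have h8 := cen b (hB hb) z h5
      have h9 := sq z h5
      have h10 : b ^ 2 * v * (b ^ 2)⁻¹ = v := by
        calc b ^ 2 * v * (b ^ 2)⁻¹ = b * (b * v * b⁻¹) * b⁻¹ := by rw [pow_two]; group
          _ = (b * z) * v * b⁻¹ := by rw [h7]; group
          _ = z * (b * v * b⁻¹) := by rw [h8]; group
          _ = (z * z) * v := by rw [h7]; group
          _ = v := by rw [h9, one_mul]
      calc b ^ 2 * v = b ^ 2 * v * (b ^ 2)⁻¹ * b ^ 2 := by group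
        _ = v * b ^ 2 := by rw [h10]
    have h2 : IsPGroup 2 ↥B := by
      rintro ⟨b, hb⟩
      refine ⟨2, Subtype.ext ?_⟩
      have h5 := sq _ (h4 b hb)
      show b ^ 2 ^ 2 = 1
      calc b ^ 2 ^ 2 = b ^ 2 * b ^ 2 := by rw [← pow_add]; norm_num
        _ = 1 := h5
    have h3 := core B hB h2 hBN
    exact fun b hb => h (Subgroup.mem_inf.2 ⟨hb, h3 hb⟩)
  · right
    exact h.ge.trans inf_le_left

/-- `ind` from `dich` -/
theorem ind_of {P Q Z : Subgroup Y} (ZQ : Z ≤ Q) (cen : ∀ y ∈ P, ∀ z ∈ Z, y * z = z * y) (perf : P ≤ ⁅P, P⁆)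
    (cent : ∀ c ∈ P, (∀ v ∈ Q, c * v = v * c) → c ∈ Z)
    (di : ∀ B : Subgroup Y, B ≤ P → (∀ y ∈ P, ∀ b ∈ B, y * b * y⁻¹ ∈ B) → B ≤ Z ∨ Q ≤ B)
    (A B : Subgroup Y) (hA : A ≤ P) (hB : B ≤ P) (hAB : ∀ a ∈ A, ∀ b ∈ B, a * b = b * a) (hi : A ⊓ B = ⊥)
    (hs : ∀ y ∈ P, ∃ a ∈ A, ∃ b ∈ B, y = a * b) : A = ⊥ ∨ B = ⊥ := by
  have hAN : ∀ y ∈ P, ∀ a ∈ A, y * a * y⁻¹ ∈ A := by
    intro y hy a ha
    obtain ⟨a', ha', b', hb', rfl⟩ := hs y hy
    have h1 := hAB a ha b' hb'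
    have e : a' * b' * a * (a' * b')⁻¹ = a' * a * a'⁻¹ := by
      calc a' * b' * a * (a' * b')⁻¹ = a' * (b' * a) * b'⁻¹ * a'⁻¹ := by group
        _ = a' * (a * b') * b'⁻¹ * a'⁻¹ := by rw [h1]
        _ = _ := by group
    rw [e]
    exact mul_mem (mul_mem ha' ha) (inv_mem ha')
  have hBN : ∀ y ∈ P, ∀ b ∈ B, y * b * y⁻¹ ∈ B := by
    intro y hy b hb
    obtain ⟨a', ha', b', hb', rfl⟩ := hs y hy
    have h1 := hAB a' ha' _ (mul_mem (mul_mem hb' hb) (inv_mem hb'))
    have e : a' * b' * b * (a' * b')⁻¹ = b' * b * b'⁻¹ := by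
      calc a' * b' * b * (a' * b')⁻¹ = a' * (b' * b * b'⁻¹) * a'⁻¹ := by group
        _ = (b' * b * b'⁻¹) * a' * a'⁻¹ := by rw [h1]
        _ = _ := by group
    rw [e]
    exact mul_mem (mul_mem hb' hb) (inv_mem hb')
  -- if one factor is central the other one is everything
  have key : ∀ A B : Subgroup Y, A ≤ Z → B ≤ P → (∀ y ∈ P, ∃ a ∈ A, ∃ b ∈ B, y = a * b) → P ≤ B := by
    intro A B hAZ hB hs
    refine perf.trans ?_
    rw [Subgroup.commutator_le]
    intro x hx y hy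
    obtain ⟨a, ha, b, hb, rfl⟩ := hs x hx
    obtain ⟨a', ha', b', hb', rfl⟩ := hs y hy
    have e : ⁅a * b, a' * b'⁆ = ⁅b, b'⁆ := by
      have c1 := cen b (hB hb) a (hAZ ha)
      have c2 := cen b (hB hb) a' (hAZ ha')
      have c3 := cen b' (hB hb') a (hAZ ha)
      have c4 := cen b' (hB hb') a' (hAZ ha')
      have c5 : a * a' = a' * a := by
        have := cen _ (mul_mem hx (inv_mem (hB hb))) a' (hAZ ha')
        have e2 : a * b * b⁻¹ = a := by group
        rwa [e2] at this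
      have h1 : ∀ u v w : Y, w * v = v * w → w * u = u * w → ⁅w * u, v⁆ = ⁅u, v⁆ := by
        intro u v w h1 h2
        rw [commutatorElement_def, commutatorElement_def]
        calc w * u * v * (w * u)⁻¹ * v⁻¹ = (w * u) * v * (w * u)⁻¹ * v⁻¹ := by group
          _ = (u * w) * v * (u * w)⁻¹ * v⁻¹ := by rw [h2]
          _ = u * (w * v) * w⁻¹ * u⁻¹ * v⁻¹ := by group
          _ = u * (v * w) * w⁻¹ * u⁻¹ * v⁻¹ := by rw [h1]
          _ = _ := by group
      have h2 : a * (a' * b') = a' * b' * a := by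
        calc a * (a' * b') = (a * a') * b' := by group
          _ = a' * (a * b') := by rw [c5]; group
          _ = a' * b' * a := by rw [← c3]; group
      rw [h1 b (a' * b') a h2 c1.symm, ← inv_inj, commutatorElement_inv, commutatorElement_inv]
      exact h1 b' b a' c2.symm c4.symm
    rw [e]
    exact (Subgroup.commutator_le_self B) (Subgroup.commutator_mem_commutator hb hb')
  rcases di A hA hAN with h1 | h1
  · left
    have h2 := key A B h1 hB hs
    rw [eq_bot_iff, ← hi]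
    exact le_inf le_rfl (hA.trans h2)
  · rcases di B hB hBN with h2 | h2
    · right
      have h3 := key B A h2 hA (fun y hy => by
        obtain ⟨a, ha, b, hb, e⟩ := hs y hy
        exact ⟨b, hb, a, ha, by rw [e, hAB a ha b hb]⟩)
      rw [eq_bot_iff, ← hi]
      exact le_inf (hB.trans h3) le_rfl
    · left
      have h3 : Q = ⊥ := by
        rw [eq_bot_iff, ← hi]; exact le_inf h1 h2
      rw [eq_bot_iff, ← h3]
      intro a ha
      apply ZQ
      apply cent a (hA ha)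
      intro v hv
      rw [h3, Subgroup.mem_bot] at hv
      rw [hv, mul_one, one_mul]

/-! ### Transport -/

variable {S P Z : Subgroup Y} {G : Type*} [Group G]

/-- perfect groups of automorphisms -/
theorem out_map (f : Y →* G) (hf : Function.Injective f)
    (out : ∀ H : Subgroup (MulAut Y), H ≤ ⁅H, H⁆ → ∀ α ∈ H, ∃ y, α = MulAut.conj y)
    (H : Subgroup G) (hHN : H ≤ normalizer (f.range : Set G)) (hHp : H ≤ ⁅H, H⁆) :
    H ≤ f.range ⊔ centralizer (f.range : Set G) := by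
  intro x hx
  -- the action of the normaliser on `Y`
  let e : Y ≃* ↥f.range := MonoidHom.ofInjective hf
  let φ : ↥(Subgroup.normalizer (f.range : Set G)) →* MulAut Y :=
    (MulAut.congr e.symm).toMonoidHom.comp (Subgroup.normalizerMonoidHom f.range)
  have hφ : ∀ (c : ↥(Subgroup.normalizer (f.range : Set G))) (y : Y), f (φ c y) = c * f y * (c : G)⁻¹ := by
    intro c y
    have h1 : φ c y = e.symm (Subgroup.normalizerMonoidHom f.range c (e y)) := rfl
    have h2 : ∀ z : ↥f.range, f (e.symm z) = z := by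
      intro z
      have : ((e (e.symm z) : ↥f.range) : G) = z := by rw [MulEquiv.apply_symm_apply]
      exact this
    rw [h1, h2]
    rfl
  have h1 : ((H.subgroupOf (Subgroup.normalizer (f.range : Set G))).map φ) ≤
      ⁅(H.subgroupOf (Subgroup.normalizer (f.range : Set G))).map φ,
        (H.subgroupOf (Subgroup.normalizer (f.range : Set G))).map φ⁆ := by
    rw [← Subgroup.map_commutator]
    apply Subgroup.map_mono
    intro y hy
    have hy' : (y : G) ∈ ⁅H, H⁆ := hHp (Subgroup.mem_subgroupOf.1 hy)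
    have h2 : ⁅H, H⁆ = ⁅H.subgroupOf (Subgroup.normalizer (f.range : Set G)),
        H.subgroupOf (Subgroup.normalizer (f.range : Set G))⁆.map (Subgroup.normalizer (f.range : Set G)).subtype := by
      rw [Subgroup.map_commutator, Subgroup.map_subgroupOf_eq_of_le hHN]
    rw [h2] at hy'
    obtain ⟨y', hy1, hy2⟩ := hy'
    have : y' = y := Subtype.ext hy2
    rwa [← this]
  have h2 : φ ⟨x, hHN hx⟩ ∈ (H.subgroupOf (Subgroup.normalizer (f.range : Set G))).map φ :=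
    ⟨⟨x, hHN hx⟩, hx, rfl⟩
  obtain ⟨y, hy⟩ := out _ h1 _ h2
  have h5 : (f y)⁻¹ * x ∈ centralizer (f.range : Set G) := by
    rw [mem_centralizer_iff]
    rintro _ ⟨z, rfl⟩
    have h3 := hφ ⟨x, hHN hx⟩ z
    rw [hy, MulAut.conj_apply, map_mul, map_mul, map_inv] at h3
    have h4 : f y * f z * (f y)⁻¹ = x * f z * x⁻¹ := h3
    calc f z * ((f y)⁻¹ * x) = (f y)⁻¹ * (f y * f z * (f y)⁻¹) * x := by group
      _ = (f y)⁻¹ * x * f z := by rw [h4]; group
  have h6 : x = f y * ((f y)⁻¹ * x) := by group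
  rw [h6]
  exact mul_mem (Subgroup.mem_sup_left ⟨y, rfl⟩) (Subgroup.mem_sup_right h5)

/-- **`Inp`** -/
theorem KInp.inp (h : KInp S P Z) (f : Y →* G) (hf : Function.Injective f) (tight : TightAt f.range)
    (even : Even (Nat.card ↥(centralizer (f.range : Set G))))
    (std : ∀ g : G, ¬ ∀ k ∈ f.range, ∀ l ∈ cj g f.range, k * l = l * k)
    (core : ∀ Q : Subgroup G, IsSyl Q (centralizer (f.range : Set G)) → ∀ P : Subgroup G,
      P ≤ centralizer (f.range : Set G) → (∀ x ∈ P, ∀ q ∈ Q, x * q = q * x) → P ≤ ⁅P, P⁆ → P = ⊥) :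
    Inp f.range (S.map f) (Z.map f) (P.map f) where
  syl := by
    refine ⟨h.two.map _, ?_, ?_⟩
    · rintro _ ⟨y, -, rfl⟩; exact ⟨y, rfl⟩
    · intro Q hQ hSQ hQK
      have h1 : (Q.comap f).map f = Q := by
        rw [Subgroup.map_comap_eq, inf_eq_right]
        exact hQK
      have h2 : IsPGroup 2 ↥(Q.comap f) := hQ.comap_of_injective f hf
      have h3 := h.max _ h2 (by
        intro s hs
        exact hSQ ⟨s, hs, rfl⟩)
      rw [← h1]
      exact Subgroup.map_mono h3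
  tight := tight
  even := even
  ctr := by
    rintro _ ⟨y, rfl⟩ hy
    rw [h.ctr y fun x => hf (by
      rw [map_mul, map_mul]
      exact mem_centralizer_iff.1 hy (f x) ⟨x, rfl⟩), map_one]
  std := std
  simp := by
    intro N hN hNn
    have h1 : (N.comap f).map f = N := by
      rw [Subgroup.map_comap_eq, inf_eq_right]
      exact hN
    have h2 : (N.comap f).Normal := ⟨fun n hn g => by
      rw [Subgroup.mem_comap] at hn ⊢
      rw [map_mul, map_mul, map_inv]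
      exact hNn (f g) ⟨g, rfl⟩ _ hn⟩
    rcases h.simp _ h2 with h3 | h3
    · left
      rw [← h1, h3, Subgroup.map_bot]
    · right
      rw [← h1, h3, ← MonoidHom.range_eq_map]
  XS := Subgroup.map_mono h.ZS
  SH := Subgroup.map_mono h.SP
  HK := by
    rintro _ ⟨y, -, rfl⟩; exact ⟨y, rfl⟩
  HX := by
    rintro _ ⟨y, hy, rfl⟩ _ ⟨z, hz, rfl⟩
    rw [← map_mul, ← map_mul, h.cen y hy z hz]
  perf := by
    rw [← Subgroup.map_commutator]
    exact Subgroup.map_mono h.perf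
  cen := by
    intro y hy _ hyS
    obtain ⟨z, hz, hzy⟩ := Cfsg.Agent.KFacts.RgdAutChev.exists_of_aut f hf (S := (S : Set Y)) (Z := Z) h.k1 hy
      (fun x hx => (hyS _ ⟨x, hx, rfl⟩).symm)
    have h1 : (f z)⁻¹ * y ∈ centralizer (f.range : Set G) := by
      rw [mem_centralizer_iff]
      rintro _ ⟨x, rfl⟩
      exact (hzy x).symm
    refine ⟨(f z)⁻¹ * y, h1, f z, ⟨z, hz, rfl⟩, ?_⟩
    rw [← mem_centralizer_iff.1 h1 (f z) ⟨z, rfl⟩]
    group
  res := by
    rintro _ ⟨w, hw, rfl⟩ hw1 E hEK hE hEw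
    have h1 : (E.comap f).map f = E := by
      rw [Subgroup.map_comap_eq, inf_eq_right]
      exact hEK
    rw [← h1]
    apply Subgroup.map_mono
    apply h.res w hw (by rintro rfl; exact hw1 (map_one f))
    · intro x hx
      have h2 : f x ∈ ⁅E, E⁆ := hE hx
      rw [← h1, ← Subgroup.map_commutator] at h2
      obtain ⟨x', hx', e⟩ := h2
      rw [← hf e]; exact hx'
    · intro x hx
      apply hf
      rw [map_mul, map_mul]
      exact hEw _ hx
  out := fun E hE hEp => out_map f hf h.out E hE hEp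
  ind := by
    intro A B hA hB hAB hi hs
    have hPr : P.map f ≤ f.range := by rintro _ ⟨y, -, rfl⟩; exact ⟨y, rfl⟩
    have h1 : (A.comap f).map f = A := by
      rw [Subgroup.map_comap_eq, inf_eq_right]; exact hA.trans hPr
    have h1' : (B.comap f).map f = B := by
      rw [Subgroup.map_comap_eq, inf_eq_right]; exact hB.trans hPr
    have h2 : ∀ C : Subgroup G, C ≤ P.map f → C.comap f ≤ P := by
      intro C hC b hb
      obtain ⟨b', hb', e⟩ := hC hb
      rw [← hf e]; exact hb'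
    rcases h.ind (A.comap f) (B.comap f) (h2 A hA) (h2 B hB) (by
      intro a ha b hb
      apply hf
      rw [map_mul, map_mul]
      exact hAB _ ha _ hb) (by
      rw [eq_bot_iff]
      intro x hx
      have h3 : f x ∈ A ⊓ B := ⟨hx.1, hx.2⟩
      rw [hi, Subgroup.mem_bot] at h3
      exact Subgroup.mem_bot.2 (hf (by rw [h3, map_one]))) (by
      intro y hy
      obtain ⟨a, ha, b, hb, e⟩ := hs (f y) ⟨y, hy, rfl⟩
      rw [← h1] at ha
      rw [← h1'] at hb
      obtain ⟨a', ha', rfl⟩ := ha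
      obtain ⟨b', hb', rfl⟩ := hb
      exact ⟨a', ha', b', hb', hf (by rw [e, map_mul])⟩) with h3 | h3
    · left
      rw [← h1, h3, Subgroup.map_bot]
    · right
      rw [← h1', h3, Subgroup.map_bot]
  gen := by
    intro J hJ
    have h2 := h.gen (J.comap f) (by
      intro x hx hxx hx1 k hk
      apply hJ (f x) ⟨x, hx, rfl⟩
      · rw [← map_mul, hxx, map_one]
      · intro e; exact hx1 (hf (by rw [e, map_one]))
      · exact ⟨k, rfl⟩
      · rw [← map_mul, ← map_mul, hk])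
    rintro _ ⟨y, rfl⟩
    have h3 : y ∈ J.comap f := by rw [h2]; exact Subgroup.mem_top y
    exact h3
  core := core

end Cfsg.Agent.OddHalf.D4.InpOf
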