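import Cfsg.Agent.OddHalf.D4.InpL
import Cfsg.Agent.OddHalf.DblR.SheetTwE6

/-!
# ODD, D4: LEMMA INPUT for `²E₆(q)`, `q = 2^a ≥ 4`

* `kinp` : `KInp` for a root group datum of type `F₄` with `Facts.Dat`;
* **`hasInpL_twE6`** : `HasInpL ²E₆(2^a)`, `a ≥ 2`.
-/

set_option autoImplicit false
set_option linter.unusedSectionVars false

namespace Cfsg.Agent.OddHalf.D4.InpTwESix

open CoxeterSystem Cfsg.Agent.ChevalleyStructure.CoxeterGeom Cfsg.Agent.Tits.Roots Cfsg.Agent.Tits.Core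
  Cfsg.Agent.Tits.RootComb Cfsg.Agent.Tits.Exchange Cfsg.Agent.Nodes.Reps Cfsg.Agent.Nodes.BNOf
  Cfsg.Agent.Nodes.StabComb Cfsg.Agent.Nodes.Bruhat Cfsg.Agent.Nodes.OppDec
  Cfsg.Agent.Nodes.Coroot Cfsg.Agent.KFacts.RgdSL Cfsg.Agent.KFacts.RgdTI Cfsg.Agent.KFacts.RgdOdd
  Cfsg.Agent.KFacts.RgdCent Cfsg.Agent.KFacts.RgdEx Cfsg.Agent.KFacts.RgdPar
  Cfsg.Agent.Nodes.RGDTwE6 Cfsg.Agent.KFacts.TwESix.Comb Cfsg.Agent.KFacts.TwESix.CombRho
  Cfsg.Agent.KFacts.TwESix.Facts Cfsg.Agent.KFacts.TwESix.QRho Cfsg.Agent.Schreier.Basic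
open Cfsg.Agent.OddHalf.DblR Cfsg.Agent.OddHalf.D4.InpOf Cfsg.Agent.OddHalf.D4.InpL
open scoped commutatorElement

theorem rho_nonneg : (0 : Fin 4 → ℤ) ≤ rho := by
  intro i
  fin_cases i <;> simp [rho]

theorem cov_comb : ∀ b ∈ rts, ∃ a ∈ rts, bf a a = 4 ∧ 0 ≤ a 0 ∧ 0 ≤ bf b a := by decide +kernel

variable {W Y : Type*} [Group W] [Group Y] {cs : CoxeterSystem CoxeterMatrix.F₄ W} {T : Subgroup Y} {n : Fin 4 → Y}
  {X : (Fin 4 → ℤ) → Subgroup Y} {R : RGD cs isCartan 2 T n X}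

/-- **`KInp`** -/
theorem kinp [Finite W] [Finite Y] (D : Dat R) (hN : NoCent cs isCartan T X) (S : SheetL R rho)
    (simp : ∀ N : Subgroup Y, N.Normal → N = ⊥ ∨ N = ⊤) (ctr : ∀ y : Y, (∀ x, x * y = y * x) → y = 1) :
    KInp (RGD.Sup X (RGD.Pos cs isCartan)) (RGD.Sup X (Ge cs isCartan rho)) (X rho) := by
  have hGG : GG cs isCartan T X = ⊤ := Cfsg.Agent.KFacts.RgdRigid.GG_eq_top S.top
  have hcov : ∀ b, IsRoot cs isCartan b → ∃ a, LR R a ∧ 0 ≤ cpr cs isCartan a rho ∧ 0 ≤ cpr cs isCartan b a := by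
    intro b hb
    obtain ⟨a, ha, h1, h2, h3⟩ := cov_comb b ((mem_rts cs).1 hb)
    have har := (mem_rts cs).2 ha
    refine ⟨a, D.lr a har h1, by rw [cpr_rho]; exact h2, ?_⟩
    have h4 := cpr_long cs b har h1
    omega
  have hcent : ∀ c ∈ PP cs X, (∀ v ∈ QQ cs X, c * v = v * c) → c ∈ X rho := fun c _ hv =>
    Cfsg.Agent.KFacts.TwESix.Faith.cent_Q D hN (by rw [hGG]; trivial) hv
  refine InpL.kinp S rho_nonneg (fun a _ ha => by rw [cpr_rho]; exact ha 0) hcov simp ctr ?_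
  exact ind_of (Q := QQ cs X) (le_QQ (rho_root cs) (by decide)) (fun y hy z hz => (cen_PP D hz hy).symm) S.perf hcent
    (dich QQ_le_PP (fun p hp q hq => (Subgroup.mem_normalizer_iff.1 (PP_normalizer R hp) q).1 hq)
      (fun y hy z hz => (cen_PP D hz hy).symm) (fun z hz => Cfsg.Agent.KFacts.TwESix.Facts.sq R (rho_root cs) hz)
      (fun N hN1 hN2 => Cfsg.Agent.KFacts.TwESix.Faith.irr D hN1 hN2)
      (fun E hE h2 hn => Cfsg.Agent.KFacts.TwESix.Faith.core R hE h2 hn) hcent)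

section Inst

open Cfsg.Lie Cfsg.Agent.OddHalf.DblR.SheetTwE6

universe u

variable {F : Type u} [Field F] [Fintype F]

/-- **`HasInpL` for `²E₆(2^a)`, `a ≥ 2`.** -/
theorem hasInpL_twE6 {a : ℕ} (ha : 2 ≤ a) (hF : Fintype.card F = 4 ^ a) : HasInpL ↥(twistedE6 F (2 ^ a)) := by
  have hF' : Fintype.card F = (2 ^ a) ^ 2 := by rw [hF, ← pow_mul, mul_comm, pow_mul]; norm_num
  have hq : IsPrimePow (2 ^ a) := (Nat.prime_two.isPrimePow).pow (by omega)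
  have : Fact (Nat.Prime 2) := ⟨Nat.prime_two⟩
  have hc : CharP F 2 := charP_of_card_eq_prime_pow (f := 2 * a) (by rw [hF, pow_mul]; norm_num)
  obtain ⟨φ, hφ, hqq⟩ := Cfsg.Agent.ChevalleyStructure.TwE6Basic.exists_frob hq hF'
  have hW : Finite CoxeterMatrix.F₄.Group := finiteW CoxeterMatrix.F₄.toCoxeterSystem
  have hq2 : 2 < 2 ^ a := by
    calc 2 < 2 ^ 2 := by norm_num
      _ ≤ 2 ^ a := Nat.pow_le_pow_right (by norm_num) ha
  obtain ⟨h1, -⟩ := Cfsg.Agent.S1070.result (K := F) hq hF'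
  have hY : Finite ↥(twistedE6 F (2 ^ a)) := inferInstance
  have hS := sheetL_inst CoxeterMatrix.F₄.toCoxeterSystem hφ hqq hq hF'
  refine ⟨4, CoxeterMatrix.F₄, _, isCartan, _, _, _, hW, _, rho, hS,
    hasFull_inst _ hφ hqq hq hF' hq2, kinp (Cfsg.Agent.KFacts.TwESix.Dat.dat _ hφ hqq hF' hq.one_lt)
      (noCent _ hφ hqq hq hF') hS (fun N hN => h1.eq_bot_or_eq_top_of_normal N hN) ?_⟩
  intro y hy
  have h2 : y ∈ Subgroup.center ↥(twistedE6 F (2 ^ a)) := Subgroup.mem_center_iff.2 hy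
  rwa [center_eq_bot hq hF', Subgroup.mem_bot] at h2

end Inst

end Cfsg.Agent.OddHalf.D4.InpTwESix
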