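import Cfsg.Agent.OddHalf.D4.Input

/-!
# ODD, D4: LEMMA INPUT if `C_K(w)` depends on the involution `w` of `Z(S)` (for `K = F₄(q)`)

`LocW K S w H` : `H` is the largest perfect subgroup of `C_K(w)`, `S ≤ H`; `InpW K S X H` : facts on a standard component `K`
with `Z(K) = 1`: `S` is a Sylow 2-subgroup of `K`, `X = Z(S)`, `H` is a perfect subgroup of `C_K(X)` containing `S`, and
for every `1 ≠ w ∈ X` there is `H'` with `LocW K S w H'`.

* `Inp.toW` : `Inp` gives `InpW`;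
* `InpW.false_of_mem`, `InpW.inf_eq_bot` : `E ∩ K ∩ C(L) = 1`;
* `InpW.root` : the root type pair, `γ` normalises `S`;
* **`InpW.root_pair`** : the same from a full pair and a Sylow 2-subgroup of `K` contained in `N(L)`.
-/

set_option autoImplicit false

namespace Cfsg.Agent.OddHalf.D4.InputW

open Cfsg Subgroup Cfsg.Agent.OddHalf.D4 Cfsg.Agent.OddHalf.D4.Basic Cfsg.Agent.OddHalf.D4.Input
open Cfsg.Agent.OddHalf.D4.CommConj (Tight cj mem_cj cj_mul card_cj cj_eq_of_mem_normalizer mem_normalizer_of_cj_eq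
  mem_cj_mul)

open scoped commutatorElement

variable {G : Type*} [Group G]

/-- `H` is the largest perfect subgroup of `C_K(w)`, and contains `S`. -/
structure LocW (K S : Subgroup G) (w : G) (H : Subgroup G) : Prop where
  SH : S ≤ H
  HK : H ≤ K
  Hw : ∀ y ∈ H, y * w = w * y
  perf : H ≤ ⁅H, H⁆
  res : ∀ P : Subgroup G, P ≤ K → P ≤ ⁅P, P⁆ → (∀ y ∈ P, y * w = w * y) → P ≤ H
  /-- `H` is directly indecomposable -/
  ind : ∀ A B : Subgroup G, A ≤ H → B ≤ H → (∀ a ∈ A, ∀ b ∈ B, a * b = b * a) → A ⊓ B = ⊥ →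
    (∀ y ∈ H, ∃ a ∈ A, ∃ b ∈ B, y = a * b) → A = ⊥ ∨ B = ⊥
  gen : ∀ J : Subgroup G, (∀ x ∈ H, x * x = 1 → x ≠ 1 → ∀ k ∈ K, k * x = x * k → k ∈ J) → K ≤ J

/-- The facts on `K`, its Sylow 2-subgroup `S`, `X = Z(S)`, and the perfect subgroup `H` of `C_K(X)`. -/
structure InpW (K S X H : Subgroup G) : Prop where
  syl : IsSyl S K
  tight : TightAt K
  even : Even (Nat.card ↥(centralizer (K : Set G)))
  ctr : ∀ x ∈ K, x ∈ centralizer (K : Set G) → x = 1
  /-- `K` does not commute with its conjugates -/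
  std : ∀ g : G, ¬ ∀ k ∈ K, ∀ l ∈ cj g K, k * l = l * k
  simp : ∀ N : Subgroup G, N ≤ K → (∀ k ∈ K, ∀ y ∈ N, k * y * k⁻¹ ∈ N) → N = ⊥ ∨ N = K
  XS : X ≤ S
  SH : S ≤ H
  HK : H ≤ K
  HX : ∀ y ∈ H, ∀ x ∈ X, y * x = x * y
  perf : H ≤ ⁅H, H⁆
  /-- (F1) -/
  cen : ∀ y ∈ normalizer (K : Set G), (∃ n : ℕ, y ^ 2 ^ n = 1) → (∀ s ∈ S, s * y = y * s) →
    ∃ c ∈ centralizer (K : Set G), ∃ x ∈ X, y = c * x
  loc : ∀ w ∈ X, w ≠ 1 → ∃ H' : Subgroup G, LocW K S w H'
  /-- perfect groups of automorphisms of `K` are inner -/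
  out : ∀ P : Subgroup G, P ≤ normalizer (K : Set G) → P ≤ ⁅P, P⁆ → P ≤ K ⊔ centralizer (K : Set G)
  /-- perfect subgroups of the centralizer of a Sylow 2-subgroup of `C(K)` in `C(K)` are trivial -/
  core : ∀ Q : Subgroup G, IsSyl Q (centralizer (K : Set G)) → ∀ P : Subgroup G, P ≤ centralizer (K : Set G) →
    (∀ x ∈ P, ∀ q ∈ Q, x * q = q * x) → P ≤ ⁅P, P⁆ → P = ⊥

variable {K S X H L Q U E : Subgroup G}

/-- one central root group -/
theorem toW (h : Inp K S X H) : InpW K S X H :=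
  ⟨h.syl, h.tight, h.even, h.ctr, h.std, h.simp, h.XS, h.SH, h.HK, h.HX, h.perf, h.cen,
    fun w hw hw1 => ⟨H, h.SH, h.HK, fun y hy => h.HX y hy w hw, h.perf, h.res w hw hw1, h.ind, h.gen⟩, h.out, h.core⟩

namespace InpW

theorem mem_X (h : InpW K S X H) {w : G} (hw : w ∈ S) (hc : ∀ s ∈ S, s * w = w * s) : w ∈ X := by
  obtain ⟨c, hc', x, hx, e⟩ := h.cen w (le_normalizer (h.syl.le hw)) (pow_eq_one_of_isPGroup h.syl.two hw) hc
  have h1 : c = 1 := by
    apply h.ctr c _ hc'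
    have : c = w * x⁻¹ := by rw [e]; group
    rw [this]
    exact mul_mem (h.syl.le hw) (inv_mem (h.syl.le (h.XS hx)))
  rw [e, h1, one_mul]; exact hx

theorem X_eq (h : InpW K S X H) : X = S ⊓ centralizer (S : Set G) := by
  apply le_antisymm
  · intro x hx
    exact ⟨h.XS hx, mem_centralizer_iff.mpr fun s hs => h.HX s (h.SH hs) x hx⟩
  · rintro x ⟨hx1, hx2⟩
    exact h.mem_X hx1 fun s hs => mem_centralizer_iff.mp hx2 s hs

theorem X_cj (h : InpW K S X H) {g : G} (hg : cj g S = S) : cj g X = X := by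
  rw [h.X_eq]
  show Subgroup.map _ _ = _
  rw [Subgroup.map_inf _ _ _ (MulAut.conj g).injective]
  show cj g S ⊓ cj g (centralizer (S : Set G)) = _
  rw [← centralizer_cj, hg]

theorem XK (h : InpW K S X H) : X ≤ K := h.XS.trans h.syl.le

end InpW

theorem InpW.sec (h : InpW K S X H) (g : G) : Sec K (cj g K) := by
  have hctr : ∀ x ∈ cj g K, x ∈ centralizer ((cj g K : Subgroup G) : Set G) → x = 1 := by
    intro x hx hxc
    rw [centralizer_cj, mem_cj] at hxc
    rw [mem_cj] at hx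
    have h3 := h.ctr _ hx hxc
    calc x = g * (g⁻¹ * x * g) * g⁻¹ := by group
      _ = 1 := by rw [h3]; group
  refine ⟨h.tight.cj g, hctr, ?_, ?_, h.std g⟩
  · intro P hP hPP
    rw [centralizer_cj, ← Subgroup.map_sup]
    apply cj_le_iff'.mp
    apply h.out
    · rw [normalizer_cj] at hP
      exact cj_le_iff'.mpr hP
    · exact cj_perf hPP
  · intro Q hQ P hP hc hPP
    have h1 := h.core (cj g⁻¹ Q) (by
      have h2 := hQ.cj g⁻¹
      rwa [centralizer_cj, cj_inv_cj] at h2) (cj g⁻¹ P) (by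
      rw [centralizer_cj] at hP
      exact cj_le_iff'.mpr hP) (by
      intro x hx q hq
      rw [mem_cj, inv_inv] at hx hq
      have h2 := hc _ hx _ hq
      calc x * q = g⁻¹ * ((g * x * g⁻¹) * (g * q * g⁻¹)) * g := by group
        _ = g⁻¹ * ((g * q * g⁻¹) * (g * x * g⁻¹)) * g := by rw [h2]
        _ = q * x := by group) (cj_perf hPP)
    have h2 : P ≤ cj g ⊥ := cj_le_iff'.mp h1.le
    have h3 : cj g (⊥ : Subgroup G) = ⊥ := Subgroup.map_bot _
    rw [h3] at h2
    exact eq_bot_iff.mpr h2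

section Core

variable [Finite G]

/-- **no involution of `Z(S)` in `C(L)`** -/
theorem InpW.false_of_mem (h : InpW K S X H) (hL : Sec K L) {w : G} (hwX : w ∈ X) (hw2 : orderOf w = 2)
    (hwL : w ∈ centralizer (L : Set G)) : False := by
  have hw1 : w ≠ 1 := by
    rintro rfl
    rw [orderOf_one] at hw2
    exact absurd hw2 (by norm_num)
  obtain ⟨H', hW⟩ := h.loc w hwX hw1
  set D := centralizer (L : Set G) with hD
  have hLD : ∀ a ∈ L, ∀ b ∈ D, a * b = b * a := comm_cen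
  -- an involution of `C(K)`
  obtain ⟨q, hq, hq2⟩ := exists_invol_of_even h.even
  have hwK : w ∈ K := h.XK hwX
  have hHN : H' ≤ normalizer (L : Set G) := fun y hy => hL.tight.mem hwL hw2 (hW.Hw y hy)
  have hdec : ∀ y ∈ H', ∃ a ∈ L, ∃ b ∈ D, y = a * b := fun y hy => exists_lc (hL.out H' hHN hW.perf hy)
  have hqN : q ∈ normalizer (L : Set G) := hL.tight.mem hwL hw2 (comm_cen w hwK q hq).symm
  set P := proj hLD H' with hP
  have hPp : P ≤ ⁅P, P⁆ := proj_perf hLD hdec hW.perf hL.ctr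
  -- `P ≤ N(K)`, `P` centralises `w`
  have hPK : ∀ d ∈ P, d ∈ normalizer (K : Set G) := by
    rintro d ⟨hd, l, hl, hld⟩
    apply h.tight.mem hq hq2
    have h1 := comm_cen (l * d) (hW.HK hld) q hq
    have h2 : q * l * q⁻¹ ∈ L := (mem_normalizer_iff.mp hqN l).mp hl
    have h3 : q * d * q⁻¹ ∈ D := centralizer_conj_mem hqN hd
    have h4 : (q * l * q⁻¹) * (q * d * q⁻¹) = l * d := by
      calc (q * l * q⁻¹) * (q * d * q⁻¹) = (q * (l * d)) * q⁻¹ := by group
        _ = l * d := by rw [← h1]; group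
    have h5 := (decomp_unique hL.ctr h2 h3 hl hd h4).2
    calc d * q = (q * d * q⁻¹) * q := by rw [h5]
      _ = q * d := by group
  have hPw : ∀ d ∈ P, d * w = w * d := by
    rintro d ⟨hd, l, hl, hld⟩
    have h1 := hW.Hw _ hld
    have h2 := hLD l hl w hwL
    have h3 : l * (d * w) = l * (w * d) := by
      calc l * (d * w) = l * d * w := by group
        _ = w * (l * d) := h1
        _ = (w * l) * d := by group
        _ = (l * w) * d := by rw [h2]
        _ = _ := by group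
    exact mul_left_cancel h3
  -- `P` normalises `H'`
  have hPH : ∀ d ∈ P, ∀ y ∈ H', d * y * d⁻¹ ∈ H' := by
    intro d hd y hy
    have h1 : cj d H' ≤ H' := by
      apply hW.res
      · intro x hx
        rw [mem_cj] at hx
        have h2 := (mem_normalizer_iff.mp (hPK d hd) _).mp (hW.HK hx)
        have e : d * (d⁻¹ * x * d) * d⁻¹ = x := by group
        rwa [e] at h2
      · exact cj_perf hW.perf
      · intro x hx
        rw [mem_cj] at hx
        have h2 := hW.Hw _ hx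
        have h3 := hPw d hd
        calc x * w = d * (d⁻¹ * x * d) * (d⁻¹ * w) := by group
          _ = d * (d⁻¹ * x * d) * (w * d⁻¹) := by
              have : d⁻¹ * w = w * d⁻¹ := by
                calc d⁻¹ * w = d⁻¹ * (w * d) * d⁻¹ := by group
                  _ = d⁻¹ * (d * w) * d⁻¹ := by rw [h3]
                  _ = _ := by group
              rw [this]
          _ = d * ((d⁻¹ * x * d) * w) * d⁻¹ := by group
          _ = d * (w * (d⁻¹ * x * d)) * d⁻¹ := by rw [h2]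
          _ = (d * w) * (d⁻¹ * x) := by group
          _ = (w * d) * (d⁻¹ * x) := by rw [h3]
          _ = w * x := by group
    exact h1 (mem_cj_mul hy)
  have hcomH : ∀ d ∈ P, ∀ y ∈ H', y * d * y⁻¹ * d⁻¹ ∈ H' := by
    intro d hd y hy
    have e : y * d * y⁻¹ * d⁻¹ = y * (d * y⁻¹ * d⁻¹) := by group
    rw [e]
    exact mul_mem hy (hPH d hd _ (inv_mem hy))
  -- `P ≤ H'`
  have hPleH : P ≤ H' := by
    refine hPp.trans ?_
    rw [Subgroup.commutator_le]
    rintro d' ⟨hd', l', hl', hld'⟩ d hd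
    have h1 := hcomH d hd _ hld'
    have h2 := hLD l' hl' (d' * d * d'⁻¹ * d⁻¹)
      (mul_mem (mul_mem (mul_mem hd' hd.1) (inv_mem hd')) (inv_mem hd.1))
    have h3 := hLD l' hl' d hd.1
    have e : l' * d' * d * (l' * d')⁻¹ * d⁻¹ = ⁅d', d⁆ := by
      rw [commutatorElement_def]
      calc l' * d' * d * (l' * d')⁻¹ * d⁻¹ = l' * (d' * d * d'⁻¹ * d⁻¹) * (d * l'⁻¹ * d⁻¹) := by group
        _ = (d' * d * d'⁻¹ * d⁻¹) * l' * (d * l'⁻¹ * d⁻¹) := by rw [h2]
        _ = (d' * d * d'⁻¹ * d⁻¹) * ((l' * d) * l'⁻¹ * d⁻¹) := by group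
        _ = (d' * d * d'⁻¹ * d⁻¹) * ((d * l') * l'⁻¹ * d⁻¹) := by rw [h3]
        _ = d' * d * d'⁻¹ * d⁻¹ := by group
    rw [← e]
    exact h1
  -- `H'` is the direct product of `H' ∩ L` and `P`
  have hdec' : ∀ y ∈ H', ∃ a ∈ H' ⊓ L, ∃ b ∈ P, y = a * b := by
    intro y hy
    obtain ⟨a, ha, b, hb, rfl⟩ := hdec y hy
    have hbP : b ∈ P := ⟨hb, a, ha, hy⟩
    refine ⟨a, ⟨?_, ha⟩, b, hbP, rfl⟩
    have h1 := mul_mem hy (inv_mem (hPleH hbP))
    rwa [mul_inv_cancel_right] at h1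
  have hwP : w ∈ P := ⟨hwL, 1, one_mem _, by rw [one_mul]; exact hW.SH (h.XS hwX)⟩
  have hHD : H' ≤ D := by
    rcases hW.ind (H' ⊓ L) P inf_le_left hPleH (fun a ha b hb => hLD a ha.2 b hb.1) (by
        rw [eq_bot_iff]
        rintro x ⟨hx1, hx2⟩
        rw [Subgroup.mem_bot]
        exact hL.ctr x hx1.2 hx2.1) hdec' with h1 | h1
    · intro y hy
      obtain ⟨a, ha, b, hb, rfl⟩ := hdec' y hy
      rw [h1, Subgroup.mem_bot] at ha
      rw [ha, one_mul]; exact hb.1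
    · rw [h1, Subgroup.mem_bot] at hwP
      exact absurd hwP hw1
  -- `K ≤ N(L)`
  have hKN : K ≤ normalizer (L : Set G) := by
    apply hW.gen
    intro x hx hxx hx1 k _ hkx
    exact hL.tight.mem (hHD hx) (orderOf_eq_prime (by rw [pow_two]; exact hxx) hx1) hkx
  rcases h.simp (K ⊓ D) inf_le_left (by
    rintro k hk y ⟨hy1, hy2⟩
    exact Subgroup.mem_inf.2 ⟨mul_mem (mul_mem hk hy1) (inv_mem hk), centralizer_conj_mem (hKN hk) hy2⟩) with h1 | h1
  · apply hw1
    rw [← Subgroup.mem_bot, ← h1]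
    exact ⟨hwK, hwL⟩
  · apply hL.std
    intro k hk l hl
    have h2 : k ∈ K ⊓ D := by rw [h1]; exact hk
    exact (hLD l hl k h2.2).symm

/-- `E ∩ K ∩ C(L) = 1` -/
theorem InpW.inf_eq_bot (h : InpW K S X H) (hL : Sec K L) (hE : IsPGroup 2 ↥E) (hEL : E ≤ normalizer (L : Set G))
    (hEK : E ≤ normalizer (K : Set G)) (hSE : S ≤ E) :
    ∀ x ∈ E, x ∈ K → x ∈ centralizer (L : Set G) → x = 1 := by
  have hS : E ⊓ K = S := IsSyl.eq_inf h.syl hE hSE
  by_contra hcon
  push Not at hcon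
  obtain ⟨y, hyE, hyK, hyL, hy1⟩ := hcon
  obtain ⟨w, ⟨⟨hwE, hwK⟩, hwL⟩, hw2, hwc⟩ := exists_central_invol (N := E ⊓ K ⊓ centralizer (L : Set G)) hE
    (inf_le_left.trans inf_le_left) (by
      intro h1
      apply hy1
      rw [← Subgroup.mem_bot, ← h1]
      exact ⟨⟨hyE, hyK⟩, hyL⟩) (by
      rintro t ht x ⟨⟨hx1, hx2⟩, hx3⟩
      exact Subgroup.mem_inf.2 ⟨Subgroup.mem_inf.2 ⟨mul_mem (mul_mem ht hx1) (inv_mem ht),
        (mem_normalizer_iff.mp (hEK ht) x).mp hx2⟩, centralizer_conj_mem (hEL ht) hx3⟩)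
  have hwS : w ∈ S := by rw [← hS]; exact ⟨hwE, hwK⟩
  exact h.false_of_mem hL (h.mem_X hwS fun s hs => hwc s (hSE hs)) hw2 hwL

/-- **The root type pair**: `E` is a 2-subgroup of `N(K) ∩ N(L)` containing `S`, `Q` and `U`. -/
theorem InpW.root (h : InpW K S X H) (hp : FullPair K L Q U) (hE : IsPGroup 2 ↥E) (hEL : E ≤ normalizer (L : Set G))
    (hEK : E ≤ normalizer (K : Set G)) (hSE : S ≤ E) (hQE : Q ≤ E) (hUE : U ≤ E) :
    ∃ γ : G, cj γ K = L ∧ cj γ Q = U ∧ cj γ S = S ∧ cj γ X = X ∧ cj γ Q ≤ Q ⊔ X ∧ Q ≤ cj γ (Q ⊔ X) ∧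
      ¬ cj γ Q ≤ Q ∧ H ≤ L := by
  obtain ⟨g, hg, hLg⟩ := hp.conj
  have hL : Sec K L := by rw [hLg]; exact h.sec g
  have hevL : Even (Nat.card ↥(centralizer (L : Set G))) := by
    rw [hLg, centralizer_cj, card_cj]; exact h.even
  obtain ⟨u, hu, hu2⟩ := exists_inv_syl hp.sylU hevL
  have hdisj := h.inf_eq_bot hL hE hEL hEK hSE
  -- `U` centralises `S`
  have hUS : ∀ v ∈ U, ∀ s ∈ S, s * v = v * s := by
    intro v hv s hs
    have hsE := hSE hs
    have hvE := hUE hv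
    have h1 : s * v * s⁻¹ * v⁻¹ = 1 := by
      apply hdisj
      · exact mul_mem (mul_mem (mul_mem hsE hvE) (inv_mem hsE)) (inv_mem hvE)
      · have e : s * v * s⁻¹ * v⁻¹ = s * (v * s⁻¹ * v⁻¹) := by group
        rw [e]
        exact mul_mem (h.syl.le hs) ((mem_normalizer_iff.mp (hEK hvE) _).mp (inv_mem (h.syl.le hs)))
      · exact (centralizer (L : Set G)).mul_mem (centralizer_conj_mem (hEL hsE) (hp.sylU.le hv))
          ((centralizer (L : Set G)).inv_mem (hp.sylU.le hv))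
    calc s * v = (s * v * s⁻¹ * v⁻¹) * (v * s) := by group
      _ = v * s := by rw [h1, one_mul]
  have hEQ : E ⊓ centralizer (K : Set G) = Q := IsSyl.eq_inf hp.sylQ hE hQE
  -- elements of `U`
  have hUdec : ∀ v ∈ U, ∃ c ∈ Q, ∃ x ∈ X, v = c * x := by
    intro v hv
    obtain ⟨c, hc, x, hx, e⟩ := h.cen v (hEK (hUE hv)) (pow_eq_one_of_isPGroup hE (hUE hv)) (hUS v hv)
    refine ⟨c, ?_, x, hx, e⟩
    rw [← hEQ]
    refine Subgroup.mem_inf.2 ⟨?_, hc⟩
    have : c = v * x⁻¹ := by rw [e]; group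
    rw [this]
    exact mul_mem (hUE hv) (inv_mem (hSE (h.XS hx)))
  -- `H` centralises `U`
  have hHU : ∀ v ∈ U, ∀ y ∈ H, y * v = v * y := by
    intro v hv y hy
    obtain ⟨c, hc, x, hx, e⟩ := hUdec v hv
    have h1 := comm_cen y (h.HK hy) c (hp.sylQ.le hc)
    have h2 := h.HX y hy x hx
    calc y * v = (y * c) * x := by rw [e]; group
      _ = (c * y) * x := by rw [h1]
      _ = c * (y * x) := by group
      _ = c * (x * y) := by rw [h2]
      _ = v * y := by rw [e]; group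
  have hHN : H ≤ normalizer (L : Set G) := fun y hy => hL.tight.mem (hp.sylU.le hu) hu2 (hHU u hu y hy)
  have hdec : ∀ y ∈ H, ∃ a ∈ L, ∃ b ∈ centralizer (L : Set G), y = a * b :=
    fun y hy => exists_lc (hL.out H hHN h.perf hy)
  have hLD : ∀ a ∈ L, ∀ b ∈ centralizer (L : Set G), a * b = b * a := comm_cen
  have hP1 : proj hLD H = ⊥ := by
    refine hL.core U hp.sylU (proj hLD H) (fun d hd => hd.1) ?_ (proj_perf hLD hdec h.perf hL.ctr)
    rintro d ⟨hd, l, hl, hld⟩ v hv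
    have h1 := hHU v hv _ hld
    have h2 := hLD l hl v (hp.sylU.le hv)
    have h3 : l * (d * v) = l * (v * d) := by
      calc l * (d * v) = l * d * v := by group
        _ = v * (l * d) := h1
        _ = (v * l) * d := by group
        _ = (l * v) * d := by rw [h2]
        _ = _ := by group
    exact mul_left_cancel h3
  have hHL : H ≤ L := by
    intro y hy
    obtain ⟨a, ha, b, hb, e⟩ := hdec y hy
    have h1 : b ∈ proj hLD H := ⟨hb, a, ha, by rw [← e]; exact hy⟩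
    rw [hP1, Subgroup.mem_bot] at h1
    rw [e, h1, mul_one]; exact ha
  have hSL : S ≤ L := h.SH.trans hHL
  -- `S` is Sylow in `L`
  have hgS : IsSyl (cj g S) L := by rw [hLg]; exact h.syl.cj g
  have hSylL : IsSyl S L := by
    refine ⟨h.syl.two, hSL, ?_⟩
    intro T hT hle hTL
    obtain ⟨m, _, hmq⟩ := hgS.conj_into hT hTL
    have h1 : cj m T ≤ cj g S := by
      rintro _ ⟨q, hq, rfl⟩
      exact hmq q hq
    have h2 := card_le_of_le h1
    rw [card_cj, card_cj] at h2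
    exact (eq_of_le_of_card_ge hle h2).ge
  obtain ⟨l, hl, hlS⟩ := isSyl_conj_eq hSylL hgS
  -- `γ₀ = l g`
  have h0K : cj (l * g) K = L := by
    rw [cj_mul, ← hLg]
    exact cj_eq_of_mem_normalizer (le_normalizer hl)
  have h0S : cj (l * g) S = S := by rw [cj_mul, hlS]
  have h0Q : IsSyl (cj (l * g) Q) (centralizer (L : Set G)) := by
    have h1 := hp.sylQ.cj (l * g)
    rwa [← centralizer_cj, h0K] at h1
  obtain ⟨d, hd, hdQ⟩ := isSyl_conj_eq hp.sylU h0Q
  have hdS : cj d S = S := by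
    apply cj_eq_of_mem_normalizer
    rw [mem_normalizer_iff]
    intro x
    have key : ∀ y ∈ S, d * y * d⁻¹ = y := by
      intro y hy
      rw [← hLD y (hSL hy) d hd]; group
    constructor
    · intro hx; rw [key x hx]; exact hx
    · intro hx
      have h1 : x = d⁻¹ * (d * x * d⁻¹) * d := by group
      have h2 := hLD _ (hSL hx) d⁻¹ (inv_mem hd)
      rw [h1, ← h2]
      have h3 : d * x * d⁻¹ * d⁻¹ * d = d * x * d⁻¹ := by group
      rw [h3]; exact hx
  have hγK : cj (d * (l * g)) K = L := by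
    rw [cj_mul, h0K]
    exact cj_eq_of_mem_normalizer (centralizer_le_normalizer_self L hd)
  have hγS : cj (d * (l * g)) S = S := by rw [cj_mul, h0S, hdS]
  have hγQ : cj (d * (l * g)) Q = U := by rw [cj_mul, hdQ]
  set γ := d * (l * g) with hγ
  have hγX : cj γ X = X := h.X_cj hγS
  refine ⟨γ, hγK, hγQ, hγS, hγX, ?_, ?_, ?_, hHL⟩
  · rw [hγQ]
    intro v hv
    obtain ⟨c, hc, x, hx, e⟩ := hUdec v hv
    rw [e]
    exact mul_mem_sup hc hx
  · intro q hq
    rw [mem_cj]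
    have hqE := hQE hq
    have hinv : ∀ x : G, γ * (γ⁻¹ * x * γ) * γ⁻¹ = x := fun x => by group
    have hS' : ∀ s ∈ S, γ * s * γ⁻¹ ∈ S := by
      intro s hs
      have h1 : γ * s * γ⁻¹ ∈ cj γ S := mem_cj_mul hs
      rwa [hγS] at h1
    obtain ⟨c, hc, x, hx, e⟩ := h.cen (γ⁻¹ * q * γ) (by
      have h1 := hEL hqE
      rw [← hγK, normalizer_cj, mem_cj] at h1
      exact h1) (by
      obtain ⟨n, hn⟩ := pow_eq_one_of_isPGroup hE hqE
      refine ⟨n, ?_⟩
      have h1 : (γ⁻¹ * q * γ) ^ 2 ^ n = γ⁻¹ * q ^ 2 ^ n * γ := by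
        have := conj_pow (a := γ⁻¹) (b := q) (i := 2 ^ n)
        rw [inv_inv] at this
        exact this
      rw [h1, hn]; group) (by
      intro s hs
      have h1 := comm_cen _ (h.syl.le (hS' s hs)) q (hp.sylQ.le hq)
      calc s * (γ⁻¹ * q * γ) = γ⁻¹ * ((γ * s * γ⁻¹) * q) * γ := by group
        _ = γ⁻¹ * (q * (γ * s * γ⁻¹)) * γ := by rw [h1]
        _ = _ := by group)
    rw [e]
    apply mul_mem_sup _ hx
    -- `c ∈ Q`
    have h1 : IsPGroup 2 ↥(cj γ⁻¹ E) := hE.map _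
    have h2 : Q ≤ cj γ⁻¹ E := by
      apply cj_le_iff'.mp
      rw [inv_inv, hγQ]; exact hUE
    have h3 : cj γ⁻¹ E ⊓ centralizer (K : Set G) = Q := IsSyl.eq_inf hp.sylQ h1 h2
    rw [← h3]
    refine Subgroup.mem_inf.2 ⟨?_, hc⟩
    have h4 : c = γ⁻¹ * (q * (γ * x * γ⁻¹)⁻¹) * γ⁻¹⁻¹ := by
      have h5 : c = (γ⁻¹ * q * γ) * x⁻¹ := by rw [e]; group
      rw [h5]; group
    rw [h4]
    exact mem_cj_mul (mul_mem hqE (inv_mem (hSE (hS' x (h.XS hx)))))
  · rw [hγQ]
    intro hUQ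
    exact hp.noInv h.tight (hp.sylQ.le (hUQ hu)) (hp.sylU.le hu) hu2

/-- **LEMMA INPUT**: a full pair such that `N(L)` contains a Sylow 2-subgroup of `K` is, after conjugation with an element
of `K`, of root type. -/
theorem InpW.root_pair (h : InpW K S X H) (hp : FullPair K L Q U) {S' : Subgroup G} (hS' : IsSyl S' K)
    (hS'L : S' ≤ normalizer (L : Set G)) :
    ∃ k ∈ K, ∃ γ : G, cj γ K = cj k L ∧ cj γ Q = cj k U ∧ cj γ S = S ∧ cj γ X = X ∧ cj γ Q ≤ Q ⊔ X ∧
      Q ≤ cj γ (Q ⊔ X) ∧ ¬ cj γ Q ≤ Q ∧ H ≤ cj k L := by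
  have hQL := hp.leQ h.tight h.even
  have hUK := hp.leU h.tight h.even
  -- `Q U` is a 2-group
  have hQU : IsPGroup 2 ↥(Q ⊔ U : Subgroup G) := by
    apply IsPGroup.to_sup_of_normal_right' hp.sylQ.two hp.sylU.two
    intro q hq
    rw [mem_normalizer_iff]
    intro u
    constructor
    · intro hu
      have h1 := hp.comm q hq u hu
      have e : q * u * q⁻¹ = u := by rw [h1]; group
      rw [e]; exact hu
    · intro hu
      have h1 := hp.comm q⁻¹ (inv_mem hq) _ hu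
      have e : u = q * u * q⁻¹ := by
        calc u = q⁻¹ * (q * u * q⁻¹) * q := by group
          _ = (q * u * q⁻¹) * q⁻¹ * q := by rw [h1]
          _ = _ := by group
      rw [e]; exact hu
  obtain ⟨E, hE, hQUE⟩ := exists_isSyl (M := normalizer (K : Set G) ⊓ normalizer (L : Set G)) hQU
    (sup_le (le_inf (hp.sylQ.le.trans (centralizer_le_normalizer_self K)) hQL)
      (le_inf hUK (hp.sylU.le.trans (centralizer_le_normalizer_self L))))
  have hEK : E ≤ normalizer (K : Set G) := hE.le.trans inf_le_left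
  have hEL : E ≤ normalizer (L : Set G) := hE.le.trans inf_le_right
  -- a Sylow 2-subgroup of `K` in `E`
  have hI : K ⊓ normalizer (L : Set G) ≤ normalizer (K : Set G) ⊓ normalizer (L : Set G) :=
    inf_le_inf_right _ le_normalizer
  obtain ⟨m, ⟨hmK, hmL⟩, hm⟩ := hE.conj_into_inf hI (by
    intro t ht
    rw [mem_normalizer_iff]
    intro x
    have h1 := mem_normalizer_iff.mp (hEK ht) x
    have h2 : x ∈ normalizer (L : Set G) ↔ t * x * t⁻¹ ∈ normalizer (L : Set G) := by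
      have ht' := hEL ht
      constructor
      · intro hx; exact mul_mem (mul_mem ht' hx) (inv_mem ht')
      · intro hx
        have h3 := mul_mem (mul_mem (inv_mem ht') hx) ht'
        have e : t⁻¹ * (t * x * t⁻¹) * t = x := by group
        rwa [e] at h3
    rw [mem_inf, mem_inf, h1, h2]) hS'.two (le_inf hS'.le hS'L)
  have hS1 : IsSyl (cj m S') K := by
    have h1 := hS'.cj m
    rwa [cj_eq_of_mem_normalizer (le_normalizer hmK)] at h1
  have hS1E : cj m S' ≤ E := by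
    rintro _ ⟨q, hq, rfl⟩
    exact (hm q hq).1
  obtain ⟨k, hk, hkS⟩ := isSyl_conj_eq h.syl hS1
  have hkK : cj k K = K := cj_eq_of_mem_normalizer (le_normalizer hk)
  have hkQ : cj k Q = Q := by
    apply cj_eq_of_mem_normalizer
    rw [mem_normalizer_iff]
    intro x
    have key : ∀ y ∈ Q, k * y * k⁻¹ = y := by
      intro y hy
      rw [comm_cen k hk y (hp.sylQ.le hy)]; group
    constructor
    · intro hx; rw [key x hx]; exact hx
    · intro hx
      have h2 := comm_cen k⁻¹ (inv_mem hk) _ (hp.sylQ.le hx)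
      have e : x = k * x * k⁻¹ := by
        calc x = k⁻¹ * (k * x * k⁻¹) * k := by group
          _ = k * x * k⁻¹ * k⁻¹ * k := by rw [h2]
          _ = _ := by group
      rw [e]; exact hx
  refine ⟨k, hk, ?_⟩
  apply h.root (E := cj k E) (fullPair_cj hp hk) (hE.two.map _)
  · rw [normalizer_cj]; exact map_mono hEL
  · rw [← hkK, normalizer_cj]; exact map_mono hEK
  · rw [← hkS]; exact map_mono hS1E
  · rw [← hkQ]; exact map_mono (le_sup_left.trans hQUE)
  · exact map_mono (le_sup_right.trans hQUE)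

end Core

end Cfsg.Agent.OddHalf.D4.InputW
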