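import Cfsg.Agent.OddHalf.D4.F4Nor
import Cfsg.Agent.OddHalf.D4.InputW
import Cfsg.Agent.OddHalf.D4.IndOf
import Cfsg.Agent.Schreier.Basic

/-!
# ODD, D4: LEMMA INPUT for `K = F₄(q)`, `q ≥ 4` even (helper949)

* `H_of` : for `1 ≠ w ∈ Z(U)` the centraliser `H = C_K(w)` with its properties (`Loc`);
* `inp` : `InpW f.range (UK.map f) (ZK.map f) (LK.map f)` for an injective `f : F₄(q) →* G`;
-/

set_option autoImplicit false
set_option Elab.async false
set_option linter.unusedSectionVars false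

namespace Cfsg.Agent.OddHalf.D4.InputF4

open CoxeterSystem Cfsg.Agent.ChevalleyStructure.CoxeterGeom Cfsg.Agent.Tits.Roots Cfsg.Agent.Tits.Core
open Cfsg.Lie Cfsg.Agent.ChevalleyStructure Cfsg.Agent.ChevalleyStructure.Elts
  Cfsg.Agent.ChevalleyStructure.RootVec Cfsg.Agent.ChevalleyStructure.CoxeterGeomTypes
open Cfsg.Agent.Nodes Cfsg.Agent.Nodes.Reps Cfsg.Agent.Nodes.BNOf Cfsg.Agent.Nodes.RGDChev Cfsg.Agent.Nodes.Coroot
  Cfsg.Agent.Nodes.KindF Cfsg.Agent.Nodes.Bruhat Cfsg.Agent.KFacts.ChevTwo Cfsg.Agent.KFacts.ChevTwoTab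
  Cfsg.Agent.KFacts.ChevTwoInst Cfsg.Agent.KFacts.RgdTI
  Cfsg.Agent.KFacts.F4Star Cfsg.Agent.KFacts.F4Cent Cfsg.Agent.KFacts.F4Pair Cfsg.Agent.KFacts.F4Torus
  Cfsg.Agent.KFacts.F4Perf Cfsg.Agent.OddHalf.D7F4.KFront Cfsg.Agent.OddHalf.D4.F4Mixed
  Cfsg.Agent.OddHalf.D4.F4Nor
open scoped commutatorElement

universe u

variable {K : Type u} [Field K] [Finite K] [CharP K 2]

/-! ### The unipotent radicals -/

/-- the roots of `Q_a` -/
def Rd (a : Fin 4 → ℤ) : Set (Fin 4 → ℤ) := {c | IsRoot c4 isType.isCartan c ∧ 1 ≤ cpr c4 isType.isCartan c a}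

theorem chkRd : ((List.range 48).all fun c => (decide (24 ≤ c) || !(pp 47).testBit c) &&
    (decide (24 ≤ c) || !(pp 44).testBit c)) = true := by decide +kernel

theorem rd_pos {a : ℕ} (ha : a = 47 ∨ a = 44) {c : Fin 4 → ℤ} (hc : c ∈ Rd (v a)) :
    c ∈ RGD.Pos c4 isType.isCartan := by
  obtain ⟨r, hr, rfl⟩ := exists_v c4 hc.1
  rw [mem_pos_iff c4 hr]
  have h1 := List.all_eq_true.1 chkRd r (List.mem_range.2 hr)
  rw [Bool.and_eq_true, Bool.or_eq_true, Bool.or_eq_true, decide_eq_true_eq] at h1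
  rcases ha with rfl | rfl
  · have h2 := (testBit_pp c4 (r := 47) (by norm_num) hr).2 hc.2
    rw [h2] at h1
    exact h1.1.resolve_right (by decide)
  · have h2 := (testBit_pp c4 (r := 44) (by norm_num) hr).2 hc.2
    rw [h2] at h1
    exact h1.2.resolve_right (by decide)

theorem rd_normal {a : Fin 4 → ℤ} (ha : IsRoot c4 isType.isCartan a) {y q : ↥(chevF4.group K)}
    (hy : y ∈ PF c4 K a) (hq : q ∈ RGD.Sup (XF K) (Rd a)) : y * q * y⁻¹ ∈ RGD.Sup (XF K) (Rd a) := by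
  have h1 : PF c4 K a ≤ Subgroup.normalizer (RGD.Sup (XF K) (Rd a) : Set ↥(chevF4.group K)) := by
    refine RGD.Sup_le fun x hx => ?_
    refine (rgd (K := K) isType c4 2).le_normalizer hx.1 fun z hz => ⟨hz.1, Or.inr ⟨?_, ?_⟩⟩
    · rintro rfl
      have h1 := hx.2
      rw [cpr_neg c4 _ _ ha] at h1
      have h2 := hz.2
      omega
    · rintro w ⟨hw, m, i, j, hm, hi, hj, e⟩
      refine ⟨hw, ?_⟩
      have h2 : m * cpr c4 isType.isCartan w a = i * cpr c4 isType.isCartan x a + j * cpr c4 isType.isCartan z a := by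
        rw [← cpr_smul c4 _ m w ha, e, cpr_add c4 _ _ _ ha, cpr_smul c4 _ i x ha, cpr_smul c4 _ j z ha]
      have h3 : 0 ≤ i * cpr c4 isType.isCartan x a := mul_nonneg hi.le hx.2
      have h4 : 0 < j * cpr c4 isType.isCartan z a := mul_pos hj (by have := hz.2; omega)
      have h5 : 0 < m * cpr c4 isType.isCartan w a := by omega
      have h6 := (mul_pos_iff_of_pos_left hm).1 h5
      omega
  exact (Subgroup.mem_normalizer_iff.1 (h1 hy) q).1 hq

theorem cent_rd {a : ℕ} (ha : a = 47 ∨ a = 44) {g : ↥(chevF4.group K)}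
    (hg : ∀ q ∈ RGD.Sup (XF K) (Rd (v a)), g * q = q * g) : g ∈ UK K := by
  have ha' : a < 48 := by rcases ha with rfl | rfl <;> norm_num
  have h1 := cent_Q c4 (K := K) (rv ha') (g := g) (fun c hc =>
    ⟨eF K c 1, e_mem_X hc.1 1, (dat (K := K)).ne_one hc.1 one_ne_zero, hg _ (RGD.le_Sup (S := Rd (v a)) hc (e_mem_X hc.1 1))⟩)
  refine RGD.Sup_mono ?_ h1
  rintro c ⟨hc, rfl | hc'⟩
  · exact (mem_pos_iff c4 ha').2 (by rcases ha with rfl | rfl <;> norm_num)
  · exact rd_pos ha ⟨hc, hc'.2⟩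

/-! ### Moving elements of `Z(U)` -/

theorem e40_notin {u : K} (hu : u ≠ 0) : eF K (v 40) u ∉ ZK K := by
  intro h
  obtain ⟨-, -, -, -, -, -, -, -, -, -, -, -, -, -, -, -, l33⟩ := facts2
  have h1 := L_commZ (e_mem_L (K := K) l33 1) h
  have h2 := c40_33 u (1 : K)
  rw [commutatorElement_eq_one_iff_mul_comm.2 h1.symm, mul_one] at h2
  exact (dat (K := K)).ne_one (rv (by norm_num)) hu h2.symm

theorem e46_notin {u : K} (hu : u ≠ 0) : eF K (v 46) u ∉ ZK K := by
  intro h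
  obtain ⟨-, -, -, -, -, -, -, -, -, -, -, -, -, -, -, l24, -⟩ := facts2
  have h1 := L_commZ (e_mem_L (K := K) l24 1) h
  have h2 := c46_24 u (1 : K)
  rw [commutatorElement_eq_one_iff_mul_comm.2 h1.symm, mul_one] at h2
  exact (dat (K := K)).ne_one (rv (by norm_num)) hu h2.symm

theorem chkMv : ((nn 47).testBit 14 && (nn 44).testBit 23) = true := by decide +kernel

theorem move47 {z : ↥(chevF4.group K)} (hz : z ∈ ZK K) (hnc : ∃ y ∈ PF c4 K (v 47), y * z ≠ z * y) :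
    ∃ y ∈ PF c4 K (v 47), ⁅z, y⁆ ∈ UK K ∧ ⁅z, y⁆ ∉ ZK K := by
  have D := dat (K := K)
  obtain ⟨a, ha, b, hb, rfl⟩ := mem_ZK.1 hz
  obtain ⟨t, rfl⟩ := (mem_XF (rv (by norm_num))).1 ha
  obtain ⟨u, rfl⟩ := (mem_XF (rv (by norm_num))).1 hb
  have hu : u ≠ 0 := by
    rintro rfl
    obtain ⟨y, hy, hne⟩ := hnc
    apply hne
    rw [D.zero (rv (by norm_num)), mul_one]
    exact (cent_X_iff c4 (rv (by norm_num)) (e_mem_X (rv (by norm_num)) t) (z := eF K (v 47) t) (by
      rintro h0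
      apply hne
      rw [D.zero (rv (by norm_num)), mul_one, h0, mul_one, one_mul])).2 hy
  have hy : eF K (v 14) 1 ∈ PF c4 K (v 47) := by
    refine e_mem c4 (rv (by norm_num)) ((mem_Ge_v c4 (by norm_num) (by norm_num)).2 ?_) 1
    have := chkMv
    rw [Bool.and_eq_true] at this
    exact this.1
  have h1 : ⁅eF K (v 47) t * eF K (v 44) u, eF K (v 14) 1⁆ = eF K (v 40) u := by
    have q1 : ⁅eF K (v 44) u, eF K (v 14) 1⁆ = eF K (v 40) u := by rw [c44_m33, mul_one]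
    have q2 := c47_m33 t (1 : K)
    have q3 : eF K (v 40) u * eF K (v 47) t = eF K (v 47) t * eF K (v 40) u :=
      L_comm1 (U_le_L (e_mem_U (by norm_num) (by norm_num) u)) (e_mem_X (rv (by norm_num)) t)
    have q4 : eF K (v 44) u * eF K (v 14) 1 = eF K (v 40) u * eF K (v 14) 1 * eF K (v 44) u := by
      rw [← q1, commutatorElement_def]; group
    rw [commutatorElement_def]
    calc eF K (v 47) t * eF K (v 44) u * eF K (v 14) 1 * (eF K (v 47) t * eF K (v 44) u)⁻¹ * (eF K (v 14) 1)⁻¹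
        = eF K (v 47) t * (eF K (v 44) u * eF K (v 14) 1) * (eF K (v 44) u)⁻¹ * (eF K (v 47) t)⁻¹ *
          (eF K (v 14) 1)⁻¹ := by group
      _ = (eF K (v 47) t * eF K (v 40) u) * eF K (v 14) 1 * (eF K (v 47) t)⁻¹ * (eF K (v 14) 1)⁻¹ := by
          rw [q4]; group
      _ = eF K (v 40) u * (eF K (v 47) t * eF K (v 14) 1) * (eF K (v 47) t)⁻¹ * (eF K (v 14) 1)⁻¹ := by
          rw [← q3]; group
      _ = _ := by rw [q2]; group
  refine ⟨_, hy, ?_, ?_⟩
  · rw [h1]; exact e_mem_U (by norm_num) (by norm_num) u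
  · rw [h1]; exact e40_notin hu

theorem move44 {z : ↥(chevF4.group K)} (hz : z ∈ ZK K) (hnc : ∃ y ∈ PF c4 K (v 44), y * z ≠ z * y) :
    ∃ y ∈ PF c4 K (v 44), ⁅z, y⁆ ∈ UK K ∧ ⁅z, y⁆ ∉ ZK K := by
  have D := dat (K := K)
  obtain ⟨a, ha, b, hb, rfl⟩ := mem_ZK.1 hz
  obtain ⟨t, rfl⟩ := (mem_XF (rv (by norm_num))).1 ha
  obtain ⟨u, rfl⟩ := (mem_XF (rv (by norm_num))).1 hb
  have ht : t ≠ 0 := by
    rintro rfl
    obtain ⟨y, hy, hne⟩ := hnc
    apply hne
    rw [D.zero (rv (by norm_num)), one_mul]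
    exact (cent_X_iff c4 (rv (by norm_num)) (e_mem_X (rv (by norm_num)) u) (z := eF K (v 44) u) (by
      rintro h0
      apply hne
      rw [D.zero (rv (by norm_num)), one_mul, h0, mul_one, one_mul])).2 hy
  have hy : eF K (v 23) 1 ∈ PF c4 K (v 44) := by
    refine e_mem c4 (rv (by norm_num)) ((mem_Ge_v c4 (by norm_num) (by norm_num)).2 ?_) 1
    have := chkMv
    rw [Bool.and_eq_true] at this
    exact this.2
  have h1 : ⁅eF K (v 47) t * eF K (v 44) u, eF K (v 23) 1⁆ = eF K (v 46) t := by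
    have q1 : ⁅eF K (v 47) t, eF K (v 23) 1⁆ = eF K (v 46) t := by rw [c47_m24, mul_one]
    have q2 := c44_m24 u (1 : K)
    rw [← q1, commutatorElement_def, commutatorElement_def]
    calc eF K (v 47) t * eF K (v 44) u * eF K (v 23) 1 * (eF K (v 47) t * eF K (v 44) u)⁻¹ * (eF K (v 23) 1)⁻¹
        = eF K (v 47) t * (eF K (v 44) u * eF K (v 23) 1) * (eF K (v 44) u)⁻¹ * (eF K (v 47) t)⁻¹ *
          (eF K (v 23) 1)⁻¹ := by group
      _ = _ := by rw [q2]; group
  refine ⟨_, hy, ?_, ?_⟩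
  · rw [h1]; exact e_mem_U (by norm_num) (by norm_num) t
  · rw [h1]; exact e46_notin ht

/-! ### Generation -/

theorem chkG : ((List.range 48).all fun c => (List.range 48).any fun b => SM.testBit b && (nn b).testBit c) = true := by
  decide +kernel

theorem gen_L {J : Subgroup ↥(chevF4.group K)}
    (hJ : ∀ x ∈ LK K, x * x = 1 → x ≠ 1 → ∀ k, k * x = x * k → k ∈ J) : J = ⊤ := by
  rw [eq_top_iff, ← show RGDLib.G1 c4 isType.isCartan (XF K) = ⊤ from G1_eq_top isType c4]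
  refine RGD.Sup_le fun x hx y hy => ?_
  obtain ⟨c, hc, rfl⟩ := exists_v c4 hx
  obtain ⟨b, hb, h1⟩ := List.any_eq_true.1 (List.all_eq_true.1 chkG c (List.mem_range.2 hc))
  rw [List.mem_range] at hb
  rw [Bool.and_eq_true] at h1
  obtain ⟨t, rfl⟩ := (mem_XF (rv hc)).1 hy
  refine hJ (eF K (v b) 1) (e_mem_L ((mem_SL hb).2 h1.1) 1) ((dat (K := K)).sq (rv hb) 1)
    ((dat (K := K)).ne_one (rv hb) one_ne_zero) _ ?_
  exact (dat (K := K)).comm_of_nonneg (rv hc) (rv hb) ((testBit_nn c4 hb hc).1 h1.2) t 1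

/-! ### The centralisers -/

/-- the properties of `H = C_K(w)` -/
structure Loc (w : ↥(chevF4.group K)) (H : Subgroup ↥(chevF4.group K)) : Prop where
  LH : LK K ≤ H
  cent : ∀ g, g * w = w * g ↔ g ∈ H
  perf : H ≤ ⁅H, H⁆
  nor : ∀ N : Subgroup ↥(chevF4.group K), N ≤ H → (∀ y ∈ H, ∀ n ∈ N, y * n * y⁻¹ ∈ N) →
    (∃ n ∈ N, ∃ y ∈ H, y * n ≠ n * y) → ZK K ≤ N

theorem L_le_P {a : ℕ} (ha : a = 47 ∨ a = 44) : LK K ≤ PF c4 K (v a) := by
  rcases ha with rfl | rfl
  · exact RGD.Sup_mono fun x hx => hx.1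
  · exact RGD.Sup_mono fun x hx => hx.2

theorem rd_le_U {a : ℕ} (ha : a = 47 ∨ a = 44) : RGD.Sup (XF K) (Rd (v a)) ≤ UK K :=
  RGD.Sup_mono fun _ hc => rd_pos ha hc

/-- **The centralisers of the nontrivial elements of `Z(U)`.** -/
theorem H_of (hK : 2 < Nat.card K) {w : ↥(chevF4.group K)} (hw : w ∈ ZK K) (hw1 : w ≠ 1) :
    ∃ H : Subgroup ↥(chevF4.group K), Loc w H := by
  rcases cases_Z hw hw1 with h | h | h
  · refine ⟨PF c4 K (v 47), L_le_P (Or.inl rfl), fun g => cent_X_iff c4 (rv (by norm_num)) h hw1,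
      (perfect_P c4 (rv (by norm_num))).ge, fun N hN hNn hnc => ?_⟩
    exact Z_le_of_normal hK (L_le_P (Or.inl rfl)) (rd_le_U (Or.inl rfl))
      (fun y hy q hq => rd_normal (rv (by norm_num)) hy hq) (fun g hg => cent_rd (Or.inl rfl) hg)
      (fun z hz hnc => move47 hz hnc) hN hNn hnc
  · refine ⟨PF c4 K (v 44), L_le_P (Or.inr rfl), fun g => cent_X_iff c4 (rv (by norm_num)) h hw1,
      (perfect_P c4 (rv (by norm_num))).ge, fun N hN hNn hnc => ?_⟩
    exact Z_le_of_normal hK (L_le_P (Or.inr rfl)) (rd_le_U (Or.inr rfl))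
      (fun y hy q hq => rd_normal (rv (by norm_num)) hy hq) (fun g hg => cent_rd (Or.inr rfl) hg)
      (fun z hz hnc => move44 hz hnc) hN hNn hnc
  · refine ⟨LK K, le_rfl, fun g => cent_mixed_iff h, (LK_perfect hK).ge, fun N hN hNn hnc => ?_⟩
    exact Z_le_of_normal hK le_rfl (rd_le_U (a := 47) (Or.inl rfl))
      (fun y hy q hq => rd_normal (rv (by norm_num)) (L_le_P (Or.inl rfl) hy) hq) (fun g hg => cent_rd (Or.inl rfl) hg)
      (fun z hz hnc => by
        obtain ⟨y, hy, hne⟩ := hnc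
        exact absurd (L_commZ hy hz) hne) hN hNn hnc

/-! ### The instance -/

open Subgroup Cfsg.Agent.OddHalf.D4 Cfsg.Agent.OddHalf.D4.Basic Cfsg.Agent.OddHalf.D4.Input
  Cfsg.Agent.OddHalf.D4.InputW

/-- From automorphisms to elements of an overgroup (helper350). -/
theorem exists_of_aut {G : Type*} [Group G] {Y : Type*} [Group Y] (f : Y →* G) (hf : Function.Injective f) {S : Set Y}
    {Z : Subgroup Y} {g : G}
    (H : ∀ α : MulAut Y, (∀ x ∈ S, α x = x) → ∃ z ∈ Z, ∀ x, α x = z * x * z⁻¹)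
    (hg : g ∈ Subgroup.normalizer (f.range : Set G)) (hgS : ∀ x ∈ S, g * f x = f x * g) :
    ∃ z ∈ Z, ∀ y, (f z)⁻¹ * g * f y = f y * ((f z)⁻¹ * g) := by
  let e : Y ≃* ↥f.range := MonoidHom.ofInjective hf
  obtain ⟨β, hβ⟩ : ∃ β : MulAut ↥f.range, ∀ k : ↥f.range, ((β k : ↥f.range) : G) = g * k * g⁻¹ :=
    ⟨Subgroup.normalizerMonoidHom f.range ⟨g, hg⟩, fun k => rfl⟩
  obtain ⟨α, hα⟩ : ∃ α : MulAut Y, ∀ y, f (α y) = g * f y * g⁻¹ := by
    refine ⟨(e.trans β).trans e.symm, fun y => ?_⟩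
    have h1 : f (e.symm (β (e y))) = ((e (e.symm (β (e y))) : ↥f.range) : G) := rfl
    have h2 : ((e y : ↥f.range) : G) = f y := rfl
    show f (e.symm (β (e y))) = _
    rw [h1, MulEquiv.apply_symm_apply, hβ, h2]
  obtain ⟨z, hz, e⟩ := H α (fun x hx => hf (by rw [hα, hgS x hx, mul_inv_cancel_right]))
  refine ⟨z, hz, fun y => ?_⟩
  have h1 := hα y
  rw [e, map_mul, map_mul, map_inv] at h1
  calc (f z)⁻¹ * g * f y = (f z)⁻¹ * (g * f y * g⁻¹) * g := by group
    _ = (f z)⁻¹ * (f z * f y * (f z)⁻¹) * g := by rw [h1]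
    _ = _ := by group

/-- automorphisms trivial on `U` -/
theorem aut_U {α : MulAut ↥(chevF4.group K)} (hα : ∀ u ∈ UK K, α u = u) :
    ∃ z ∈ ZK K, ∀ x, α x = z * x * z⁻¹ := by
  obtain ⟨z, hz, hzU, rfl⟩ := KFacts.RgdFixU.eq_conj_of_fix_U (rgd (K := K) isType c4 2)
    (G1_eq_top isType c4) simple_comm hα
  exact ⟨z, mem_Z_of_comm hzU, fun x => rfl⟩

theorem center_bot : Subgroup.center ↥(chevF4.group K) = ⊥ := S1077.center_group_eq_bot isType.inList

section Inst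

variable {G : Type*} [Group G] {f : ↥(chevF4.group K) →* G} (hf : Function.Injective f)

theorem comap_map_eq {B : Subgroup G} (hB : B ≤ f.range) : (B.comap f).map f = B := by
  rw [Subgroup.map_comap_eq]
  exact inf_eq_right.2 hB

include hf in
theorem mem_map_iff {B : Subgroup ↥(chevF4.group K)} {x : ↥(chevF4.group K)} : f x ∈ B.map f ↔ x ∈ B := by
  constructor
  · rintro ⟨y, hy, e⟩
    rwa [← hf e]
  · intro h; exact ⟨x, h, rfl⟩

include hf in
theorem locW_of {w : ↥(chevF4.group K)} {H : Subgroup ↥(chevF4.group K)} (L : Loc w H) :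
    LocW f.range ((UK K).map f) (f w) (H.map f) where
  SH := map_mono (U_le_L.trans L.LH)
  HK := by
    rintro _ ⟨y, -, rfl⟩
    exact ⟨y, rfl⟩
  Hw := by
    rintro _ ⟨y, hy, rfl⟩
    rw [← map_mul, (L.cent y).2 hy, map_mul]
  perf := by
    rw [← Subgroup.map_commutator]
    exact map_mono L.perf
  res := by
    intro P hP _ hPw x hx
    obtain ⟨y, rfl⟩ := hP hx
    refine ⟨y, (L.cent y).1 (hf ?_), rfl⟩
    rw [map_mul, map_mul]
    exact hPw _ hx
  ind := by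
    have hn : ∀ B : Subgroup G, B ≤ H.map f → (∀ y ∈ H.map f, ∀ b ∈ B, y * b * y⁻¹ ∈ B) →
        (∃ b ∈ B, ∃ y ∈ H.map f, y * b ≠ b * y) → (ZK K).map f ≤ B := by
      intro B hB hBn hnc
      have hBr : B ≤ f.range := by
        intro x hx
        obtain ⟨y, -, rfl⟩ := hB hx
        exact ⟨y, rfl⟩
      rw [← comap_map_eq hBr]
      apply map_mono
      apply L.nor
      · intro x hx
        exact (mem_map_iff hf).1 (hB hx)
      · intro y hy b hb
        show f (y * b * y⁻¹) ∈ B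
        rw [map_mul, map_mul, map_inv]
        exact hBn (f y) ⟨y, hy, rfl⟩ _ hb
      · obtain ⟨b, hb, y, hy, hne⟩ := hnc
        obtain ⟨y, hy, rfl⟩ := hy
        obtain ⟨b', hb', rfl⟩ := hB hb
        refine ⟨b', hb, y, hy, fun h0 => hne ?_⟩
        rw [← map_mul, h0, map_mul]
    have hX : (ZK K).map f ≠ ⊥ := by
      intro h0
      have h1 : f (eF K (v 47) 1) ∈ (ZK K).map f :=
        ⟨_, Subgroup.mem_sup_left (e_mem_X (rv (by norm_num)) 1), rfl⟩
      rw [h0, Subgroup.mem_bot] at h1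
      exact (dat (K := K)).ne_one (rv (by norm_num)) one_ne_zero (hf (h1.trans (map_one f).symm))
    intro A B hA hB hAB hdis hdec
    have perf : H.map f ≤ ⁅H.map f, H.map f⁆ := by
      rw [← Subgroup.map_commutator]
      exact map_mono L.perf
    exact Cfsg.Agent.OddHalf.D4.IndOf.ind_of perf hX hn A B hA hB hAB hdis hdec
  gen := by
    intro J hJ
    have h1 : J.comap f = ⊤ := by
      apply gen_L
      intro x hx hxx hx1 k hk
      refine hJ (f x) ⟨x, L.LH hx, rfl⟩ (by rw [← map_mul, hxx, map_one])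
        (fun h => hx1 (hf (h.trans (map_one f).symm))) (f k) ⟨k, rfl⟩ (by rw [← map_mul, hk, map_mul])
    rintro _ ⟨k, rfl⟩
    have h2 : k ∈ J.comap f := by rw [h1]; trivial
    exact h2

include hf in
/-- **The facts of LEMMA INPUT** for `F₄(q)`, `q ≥ 4` even. -/
theorem inp (hs : IsSimpleGroup ↥(chevF4.group K)) (hsch : Schreier.Basic.Sch ↥(chevF4.group K)) (hK : 2 < Nat.card K)
    (tight : TightAt f.range) (even : Even (Nat.card ↥(centralizer (f.range : Set G))))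
    (std : ∀ g : G, ¬ ∀ k ∈ f.range, ∀ l ∈ CommConj.cj g f.range, k * l = l * k)
    (core : ∀ Q : Subgroup G, IsSyl Q (centralizer (f.range : Set G)) → ∀ P : Subgroup G,
      P ≤ centralizer (f.range : Set G) → (∀ x ∈ P, ∀ q ∈ Q, x * q = q * x) → P ≤ ⁅P, P⁆ → P = ⊥) :
    InpW f.range ((UK K).map f) ((ZK K).map f) ((LK K).map f) where
  syl :=
    { two := (kf0 (K := K) hK).pU.map f
      le := by
        rintro _ ⟨y, -, rfl⟩
        exact ⟨y, rfl⟩
      max := by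
        intro P hP hle hPr
        rw [← comap_map_eq hPr]
        apply map_mono
        apply (kf0 (K := K) hK).maxU
        · rintro ⟨x, hx⟩
          obtain ⟨k, hk⟩ := hP ⟨f x, hx⟩
          refine ⟨k, Subtype.ext (hf ?_)⟩
          have h1 : (f x) ^ 2 ^ k = 1 := congrArg Subtype.val hk
          show f (x ^ 2 ^ k) = f 1
          rw [map_pow, h1, map_one]
        · intro x hx
          exact hle ⟨x, hx, rfl⟩ }
  tight := tight
  even := even
  ctr := by
    rintro _ ⟨x, rfl⟩ hx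
    have h1 : x ∈ Subgroup.center ↥(chevF4.group K) := by
      rw [Subgroup.mem_center_iff]
      intro y
      apply hf
      rw [map_mul, map_mul]
      exact mem_centralizer_iff.1 hx (f y) ⟨y, rfl⟩
    rw [center_bot, Subgroup.mem_bot] at h1
    rw [h1, map_one]
  std := std
  simp := by
    intro N hN hNn
    have h2 : (N.comap f).Normal := by
      constructor
      intro x hx y
      show f (y * x * y⁻¹) ∈ N
      rw [map_mul, map_mul, map_inv]
      exact hNn (f y) ⟨y, rfl⟩ _ hx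
    rcases hs.eq_bot_or_eq_top_of_normal (N.comap f) h2 with h | h
    · left
      rw [← comap_map_eq hN, h, Subgroup.map_bot]
    · right
      rw [← comap_map_eq hN, h, ← MonoidHom.range_eq_map]
  XS := map_mono (sup_le X1_le_U X2_le_U)
  SH := map_mono U_le_L
  HK := by
    rintro _ ⟨y, -, rfl⟩
    exact ⟨y, rfl⟩
  HX := by
    rintro _ ⟨y, hy, rfl⟩ _ ⟨x, hx, rfl⟩
    rw [← map_mul, ← map_mul, L_commZ hy hx]
  perf := by
    rw [← Subgroup.map_commutator]
    exact map_mono (LK_perfect hK).ge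
  cen := by
    intro y hy _ hyS
    obtain ⟨z, hz, hcz⟩ := exists_of_aut f hf (S := (UK K : Set ↥(chevF4.group K))) (Z := ZK K)
      (fun α hα => aut_U hα) hy (fun x hx => (hyS _ ⟨x, hx, rfl⟩).symm)
    refine ⟨(f z)⁻¹ * y, ?_, f z, ⟨z, hz, rfl⟩, ?_⟩
    · rw [mem_centralizer_iff]
      rintro _ ⟨x, rfl⟩
      exact (hcz x).symm
    · rw [hcz z]; group
  loc := by
    rintro _ ⟨w, hw, rfl⟩ hw1
    obtain ⟨H, L⟩ := H_of hK hw (fun h => hw1 (by rw [h, map_one]))
    exact ⟨H.map f, locW_of hf L⟩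
  out := by
    intro P hP hPP x hx
    obtain ⟨k, hk, c, hc, e⟩ := Cfsg.Agent.OddHalf.D4.IndOf.schreier f hf (by
      intro H hH α hα
      have h1 : ⁅H, H⁆ = H := le_antisymm (Subgroup.commutator_le_self _) hH
      obtain ⟨y, hy⟩ := hsch H h1 hα
      exact ⟨y, hy.symm⟩) P hP hPP x hx
    rw [e]
    exact mul_mem_sup hk (mem_centralizer_iff.2 fun y hy => (hc y hy).symm)
  core := core

end Inst

end Cfsg.Agent.OddHalf.D4.InputF4
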