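import Cfsg.Agent.OddHalf.D4.InputF4
import Cfsg.Agent.Schreier.Chev
import Cfsg.Agent.S1054

/-!
# ODD, D4: LEMMA INPUT for `K = F₄(q)`, `q ≥ 4` even, the end (helper949)

* `inp` : `InputF4.inp` with `F₄(q)` simple and the Schreier property put in;
* **`root_pair`** : a full pair `K`, `L` such that `N(L)` contains a Sylow 2-subgroup of `K` is of root type.
-/

set_option autoImplicit false

namespace Cfsg.Agent.OddHalf.D4.InputF4End

open Subgroup Cfsg.Lie Cfsg.Agent.OddHalf.D4 Cfsg.Agent.OddHalf.D4.Basic Cfsg.Agent.OddHalf.D4.Input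
  Cfsg.Agent.OddHalf.D4.InputW Cfsg.Agent.OddHalf.D7F4.KFront

universe u

variable {F : Type u} [Field F] [Finite F] [CharP F 2] {G : Type*} [Group G] {f : ↥(chevF4.group F) →* G}

theorem inp (hf : Function.Injective f) (hF : 2 < Nat.card F) (tight : TightAt f.range)
    (even : Even (Nat.card ↥(centralizer (f.range : Set G))))
    (std : ∀ g : G, ¬ ∀ k ∈ f.range, ∀ l ∈ CommConj.cj g f.range, k * l = l * k)
    (core : ∀ Q : Subgroup G, IsSyl Q (centralizer (f.range : Set G)) → ∀ P : Subgroup G,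
      P ≤ centralizer (f.range : Set G) → (∀ x ∈ P, ∀ q ∈ Q, x * q = q * x) → P ≤ ⁅P, P⁆ → P = ⊥) :
    InpW f.range ((UK F).map f) ((ZK F).map f) ((LK F).map f) := by
  have hs : IsSimpleGroup ↥(chevF4.group F) := (Cfsg.Agent.S1054.result chevF4 (by simp)).1
  exact InputF4.inp hf hs (Schreier.Chev.sch_f4 F) hF tight even std core

/-- **LEMMA INPUT** for `F₄(q)`, `q ≥ 4` even. -/
theorem root_pair [Finite G] (hf : Function.Injective f) (hF : 2 < Nat.card F) (tight : TightAt f.range)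
    (even : Even (Nat.card ↥(centralizer (f.range : Set G))))
    (std : ∀ g : G, ¬ ∀ k ∈ f.range, ∀ l ∈ CommConj.cj g f.range, k * l = l * k)
    (core : ∀ Q : Subgroup G, IsSyl Q (centralizer (f.range : Set G)) → ∀ P : Subgroup G,
      P ≤ centralizer (f.range : Set G) → (∀ x ∈ P, ∀ q ∈ Q, x * q = q * x) → P ≤ ⁅P, P⁆ → P = ⊥)
    {L Q U : Subgroup G} (hp : FullPair f.range L Q U) {S' : Subgroup G} (hS' : IsSyl S' f.range)
    (hS'L : S' ≤ normalizer (L : Set G)) :
    ∃ k ∈ f.range, ∃ γ : G, CommConj.cj γ f.range = CommConj.cj k L ∧ CommConj.cj γ Q = CommConj.cj k U ∧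
      CommConj.cj γ ((UK F).map f) = (UK F).map f ∧ CommConj.cj γ ((ZK F).map f) = (ZK F).map f ∧
      CommConj.cj γ Q ≤ Q ⊔ (ZK F).map f ∧ Q ≤ CommConj.cj γ (Q ⊔ (ZK F).map f) ∧ ¬ CommConj.cj γ Q ≤ Q ∧
      (LK F).map f ≤ CommConj.cj k L :=
  (inp hf hF tight even std core).root_pair hp hS' hS'L

end Cfsg.Agent.OddHalf.D4.InputF4End
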