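import Cfsg.Agent.OddHalf.D4.KP
import Cfsg.Agent.BabyU.KEqEFacts

/-!
# ODD, D4 over `F₂`: no configuration in groups with the facts `EF`

`EF T Q` (`BabyU.KEqEFacts`): `T` a class of involutions (the roots), `Q w` extraspecial-like for `w ∈ T`, every
involution `b ∉ T` has a `w ∈ T` with `Good T Q w b`.
`no_conf`: if the elements of `T` are `2`-central and one of three commuting involutions `α`, `β`, `α β` of `Aut E` is
always inner, then there is no configuration `Conf α β D N`; hence `KP E`.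
-/

set_option autoImplicit false

namespace Cfsg.Agent.OddHalf.D4.KPGood

open Subgroup Cfsg.Agent.BabyU.KEqE
open scoped commutatorElement

variable {E : Type*} [Group E] {T : Set E} {Q : E → Subgroup E}

/-- The elements of `T` are `2`-central. -/
def TwoCentral (T : Set E) : Prop := ∀ r ∈ T, ∃ S : Sylow 2 E, ∀ s ∈ S, s * r = r * s

theorem no_conf_inner [Finite E] (F : EF T Q) (two : TwoCentral T) {α γ : MulAut E} {D N : Subgroup E}
    (hα : ∃ b, α = MulAut.conj b) (hαα : α * α = 1) (hγγ : γ * γ = 1) (hαγ : α * γ = γ * α) (hα1 : α ≠ 1)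
    (hγ1 : γ ≠ 1) (hne : γ ≠ α) (hcen : ∀ x, α x = x → x ∈ D) (hcomm : ∀ d ∈ D, γ d * d⁻¹ ∈ N)
    (norm : ∀ d ∈ D, ∀ n ∈ N, d * n * d⁻¹ ∈ N)
    (noα : ∀ S : Sylow 2 E, ∃ s ∈ S, α s ≠ s) (noγ : ∀ S : Sylow 2 E, ∃ s ∈ S, γ s ≠ s)
    (noαγ : ∀ S : Sylow 2 E, ∃ s ∈ S, (α * γ) s ≠ s)
    (noN : ∀ n ∈ N, orderOf n = 2 → ∀ S : Sylow 2 E, ∃ s ∈ S, s * n ≠ n * s) : False := by
  obtain ⟨b, rfl⟩ := hα
  -- no `c_r`, `r ∈ T`
  have noT : ∀ φ : MulAut E, (∀ S : Sylow 2 E, ∃ s ∈ S, φ s ≠ s) → ∀ r ∈ T, φ ≠ MulAut.conj r := by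
    rintro φ hφ r hr rfl
    obtain ⟨S, hS⟩ := two r hr
    obtain ⟨s, hs, hne⟩ := hφ S
    apply hne
    rw [MulAut.conj_apply, ← hS s hs, mul_inv_cancel_right]
  have hbb : b * b = 1 := F.conj_eq_one (by rw [map_mul, hαα])
  have hb1 : b ≠ 1 := by
    rintro rfl
    exact hα1 (map_one _)
  have hbT : b ∉ T := fun h => noT _ noα b h rfl
  have hγb : γ b = b := by
    apply F.conj_inj
    ext x
    have h1 := DFunLike.congr_fun hαγ (γ x)
    have h2 : γ (γ x) = x := DFunLike.congr_fun hγγ x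
    simp only [MulAut.mul_apply, MulAut.conj_apply, map_mul, map_inv] at h1 ⊢
    rw [h2] at h1
    -- `b * x * b⁻¹ = γ b * γ γ x ...`
    have h3 := DFunLike.congr_fun hαγ (γ⁻¹ x)
    simp only [MulAut.mul_apply, MulAut.conj_apply, map_mul, map_inv, MulAut.apply_inv_self] at h3
    exact h3.symm
  obtain ⟨w, G, hγw⟩ := F.exists_fixed hbb hb1 hbT γ hγb (n := 1) (by rw [pow_one, pow_two]; exact hγγ)
  have hwT := G.wT
  have hbQ := G.bQ
  have hwb := F.w_comm hwT hbQ
  have hbw : b ≠ w := fun h => hbT (h ▸ hwT)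
  have hwN : w ∉ N := by
    intro h
    obtain ⟨S, hS⟩ := two w hwT
    obtain ⟨s, hs, hne⟩ := noN w h (orderOf_eq_prime (by rw [pow_two]; exact F.ww hwT) (F.roots.ne_one w hwT)) S
    exact hne (hS s hs)
  have hD : ∀ x, x * b = b * x → x ∈ D := by
    intro x hx
    apply hcen
    rw [MulAut.conj_apply, ← hx, mul_inv_cancel_right]
  -- `N ∩ Q w`
  have hNQ : ∀ n ∈ N, n ∈ Q w → n = 1 ∨ n = b ∨ n = b * w := by
    intro n hn hnQ
    rcases F.cc hwT hbQ hb1 hbw hnQ (fun x hx hxb => by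
      rcases F.Qcomm w hwT x hx n hnQ with h | h
      · exact commutatorElement_eq_one_iff_mul_comm.1 h
      · exfalso
        apply hwN
        rw [← h, commutatorElement_def]
        exact N.mul_mem (norm x (hD x hxb) n hn) (N.inv_mem hn)) with h | h | h | h
    · exact Or.inl h
    · exact absurd (h ▸ hn) hwN
    · exact Or.inr (Or.inl h)
    · exact Or.inr (Or.inr h)
  -- `γ` fixes the generators
  have hfix : ∀ y, y ∈ T → y ∈ Q w → y * b = b * y → y * b ∉ T → γ y = y := by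
    intro y hyT hyQ hyb hybT
    have hγyQ : γ y ∈ Q w := by
      have := F.Qaut γ w hwT y hyQ
      rwa [hγw] at this
    have hγyT : γ y ∈ T := F.aut γ y hyT
    rcases hNQ _ (hcomm y (hD y hyb)) ((Q w).mul_mem hγyQ ((Q w).inv_mem hyQ)) with h | h | h
    · exact mul_inv_eq_one.1 h
    · exfalso
      apply hybT
      rw [hyb, ← h, inv_mul_cancel_right]
      exact hγyT
    · exfalso
      have h1 : γ y = b * w * y := by rw [← h, inv_mul_cancel_right]
      have hyw := F.w_comm hwT hyQ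
      -- `y b w` is conjugate to `y b`
      have hybQ : y * b ∈ Q w := (Q w).mul_mem hyQ hbQ
      have hyb1 : y * b ≠ 1 := by
        intro h2
        apply hbT
        have h3 : b = y⁻¹ := eq_inv_of_mul_eq_one_right h2
        rw [h3, F.winv hyT]
        exact hyT
      have hybw : y * b ≠ w := fun h2 => hybT (h2 ▸ hwT)
      obtain ⟨q, hq, hqn⟩ := F.exists_nc hwT hyb1 hybw
      have h2 := (F.dich hwT hq hybQ).resolve_left hqn
      have h3 : q * (y * b) * q⁻¹ = γ y := by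
        rw [h2, h1]
        calc w * (y * b * q) * q⁻¹ = w * (y * b) := by group
          _ = w * (b * y) := by rw [hyb]
          _ = b * w * y := by rw [← mul_assoc, hwb]
      have h4 := F.aut (MulAut.conj q)⁻¹ (γ y) hγyT
      rw [← h3, MulAut.conj_inv_apply] at h4
      apply hybT
      have h5 : q⁻¹ * (q * (y * b) * q⁻¹) * q = y * b := by group
      rwa [h5] at h4
  have hall : ∀ x ∈ Q w, x * b = b * x → γ x = x := by
    intro x hx hxb
    have h1 : Subgroup.closure ({y | y ∈ T ∧ y ∈ Q w ∧ y * b = b * y ∧ y * b ∉ T} ∪ {b, w}) ≤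
        γ.toMonoidHom.eqLocus (MonoidHom.id E) := by
      rw [Subgroup.closure_le]
      rintro y (⟨hy1, hy2, hy3, hy4⟩ | hy)
      · exact hfix y hy1 hy2 hy3 hy4
      · rcases hy with rfl | rfl
        · exact hγb
        · exact hγw
    exact h1 (G.gen x hx hxb)
  rcases F.tv hwT hbQ hbb hb1 hbw γ hγw hall with h | h | h | h
  · exact hγ1 h
  · exact hne h
  · exact noT γ noγ w hwT h
  · refine noT _ noαγ w hwT ?_
    rw [h, ← map_mul, ← mul_assoc, hbb, one_mul]

/-- **No configuration.** -/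
theorem no_conf [Finite E] (F : EF T Q) (two : TwoCentral T) {α β : MulAut E} {D N : Subgroup E}
    (inn : (∃ b, α = MulAut.conj b) ∨ (∃ b, β = MulAut.conj b) ∨ ∃ b, α * β = MulAut.conj b)
    (c : Conf α β D N) : False := by
  have e1 : α * β * α = β := by
    rw [c.ab, mul_assoc, c.aa, mul_one]
  have e2 : α * β * (α * β) = 1 := by
    rw [← mul_assoc, e1, c.bb]
  have e3 : α * (α * β) = β := by rw [← mul_assoc, c.aa, one_mul]
  rcases inn with h | h | h
  · exact no_conf_inner F two h c.aa c.bb c.ab c.a1 c.b1 (fun h => c.ne h.symm) (c.cen α (Or.inl rfl))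
      (c.comm β (Or.inr (Or.inl rfl))) c.norm (c.noCen α (Or.inl rfl)) (c.noCen β (Or.inr (Or.inl rfl)))
      (c.noCen _ (Or.inr (Or.inr rfl))) c.noCenN
  · exact no_conf_inner F two h c.bb c.aa c.ab.symm c.b1 c.a1 c.ne (c.cen β (Or.inr (Or.inl rfl)))
      (c.comm α (Or.inl rfl)) c.norm (c.noCen β (Or.inr (Or.inl rfl))) (c.noCen α (Or.inl rfl))
      (by rw [← c.ab]; exact c.noCen _ (Or.inr (Or.inr rfl))) c.noCenN
  · refine no_conf_inner F two (γ := α) h e2 c.aa (by rw [e1, e3]) ?_ c.a1 ?_ (c.cen _ (Or.inr (Or.inr rfl)))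
      (c.comm α (Or.inl rfl)) c.norm (c.noCen _ (Or.inr (Or.inr rfl))) (c.noCen α (Or.inl rfl))
      (by rw [e1]; exact c.noCen β (Or.inr (Or.inl rfl))) c.noCenN
    · intro h1
      apply c.ne
      rw [← e3, h1, mul_one]
    · intro h1
      apply c.b1
      have h2 : α * 1 = α * β := by rw [mul_one]; exact h1
      exact (mul_left_cancel h2).symm

theorem kp [Finite E] (F : EF T Q) (two : TwoCentral T)
    (inn : ∀ α β : MulAut E, α * α = 1 → β * β = 1 → α * β = β * α →
      (∃ b, α = MulAut.conj b) ∨ (∃ b, β = MulAut.conj b) ∨ ∃ b, α * β = MulAut.conj b) : KP E :=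
  fun _ _ _ _ c => (no_conf F two (inn _ _ c.aa c.bb c.ab) c).elim

end Cfsg.Agent.OddHalf.D4.KPGood
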