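import Mathlib
import Cfsg.Agent.OddHalf.D4.LineR
import Cfsg.Agent.Nodes.RGDTwGen

/-!
# Relative lines: central series from generators with heights, transport

* `UU g j` : the group generated by the elements `g m`, `m > j`; `series` : `[UU 0, UU j] ≤ UU (j + 1)` if
  `[g m, g k] ≤ UU m`; `filtR` : the series is `FiltR` if the layers are generated by relative lines;
* `filtR_map`, `filtR_subgroupOf`, `lineFactsR_of_one`, `lineFactsR_of_equiv` : transport.
-/

set_option autoImplicit false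

namespace Cfsg.Agent.OddHalf.D4.LineGen

open Subgroup Cfsg.Agent.OddHalf.D4.LineR
open scoped commutatorElement

section Gen

variable {G : Type*} [Group G] {g : ℕ → Set G}

/-- the group generated by the elements of height `> j` -/
def UU (g : ℕ → Set G) (j : ℕ) : Subgroup G := closure {x | ∃ m, j < m ∧ x ∈ g m}

theorem mem_UU {m j : ℕ} (h : j < m) {x : G} (hx : x ∈ g m) : x ∈ UU g j := subset_closure ⟨m, h, hx⟩

theorem UU_le {j : ℕ} {L : Subgroup G} (h : ∀ m, j < m → ∀ x ∈ g m, x ∈ L) : UU g j ≤ L := by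
  unfold UU
  rw [closure_le]
  rintro x ⟨m, hm, hx⟩
  exact h m hm x hx

theorem UU_anti {i j : ℕ} (h : i ≤ j) : UU g j ≤ UU g i := UU_le fun _ hm _ hx => mem_UU (lt_of_le_of_lt h hm) hx

theorem UU_bot {n : ℕ} (hb : ∀ m, n < m → ∀ x ∈ g m, x = 1) {j : ℕ} (h : n ≤ j) : UU g j = ⊥ := by
  rw [eq_bot_iff]
  exact UU_le fun m hm x hx => mem_bot.2 (hb m (lt_of_le_of_lt h hm) x hx)

/-- **The central series.** -/
theorem series {n : ℕ} (hb : ∀ m, n < m → ∀ x ∈ g m, x = 1)
    (hc : ∀ m k, 0 < m → 0 < k → ∀ x ∈ g m, ∀ y ∈ g k, ⁅x, y⁆ ∈ UU g m) (j : ℕ) :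
    ∀ u ∈ UU g j, ∀ s ∈ UU g 0, ⁅s, u⁆ ∈ UU g (j + 1) := by
  have key : ∀ i j, n ≤ j + i → ∀ u ∈ UU g j, ∀ s ∈ UU g 0, ⁅s, u⁆ ∈ UU g (j + 1) := by
    intro i
    induction i with
    | zero =>
      intro j hj u hu s _
      rw [UU_bot hb (by omega), mem_bot] at hu
      rw [hu, commutatorElement_one_right]
      exact one_mem _
    | succ i ih =>
      intro j hj u hu s hs
      have hn : ∀ s ∈ UU g 0, s ∈ Subgroup.normalizer (UU g (j + 1) : Set G) := by
        intro s hs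
        have h1 : ∀ s ∈ UU g 0, ∀ v ∈ UU g (j + 1), s * v * s⁻¹ ∈ UU g (j + 1) := by
          intro s hs v hv
          have h2 := UU_anti (Nat.le_succ (j + 1)) (ih (j + 1) (by omega) v hv s hs)
          have h3 : s * v * s⁻¹ = ⁅s, v⁆ * v := by rw [commutatorElement_def]; group
          rw [h3]
          exact mul_mem h2 hv
        rw [Subgroup.mem_normalizer_iff]
        intro v
        refine ⟨h1 s hs v, fun hv => ?_⟩
        have h2 := h1 s⁻¹ (inv_mem hs) _ hv
        have h3 : s⁻¹ * (s * v * s⁻¹) * s⁻¹⁻¹ = v := by group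
        rwa [h3] at h2
      refine Nodes.RGDTwGen.comm_closure (S := {x | ∃ m, 0 < m ∧ x ∈ g m}) (T := {x | ∃ m, j < m ∧ x ∈ g m})
        (fun s hs => hn s (subset_closure hs)) (fun t ht => hn t (UU_anti (Nat.zero_le j) (subset_closure ht)))
        ?_ hs hu
      rintro s ⟨k, hk, hs⟩ t ⟨m, hm, ht⟩
      have h1 := UU_anti (Nat.succ_le_of_lt hm) (hc m k (lt_of_le_of_lt (Nat.zero_le j) hm) hk t ht s hs)
      have h2 : ⁅s, t⁆ = ⁅t, s⁆⁻¹ := (commutatorElement_inv t s).symm
      rw [h2]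
      exact inv_mem h1
  exact key n j (by omega)

/-- **The filtration.** -/
theorem filtR {n : ℕ} (hb : ∀ m, n < m → ∀ x ∈ g m, x = 1)
    (hc : ∀ m k, 0 < m → 0 < k → ∀ x ∈ g m, ∀ y ∈ g k, ⁅x, y⁆ ∈ UU g m)
    (hl : ∀ m, ∀ x ∈ g (m + 1), x ∈ closure ({z | ∃ l : Subgroup G, l ≤ UU g m ∧
      IsLineR (UU g 0) (UU g (m + 1)) l ∧ z ∈ l} ∪ (UU g (m + 1) : Set G))) : FiltR (UU g 0) (UU g) where
  zero := rfl
  bot := ⟨n, UU_bot hb le_rfl⟩
  le j := UU_anti (Nat.le_succ j)
  comm j u hu s hs := series hb hc j u hu s hs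
  gen j u hu := by
    have h1 : UU g j ≤ closure ({z | ∃ l : Subgroup G, l ≤ UU g j ∧ IsLineR (UU g 0) (UU g (j + 1)) l ∧ z ∈ l} ∪
        (UU g (j + 1) : Set G)) := by
      apply UU_le
      intro m hm x hx
      rcases Nat.lt_or_ge (j + 1) m with h2 | h2
      · exact subset_closure (Or.inr (mem_UU h2 hx))
      · have h3 : m = j + 1 := by omega
        subst h3
        exact hl j x hx
    exact h1 hu

end Gen

section Transport

variable {G H : Type*} [Group G] [Group H]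

theorem filtR_le_zero {S : Subgroup G} {U : ℕ → Subgroup G} (h : FiltR S U) (j : ℕ) : U j ≤ S := by
  induction j with
  | zero => exact h.zero.le
  | succ j ih => exact (h.le j).trans ih

/-- Transport by a homomorphism which is injective on `S`. -/
theorem filtR_map {S : Subgroup G} {U : ℕ → Subgroup G} (h : FiltR S U) (f : G →* H)
    (hf : ∀ s ∈ S, f s = 1 → s = 1) : FiltR (S.map f) (fun j => (U j).map f) := by
  have hinj : ∀ s ∈ S, ∀ t ∈ S, f s = f t → s = t := by
    intro s hs t ht e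
    have h1 := hf (s * t⁻¹) (mul_mem hs (inv_mem ht)) (by rw [map_mul, map_inv, e, mul_inv_cancel])
    exact mul_inv_eq_one.1 h1
  have hm : ∀ (D : Subgroup G), D ≤ S → ∀ x ∈ S, f x ∈ D.map f → x ∈ D := by
    rintro D hD x hx ⟨y, hy, e⟩
    rw [← hinj y (hD hy) x hx e]
    exact hy
  refine ⟨congrArg (Subgroup.map f) h.zero, ?_, fun j => map_mono (h.le j), ?_, ?_⟩
  · obtain ⟨n, hn⟩ := h.bot
    exact ⟨n, by show (U n).map f = ⊥; rw [hn, Subgroup.map_bot]⟩
  · rintro j _ ⟨u, hu, rfl⟩ _ ⟨s, hs, rfl⟩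
    rw [← map_mul, ← map_inv, ← map_mul, ← map_inv, ← map_mul]
    exact mem_map_of_mem f (h.comm j u hu s hs)
  · rintro j _ ⟨u, hu, rfl⟩
    have h1 := mem_map_of_mem f (h.gen j u hu)
    rw [MonoidHom.map_closure] at h1
    refine closure_mono ?_ h1
    rintro _ ⟨x, ⟨l, hl, hl', hx⟩ | hx, rfl⟩
    · left
      have hlS : l ≤ S := hl.trans (filtR_le_zero h j)
      refine ⟨l.map f, map_mono hl, ?_, mem_map_of_mem f hx⟩
      have hDS : U (j + 1) ≤ S := filtR_le_zero h (j + 1)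
      refine ⟨?_, ?_, ?_⟩
      · rintro _ ⟨x, hx, rfl⟩
        rw [← map_mul]
        exact mem_map_of_mem f (hl'.sq x hx)
      · obtain ⟨a, ha, b, hb, ha1, hb1, hab⟩ := hl'.pair
        refine ⟨f a, mem_map_of_mem f ha, f b, mem_map_of_mem f hb, ?_, ?_, ?_⟩
        · exact fun h2 => ha1 (hm _ hDS a (hlS ha) h2)
        · exact fun h2 => hb1 (hm _ hDS b (hlS hb) h2)
        · intro h2
          rw [← map_inv, ← map_mul] at h2
          exact hab (hm _ hDS _ (mul_mem (inv_mem (hlS ha)) (hlS hb)) h2)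
      · rintro _ ⟨y, hy, rfl⟩ _ ⟨x, hx, rfl⟩ hxD hxy _ ⟨z, hz, rfl⟩
        rw [← map_mul, ← map_mul] at hxy ⊢
        have h2 := hinj _ (mul_mem (hlS hx) hy) _ (mul_mem hy (hlS hx)) hxy
        rw [hl'.star y hy x hx (fun h3 => hxD (mem_map_of_mem f h3)) h2 z hz]
    · exact Or.inr (mem_map_of_mem f hx)

/-- Restriction to a subgroup containing `S`. -/
theorem filtR_subgroupOf {S : Subgroup G} {U : ℕ → Subgroup G} (h : FiltR S U) {K : Subgroup G} (hK : S ≤ K) :
    FiltR (S.subgroupOf K) (fun j => (U j).subgroupOf K) := by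
  have hUS : ∀ j, U j ≤ K := fun j => (filtR_le_zero h j).trans hK
  refine ⟨congrArg (fun L : Subgroup G => L.subgroupOf K) h.zero, ?_,
    fun j => comap_mono (h.le j), ?_, ?_⟩
  · obtain ⟨n, hn⟩ := h.bot
    exact ⟨n, by show (U n).subgroupOf K = ⊥; rw [hn, bot_subgroupOf]⟩
  · intro j u hu s hs
    exact h.comm j u hu s hs
  · intro j u hu
    have h1 := h.gen j u hu
    set A : Set G := {x | ∃ l : Subgroup G, l ≤ U j ∧ IsLineR S (U (j + 1)) l ∧ x ∈ l} ∪ (U (j + 1) : Set G) with hA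
    have hAK : A ⊆ K := by
      rintro x (⟨l, hl, -, hx⟩ | hx)
      · exact hUS j (hl hx)
      · exact hUS _ hx
    set B : Set ↥K := {x | ∃ l : Subgroup ↥K, l ≤ (U j).subgroupOf K ∧
      IsLineR (S.subgroupOf K) ((U (j + 1)).subgroupOf K) l ∧ x ∈ l} ∪ ((U (j + 1)).subgroupOf K : Set ↥K) with hB
    have h2 : A ⊆ ((closure B).map K.subtype : Set G) := by
      intro x hx
      refine ⟨⟨x, hAK hx⟩, subset_closure ?_, rfl⟩
      rcases hx with ⟨l, hl, hl', hx⟩ | hx
      · left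
        refine ⟨l.subgroupOf K, comap_mono hl, ⟨?_, ?_, ?_⟩, hx⟩
        · intro x hx
          exact hl'.sq x hx
        · obtain ⟨a, ha, b, hb, h3, h4, h5⟩ := hl'.pair
          exact ⟨⟨a, hUS j (hl ha)⟩, ha, ⟨b, hUS j (hl hb)⟩, hb, h3, h4, h5⟩
        · intro y hy x hx hxD hxy z hz
          exact Subtype.ext (hl'.star y hy x hx hxD (congrArg Subtype.val hxy) z hz)
      · exact Or.inr hx
    have h3 : closure A ≤ (closure B).map K.subtype := (closure_le _).2 h2
    obtain ⟨v, hv, e⟩ := h3 h1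
    have h4 : v = u := Subtype.ext e
    rw [← h4]
    exact hv

/-- One Sylow subgroup is enough. -/
theorem lineFactsR_of_one [Finite G] {S : Sylow 2 G} {U : ℕ → Subgroup G} (h : FiltR (S : Subgroup G) U) :
    LineFactsR G := by
  intro T
  have : Fact (Nat.Prime 2) := ⟨Nat.prime_two⟩
  obtain ⟨g, hg⟩ := MulAction.exists_smul_eq G S T
  refine ⟨fun j => (U j).map (MulAut.conj g).toMonoidHom, ?_⟩
  have h1 := filtR_map h (MulAut.conj g).toMonoidHom (fun s _ hs => (MulAut.conj g).injective (by rw [map_one]; exact hs))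
  have h2 : (T : Subgroup G) = (S : Subgroup G).map (MulAut.conj g).toMonoidHom := by
    rw [← hg]
    rfl
  rw [h2]
  exact h1

/-- Transport by an isomorphism. -/
theorem lineFactsR_of_equiv [Finite G] [Finite H] (e : G ≃* H) (h : LineFactsR G) : LineFactsR H := by
  have : Fact (Nat.Prime 2) := ⟨Nat.prime_two⟩
  obtain ⟨S⟩ : Nonempty (Sylow 2 G) := inferInstance
  obtain ⟨U, hU⟩ := h S
  have h1 := filtR_map hU e.toMonoidHom (fun s _ hs => e.injective (by rw [map_one]; exact hs))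
  have hS : IsPGroup 2 ↥((S : Subgroup G).map e.toMonoidHom) := S.isPGroup'.map _
  obtain ⟨T, hT⟩ := hS.exists_le_sylow
  have hTS : (T : Subgroup H) = (S : Subgroup G).map e.toMonoidHom := by
    refine le_antisymm ?_ hT
    have h2 : (S : Subgroup G) ≤ (T : Subgroup H).map e.symm.toMonoidHom := by
      intro s hs
      exact ⟨e s, hT (mem_map_of_mem _ hs), by show e.symm (e s) = s; rw [e.symm_apply_apply]⟩
    have h3 := S.is_maximal' (T.isPGroup'.map e.symm.toMonoidHom) h2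
    intro t ht
    have h4 : e.symm t ∈ (S : Subgroup G) := by rw [← h3]; exact mem_map_of_mem _ ht
    exact ⟨_, h4, by show e (e.symm t) = t; rw [e.apply_symm_apply]⟩
  refine lineFactsR_of_one (S := T) (U := fun j => (U j).map e.toMonoidHom) ?_
  rw [hTS]
  exact h1

end Transport

end Cfsg.Agent.OddHalf.D4.LineGen
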