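import Mathlib
import Cfsg.Agent.OddHalf.D4.LineGen
import Cfsg.Agent.TitsThree.WittFrame

/-!
# Relative lines in classical groups of characteristic two

`Fr` a Witt frame, `F` of characteristic two, more than two elements fixed by `σ`, `V0` nondegenerate: the group
`UU (gen Fr) 0` generated by the root elements of positive height has a central series generated by relative lines.
-/

set_option autoImplicit false

namespace Cfsg.Agent.OddHalf.D4.LineWitt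

open Subgroup Cfsg.Agent.OddHalf.D4.LineR Cfsg.Agent.OddHalf.D4.LineGen
open Cfsg.Agent.TitsThree.Siegel Cfsg.Agent.TitsThree.WittFrame
open scoped commutatorElement

variable {F : Type*} [Field F] {V : Type*} [AddCommGroup V] [Module F V] {H : HForm F V} {n : ℕ}

/-! ### Heights -/

/-- the height of a signed index -/
def ht (x : Fin n × Bool) : ℤ := if x.2 then (n : ℤ) - (x.1 : ℕ) else ((x.1 : ℕ) : ℤ) - n

theorem ht_neg (x : Fin n × Bool) : ht (neg x) = -ht x := by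
  obtain ⟨i, s⟩ := x
  cases s <;> simp [ht, neg]

theorem ht_le (x : Fin n × Bool) : ht x ≤ n := by
  obtain ⟨i, s⟩ := x
  have := i.2
  cases s <;> simp only [ht, if_true, if_false, Bool.false_eq_true] <;> omega

theorem ge_ht (x : Fin n × Bool) : -(n : ℤ) ≤ ht x := by
  have h1 := ht_le (neg x)
  rw [ht_neg] at h1
  omega

theorem eq_or_neg {x y : Fin n × Bool} (h : x.1 = y.1) : x = y ∨ x = neg y := by
  obtain ⟨i, s⟩ := x
  obtain ⟨j, t⟩ := y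
  simp only at h
  subst h
  cases s <;> cases t <;> simp [neg]

variable (Fr : Frame H (Fin n))

/-! ### The flag -/

/-- the subspace of the vectors of height `≥ k` -/
def Vk (k : ℤ) : Submodule F V where
  carrier := {v | (∀ y, -k < ht y → H.h v (Fr.b y) = 0) ∧ (0 < k → ∀ w ∈ Fr.V0, H.h v w = 0)}
  add_mem' := by
    rintro v w ⟨h1, h2⟩ ⟨h3, h4⟩
    refine ⟨fun y hy => ?_, fun hk u hu => ?_⟩
    · rw [H.add_left, h1 y hy, h3 y hy, add_zero]
    · rw [H.add_left, h2 hk u hu, h4 hk u hu, add_zero]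
  zero_mem' := ⟨fun y _ => H.zero_left _, fun _ u _ => H.zero_left _⟩
  smul_mem' := by
    rintro c v ⟨h1, h2⟩
    refine ⟨fun y hy => ?_, fun hk u hu => ?_⟩
    · rw [H.smul_left, h1 y hy, mul_zero]
    · rw [H.smul_left, h2 hk u hu, mul_zero]

variable {Fr}

theorem mem_Vk {k : ℤ} {v : V} :
    v ∈ Vk Fr k ↔ (∀ y, -k < ht y → H.h v (Fr.b y) = 0) ∧ (0 < k → ∀ w ∈ Fr.V0, H.h v w = 0) := Iff.rfl

theorem Vk_anti {k l : ℤ} (h : k ≤ l) : Vk Fr l ≤ Vk Fr k := by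
  rintro v ⟨h1, h2⟩
  exact ⟨fun y hy => h1 y (by omega), fun hk => h2 (by omega)⟩

theorem b_mem {x : Fin n × Bool} {k : ℤ} (h : k ≤ ht x) : Fr.b x ∈ Vk Fr k := by
  refine Vk_anti h ⟨fun y hy => ?_, fun _ w hw => Fr.h0 x w hw⟩
  apply Fr.hb_ne
  rintro rfl
  rw [ht_neg] at hy
  exact lt_irrefl _ hy

theorem V0_mem {w : V} (hw : w ∈ Fr.V0) {k : ℤ} (h : k ≤ 0) : w ∈ Vk Fr k :=
  ⟨fun y _ => Fr.h0' y hw, fun hk => by omega⟩

theorem bot_mem (v : V) : v ∈ Vk Fr (-n) :=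
  ⟨fun y hy => by have := ht_le y; omega, fun hk => by omega⟩

/-- a nonzero pairing bounds the height -/
theorem le_of_ne {k : ℤ} {v : V} (hv : v ∈ Vk Fr k) {y : Fin n × Bool} (h : H.h v (Fr.b y) ≠ 0) : ht y ≤ -k := by
  by_contra hcon
  exact h (hv.1 y (by omega))

theorem le_zero_of_ne {k : ℤ} {v : V} (hv : v ∈ Vk Fr k) {w : V} (hw : w ∈ Fr.V0) (h : H.h v w ≠ 0) : k ≤ 0 := by
  by_contra hcon
  exact h (hv.2 (by omega) w hw)

variable (Fr)

/-- `g - 1` raises the height by `m` -/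
def Dg (m : ℕ) : Subgroup (V ≃ₗ[F] V) where
  carrier := {g | (∀ k, ∀ v ∈ Vk Fr k, g v - v ∈ Vk Fr (k + m)) ∧ (∀ k, ∀ v ∈ Vk Fr k, g⁻¹ v - v ∈ Vk Fr (k + m))}
  one_mem' := by
    constructor
    · intro k v _
      show v - v ∈ _
      rw [sub_self]; exact Submodule.zero_mem _
    · intro k v _
      rw [inv_one]
      show v - v ∈ _
      rw [sub_self]; exact Submodule.zero_mem _
  mul_mem' := by
    have key : ∀ g g' : V ≃ₗ[F] V, (∀ k, ∀ v ∈ Vk Fr k, g v - v ∈ Vk Fr (k + m)) →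
        (∀ k, ∀ v ∈ Vk Fr k, g' v - v ∈ Vk Fr (k + m)) → ∀ k, ∀ v ∈ Vk Fr k, g (g' v) - v ∈ Vk Fr (k + m) := by
      intro g g' h h' k v hv
      have h1 := h' k v hv
      have h2 : g' v ∈ Vk Fr k := by
        have h3 := Submodule.add_mem _ (Vk_anti (by omega : k ≤ k + m) h1) hv
        rwa [sub_add_cancel] at h3
      have h3 := Submodule.add_mem _ (h k _ h2) h1
      rwa [sub_add_sub_cancel] at h3
    rintro g g' ⟨h1, h2⟩ ⟨h3, h4⟩
    refine ⟨key g g' h1 h3, ?_⟩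
    rw [mul_inv_rev]
    exact key _ _ h4 h2
  inv_mem' := by
    rintro g ⟨h1, h2⟩
    exact ⟨h2, by rw [inv_inv]; exact h1⟩

variable {Fr}

theorem X_sub {a b : Fin n × Bool} (h : a.1 ≠ b.1) (t : F) (v : V) : Fr.X a b t v - v =
    H.h v (Fr.b a) • Fr.sc b t • Fr.b b - (H.ε⁻¹ * H.h v (Fr.sc b t • Fr.b b)) • Fr.b a := by
  rw [Fr.X_eq h, H.sie_apply]
  module

theorem Z_sub (a : Fin n × Bool) (p : Fr.Adm) (v : V) : Fr.Z a p v - v =
    H.h v (Fr.b a) • p.w - (H.ε⁻¹ * H.h v p.w) • Fr.b a + (p.c * H.h v (Fr.b a)) • Fr.b a := by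
  rw [Frame.Z, H.sie_apply]
  module

theorem X_deg {a b : Fin n × Bool} (h : a.1 ≠ b.1) (t : F) {m : ℤ} (hm : m ≤ ht a + ht b) (k : ℤ) (v : V)
    (hv : v ∈ Vk Fr k) : Fr.X a b t v - v ∈ Vk Fr (k + m) := by
  rw [X_sub h]
  refine Submodule.sub_mem _ ?_ ?_
  · by_cases h0 : H.h v (Fr.b a) = 0
    · rw [h0, zero_smul]; exact Submodule.zero_mem _
    · have h1 := le_of_ne hv h0
      exact Submodule.smul_mem _ _ (Submodule.smul_mem _ _ (b_mem (by omega)))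
  · rw [H.smul_right]
    by_cases h0 : H.h v (Fr.b b) = 0
    · rw [h0, mul_zero, mul_zero, zero_smul]; exact Submodule.zero_mem _
    · have h1 := le_of_ne hv h0
      exact Submodule.smul_mem _ _ (b_mem (by omega))

theorem Z_deg {a : Fin n × Bool} (ha : 0 < ht a) (p : Fr.Adm) {m : ℤ} (hm : m ≤ ht a) (k : ℤ) (v : V)
    (hv : v ∈ Vk Fr k) : Fr.Z a p v - v ∈ Vk Fr (k + m) := by
  rw [Z_sub]
  have hpw := Fr.ok_mem p.ok
  refine Submodule.add_mem _ (Submodule.sub_mem _ ?_ ?_) ?_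
  · by_cases h0 : H.h v (Fr.b a) = 0
    · rw [h0, zero_smul]; exact Submodule.zero_mem _
    · have h1 := le_of_ne hv h0
      exact Submodule.smul_mem _ _ (V0_mem hpw (by omega))
  · by_cases h0 : H.h v p.w = 0
    · rw [h0, mul_zero, zero_smul]; exact Submodule.zero_mem _
    · have h1 := le_zero_of_ne hv hpw h0
      exact Submodule.smul_mem _ _ (b_mem (by omega))
  · by_cases h0 : H.h v (Fr.b a) = 0
    · rw [h0, mul_zero, zero_smul]; exact Submodule.zero_mem _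
    · have h1 := le_of_ne hv h0
      exact Submodule.smul_mem _ _ (b_mem (by omega))

theorem Z0_deg {a : Fin n × Bool} {p : Fr.Adm} (hp : p.w = 0) {m : ℤ} (hm : m ≤ 2 * ht a) (k : ℤ) (v : V)
    (hv : v ∈ Vk Fr k) : Fr.Z a p v - v ∈ Vk Fr (k + m) := by
  rw [Z_sub, hp, smul_zero, H.zero_right, mul_zero, zero_smul, sub_zero, zero_add]
  by_cases h0 : H.h v (Fr.b a) = 0
  · rw [h0, mul_zero, zero_smul]; exact Submodule.zero_mem _
  · have h1 := le_of_ne hv h0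
    exact Submodule.smul_mem _ _ (b_mem (by omega))

theorem X_mem_Dg {a b : Fin n × Bool} (h : a.1 ≠ b.1) (t : F) {m : ℕ} (hm : (m : ℤ) ≤ ht a + ht b) :
    Fr.X a b t ∈ Dg Fr m := by
  refine ⟨X_deg h t hm, ?_⟩
  rw [← Fr.X_neg]
  exact X_deg h _ hm

theorem Z_mem_Dg {a : Fin n × Bool} (ha : 0 < ht a) (p : Fr.Adm) {m : ℕ} (hm : (m : ℤ) ≤ ht a) :
    Fr.Z a p ∈ Dg Fr m := by
  refine ⟨Z_deg ha p hm, ?_⟩
  rw [← Fr.Z_inv]
  exact Z_deg ha _ hm

theorem Z0_mem_Dg {a : Fin n × Bool} {p : Fr.Adm} (hp : p.w = 0) {m : ℕ} (hm : (m : ℤ) ≤ 2 * ht a) :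
    Fr.Z a p ∈ Dg Fr m := by
  refine ⟨Z0_deg hp hm, ?_⟩
  rw [← Fr.Z_inv]
  exact Z0_deg (by rw [Frame.Adm.inv_w, hp, neg_zero]) hm

/-- `X a b t` is not deeper than its height -/
theorem eq_zero_of_X_mem {a b : Fin n × Bool} (h : a.1 ≠ b.1) {t : F} {m : ℕ} (hm : ht a + ht b < m)
    (hX : Fr.X a b t ∈ Dg Fr m) : t = 0 := by
  have h1 := hX.1 (-ht b) (Fr.b (neg b)) (b_mem (by rw [ht_neg]))
  rw [X_sub h, Fr.hb_of_ne (x := neg b) (y := a) (fun e => h e.symm), zero_smul, zero_sub] at h1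
  have h2 : H.h (Fr.b (neg b)) (Fr.sc b t • Fr.b b) = H.σ (Fr.sc b t) * Fr.η b := by
    rw [H.smul_right, Fr.hb_neg_self]
  have h3 := h1.1 (neg a) (by rw [ht_neg]; omega)
  rw [h2, H.neg_left, H.smul_left, Fr.hb_self_neg, neg_eq_zero] at h3
  have h4 : H.ε⁻¹ * (H.σ (Fr.sc b t) * Fr.η b) = 0 := (mul_eq_zero.1 h3).resolve_right (Fr.η_ne _)
  have h5 : H.σ (Fr.sc b t) * Fr.η b = 0 := (mul_eq_zero.1 h4).resolve_left (inv_ne_zero H.ε_ne)
  have h6 : H.σ (Fr.sc b t) = 0 := (mul_eq_zero.1 h5).resolve_right (Fr.η_ne _)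
  have h7 : Fr.sc b t = 0 := by simpa using h6
  rw [Frame.sc, neg_eq_zero] at h7
  have h8 : H.σ t = 0 := (mul_eq_zero.1 h7).resolve_left (mul_ne_zero (inv_ne_zero H.ε_ne) (Fr.η_ne _))
  simpa using h8

theorem eq_zero_of_Z0_mem {a : Fin n × Bool} {p : Fr.Adm} (hp : p.w = 0) {m : ℕ} (hm : 2 * ht a < m)
    (hX : Fr.Z a p ∈ Dg Fr m) : p.c = 0 := by
  have h1 := hX.1 (-ht a) (Fr.b (neg a)) (b_mem (by rw [ht_neg]))
  rw [Z_sub, hp, smul_zero, H.zero_right, mul_zero, zero_smul, sub_zero, zero_add, Fr.hb_neg_self] at h1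
  have h3 := h1.1 (neg a) (by rw [ht_neg]; omega)
  rw [H.smul_left, Fr.hb_self_neg] at h3
  exact (mul_eq_zero.1 ((mul_eq_zero.1 h3).resolve_right (Fr.η_ne _))).resolve_right (Fr.η_ne _)

theorem eq_zero_of_Z_mem (hnd : ∀ w ∈ Fr.V0, w ≠ 0 → ∃ w' ∈ Fr.V0, H.h w' w ≠ 0) {a : Fin n × Bool} {p : Fr.Adm}
    {m : ℕ} (hm : ht a < m) (hX : Fr.Z a p ∈ Dg Fr m) : p.w = 0 := by
  by_contra hw
  have hpw := Fr.ok_mem p.ok
  obtain ⟨w', hw', hne⟩ := hnd _ hpw hw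
  have h1 := hX.1 (-ht a) (Fr.b (neg a)) (b_mem (by rw [ht_neg]))
  rw [Z_sub, Fr.h0 _ _ hpw, mul_zero, zero_smul, sub_zero, Fr.hb_neg_self] at h1
  have h3 := h1.2 (by omega) w' hw'
  rw [H.add_left, H.smul_left, H.smul_left, Fr.h0 _ _ hw', mul_zero, add_zero] at h3
  have h4 : H.h p.w w' = 0 := (mul_eq_zero.1 h3).resolve_left (Fr.η_ne _)
  exact hne (H.orth_symm h4)

/-! ### The generators -/

variable (Fr)

/-- the root elements of height `m` -/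
def gen (m : ℕ) : Set (V ≃ₗ[F] V) :=
  {g | (∃ a b : Fin n × Bool, ∃ t : F, a.1 ≠ b.1 ∧ ht a + ht b = m ∧ g = Fr.X a b t) ∨
    (∃ a : Fin n × Bool, ∃ p : Fr.Adm, (ht a = m ∨ (p.w = 0 ∧ 2 * ht a = m)) ∧ g = Fr.Z a p)}

variable {Fr}

theorem X_mem {a b : Fin n × Bool} (h : a.1 ≠ b.1) (t : F) {j : ℕ} (hj : (j : ℤ) < ht a + ht b) :
    Fr.X a b t ∈ UU (gen Fr) j := by
  obtain ⟨m, hm⟩ : ∃ m : ℕ, ht a + ht b = m := ⟨(ht a + ht b).toNat, by omega⟩
  exact mem_UU (m := m) (by omega) (Or.inl ⟨a, b, t, h, hm, rfl⟩)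

theorem Z_mem {a : Fin n × Bool} (p : Fr.Adm) {j : ℕ} (hj : (j : ℤ) < ht a) : Fr.Z a p ∈ UU (gen Fr) j := by
  obtain ⟨m, hm⟩ : ∃ m : ℕ, ht a = m := ⟨(ht a).toNat, by omega⟩
  exact mem_UU (m := m) (by omega) (Or.inr ⟨a, p, Or.inl hm, rfl⟩)

theorem Z0_mem {a : Fin n × Bool} {p : Fr.Adm} (hp : p.w = 0) {j : ℕ} (hj : (j : ℤ) < 2 * ht a) :
    Fr.Z a p ∈ UU (gen Fr) j := by
  obtain ⟨m, hm⟩ : ∃ m : ℕ, 2 * ht a = m := ⟨(2 * ht a).toNat, by omega⟩
  exact mem_UU (m := m) (by omega) (Or.inr ⟨a, p, Or.inr ⟨hp, hm⟩, rfl⟩)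

theorem UU_le_Dg (j : ℕ) : UU (gen Fr) j ≤ Dg Fr (j + 1) := by
  apply UU_le
  rintro m hm g (⟨a, b, t, h, h', rfl⟩ | ⟨a, p, h | ⟨h, h'⟩, rfl⟩)
  · exact X_mem_Dg h t (by push_cast; omega)
  · exact Z_mem_Dg (by omega) p (by push_cast; omega)
  · exact Z0_mem_Dg h (by push_cast; omega)

theorem gen_bound (m : ℕ) (hm : 2 * n < m) (g : V ≃ₗ[F] V) (hg : g ∈ gen Fr m) : g = 1 := by
  exfalso
  rcases hg with ⟨a, b, t, h, h', rfl⟩ | ⟨a, p, h | ⟨h, h'⟩, rfl⟩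
  · have := ht_le a
    have := ht_le b
    omega
  · have := ht_le a
    omega
  · have := ht_le a
    omega

/-! ### Commutators -/

theorem comm_core {a b d : Fin n × Bool} (hab : a.1 ≠ b.1) (hbd : b.1 ≠ d.1) (s t : F) {j : ℕ}
    (hj : (j : ℤ) < ht a + ht d) : ⁅Fr.X a b s, Fr.X (neg b) d t⁆ ∈ UU (gen Fr) j := by
  by_cases had : a.1 = d.1
  · rcases eq_or_neg had with h1 | h1
    · subst h1
      have e1 : Fr.X (neg b) a t = Fr.X a (neg b) (-(H.ε⁻¹ * Fr.η (neg b) * Fr.η a * H.σ t)) :=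
        Fr.X_swap (x := neg b) (y := a) (fun e => hab e.symm) t
      set t' := -(H.ε⁻¹ * Fr.η (neg b) * Fr.η a * H.σ t)
      have e2 := Fr.X_mul_X_same hab s t'
      have e3 : ⁅Fr.X a b s, Fr.X a (neg b) t'⁆ = Fr.Z a (Frame.Adm.tr (H.σ s * t' * (Fr.η (neg b))⁻¹)) := by
        rw [commutatorElement_def, e2]; group
      rw [e1, e3]
      exact Z0_mem rfl (by omega)
    · exfalso
      rw [h1, ht_neg] at hj
      omega
  · have e := Fr.conj_X_X hab hbd had s t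
    have e3 : ⁅Fr.X a b s, Fr.X (neg b) d t⁆ = Fr.X a d (s * t) := by
      rw [commutatorElement_def, e]; group
    rw [e3]
    exact X_mem had _ hj

theorem commutator_eq_one {G : Type*} [Group G] {x y : G} (h : Commute x y) : ⁅x, y⁆ = 1 :=
  commutatorElement_eq_one_iff_commute.2 h

theorem comm_XX {a b c d : Fin n × Bool} (hab : a.1 ≠ b.1) (hcd : c.1 ≠ d.1) (s t : F) {j : ℕ}
    (hj : (j : ℤ) < ht a + ht b + (ht c + ht d)) : ⁅Fr.X a b s, Fr.X c d t⁆ ∈ UU (gen Fr) j := by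
  by_cases h1 : c = neg b
  · subst h1
    rw [ht_neg] at hj
    exact comm_core hab hcd s t (by omega)
  by_cases h2 : c = neg a
  · subst h2
    rw [ht_neg] at hj
    rw [Fr.X_swap hab]
    exact comm_core hab.symm hcd _ t (by omega)
  by_cases h3 : d = neg b
  · subst h3
    rw [ht_neg] at hj
    rw [Fr.X_swap hcd]
    exact comm_core hab hcd.symm s _ (by omega)
  by_cases h4 : d = neg a
  · subst h4
    rw [ht_neg] at hj
    rw [Fr.X_swap hcd, Fr.X_swap hab]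
    exact comm_core hab.symm hcd.symm _ _ (by omega)
  rw [commutator_eq_one (Fr.commute_XX h2 h1 h4 h3 s t)]
  exact one_mem _

theorem comm_XZ_core {a c : Fin n × Bool} (hac : a.1 ≠ c.1) (t : F) (p : Fr.Adm) {j : ℕ} (h1 : ht c < ht a)
    (h0 : 0 < ht c) (hj : (j : ℤ) < ht a ∨ (p.w = 0 ∧ (j : ℤ) < ht a + ht c)) :
    ⁅Fr.X a (neg c) t, Fr.Z c p⁆ ∈ UU (gen Fr) j := by
  have e := Fr.conj_X_Z hac t p
  have e3 : ⁅Fr.X a (neg c) t, Fr.Z c p⁆ =
      Fr.Z a (Frame.Adm.smul (H.σ t) p) * Fr.X a c (-(H.ε⁻¹ * Fr.η c * H.σ p.c * t)) := by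
    rw [commutatorElement_def, e]; group
  rw [e3]
  rcases hj with hj | ⟨hp, hj⟩
  · exact mul_mem (Z_mem _ hj) (X_mem hac _ (by omega))
  · exact mul_mem (Z0_mem (by rw [Frame.Adm.smul_w, hp, smul_zero]) (by omega)) (X_mem hac _ (by omega))

theorem comm_XZ {a b c : Fin n × Bool} (hab : a.1 ≠ b.1) (t : F) (p : Fr.Adm) {j : ℕ} (h1 : 0 < ht a + ht b)
    (h0 : 0 < ht c) (hj : (j : ℤ) < ht a + ht b + ht c ∨ (p.w = 0 ∧ (j : ℤ) < ht a + ht b + 2 * ht c)) :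
    ⁅Fr.X a b t, Fr.Z c p⁆ ∈ UU (gen Fr) j := by
  by_cases hb : b = neg c
  · subst hb
    rw [ht_neg] at hj h1
    refine comm_XZ_core (a := a) (c := c) hab t p (by omega) h0 ?_
    rcases hj with hj | ⟨hp, hj⟩
    · exact Or.inl (by omega)
    · exact Or.inr ⟨hp, by omega⟩
  by_cases ha : a = neg c
  · subst ha
    rw [ht_neg] at hj h1
    rw [Fr.X_swap hab]
    refine comm_XZ_core (a := b) (c := c) (fun e => hab e.symm) _ p (by omega) h0 ?_
    rcases hj with hj | ⟨hp, hj⟩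
    · exact Or.inl (by omega)
    · exact Or.inr ⟨hp, by omega⟩
  rw [commutator_eq_one (Fr.commute_ZX ha hb p t).symm]
  exact one_mem _

theorem comm_ZZ {a b : Fin n × Bool} (p q : Fr.Adm) {j : ℕ} (ha : 0 < ht a) (hb : 0 < ht b)
    (hj : (j : ℤ) < ht a + ht b ∨ p.w = 0 ∨ q.w = 0) : ⁅Fr.Z a p, Fr.Z b q⁆ ∈ UU (gen Fr) j := by
  by_cases hab : a.1 = b.1
  · rcases eq_or_neg hab with rfl | h1
    · have e : ⁅Fr.Z a p, Fr.Z a q⁆ = Fr.Z a ⁅p, q⁆ := by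
        rw [commutatorElement_def, commutatorElement_def, Fr.Z_mul, Fr.Z_mul, Fr.Z_mul, Fr.Z_inv, Fr.Z_inv]
      have hw : ⁅p, q⁆.w = 0 := by
        rw [commutatorElement_def]
        simp only [Frame.Adm.mul_w, Frame.Adm.inv_w]
        abel
      rw [e]
      rcases hj with hj | hj | hj
      · exact Z0_mem hw (by omega)
      · have h2 : Commute p q := by
          apply Frame.Adm.ext
          · rw [Frame.Adm.mul_w, Frame.Adm.mul_w, add_comm]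
          · rw [Frame.Adm.mul_c, Frame.Adm.mul_c, hj, H.zero_left, H.zero_right]; ring
        rw [commutator_eq_one h2, Fr.Z_one]
        exact one_mem _
      · have h2 : Commute p q := by
          apply Frame.Adm.ext
          · rw [Frame.Adm.mul_w, Frame.Adm.mul_w, add_comm]
          · rw [Frame.Adm.mul_c, Frame.Adm.mul_c, hj, H.zero_left, H.zero_right]; ring
        rw [commutator_eq_one h2, Fr.Z_one]
        exact one_mem _
    · exfalso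
      rw [h1, ht_neg] at ha
      omega
  · have e := Fr.Z_mul_Z hab p q
    have e3 : ⁅Fr.Z a p, Fr.Z b q⁆ = Fr.X a b (-(Fr.η b * H.σ (H.h p.w q.w))) := by
      rw [commutatorElement_def, e]; group
    rw [e3]
    rcases hj with hj | hj | hj
    · exact X_mem hab _ hj
    · rw [hj, H.zero_left, map_zero, mul_zero, neg_zero, Fr.X_zero]; exact one_mem _
    · rw [hj, H.zero_right, map_zero, mul_zero, neg_zero, Fr.X_zero]; exact one_mem _

theorem gen_comm (m k : ℕ) (hm : 0 < m) (hk : 0 < k) (x : V ≃ₗ[F] V) (hx : x ∈ gen Fr m) (y : V ≃ₗ[F] V)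
    (hy : y ∈ gen Fr k) : ⁅x, y⁆ ∈ UU (gen Fr) m := by
  rcases hx with ⟨a, b, s, hab, hx, rfl⟩ | ⟨a, p, hx, rfl⟩
  · rcases hy with ⟨c, d, t, hcd, hy, rfl⟩ | ⟨c, q, hy, rfl⟩
    · exact comm_XX hab hcd s t (by omega)
    · refine comm_XZ hab s q (by omega) ?_ ?_
      · rcases hy with hy | ⟨-, hy⟩ <;> omega
      · rcases hy with hy | ⟨hq, hy⟩
        · exact Or.inl (by omega)
        · exact Or.inr ⟨hq, by omega⟩
  · have ha : 0 < ht a := by rcases hx with hx | ⟨-, hx⟩ <;> omega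
    rcases hy with ⟨c, d, t, hcd, hy, rfl⟩ | ⟨c, q, hy, rfl⟩
    · rw [← commutatorElement_inv]
      refine inv_mem (comm_XZ hcd t p (by omega) ha ?_)
      rcases hx with hx | ⟨hp, hx⟩
      · exact Or.inl (by omega)
      · exact Or.inr ⟨hp, by omega⟩
    · have hc : 0 < ht c := by rcases hy with hy | ⟨-, hy⟩ <;> omega
      refine comm_ZZ p q ha hc ?_
      rcases hx with hx | ⟨hp, -⟩
      · left
        omega
      · exact Or.inr (Or.inl hp)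

/-! ### Lines -/

theorem commute_of {y g g' : V ≃ₗ[F] V} {c c' : F} (hc : c ≠ 0) {N : V → V} (hg : ∀ v, g v = v + c • N v)
    (hg' : ∀ v, g' v = v + c' • N v) (h : g * y = y * g) : g' * y = y * g' := by
  have h1 : ∀ v, N (y v) = y (N v) := by
    intro v
    have h2 : g (y v) = y (g v) := congrArg (fun k : V ≃ₗ[F] V => k v) h
    rw [hg, hg, map_add, map_smul] at h2
    have h3 := add_left_cancel h2
    have h4 := congrArg (fun u => c⁻¹ • u) h3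
    simp only [smul_smul, inv_mul_cancel₀ hc, one_smul] at h4
    exact h4
  ext v
  show g' (y v) = y (g' v)
  rw [hg', hg', map_add, map_smul, h1]

theorem X_fix {a b : Fin n × Bool} (h : a.1 ≠ b.1) {c : F} (hc : H.σ c = c) (t : F) (v : V) :
    Fr.X a b (c * t) v = v + c • (Fr.X a b t v - v) := by
  have h1 : Fr.X a b (c * t) v - v = c • (Fr.X a b t v - v) := by
    have h2 : Fr.sc b (c * t) = c * Fr.sc b t := by
      rw [Frame.sc, Frame.sc, map_mul, hc]; ring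
    rw [X_sub h, X_sub h, h2]
    simp only [H.smul_right, map_mul, hc]
    module
  rw [← h1]; abel

theorem add_self [CharP F 2] (v : V) : v + v = 0 := by
  rw [← two_smul F v, CharTwo.two_eq_zero, zero_smul]

section Line

variable (hq : ∃ d : F, H.σ d = d ∧ d ≠ 0 ∧ d ≠ 1)

/-- the line through `X a b t` -/
def lineX (a b : Fin n × Bool) (t : F) : Subgroup (V ≃ₗ[F] V) where
  carrier := {g | ∃ c, H.σ c = c ∧ g = Fr.X a b (c * t)}
  one_mem' := ⟨0, map_zero _, by rw [zero_mul, Fr.X_zero]⟩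
  mul_mem' := by
    rintro _ _ ⟨c, hc, rfl⟩ ⟨d, hd, rfl⟩
    exact ⟨c + d, by rw [map_add, hc, hd], by rw [add_mul, Fr.X_add]⟩
  inv_mem' := by
    rintro _ ⟨c, hc, rfl⟩
    exact ⟨-c, by rw [map_neg, hc], by rw [neg_mul, Fr.X_neg]⟩

include hq

theorem isLine_X [CharP F 2] {a b : Fin n × Bool} (h : a.1 ≠ b.1) {t : F} (ht0 : t ≠ 0) {m : ℕ}
    (hm : ht a + ht b = m) (S : Subgroup (V ≃ₗ[F] V)) :
    IsLineR S (UU (gen Fr) m) (lineX (Fr := Fr) a b t) := by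
  have hnot : ∀ c : F, c ≠ 0 → Fr.X a b (c * t) ∉ UU (gen Fr) m := by
    intro c hc h1
    have h2 := eq_zero_of_X_mem h (m := m + 1) (by push_cast; omega) (UU_le_Dg m h1)
    exact mul_ne_zero hc ht0 h2
  refine ⟨?_, ?_, ?_⟩
  · rintro _ ⟨c, hc, rfl⟩
    rw [← Fr.X_add, CharTwo.add_self_eq_zero, Fr.X_zero]
    exact one_mem _
  · obtain ⟨d, hd, hd0, hd1⟩ := hq
    refine ⟨_, ⟨1, map_one _, rfl⟩, _, ⟨d, hd, rfl⟩, hnot 1 one_ne_zero, hnot d hd0, ?_⟩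
    rw [← Fr.X_neg, ← Fr.X_add]
    have e : -(1 * t) + d * t = (d - 1) * t := by ring
    rw [e]
    exact hnot _ (sub_ne_zero.2 hd1)
  · rintro y - _ ⟨c, hc, rfl⟩ hD hxy _ ⟨d, hd, rfl⟩
    have hc0 : c ≠ 0 := by
      rintro rfl
      apply hD
      rw [zero_mul, Fr.X_zero]; exact one_mem _
    exact commute_of hc0 (X_fix h hc t) (X_fix h hd t) hxy

omit hq

theorem Z0_apply (a : Fin n × Bool) {p : Fr.Adm} (hp : p.w = 0) (v : V) :
    Fr.Z a p v = v + p.c • (H.h v (Fr.b a) • Fr.b a) := by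
  have h1 : Fr.Z a p v - v = p.c • (H.h v (Fr.b a) • Fr.b a) := by
    rw [Z_sub, hp, smul_zero, H.zero_right, mul_zero, zero_smul, sub_zero, zero_add, smul_smul]
  rw [← h1]; abel

/-- the line through `Z a (0, c₀)` -/
def lineZ0 (a : Fin n × Bool) (c0 : F) : Subgroup (V ≃ₗ[F] V) where
  carrier := {g | ∃ c, H.σ c = c ∧ ∃ p : Fr.Adm, p.w = 0 ∧ p.c = c * c0 ∧ g = Fr.Z a p}
  one_mem' := ⟨0, map_zero _, 1, rfl, by rw [zero_mul]; rfl, (Fr.Z_one a).symm⟩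
  mul_mem' := by
    rintro _ _ ⟨c, hc, p, hp, hpc, rfl⟩ ⟨d, hd, q, hq, hqc, rfl⟩
    refine ⟨c + d, by rw [map_add, hc, hd], p * q, ?_, ?_, (Fr.Z_mul a p q).symm⟩
    · rw [Frame.Adm.mul_w, hp, hq, add_zero]
    · rw [Frame.Adm.mul_c, hp, hpc, hqc, H.zero_right]; ring
  inv_mem' := by
    rintro _ ⟨c, hc, p, hp, hpc, rfl⟩
    refine ⟨-c, by rw [map_neg, hc], p⁻¹, ?_, ?_, (Fr.Z_inv a p).symm⟩
    · rw [Frame.Adm.inv_w, hp, neg_zero]
    · rw [Frame.Adm.inv_c, hp, hpc, H.zero_right]; ring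

include hq in
theorem isLine_Z0 [CharP F 2] {a : Fin n × Bool} {p0 : Fr.Adm} (hp0 : p0.w = 0) (hc0 : p0.c ≠ 0) {m : ℕ}
    (hm : 2 * ht a = m) (S : Subgroup (V ≃ₗ[F] V)) :
    IsLineR S (UU (gen Fr) m) (lineZ0 (Fr := Fr) a p0.c) := by
  have hnot : ∀ p : Fr.Adm, p.w = 0 → p.c ≠ 0 → Fr.Z a p ∉ UU (gen Fr) m := by
    intro p hp hc h1
    exact hc (eq_zero_of_Z0_mem hp (m := m + 1) (by push_cast; omega) (UU_le_Dg m h1))
  refine ⟨?_, ?_, ?_⟩
  · rintro _ ⟨c, hc, p, hp, hpc, rfl⟩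
    rw [← Fr.Z_mul]
    have e : p * p = 1 := by
      apply Frame.Adm.ext
      · rw [Frame.Adm.mul_w, hp, add_zero]; rfl
      · rw [Frame.Adm.mul_c, hp, H.zero_right, mul_zero, sub_zero, CharTwo.add_self_eq_zero]; rfl
    rw [e, Fr.Z_one]
    exact one_mem _
  · obtain ⟨d, hd, hd0, hd1⟩ := hq
    have hdd : d * d ≠ 1 := by
      intro h1
      apply hd1
      have h2 : (d - 1) * (d - 1) = 0 := by
        have h3 : (d - 1) * (d - 1) = d * d + 1 - (d + d) := by ring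
        rw [h3, h1, CharTwo.add_self_eq_zero, CharTwo.add_self_eq_zero, sub_zero]
      exact sub_eq_zero.1 (mul_self_eq_zero.1 h2)
    have hsw : (Frame.Adm.smul d p0).w = 0 := by rw [Frame.Adm.smul_w, hp0, smul_zero]
    have hsc : (Frame.Adm.smul d p0).c = d * d * p0.c := by rw [Frame.Adm.smul_c, hd]
    refine ⟨_, ⟨1, map_one _, p0, hp0, (one_mul _).symm, rfl⟩, _,
      ⟨d * d, by rw [map_mul, hd], Frame.Adm.smul d p0, hsw, hsc, rfl⟩, hnot p0 hp0 hc0, hnot _ hsw ?_, ?_⟩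
    · rw [hsc]; exact mul_ne_zero (mul_ne_zero hd0 hd0) hc0
    · rw [← Fr.Z_inv, ← Fr.Z_mul]
      apply hnot
      · rw [Frame.Adm.mul_w, Frame.Adm.inv_w, hp0, hsw, neg_zero, add_zero]
      · rw [Frame.Adm.mul_c, Frame.Adm.inv_c, Frame.Adm.inv_w, hp0, hsw, hsc, neg_zero, H.zero_right, mul_zero, sub_zero,
          sub_zero]
        have e : -p0.c + d * d * p0.c = (d * d - 1) * p0.c := by ring
        rw [e]
        exact mul_ne_zero (sub_ne_zero.2 hdd) hc0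
  · rintro y - _ ⟨c, hc, p, hp, hpc, rfl⟩ hD hxy _ ⟨d, hd, q, hq', hqc, rfl⟩
    have hpc0 : p.c ≠ 0 := by
      intro h1
      apply hD
      have e : p = 1 := by
        apply Frame.Adm.ext
        · rw [hp]; rfl
        · rw [h1]; rfl
      rw [e, Fr.Z_one]; exact one_mem _
    exact commute_of hpc0 (Z0_apply a hp) (Z0_apply a hq') hxy

/-- the line through `Z a p`, `p.w = w₀` -/
def lineZ (a : Fin n × Bool) (w0 : V) : Subgroup (V ≃ₗ[F] V) where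
  carrier := {g | ∃ c, H.σ c = c ∧ ∃ p : Fr.Adm, p.w = c • w0 ∧ g = Fr.Z a p}
  one_mem' := ⟨0, map_zero _, 1, by rw [zero_smul]; rfl, (Fr.Z_one a).symm⟩
  mul_mem' := by
    rintro _ _ ⟨c, hc, p, hp, rfl⟩ ⟨d, hd, q, hq, rfl⟩
    exact ⟨c + d, by rw [map_add, hc, hd], p * q, by rw [Frame.Adm.mul_w, hp, hq, add_smul], (Fr.Z_mul a p q).symm⟩
  inv_mem' := by
    rintro _ ⟨c, hc, p, hp, rfl⟩
    exact ⟨-c, by rw [map_neg, hc], p⁻¹, by rw [Frame.Adm.inv_w, hp, neg_smul], (Fr.Z_inv a p).symm⟩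

/-- An isometry raising heights which commutes with `Z a p`, `p.w ≠ 0`. -/
theorem star_Z (hnd : ∀ w ∈ Fr.V0, w ≠ 0 → ∃ w' ∈ Fr.V0, H.h w' w ≠ 0) {a : Fin n × Bool} (ha : 0 < ht a)
    {p : Fr.Adm} (hw : p.w ≠ 0) {y : V ≃ₗ[F] V} (hy : H.IsIso y) (hyD : y ∈ Dg Fr 1)
    (hxy : Fr.Z a p * y = y * Fr.Z a p) {c : F} (hc : H.σ c = c) {q : Fr.Adm} (hq' : q.w = c • p.w) :
    Fr.Z a q * y = y * Fr.Z a q := by
  have hpw := Fr.ok_mem p.ok
  obtain ⟨w', hw', hne⟩ := hnd _ hpw hw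
  -- the commutation
  have hN : ∀ v, H.h (y v) (Fr.b a) • p.w - (H.ε⁻¹ * H.h (y v) p.w) • Fr.b a + (p.c * H.h (y v) (Fr.b a)) • Fr.b a =
      y (H.h v (Fr.b a) • p.w - (H.ε⁻¹ * H.h v p.w) • Fr.b a + (p.c * H.h v (Fr.b a)) • Fr.b a) := by
    intro v
    have h1 : Fr.Z a p (y v) = y (Fr.Z a p v) := congrArg (fun k : V ≃ₗ[F] V => k v) hxy
    rw [← Z_sub, ← Z_sub, h1, map_sub]
  -- `y` fixes `b a`
  have hya : y (Fr.b a) = Fr.b a := by
    have h1 := hN w'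
    have h2 : H.h w' (Fr.b a) = 0 := Fr.h0' a hw'
    rw [h2, zero_smul, mul_zero, zero_smul, add_zero, zero_sub, map_neg, map_smul] at h1
    have hk : H.ε⁻¹ * H.h w' p.w ≠ 0 := mul_ne_zero (inv_ne_zero H.ε_ne) hne
    set κ := H.ε⁻¹ * H.h w' p.w with hκ
    obtain ⟨α, β, h3⟩ : ∃ α β : F, y (Fr.b a) = α • Fr.b a + β • p.w := by
      refine ⟨-κ⁻¹ * (p.c * H.h (y w') (Fr.b a) - H.ε⁻¹ * H.h (y w') p.w), -κ⁻¹ * H.h (y w') (Fr.b a), ?_⟩
      have h4 : y (Fr.b a) = (-κ⁻¹) • -(κ • y (Fr.b a)) := by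
        rw [smul_neg, neg_smul, _root_.neg_neg, smul_smul, inv_mul_cancel₀ hk, one_smul]
      rw [h4, ← h1]
      module
    have h4 := hyD.1 (ht a) (Fr.b a) (b_mem le_rfl)
    rw [h3] at h4
    have h5 := h4.2 (by push_cast; omega) w' hw'
    rw [H.sub_left, H.add_left, H.smul_left, H.smul_left, Fr.h0 _ _ hw', mul_zero, zero_add, sub_zero] at h5
    have hβ : β = 0 := (mul_eq_zero.1 h5).resolve_right fun h6 => hne (H.orth_symm h6)
    have h6 := h4.1 (neg a) (by rw [ht_neg]; push_cast; omega)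
    rw [hβ, zero_smul, add_zero, H.sub_left, H.smul_left, Fr.hb_self_neg] at h6
    have h7 : (α - 1) * Fr.η (neg a) = 0 := by rw [sub_mul, one_mul]; exact h6
    have hα : α = 1 := sub_eq_zero.1 ((mul_eq_zero.1 h7).resolve_right (Fr.η_ne _))
    rw [h3, hα, hβ, zero_smul, add_zero, one_smul]
  -- `y` fixes `p.w` modulo `b a`
  have hf : H.h (y (Fr.b (neg a))) (Fr.b a) = Fr.η a := by
    conv_lhs => rw [← hya]
    rw [hy, Fr.hb_neg_self]
  obtain ⟨β, hβ⟩ : ∃ β : F, y p.w = p.w + β • Fr.b a := by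
    have h1 := hN (Fr.b (neg a))
    rw [hf, Fr.hb_neg_self, Fr.h0 _ _ hpw, mul_zero, zero_smul, sub_zero, map_add, map_smul, map_smul, hya] at h1
    have h2 : Fr.η a • y p.w = Fr.η a • p.w - (H.ε⁻¹ * H.h (y (Fr.b (neg a))) p.w) • Fr.b a := by
      have h3 := congrArg (fun u => u - (p.c * Fr.η a) • Fr.b a) h1
      simp only [add_sub_cancel_right] at h3
      exact h3.symm
    refine ⟨-((Fr.η a)⁻¹ * (H.ε⁻¹ * H.h (y (Fr.b (neg a))) p.w)), ?_⟩
    have h4 : y p.w = (Fr.η a)⁻¹ • Fr.η a • y p.w := by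
      rw [smul_smul, inv_mul_cancel₀ (Fr.η_ne a), one_smul]
    rw [h4, h2, smul_sub, smul_smul, inv_mul_cancel₀ (Fr.η_ne a), one_smul, smul_smul, neg_smul, sub_eq_add_neg]
  have haa := Fr.hb_self a
  have key : ∀ q : Fr.Adm, ∀ c : F, q.w = c • p.w → y * Fr.Z a q * y⁻¹ =
      H.sie (Fr.b a) q.w (q.c + c * β - H.ε⁻¹ * H.σ (c * β)) (Fr.hb_self a) (Fr.h0 a _ (Fr.ok_mem q.ok)) := by
    intro q c hqc
    rw [Frame.Z, H.conj_sie hy, ← H.sie_add_smul _ _ _ _ (Fr.hb_self a) (Fr.h0 a _ (Fr.ok_mem q.ok))]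
    apply H.sie_congr _ _ _ _ hya _ rfl
    rw [hqc, map_smul, hβ, smul_add, smul_smul]
  have hcomm : ∀ q : Fr.Adm, y * Fr.Z a q * y⁻¹ = Fr.Z a q ↔ Fr.Z a q * y = y * Fr.Z a q := by
    intro q
    rw [mul_inv_eq_iff_eq_mul]
    exact eq_comm
  -- `β = ε⁻¹ σ β`
  have hβ' : β - H.ε⁻¹ * H.σ β = 0 := by
    have h1 := (hcomm p).2 hxy
    rw [key p 1 (one_smul _ _).symm, one_mul] at h1
    have h2 := congrArg (fun k : V ≃ₗ[F] V => k (Fr.b (neg a))) h1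
    simp only [Frame.Z, H.sie_apply, Fr.hb_neg_self, Fr.h0 _ _ hpw] at h2
    have h3 : (β - H.ε⁻¹ * H.σ β) • Fr.η a • Fr.b a = 0 := by
      have h4 := sub_eq_zero.2 h2
      rw [← h4]
      module
    rw [smul_smul] at h3
    have h4 : Fr.b a ≠ 0 := by
      intro h5
      have h6 := Fr.hb_neg_self a
      rw [h5, H.zero_right] at h6
      exact Fr.η_ne a h6.symm
    exact (mul_eq_zero.1 ((smul_eq_zero.1 h3).resolve_right h4)).resolve_right (Fr.η_ne a)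
  refine (hcomm q).1 ?_
  rw [key q c hq', Frame.Z]
  apply H.sie_congr _ _ _ _ rfl rfl
  rw [map_mul, hc]
  have e : q.c + c * β - H.ε⁻¹ * (c * H.σ β) = q.c + c * (β - H.ε⁻¹ * H.σ β) := by ring
  rw [e, hβ', mul_zero, add_zero]

include hq in
theorem isLine_Z [CharP F 2] (hnd : ∀ w ∈ Fr.V0, w ≠ 0 → ∃ w' ∈ Fr.V0, H.h w' w ≠ 0) {a : Fin n × Bool}
    {p0 : Fr.Adm} (hw0 : p0.w ≠ 0) {m : ℕ} (ha : 0 < ht a) (hm : ht a = m) {S : Subgroup (V ≃ₗ[F] V)}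
    (hS : ∀ y ∈ S, H.IsIso y ∧ y ∈ Dg Fr 1) : IsLineR S (UU (gen Fr) m) (lineZ (Fr := Fr) a p0.w) := by
  have hnot : ∀ p : Fr.Adm, p.w ≠ 0 → Fr.Z a p ∉ UU (gen Fr) m := by
    intro p hp h1
    exact hp (eq_zero_of_Z_mem hnd (m := m + 1) (by push_cast; omega) (UU_le_Dg m h1))
  refine ⟨?_, ?_, ?_⟩
  · rintro _ ⟨c, hc, p, hp, rfl⟩
    rw [← Fr.Z_mul]
    refine Z0_mem ?_ (by omega)
    rw [Frame.Adm.mul_w]
    exact add_self (F := F) _
  · obtain ⟨d, hd, hd0, hd1⟩ := hq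
    have hsw : (Frame.Adm.smul d p0).w = d • p0.w := Frame.Adm.smul_w _ _
    refine ⟨_, ⟨1, map_one _, p0, (one_smul _ _).symm, rfl⟩, _, ⟨d, hd, Frame.Adm.smul d p0, hsw, rfl⟩,
      hnot p0 hw0, hnot _ ?_, ?_⟩
    · rw [hsw]; exact smul_ne_zero hd0 hw0
    · rw [← Fr.Z_inv, ← Fr.Z_mul]
      apply hnot
      rw [Frame.Adm.mul_w, Frame.Adm.inv_w, hsw]
      have e : -p0.w + d • p0.w = (d - 1) • p0.w := by rw [sub_smul, one_smul]; abel
      rw [e]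
      exact smul_ne_zero (sub_ne_zero.2 hd1) hw0
  · rintro y hy _ ⟨c, hc, p, hp, rfl⟩ hD hxy _ ⟨d, hd, q, hq', rfl⟩
    have hc0 : c ≠ 0 := by
      rintro rfl
      apply hD
      rw [zero_smul] at hp
      exact Z0_mem hp (by omega)
    have hp0 : p.w ≠ 0 := by rw [hp]; exact smul_ne_zero hc0 hw0
    refine star_Z hnd ha hp0 (hS y hy).1 (hS y hy).2 hxy (c := d * c⁻¹) (by rw [map_mul, map_inv₀, hc, hd]) ?_
    rw [hq', hp, smul_smul, mul_assoc, inv_mul_cancel₀ hc0, mul_one]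

end Line

theorem iso_of_mem {g : V ≃ₗ[F] V} (hg : g ∈ UU (gen Fr) 0) : H.IsIso g := by
  let L : Subgroup (V ≃ₗ[F] V) :=
    { carrier := {g | H.IsIso g}
      one_mem' := fun _ _ => rfl
      mul_mem' := fun h h' => HForm.IsIso.mul H h h'
      inv_mem' := fun h => HForm.IsIso.inv H h }
  have h1 : UU (gen Fr) 0 ≤ L := by
    apply UU_le
    rintro m hm g (⟨a, b, t, -, -, rfl⟩ | ⟨a, p, -, rfl⟩)
    · exact Fr.isIso_X a b t
    · exact Fr.isIso_Z a p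
  exact h1 hg

/-- **The central series generated by relative lines.** -/
theorem filtR [CharP F 2] (hq : ∃ d : F, H.σ d = d ∧ d ≠ 0 ∧ d ≠ 1)
    (hnd : ∀ w ∈ Fr.V0, w ≠ 0 → ∃ w' ∈ Fr.V0, H.h w' w ≠ 0) : FiltR (UU (gen Fr) 0) (UU (gen Fr)) := by
  refine LineGen.filtR (n := 2 * n) gen_bound gen_comm ?_
  rintro m x (⟨a, b, t, hab, hx, rfl⟩ | ⟨a, p, hx, rfl⟩)
  · by_cases ht0 : t = 0
    · rw [ht0, Fr.X_zero]; exact one_mem _
    refine subset_closure (Or.inl ⟨lineX (Fr := Fr) a b t, ?_, isLine_X hq hab ht0 hx _, 1, map_one _, by rw [one_mul]⟩)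
    rintro _ ⟨c, -, rfl⟩
    exact X_mem hab _ (by omega)
  · rcases hx with hx | ⟨hp, hx⟩
    · by_cases hp : p.w = 0
      · exact subset_closure (Or.inr (Z0_mem hp (by omega)))
      refine subset_closure (Or.inl ⟨lineZ (Fr := Fr) a p.w, ?_,
        isLine_Z hq hnd hp (by omega) hx fun y hy => ⟨iso_of_mem hy, UU_le_Dg 0 hy⟩, 1, map_one _, p,
        (one_smul _ _).symm, rfl⟩)
      rintro _ ⟨c, -, q, -, rfl⟩
      exact Z_mem _ (by omega)
    · by_cases hc : p.c = 0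
      · have e : p = 1 := by
          apply Frame.Adm.ext
          · rw [hp]; rfl
          · rw [hc]; rfl
        rw [e, Fr.Z_one]; exact one_mem _
      refine subset_closure (Or.inl ⟨lineZ0 (Fr := Fr) a p.c, ?_, isLine_Z0 hq hp hc hx _, 1, map_one _, p, hp,
        (one_mul _).symm, rfl⟩)
      rintro _ ⟨c, -, q, hq', -, rfl⟩
      exact Z0_mem hq' (by omega)

end Cfsg.Agent.OddHalf.D4.LineWitt
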