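import Mathlib
import Cfsg.Agent.OddHalf.D4.LineWitt
import Cfsg.Agent.Nodes.WittInst
import Cfsg.Agent.Nodes.NormalForm

/-!
# Relative lines in the classical groups of types `B`, `C`, `BC`, characteristic two

`lineFactsR_model` : a group modelled on a Witt frame (`FrameCN.Model`) has the property `LineFactsR`.
-/

set_option autoImplicit false

namespace Cfsg.Agent.OddHalf.D4.LineModel

open Subgroup Cfsg.Agent.OddHalf.D4.LineR Cfsg.Agent.OddHalf.D4.LineGen Cfsg.Agent.OddHalf.D4.LineWitt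
open Cfsg.Agent.ChevalleyStructure.CoxeterGeom
open Cfsg.Agent.Tits.Roots hiding ht
open Cfsg.Agent.Nodes.Comb Cfsg.Agent.Nodes.Reps Cfsg.Agent.Nodes.WittRoot Cfsg.Agent.Nodes.BNOf
open Cfsg.Agent.Nodes.TypeC (wt ee bt nx Ok A isCartan exists_of_isRoot finite_W ee_sr)
open Cfsg.Agent.Nodes.WittAll
open Cfsg.Agent.TitsThree Cfsg.Agent.TitsThree.Siegel Cfsg.Agent.TitsThree.WittFrame
  Cfsg.Agent.TitsThree.FrameCN

variable {F : Type*} [Field F] {V : Type*} [AddCommGroup V] [Module F V] {H : HForm F V} {n : ℕ}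
  {Fr : Frame H (Fin n)}

/-! ### Heights of roots -/

/-- the height as a linear function -/
def hf (v : Fin n → ℤ) : ℤ := ∑ k : Fin n, ((n : ℤ) - (k : ℕ)) * v k

theorem hf_add (v w : Fin n → ℤ) : hf (v + w) = hf v + hf w := by
  simp only [hf, Pi.add_apply, mul_add, Finset.sum_add_distrib]

theorem hf_smul (c : ℤ) (v : Fin n → ℤ) : hf (c • v) = c * hf v := by
  simp only [hf, Pi.smul_apply, smul_eq_mul, Finset.mul_sum]
  exact Finset.sum_congr rfl fun k _ => by ring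

theorem hf_wt (a : Fin n × Bool) : hf (wt a) = ht a := by
  obtain ⟨i, s⟩ := a
  unfold hf wt
  rw [Finset.sum_eq_single i]
  · cases s <;> simp [ht]
  · intro j _ hj
    simp [hj]
  · simp

theorem hf_bt (i : Fin n) : 0 < hf (bt i) := by
  rw [bt, hf_add, hf_wt, hf_wt]
  have := i.2
  unfold nx
  split_ifs with h
  · simp only [ht, if_true, Bool.false_eq_true, if_false]
    push_cast
    omega
  · simp only [ht, if_true]
    omega

theorem hf_ee (x : Fin n → ℤ) : hf (ee x) = ∑ j, x j * hf (bt j) := by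
  have key : ∀ s : Finset (Fin n), hf (∑ j ∈ s, x j • bt j) = ∑ j ∈ s, x j * hf (bt j) := by
    intro s
    induction s using Finset.induction_on with
    | empty => simp [hf]
    | insert i s hi ih => rw [Finset.sum_insert hi, Finset.sum_insert hi, hf_add, hf_smul, ih]
  exact key _

theorem hf_pos {x : Fin n → ℤ} (h0 : 0 ≤ x) (hne : x ≠ 0) : 0 < hf (ee x) := by
  rw [hf_ee]
  obtain ⟨j, hj⟩ : ∃ j, x j ≠ 0 := by
    by_contra hcon
    push Not at hcon
    exact hne (funext hcon)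
  refine Finset.sum_pos' (fun i _ => mul_nonneg (h0 i) (hf_bt i).le) ⟨j, Finset.mem_univ _, ?_⟩
  exact mul_pos (lt_of_le_of_ne (h0 j) (Ne.symm hj)) (hf_bt j)

/-! ### The group generated by the root elements of positive height -/

theorem eq_zero_of_Vk (hV0 : ∀ v, (∀ x, H.h v (Fr.b x) = 0) → v ∈ Fr.V0)
    (hnd : ∀ w ∈ Fr.V0, w ≠ 0 → ∃ w' ∈ Fr.V0, H.h w' w ≠ 0) {v : V} {k : ℤ} (hk : (n : ℤ) < k)
    (hv : v ∈ Vk Fr k) : v = 0 := by
  by_contra hne
  have h1 : v ∈ Fr.V0 := hV0 v fun x => hv.1 x (by have := ge_ht x; omega)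
  obtain ⟨w', hw', h2⟩ := hnd v h1 hne
  exact h2 (H.orth_symm (hv.2 (by omega) w' hw'))

theorem fix_of_scalar (hV0 : ∀ v, (∀ x, H.h v (Fr.b x) = 0) → v ∈ Fr.V0)
    (hnd : ∀ w ∈ Fr.V0, w ≠ 0 → ∃ w' ∈ Fr.V0, H.h w' w ≠ 0) {g : V ≃ₗ[F] V} (hg : g ∈ Dg Fr 1) {v : V} {a : F}
    (h : g v = a • v) : g v = v := by
  by_cases ha : a = 1
  · rw [h, ha, one_smul]
  have key : ∀ i : ℕ, v ∈ Vk Fr (-n + i) := by
    intro i
    induction i with
    | zero =>
      have h1 := bot_mem (Fr := Fr) v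
      rwa [Nat.cast_zero, add_zero]
    | succ i ih =>
      have h1 := hg.1 _ v ih
      rw [h] at h1
      have h2 : a • v - v = (a - 1) • v := by rw [sub_smul, one_smul]
      rw [h2] at h1
      have h3 := Submodule.smul_mem _ (a - 1)⁻¹ h1
      rw [smul_smul, inv_mul_cancel₀ (sub_ne_zero.2 ha), one_smul] at h3
      have e : (-(n : ℤ) + ((i + 1 : ℕ) : ℤ)) = -(n : ℤ) + (i : ℤ) + ((1 : ℕ) : ℤ) := by push_cast; ring
      rw [e]; exact h3
  have h1 : v = 0 := eq_zero_of_Vk hV0 hnd (k := -n + (2 * n + 1 : ℕ)) (by push_cast; omega) (key _)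
  rw [h1, map_zero]

/-- Elements raising heights have `2`-power order. -/
theorem pow_eq_one [CharP F 2] (hV0 : ∀ v, (∀ x, H.h v (Fr.b x) = 0) → v ∈ Fr.V0)
    (hnd : ∀ w ∈ Fr.V0, w ≠ 0 → ∃ w' ∈ Fr.V0, H.h w' w ≠ 0) {g : V ≃ₗ[F] V} (hg : g ∈ Dg Fr 1) :
    g ^ 2 ^ (2 * n + 1) = 1 := by
  by_cases hs : Subsingleton V
  · ext v
    exact Subsingleton.elim _ _
  rw [not_subsingleton_iff_nontrivial] at hs
  have : CharP (Module.End F V) 2 := charP_of_injective_algebraMap (algebraMap F (Module.End F V)).injective 2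
  have : Fact (Nat.Prime 2) := ⟨Nat.prime_two⟩
  set N : Module.End F V := (g : V →ₗ[F] V) - 1 with hNdef
  have hNa : ∀ v, N v = g v - v := fun v => rfl
  have hpow : ∀ m : ℕ, ((g : V →ₗ[F] V) : Module.End F V) ^ m = ((g ^ m : V ≃ₗ[F] V) : V →ₗ[F] V) := by
    intro m
    induction m with
    | zero => rfl
    | succ m ih => rw [pow_succ, ih, pow_succ]; rfl
  have key : ∀ (i : ℕ) (v : V), (N ^ i) v ∈ Vk Fr (-n + i) := by
    intro i
    induction i with
    | zero =>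
      intro v
      have h1 := bot_mem (Fr := Fr) v
      rwa [Nat.cast_zero, add_zero, pow_zero, Module.End.one_apply]
    | succ i ih =>
      intro v
      rw [pow_succ', Module.End.mul_apply, hNa]
      have h1 := hg.1 _ _ (ih v)
      have e : (-(n : ℤ) + ((i + 1 : ℕ) : ℤ)) = -(n : ℤ) + (i : ℤ) + ((1 : ℕ) : ℤ) := by push_cast; ring
      rw [e]; exact h1
  have hN0 : N ^ (2 * n + 1) = 0 := by
    apply LinearMap.ext
    intro v
    exact eq_zero_of_Vk hV0 hnd (by push_cast; omega) (key _ v)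
  have hN1 : N ^ 2 ^ (2 * n + 1) = 0 := by
    have h1 : 2 * n + 1 ≤ 2 ^ (2 * n + 1) := (Nat.lt_two_pow_self).le
    rw [← Nat.sub_add_cancel h1, pow_add, hN0, mul_zero]
  rw [hNdef, sub_pow_char_pow_of_commute 2 _ (Commute.one_right _), one_pow, hpow, sub_eq_zero] at hN1
  apply LinearEquiv.toLinearMap_injective
  exact hN1

theorem UU_le_of {G0 : Subgroup (V ≃ₗ[F] V)} (hX : ∀ a b t, Fr.X a b t ∈ G0) (hZ : ∀ a p, Fr.Z a p ∈ G0) (j : ℕ) :
    UU (gen Fr) j ≤ G0 := by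
  apply UU_le
  rintro m hm g (⟨a, b, t, -, -, rfl⟩ | ⟨a, p, -, rfl⟩)
  · exact hX _ _ _
  · exact hZ _ _

/-- The root groups of positive roots. -/
theorem rg_le_UU {W : Type*} [Group W] (cs : CoxeterSystem (CoxeterMatrix.B n) W) {x : Fin n → ℤ}
    (hx : x ∈ RGD.Pos cs (isCartan n)) : rg Fr x ≤ UU (gen Fr) 0 := by
  obtain ⟨a, b, hab, e⟩ := exists_of_isRoot cs hx.1
  have h1 : 0 < ht a + ht b := by
    have h2 := hf_pos hx.2 hx.1.ne_zero
    rwa [e, hf_add, hf_wt, hf_wt] at h2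
  rw [rg_eq Fr hab e]
  rcases hab with hab | rfl
  · rw [PG_ne Fr hab]
    rintro _ ⟨t, rfl⟩
    exact X_mem hab t (by simpa using h1)
  · rw [PG_self]
    rintro _ ⟨p, rfl⟩
    exact Z_mem p (by simp only [Nat.cast_zero]; omega)

/-- **Groups modelled on a Witt frame.** -/
theorem lineFactsR_model [Finite V] [CharP F 2] {K : Type*} [Group K] [Finite K] (M : Model Fr K)
    (hA : AmbT Fr 2 M.I) {p0 : Fr.Adm} (hp0 : p0.c ≠ 0) (hn : 0 < n)
    (hq : ∃ d : F, H.σ d = d ∧ d ≠ 0 ∧ d ≠ 1) (hnd : ∀ w ∈ Fr.V0, w ≠ 0 → ∃ w' ∈ Fr.V0, H.h w' w ≠ 0) :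
    LineFactsR K := by
  have : Fact (Nat.Prime 2) := ⟨Nat.prime_two⟩
  have hle : UU (gen Fr) 0 ≤ M.I := UU_le_of hA.X_mem hA.Z_mem 0
  have h1 := filtR_subgroupOf (LineWitt.filtR hq hnd) hle
  have hfix : ∀ s ∈ (UU (gen Fr) 0).subgroupOf M.I, M.φ s = 1 → s = 1 := by
    intro s hs h2
    apply Subtype.ext
    ext v
    obtain ⟨a, ha⟩ : ∃ a : F, s.1 v = a • v := M.ker v s h2
    exact fix_of_scalar hA.V0 hnd (UU_le_Dg 0 hs) ha
  have h2 := filtR_map h1 M.φ hfix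
  set S : Subgroup K := ((UU (gen Fr) 0).subgroupOf M.I).map M.φ with hS
  have hSp : IsPGroup 2 ↥S := by
    rintro ⟨_, ⟨s, hs, rfl⟩⟩
    refine ⟨2 * n + 1, Subtype.ext ?_⟩
    have h3 : (s : V ≃ₗ[F] V) ^ 2 ^ (2 * n + 1) = 1 := pow_eq_one hA.V0 hnd (UU_le_Dg 0 hs)
    have h4 : s ^ 2 ^ (2 * n + 1) = 1 := Subtype.ext h3
    show (M.φ s) ^ 2 ^ (2 * n + 1) = 1
    rw [← map_pow, h4, map_one]
  have R := rgdC_model M hA hp0 (CoxeterMatrix.B n).toCoxeterSystem
  have : Finite (CoxeterMatrix.B n).Group := finite_W (CoxeterMatrix.B n).toCoxeterSystem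
  obtain ⟨P, hP⟩ := hSp.exists_le_sylow
  have hUS : RGD.Sup (Nodes.WittModel.X M) (RGD.Pos (CoxeterMatrix.B n).toCoxeterSystem (isCartan n)) ≤ S := by
    refine RGD.Sup_le fun x hx => ?_
    exact map_mono (comap_mono (rg_le_UU _ hx))
  have hG : Nodes.Bruhat.GG (CoxeterMatrix.B n).toCoxeterSystem (isCartan n) (Nodes.WittModel.T M) (Nodes.WittModel.X M) = ⊤ := by
    rw [eq_top_iff, ← Nodes.WittModel.G1_eq_top M hn (CoxeterMatrix.B n).toCoxeterSystem]
    exact le_sup_right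
  have h3 := Nodes.NormalForm.eq_U_of_isPGroup R P.isPGroup' (hUS.trans hP) (by rw [hG]; exact le_top)
  have h4 : (P : Subgroup K) = S := le_antisymm (h3.le.trans hUS) hP
  rw [← h4] at h2
  exact lineFactsR_of_one h2

end Cfsg.Agent.OddHalf.D4.LineModel
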