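import Mathlib
import Cfsg.Agent.OddHalf.D4.LineModel

/-!
# Relative lines in `U_n(q)`, `Sp_2m(q)`, `Ω⁻_2m(q)`, `q = 2^a ≥ 4`

`lineFactsR_PSU`, `lineFactsR_PSp`, `lineFactsR_PO_minus`.
-/

set_option autoImplicit false

namespace Cfsg.Agent.OddHalf.D4.LineClassical

open Subgroup Cfsg Cfsg.Agent.OddHalf.D4.LineR Cfsg.Agent.OddHalf.D4.LineGen Cfsg.Agent.OddHalf.D4.LineModel
open Cfsg.Agent.Nodes.WittRoot Cfsg.Agent.Nodes.WittAll Cfsg.Agent.Nodes.WittU Cfsg.Agent.Nodes.WittInst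
open Cfsg.Agent.TitsThree Cfsg.Agent.TitsThree.Siegel Cfsg.Agent.TitsThree.SiegelGen
  Cfsg.Agent.TitsThree.WittFrame Cfsg.Agent.TitsThree.WBridge Cfsg.Agent.TitsThree.FrameCN

/-! ### Elements of the fixed field -/

theorem exists_fixed {F : Type*} [Field F] [Fintype F] {q : ℕ} (hF : Fintype.card F = q ^ 2) (hq : 3 ≤ q) :
    ∃ d : F, d ^ q = d ∧ d ≠ 0 ∧ d ≠ 1 := by
  classical
  obtain ⟨g, hg⟩ := IsCyclic.exists_generator (α := Fˣ)
  have h1 : orderOf g = q ^ 2 - 1 := by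
    rw [orderOf_eq_card_of_forall_mem_zpowers hg, Nat.card_eq_fintype_card, Fintype.card_units, hF]
  have h2 : g ^ (q + 1) ≠ 1 := by
    intro h
    have h3 := Nat.le_of_dvd (by omega) (orderOf_dvd_of_pow_eq_one h)
    rw [h1] at h3
    nlinarith [Nat.sub_add_cancel (show 1 ≤ q ^ 2 by nlinarith)]
  refine ⟨((g ^ (q + 1) : Fˣ) : F), ?_, Units.ne_zero _, fun h => h2 (Units.ext h)⟩
  have h3 : ((g : F)) ^ (q ^ 2) = g := by rw [← hF]; exact FiniteField.pow_card _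
  rw [Units.val_pow_eq_pow_val, ← pow_mul, add_mul, one_mul, pow_add, ← pow_two, h3, pow_succ, mul_comm]

theorem exists_elt {F : Type*} [Field F] [Fintype F] (h : 3 ≤ Fintype.card F) : ∃ d : F, d ≠ 0 ∧ d ≠ 1 := by
  classical
  by_contra hcon
  push Not at hcon
  have h1 : (Finset.univ : Finset F) ⊆ {0, 1} := by
    intro d _
    rw [Finset.mem_insert, Finset.mem_singleton]
    by_cases hd : d = 0
    · exact Or.inl hd
    · exact Or.inr (hcon d hd)
  have h2 := Finset.card_le_card h1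
  rw [Finset.card_univ] at h2
  have h3 : ({0, 1} : Finset F).card ≤ 2 := Finset.card_le_two
  omega

theorem nondeg_of_amb {F : Type*} [Field F] {V : Type*} [AddCommGroup V] [Module F V] {H : HForm F V} {n : ℕ}
    {Fr : Frame H (Fin n)} {G0 : Subgroup (V ≃ₗ[F] V)} (hA : Amb Fr G0) :
    ∀ w ∈ Fr.V0, w ≠ 0 → ∃ w' ∈ Fr.V0, H.h w' w ≠ 0 :=
  fun w hw hne => ⟨w, hw, fun h => hne (hA.aniso w hw h)⟩

theorem nondeg_of_wframe {F : Type*} [Field F] {V : Type*} [AddCommGroup V] [Module F V] {H : HForm F V}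
    {P : PQ H} {n : ℕ} (W : WFrame P n) (hnd : ∀ v, (∀ w, H.h v w = 0) → v = 0) :
    ∀ w ∈ (toFrame W).V0, w ≠ 0 → ∃ w' ∈ (toFrame W).V0, H.h w' w ≠ 0 := by
  intro w hw hne
  by_contra hcon
  push Not at hcon
  apply hne
  apply hnd
  intro y
  obtain ⟨a, b, z, hz, rfl⟩ := W.span y
  have hsum : ∀ (s : Finset (Fin n)) (g : Fin n → F) (u : Fin n → V), (∀ i, H.h w (u i) = 0) →
      H.h w (∑ i ∈ s, g i • u i) = 0 := by
    intro s g u hu
    induction s using Finset.induction_on with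
    | empty => simp [H.zero_right]
    | insert a s ha ih => rw [Finset.sum_insert ha, H.add_right, H.smul_right, hu, mul_zero, ih, add_zero]
  rw [H.add_right, H.add_right, hsum _ _ _ (fun i => W.V0e w hw i), hsum _ _ _ (fun i => W.V0f w hw i),
    H.orth_symm (hcon z hz), add_zero, add_zero]

/-! ### Unitary and symplectic groups -/

/-- **`U_n(q)`.** -/
theorem lineFactsR_PSU {F : Type*} [Field F] [Fintype F] {q N : ℕ} (hF : Fintype.card F = q ^ 2) (hN : 3 ≤ N)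
    [CharP F 2] (hq : 3 ≤ q) : LineFactsR (PSU N F q) := by
  classical
  have : Fact (Nat.Prime 2) := ⟨Nat.prime_two⟩
  obtain ⟨m, hm⟩ : ∃ m, N = 2 * m ∨ N = 2 * m + 1 := ⟨N / 2, by omega⟩
  obtain ⟨W, -⟩ := exists_wframe hF hm
  obtain ⟨p0, hp0, -⟩ := exists_adm hF W
  exact lineFactsR_model (KInstU.model hF hN W) (AmbT.of_amb (amb_U hF W) 2) hp0 (by omega) (exists_fixed hF hq)
    (nondeg_of_amb (amb_U hF W))

/-- **`Sp_2m(q)`.** -/
theorem lineFactsR_PSp {F : Type*} [Field F] [Fintype F] {m : ℕ} (hm : 1 ≤ m) [CharP F 2]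
    (hq : 3 ≤ Fintype.card F) : LineFactsR (PSp m F) := by
  classical
  have : Fact (Nat.Prime 2) := ⟨Nat.prime_two⟩
  refine lineFactsR_model (KInstSp.model m F) (AmbT.of_amb amb_Sp 2) (p0 := SpIdent.adm 1) one_ne_zero hm ?_
    (nondeg_of_amb amb_Sp)
  obtain ⟨d, hd⟩ := exists_elt hq
  exact ⟨d, rfl, hd⟩

/-! ### Orthogonal groups of minus type -/

section Minus

open QuadraticMap
open Cfsg.Agent.LieClassical Cfsg.Agent.LieClassical.OrthCore Cfsg.Agent.LieClassical.OrthTrans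
open Cfsg.Agent.LieClassical.OrthSimple Cfsg.Agent.LieClassical.OrthFinite
open Cfsg.Agent.LieClassical.OrthForms
open Cfsg.Agent.TitsThree.KSideO Cfsg.Agent.TitsThree.StdData

/-- **`Ω⁻_{2m+2}(q)`.** -/
theorem lineFactsR_PO_minus {F : Type} [Field F] [Fintype F] {m : ℕ} {a b : F}
    (hab : ∀ z₁ z₂ : F, z₁ ^ 2 + a * z₁ * z₂ + b * z₂ ^ 2 = 0 → z₁ = 0 ∧ z₂ = 0) (hm : 2 ≤ m) [CharP F 2]
    (hq : 3 ≤ Fintype.card F) : LineFactsR (POmega F (quadFormMinus m F a b)) := by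
  classical
  have : Fact (Nat.Prime 2) := ⟨Nat.prime_two⟩
  rw [← coe_minusForm]
  have hG : Good (minusForm m F a b) := by
    apply good_of_finite (nondeg_minusForm m F a b hab)
    rw [Module.finrank_fintype_fun_eq_card, Fintype.card_sum, Fintype.card_sum, Fintype.card_fin,
      Fintype.card_fin]
    omega
  have hp : ((embMinus m F a b hab).ngt ⟨(1, 0), -nf a b (1, 0), rfl⟩).c ≠ 0 := by
    change (1 : F)⁻¹ * (-nf a b (1, 0)) ≠ 0
    simp [nf]
  have h2 : (2 : F) = 0 := CharTwo.two_eq_zero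
  have hA : AmbT (toFrame (wminus m F a b hab)) 2 (E (minusForm m F a b)) :=
    ambT_O _ fun g hg hg2 hb => fixp_minus a b hab h2 hm hG hg hg2 hb
  refine lineFactsR_model (model (wminus m F a b hab) hG ⟨_, hp⟩) hA hp (by omega) ?_
    (nondeg_of_wframe _ (fun v hv => nondeg_minusForm m F a b hab v hv))
  obtain ⟨d, hd⟩ := exists_elt hq
  exact ⟨d, rfl, hd⟩

end Minus

/-! ### Characteristic -/

theorem charP_of_card {F : Type*} [Field F] [Fintype F] {a : ℕ} (ha : 1 ≤ a) (h : Fintype.card F = 2 ^ a) :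
    CharP F 2 := by
  have : Fact (Nat.Prime 2) := ⟨Nat.prime_two⟩
  obtain ⟨p, hp⟩ := CharP.exists F
  obtain ⟨⟨n, hn⟩, hpp, h1⟩ := FiniteField.card F p
  have h2 : p = 2 := by
    have h3 : p ∣ 2 ^ a := by
      rw [← h, h1]
      exact dvd_pow_self p hn.ne'
    exact (Nat.prime_dvd_prime_iff_eq hpp Nat.prime_two).1 (hpp.dvd_of_dvd_pow h3)
  exact h2 ▸ hp

theorem two_pow_ge {a : ℕ} (ha : 2 ≤ a) : 3 ≤ 2 ^ a := by
  have h1 : 2 ^ 2 ≤ 2 ^ a := Nat.pow_le_pow_right (by norm_num) ha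
  omega

end Cfsg.Agent.OddHalf.D4.LineClassical
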