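import Cfsg.Agent.OddHalf.D4.Line

/-!
# ODD, D4, (1B): lines, the filtration of a weighted family (helper368)

* `filt_of_family`: a family of subgroups `Y i` of weights `w i` with `[Y i, Y j] ≤ V (w j + 1)`, `V d = ⟨Y i : w i ≥ d⟩`,
  generated by lines, gives `Filt (V 0) V`.
* `LineFacts.of_sylow`, `LineFacts.of_equiv`: one Sylow 2-subgroup is enough.
-/

set_option autoImplicit false

namespace Cfsg.Agent.OddHalf.D4.LineFilt

open Subgroup Cfsg.Agent.OddHalf.D4.Line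

section family

variable {G : Type*} [Group G] {ι : Type*} (Y : ι → Subgroup G) (w : ι → ℕ)

/-- the group generated by the members of weight at least `d` -/
def V (d : ℕ) : Subgroup G := ⨆ i : {i // d ≤ w i}, Y i.1

variable {Y w}

theorem le_V {i : ι} {d : ℕ} (h : d ≤ w i) : Y i ≤ V Y w d := le_iSup (fun i : {i // d ≤ w i} => Y i.1) ⟨i, h⟩

theorem V_le {d : ℕ} {H : Subgroup G} (h : ∀ i, d ≤ w i → Y i ≤ H) : V Y w d ≤ H := iSup_le fun i => h i.1 i.2

theorem V_anti {d e : ℕ} (h : d ≤ e) : V Y w e ≤ V Y w d := V_le fun _ hi => le_V (h.trans hi)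

/-- induction -/
theorem V_induction {d : ℕ} {C : G → Prop} {x : G} (hx : x ∈ V Y w d) (mem : ∀ i, d ≤ w i → ∀ x ∈ Y i, C x)
    (one : C 1) (mul : ∀ x y, x ∈ V Y w d → y ∈ V Y w d → C x → C y → C (x * y)) : C x := by
  have h1 : x ∈ V Y w d ∧ C x := by
    refine Subgroup.iSup_induction (fun i : {i // d ≤ w i} => Y i.1) (C := fun x => x ∈ V Y w d ∧ C x) hx ?_ ?_ ?_
    · intro i x hx
      exact ⟨le_V i.2 hx, mem i.1 i.2 x hx⟩
    · exact ⟨one_mem _, one⟩
    · rintro x y ⟨h1, h2⟩ ⟨h3, h4⟩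
      exact ⟨mul_mem h1 h3, mul x y h1 h3 h2 h4⟩
  exact h1.2

variable (hcomm : ∀ i j, ∀ a ∈ Y i, ∀ b ∈ Y j, a * b * a⁻¹ * b⁻¹ ∈ V Y w (w j + 1))

include hcomm

theorem V_norm (d : ℕ) {s : G} (hs : s ∈ V Y w 0) : ∀ u ∈ V Y w d, s * u * s⁻¹ ∈ V Y w d := by
  refine V_induction (C := fun s => ∀ u ∈ V Y w d, s * u * s⁻¹ ∈ V Y w d) hs ?_ ?_ ?_
  · intro i _ s hs u hu
    refine V_induction (C := fun u => s * u * s⁻¹ ∈ V Y w d) hu ?_ ?_ ?_
    · intro j hj u hu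
      have e : s * u * s⁻¹ = s * u * s⁻¹ * u⁻¹ * u := by group
      rw [e]
      exact mul_mem (V_anti (by omega) (hcomm i j s hs u hu)) (le_V hj hu)
    · simp
    · intro x y _ _ hx hy
      have e : s * (x * y) * s⁻¹ = s * x * s⁻¹ * (s * y * s⁻¹) := by group
      rw [e]
      exact mul_mem hx hy
  · intro u hu
    simpa using hu
  · intro s t _ _ h1 h2 u hu
    have e : s * t * u * (s * t)⁻¹ = s * (t * u * t⁻¹) * s⁻¹ := by group
    rw [e]
    exact h1 _ (h2 _ hu)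

theorem V_comm (d : ℕ) {s : G} (hs : s ∈ V Y w 0) : ∀ u ∈ V Y w d, s * u * s⁻¹ * u⁻¹ ∈ V Y w (d + 1) := by
  refine V_induction (C := fun s => ∀ u ∈ V Y w d, s * u * s⁻¹ * u⁻¹ ∈ V Y w (d + 1)) hs ?_ ?_ ?_
  · intro i _ s hs u hu
    refine V_induction (C := fun u => s * u * s⁻¹ * u⁻¹ ∈ V Y w (d + 1)) hu ?_ ?_ ?_
    · intro j hj u hu
      exact V_anti (by omega) (hcomm i j s hs u hu)
    · simp
    · intro x y hx' _ hx hy
      have e : s * (x * y) * s⁻¹ * (x * y)⁻¹ = s * x * s⁻¹ * x⁻¹ * (x * (s * y * s⁻¹ * y⁻¹) * x⁻¹) := by group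
      rw [e]
      exact mul_mem hx (V_norm hcomm (d + 1) (V_anti (Nat.zero_le d) hx') _ hy)
  · intro u _
    simp
  · intro s t hs' _ h1 h2 u hu
    have e : s * t * u * (s * t)⁻¹ * u⁻¹ = s * (t * u * t⁻¹ * u⁻¹) * s⁻¹ * (s * u * s⁻¹ * u⁻¹) := by group
    rw [e]
    exact mul_mem (V_norm hcomm (d + 1) hs' _ (h2 u hu)) (h1 u hu)

/-- **The filtration of a weighted family.** -/
theorem filt_of_family (hbd : ∃ N, ∀ i, w i < N)
    (hline : ∀ i, ∀ x ∈ Y i, x ∈ closure ({x | ∃ l : Subgroup G, l ≤ V Y w (w i) ∧ IsLine (V Y w 0) l ∧ x ∈ l} ∪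
      (V Y w (w i + 1) : Set G))) : Filt (V Y w 0) (V Y w) where
  zero := rfl
  bot := by
    obtain ⟨N, hN⟩ := hbd
    refine ⟨N, ?_⟩
    rw [eq_bot_iff]
    refine V_le fun i hi => ?_
    have := hN i
    omega
  le j := V_anti (by omega)
  comm j u hu s hs := V_comm hcomm j hs u hu
  gen j u hu := by
    refine V_induction (C := fun u => u ∈ closure ({x | ∃ l : Subgroup G, l ≤ V Y w j ∧ IsLine (V Y w 0) l ∧ x ∈ l} ∪
      (V Y w (j + 1) : Set G))) hu ?_ (one_mem _) (fun _ _ _ _ hx hy => mul_mem hx hy)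
    intro i hi x hx
    rcases Nat.eq_or_lt_of_le hi with h1 | h1
    · subst h1
      exact hline i x hx
    · exact subset_closure (Or.inr (le_V h1 hx))

end family

section transport

variable {G H : Type*} [Group G] [Group H]

theorem isLine_map {S l : Subgroup G} (h : IsLine S l) (e : G ≃* H) :
    IsLine (S.map e.toMonoidHom) (l.map e.toMonoidHom) where
  sq := by
    rintro _ ⟨x, hx, rfl⟩
    show e x * e x = 1
    rw [← map_mul, h.sq x hx, map_one]
  card := by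
    rw [← Nat.card_congr (l.equivMapOfInjective e.toMonoidHom e.injective).toEquiv]
    exact h.card
  star := by
    rintro _ ⟨y, hy, rfl⟩ _ ⟨x, hx, rfl⟩ hx1 hxy _ ⟨x', hx', rfl⟩
    show e x' * e y = e y * e x'
    have h1 : x * y = y * x := by
      apply e.injective
      rw [map_mul, map_mul]
      exact hxy
    rw [← map_mul, ← map_mul, h.star y hy x hx (by rintro rfl; exact hx1 (map_one _)) h1 x' hx']

theorem filt_map {S : Subgroup G} {U : ℕ → Subgroup G} (h : Filt S U) (e : G ≃* H) :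
    Filt (S.map e.toMonoidHom) (fun j => (U j).map e.toMonoidHom) where
  zero := by show (U 0).map e.toMonoidHom = _; rw [h.zero]
  bot := by
    obtain ⟨n, hn⟩ := h.bot
    exact ⟨n, by show (U n).map e.toMonoidHom = ⊥; rw [hn, Subgroup.map_bot]⟩
  le j := Subgroup.map_mono (h.le j)
  comm := by
    rintro j _ ⟨u, hu, rfl⟩ _ ⟨s, hs, rfl⟩
    exact ⟨_, h.comm j u hu s hs, by
      show e (s * u * s⁻¹ * u⁻¹) = e s * e u * (e s)⁻¹ * (e u)⁻¹
      rw [map_mul, map_mul, map_mul, map_inv, map_inv]⟩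
  gen := by
    rintro j _ ⟨u, hu, rfl⟩
    have h1 : e.toMonoidHom u ∈ (closure ({x | ∃ l : Subgroup G, l ≤ U j ∧ IsLine S l ∧ x ∈ l} ∪
      (U (j + 1) : Set G))).map e.toMonoidHom := ⟨u, h.gen j u hu, rfl⟩
    rw [MonoidHom.map_closure] at h1
    refine closure_mono ?_ h1
    rintro _ ⟨x, hx | hx, rfl⟩
    · obtain ⟨l, hl, hl', hxl⟩ := hx
      exact Or.inl ⟨l.map e.toMonoidHom, Subgroup.map_mono hl, isLine_map hl' e, ⟨x, hxl, rfl⟩⟩
    · exact Or.inr ⟨x, hx, rfl⟩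

/-- One Sylow 2-subgroup is enough. -/
theorem lineFacts_of_sylow [Finite G] (S₀ : Sylow 2 G) {U : ℕ → Subgroup G} (hU : Filt (S₀ : Subgroup G) U) :
    LineFacts G := by
  have : Fact (Nat.Prime 2) := ⟨Nat.prime_two⟩
  intro S
  obtain ⟨g, rfl⟩ := MulAction.exists_smul_eq G S₀ S
  exact ⟨_, filt_map hU (MulAut.conj g)⟩

/-- Isomorphic groups. -/
theorem lineFacts_of_equiv [Finite G] (e : G ≃* H) (h : LineFacts G) : LineFacts H := by
  have : Finite H := Finite.of_equiv _ e.toEquiv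
  have : Fact (Nat.Prime 2) := ⟨Nat.prime_two⟩
  obtain ⟨S₀⟩ : Nonempty (Sylow 2 G) := inferInstance
  obtain ⟨U, hU⟩ := h S₀
  have h1 : IsPGroup 2 ↥((S₀ : Subgroup G).map e.toMonoidHom) := S₀.2.map _
  let S₁ : Sylow 2 H := ⟨(S₀ : Subgroup G).map e.toMonoidHom, h1, by
    intro Q hQ hle
    have h2 : IsPGroup 2 ↥(Q.comap e.toMonoidHom) := hQ.comap_of_injective _ e.injective
    have h3 : (S₀ : Subgroup G) ≤ Q.comap e.toMonoidHom := fun s hs => hle ⟨s, hs, rfl⟩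
    have h4 := S₀.3 h2 h3
    rw [← h4, Subgroup.map_comap_eq_self_of_surjective e.surjective]⟩
  exact lineFacts_of_sylow S₁ (filt_map hU e)

/-- A 2-subgroup without larger 2-groups. -/
theorem lineFacts_of_max [Finite G] {S₀ : Subgroup G} (h2 : IsPGroup 2 ↥S₀)
    (hmax : ∀ Q : Subgroup G, IsPGroup 2 ↥Q → S₀ ≤ Q → Q = S₀) {U : ℕ → Subgroup G} (hU : Filt S₀ U) :
    LineFacts G :=
  lineFacts_of_sylow ⟨S₀, h2, fun {Q} hQ hle => hmax Q hQ hle⟩ hU

end transport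

end Cfsg.Agent.OddHalf.D4.LineFilt
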