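import Cfsg.Agent.OddHalf.D4.LineFilt

/-!
# ODD, D4, (1B): lines in the unipotent group of `G_2(q)`, `q` even, abstract form (helper368)

`x 0, …, x 5` : the root elements of the roots `α` (short), `β` (long), `α+β`, `2α+β` (short), `3α+β`, `3α+2β` (long).
`star0`, `star2`, `star3`: the star property of the short roots.
-/

set_option autoImplicit false
set_option linter.unusedSectionVars false

namespace Cfsg.Agent.OddHalf.D4.LineGTwo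

open Subgroup

variable {Y K : Type*} [Group Y] [Field K]

/-- the relations -/
structure GU (x : Fin 6 → K → Y) : Prop where
  two : ∀ t : K, t + t = 0
  add : ∀ i t u, x i (t + u) = x i t * x i u
  ab : ∀ t u, x 0 u * x 1 t = x 2 (t * u) * x 3 (t * u ^ 2) * x 4 (t * u ^ 3) * (x 1 t * x 0 u)
  eb : ∀ t u, x 4 u * x 1 t = x 5 (t * u) * (x 1 t * x 4 u)
  ca : ∀ t u, x 2 u * x 0 t = x 4 (t ^ 2 * u) * x 5 (t * u ^ 2) * (x 0 t * x 2 u)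
  da : ∀ t u, x 3 u * x 0 t = x 4 (t * u) * (x 0 t * x 3 u)
  dc : ∀ t u, x 3 u * x 2 t = x 5 (t * u) * (x 2 t * x 3 u)
  c12 : ∀ t u, x 1 t * x 2 u = x 2 u * x 1 t
  c13 : ∀ t u, x 1 t * x 3 u = x 3 u * x 1 t
  c15 : ∀ t u, x 1 t * x 5 u = x 5 u * x 1 t
  c04 : ∀ t u, x 0 t * x 4 u = x 4 u * x 0 t
  c05 : ∀ t u, x 0 t * x 5 u = x 5 u * x 0 t
  c24 : ∀ t u, x 2 t * x 4 u = x 4 u * x 2 t
  c25 : ∀ t u, x 2 t * x 5 u = x 5 u * x 2 t
  c34 : ∀ t u, x 3 t * x 4 u = x 4 u * x 3 t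
  c35 : ∀ t u, x 3 t * x 5 u = x 5 u * x 3 t
  c45 : ∀ t u, x 4 t * x 5 u = x 5 u * x 4 t
  ind4 : ∀ s t, x 4 s * x 5 t = 1 → s = 0 ∧ t = 0
  ind2 : ∀ s t u v, x 2 s * x 3 t * x 4 u * x 5 v = 1 → s = 0

namespace GU

variable {x : Fin 6 → K → Y} (h : GU x)

include h

theorem zero (i : Fin 6) : x i 0 = 1 := by
  have h1 := h.add i 0 0
  rw [add_zero] at h1
  exact (mul_eq_left.1 h1.symm)

theorem sq (i : Fin 6) (t : K) : x i t * x i t = 1 := by rw [← h.add, h.two, h.zero]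

theorem inv (i : Fin 6) (t : K) : (x i t)⁻¹ = x i t := inv_eq_of_mul_eq_one_right (h.sq i t)

theorem self (i : Fin 6) (t u : K) : x i t * x i u = x i u * x i t := by rw [← h.add, add_comm, h.add]

/-- the root group -/
def R (i : Fin 6) : Subgroup Y where
  carrier := {g | ∃ t, g = x i t}
  one_mem' := ⟨0, (h.zero i).symm⟩
  mul_mem' := by
    rintro _ _ ⟨a, rfl⟩ ⟨b, rfl⟩
    exact ⟨a + b, (h.add i a b).symm⟩
  inv_mem' := by
    rintro _ ⟨a, rfl⟩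
    exact ⟨a, h.inv i a⟩

/-- the unipotent group -/
def U : Subgroup Y := ⨆ i : Fin 6, h.R i

theorem U_induction {C : Y → Prop} {y : Y} (hy : y ∈ h.U) (mem : ∀ i t, C (x i t)) (one : C 1)
    (mul : ∀ y z, C y → C z → C (y * z)) : C y := by
  refine Subgroup.iSup_induction (fun i : Fin 6 => h.R i) (C := C) hy ?_ one mul
  rintro i _ ⟨t, rfl⟩
  exact mem i t

/-! ### Conjugation formulas -/

theorem conj_of_comm {i j : Fin 6} (hc : ∀ t u, x i t * x j u = x j u * x i t) (t u : K) :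
    x i t * x j u * (x i t)⁻¹ = x j u := by rw [hc]; group

/-- the action on `x 4` and `x 3` -/
def Q3 (x : Fin 6 → K → Y) (y : Y) : Prop := ∃ A B C : K, (∀ u, y * x 3 u * y⁻¹ = x 3 u * x 4 (A * u) * x 5 (B * u)) ∧
  (∀ u, y * x 4 u * y⁻¹ = x 4 u * x 5 (C * u)) ∧ ∀ u, y * x 5 u * y⁻¹ = x 5 u

/-- the action on `x 2` -/
def Q2 (x : Fin 6 → K → Y) (y : Y) : Prop := ∃ A B C : K,
  (∀ u, y * x 2 u * y⁻¹ = x 2 u * x 4 (A ^ 2 * u) * x 5 (A * u ^ 2 + B * u)) ∧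
  (∀ u, y * x 4 u * y⁻¹ = x 4 u * x 5 (C * u)) ∧ ∀ u, y * x 5 u * y⁻¹ = x 5 u

theorem x5_comm (i : Fin 6) (t u : K) : x i t * x 5 u * (x i t)⁻¹ = x 5 u := by
  fin_cases i
  · exact h.conj_of_comm h.c05 t u
  · exact h.conj_of_comm h.c15 t u
  · exact h.conj_of_comm h.c25 t u
  · exact h.conj_of_comm h.c35 t u
  · exact h.conj_of_comm h.c45 t u
  · exact h.conj_of_comm (h.self 5) t u

theorem eb' (t u : K) : x 1 t * x 4 u * (x 1 t)⁻¹ = x 4 u * x 5 (t * u) := by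
  have h1 := h.eb t u
  calc x 1 t * x 4 u * (x 1 t)⁻¹ = (x 5 (t * u))⁻¹ * (x 5 (t * u) * (x 1 t * x 4 u)) * (x 1 t)⁻¹ := by group
    _ = (x 5 (t * u))⁻¹ * (x 4 u * x 1 t) * (x 1 t)⁻¹ := by rw [h1]
    _ = x 5 (t * u) * x 4 u := by rw [h.inv]; group
    _ = x 4 u * x 5 (t * u) := (h.c45 u (t * u)).symm

theorem x4_conj (i : Fin 6) (t : K) : ∃ C : K, ∀ u, x i t * x 4 u * (x i t)⁻¹ = x 4 u * x 5 (C * u) := by
  have hz : ∀ u, x 4 u = x 4 u * x 5 (0 * u) := fun u => by rw [zero_mul, h.zero, mul_one]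
  fin_cases i
  · exact ⟨0, fun u => (h.conj_of_comm h.c04 t u).trans (hz u)⟩
  · exact ⟨t, fun u => h.eb' t u⟩
  · exact ⟨0, fun u => (h.conj_of_comm h.c24 t u).trans (hz u)⟩
  · exact ⟨0, fun u => (h.conj_of_comm h.c34 t u).trans (hz u)⟩
  · exact ⟨0, fun u => (h.conj_of_comm (h.self 4) t u).trans (hz u)⟩
  · exact ⟨0, fun u => (h.conj_of_comm (fun t u => (h.c45 u t).symm) t u).trans (hz u)⟩

theorem da' (t u : K) : x 0 t * x 3 u * (x 0 t)⁻¹ = x 3 u * x 4 (t * u) := by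
  have h1 := h.da t u
  calc x 0 t * x 3 u * (x 0 t)⁻¹ = (x 4 (t * u))⁻¹ * (x 4 (t * u) * (x 0 t * x 3 u)) * (x 0 t)⁻¹ := by group
    _ = (x 4 (t * u))⁻¹ * (x 3 u * x 0 t) * (x 0 t)⁻¹ := by rw [h1]
    _ = x 4 (t * u) * x 3 u := by rw [h.inv]; group
    _ = x 3 u * x 4 (t * u) := (h.c34 u (t * u)).symm

theorem dc' (t u : K) : x 2 t * x 3 u * (x 2 t)⁻¹ = x 3 u * x 5 (t * u) := by
  have h1 := h.dc t u
  calc x 2 t * x 3 u * (x 2 t)⁻¹ = (x 5 (t * u))⁻¹ * (x 5 (t * u) * (x 2 t * x 3 u)) * (x 2 t)⁻¹ := by group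
    _ = (x 5 (t * u))⁻¹ * (x 3 u * x 2 t) * (x 2 t)⁻¹ := by rw [h1]
    _ = x 5 (t * u) * x 3 u := by rw [h.inv]; group
    _ = x 3 u * x 5 (t * u) := (h.c35 u (t * u)).symm

theorem q3_mem (i : Fin 6) (t : K) : Q3 x (x i t) := by
  obtain ⟨C, hC⟩ := h.x4_conj i t
  have hz : ∀ u, x 3 u = x 3 u * x 4 (0 * u) * x 5 (0 * u) := fun u => by
    rw [zero_mul, h.zero, h.zero, mul_one, mul_one]
  have key : ∃ A B, ∀ u, x i t * x 3 u * (x i t)⁻¹ = x 3 u * x 4 (A * u) * x 5 (B * u) := by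
    clear hC
    fin_cases i
    · exact ⟨t, 0, fun u => by
        rw [zero_mul, h.zero, mul_one]; exact h.da' t u⟩
    · exact ⟨0, 0, fun u => (h.conj_of_comm h.c13 t u).trans (hz u)⟩
    · exact ⟨0, t, fun u => by
        rw [zero_mul, h.zero, mul_one]; exact h.dc' t u⟩
    · exact ⟨0, 0, fun u => (h.conj_of_comm (h.self 3) t u).trans (hz u)⟩
    · exact ⟨0, 0, fun u => (h.conj_of_comm (fun t u => (h.c34 u t).symm) t u).trans (hz u)⟩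
    · exact ⟨0, 0, fun u => (h.conj_of_comm (fun t u => (h.c35 u t).symm) t u).trans (hz u)⟩
  obtain ⟨A, B, hAB⟩ := key
  exact ⟨A, B, C, hAB, hC, h.x5_comm i t⟩

theorem q3_mul {y z : Y} (hy : Q3 x y) (hz : Q3 x z) : Q3 x (y * z) := by
  obtain ⟨A, B, C, h1, h2, h3⟩ := hy
  obtain ⟨A', B', C', h1', h2', h3'⟩ := hz
  refine ⟨A + A', B + C * A' + B', C + C', fun u => ?_, fun u => ?_, fun u => ?_⟩
  · have e : y * z * x 3 u * (y * z)⁻¹ = y * (z * x 3 u * z⁻¹) * y⁻¹ := by group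
    have e2 : y * (x 3 u * x 4 (A' * u) * x 5 (B' * u)) * y⁻¹ =
        (y * x 3 u * y⁻¹) * (y * x 4 (A' * u) * y⁻¹) * (y * x 5 (B' * u) * y⁻¹) := by group
    rw [e, h1', e2, h1, h2, h3]
    have e3 : x 3 u * x 4 (A * u) * x 5 (B * u) * (x 4 (A' * u) * x 5 (C * (A' * u))) * x 5 (B' * u) =
        x 3 u * x 4 (A * u) * (x 5 (B * u) * x 4 (A' * u)) * x 5 (C * (A' * u)) * x 5 (B' * u) := by group
    rw [e3, ← h.c45]
    have e4 : x 3 u * x 4 (A * u) * (x 4 (A' * u) * x 5 (B * u)) * x 5 (C * (A' * u)) * x 5 (B' * u) =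
        x 3 u * (x 4 (A * u) * x 4 (A' * u)) * (x 5 (B * u) * x 5 (C * (A' * u)) * x 5 (B' * u)) := by group
    rw [e4, ← h.add, ← h.add, ← h.add]
    congr 2
    · ring_nf
    · ring_nf
  · have e : y * z * x 4 u * (y * z)⁻¹ = y * (z * x 4 u * z⁻¹) * y⁻¹ := by group
    have e2 : y * (x 4 u * x 5 (C' * u)) * y⁻¹ = (y * x 4 u * y⁻¹) * (y * x 5 (C' * u) * y⁻¹) := by group
    rw [e, h2', e2, h2, h3, mul_assoc, ← h.add]
    congr 2
    ring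
  · have e : y * z * x 5 u * (y * z)⁻¹ = y * (z * x 5 u * z⁻¹) * y⁻¹ := by group
    rw [e, h3', h3]

theorem q3 {y : Y} (hy : y ∈ h.U) : Q3 x y :=
  h.U_induction (C := Q3 x) hy h.q3_mem
    ⟨0, 0, 0, fun u => by simp [h.zero], fun u => by simp [h.zero], fun u => by simp⟩
    fun _ _ => h.q3_mul

theorem conj_eq {y z : Y} (hc : z * y = y * z) : y * z * y⁻¹ = z := by rw [← hc]; group

/-- **`2α + β`** -/
theorem star3 {y : Y} (hy : y ∈ h.U) {u : K} (hu : u ≠ 0) (hc : x 3 u * y = y * x 3 u) (v : K) :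
    x 3 v * y = y * x 3 v := by
  obtain ⟨A, B, C, h1, -, -⟩ := h.q3 hy
  have h2 := h1 u
  rw [h.conj_eq hc, mul_assoc, eq_comm, mul_eq_left] at h2
  obtain ⟨h3, h4⟩ := h.ind4 _ _ h2
  have hA : A = 0 := (mul_eq_zero.1 h3).resolve_right hu
  have hB : B = 0 := (mul_eq_zero.1 h4).resolve_right hu
  have h5 := h1 v
  rw [hA, hB, zero_mul, h.zero, h.zero, mul_one, mul_one] at h5
  exact (mul_inv_eq_iff_eq_mul.1 h5).symm

theorem ca' (t u : K) : x 0 t * x 2 u * (x 0 t)⁻¹ = x 2 u * x 4 (t ^ 2 * u) * x 5 (t * u ^ 2) := by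
  have h1 := h.ca t u
  calc x 0 t * x 2 u * (x 0 t)⁻¹ = (x 4 (t ^ 2 * u) * x 5 (t * u ^ 2))⁻¹ *
        (x 4 (t ^ 2 * u) * x 5 (t * u ^ 2) * (x 0 t * x 2 u)) * (x 0 t)⁻¹ := by group
    _ = (x 4 (t ^ 2 * u) * x 5 (t * u ^ 2))⁻¹ * (x 2 u * x 0 t) * (x 0 t)⁻¹ := by rw [h1]
    _ = x 5 (t * u ^ 2) * (x 4 (t ^ 2 * u) * x 2 u) := by rw [mul_inv_rev, h.inv, h.inv]; group
    _ = x 5 (t * u ^ 2) * x 2 u * x 4 (t ^ 2 * u) := by rw [← h.c24, mul_assoc]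
    _ = x 2 u * (x 5 (t * u ^ 2) * x 4 (t ^ 2 * u)) := by rw [← h.c25, mul_assoc]
    _ = x 2 u * x 4 (t ^ 2 * u) * x 5 (t * u ^ 2) := by rw [← h.c45, mul_assoc]

theorem dc'' (t u : K) : x 3 t * x 2 u * (x 3 t)⁻¹ = x 2 u * x 5 (t * u) := by
  have h1 := h.dc u t
  rw [h1]
  calc x 5 (u * t) * (x 2 u * x 3 t) * (x 3 t)⁻¹ = x 5 (u * t) * x 2 u := by group
    _ = x 2 u * x 5 (t * u) := by rw [← h.c25, mul_comm u t]

theorem q2_mem (i : Fin 6) (t : K) : Q2 x (x i t) := by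
  obtain ⟨C, hC⟩ := h.x4_conj i t
  have hz : ∀ u, x 2 u = x 2 u * x 4 ((0 : K) ^ 2 * u) * x 5 (0 * u ^ 2 + 0 * u) := fun u => by
    rw [zero_pow two_ne_zero, zero_mul, zero_mul, add_zero, h.zero, h.zero, mul_one, mul_one]
  have key : ∃ A B, ∀ u, x i t * x 2 u * (x i t)⁻¹ = x 2 u * x 4 (A ^ 2 * u) * x 5 (A * u ^ 2 + B * u) := by
    clear hC
    fin_cases i
    · exact ⟨t, 0, fun u => by
        rw [zero_mul, add_zero]; exact h.ca' t u⟩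
    · exact ⟨0, 0, fun u => (h.conj_of_comm h.c12 t u).trans (hz u)⟩
    · exact ⟨0, 0, fun u => (h.conj_of_comm (h.self 2) t u).trans (hz u)⟩
    · exact ⟨0, t, fun u => by
        rw [zero_pow two_ne_zero, zero_mul, zero_mul, zero_add, h.zero, mul_one]; exact h.dc'' t u⟩
    · exact ⟨0, 0, fun u => (h.conj_of_comm (fun t u => (h.c24 u t).symm) t u).trans (hz u)⟩
    · exact ⟨0, 0, fun u => (h.conj_of_comm (fun t u => (h.c25 u t).symm) t u).trans (hz u)⟩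
  obtain ⟨A, B, hAB⟩ := key
  exact ⟨A, B, C, hAB, hC, h.x5_comm i t⟩

theorem two' : (2 : K) = 0 := by rw [← one_add_one_eq_two]; exact h.two 1

theorem q2_mul {y z : Y} (hy : Q2 x y) (hz : Q2 x z) : Q2 x (y * z) := by
  obtain ⟨A, B, C, h1, h2, h3⟩ := hy
  obtain ⟨A', B', C', h1', h2', h3'⟩ := hz
  refine ⟨A + A', B + C * A' ^ 2 + B', C + C', fun u => ?_, fun u => ?_, fun u => ?_⟩
  · have e : y * z * x 2 u * (y * z)⁻¹ = y * (z * x 2 u * z⁻¹) * y⁻¹ := by group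
    have e2 : y * (x 2 u * x 4 (A' ^ 2 * u) * x 5 (A' * u ^ 2 + B' * u)) * y⁻¹ =
        (y * x 2 u * y⁻¹) * (y * x 4 (A' ^ 2 * u) * y⁻¹) * (y * x 5 (A' * u ^ 2 + B' * u) * y⁻¹) := by group
    rw [e, h1', e2, h1, h2, h3]
    have e3 : x 2 u * x 4 (A ^ 2 * u) * x 5 (A * u ^ 2 + B * u) * (x 4 (A' ^ 2 * u) * x 5 (C * (A' ^ 2 * u))) *
        x 5 (A' * u ^ 2 + B' * u) =
        x 2 u * x 4 (A ^ 2 * u) * (x 5 (A * u ^ 2 + B * u) * x 4 (A' ^ 2 * u)) * x 5 (C * (A' ^ 2 * u)) *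
          x 5 (A' * u ^ 2 + B' * u) := by group
    rw [e3, ← h.c45]
    have e4 : x 2 u * x 4 (A ^ 2 * u) * (x 4 (A' ^ 2 * u) * x 5 (A * u ^ 2 + B * u)) * x 5 (C * (A' ^ 2 * u)) *
          x 5 (A' * u ^ 2 + B' * u) =
        x 2 u * (x 4 (A ^ 2 * u) * x 4 (A' ^ 2 * u)) * (x 5 (A * u ^ 2 + B * u) * x 5 (C * (A' ^ 2 * u)) *
          x 5 (A' * u ^ 2 + B' * u)) := by group
    rw [e4, ← h.add, ← h.add, ← h.add]
    congr 2
    · congr 1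
      linear_combination (-(A * A' * u)) * h.two'
    · ring_nf
  · have e : y * z * x 4 u * (y * z)⁻¹ = y * (z * x 4 u * z⁻¹) * y⁻¹ := by group
    have e2 : y * (x 4 u * x 5 (C' * u)) * y⁻¹ = (y * x 4 u * y⁻¹) * (y * x 5 (C' * u) * y⁻¹) := by group
    rw [e, h2', e2, h2, h3, mul_assoc, ← h.add]
    congr 2
    ring
  · have e : y * z * x 5 u * (y * z)⁻¹ = y * (z * x 5 u * z⁻¹) * y⁻¹ := by group
    rw [e, h3', h3]

theorem q2 {y : Y} (hy : y ∈ h.U) : Q2 x y :=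
  h.U_induction (C := Q2 x) hy h.q2_mem
    ⟨0, 0, 0, fun u => by simp [h.zero], fun u => by simp [h.zero], fun u => by simp⟩
    fun _ _ => h.q2_mul

/-- **`α + β`** -/
theorem star2 {y : Y} (hy : y ∈ h.U) {u : K} (hu : u ≠ 0) (hc : x 2 u * y = y * x 2 u) (v : K) :
    x 2 v * y = y * x 2 v := by
  obtain ⟨A, B, C, h1, -, -⟩ := h.q2 hy
  have h2 := h1 u
  rw [h.conj_eq hc, mul_assoc, eq_comm, mul_eq_left] at h2
  obtain ⟨h3, h4⟩ := h.ind4 _ _ h2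
  have hA : A = 0 := pow_eq_zero_iff two_ne_zero |>.1 ((mul_eq_zero.1 h3).resolve_right hu)
  rw [hA, zero_mul, zero_add] at h4
  have hB : B = 0 := (mul_eq_zero.1 h4).resolve_right hu
  have h5 := h1 v
  simp only [hA, hB, zero_pow two_ne_zero, zero_mul, add_zero, h.zero, mul_one] at h5
  exact (mul_inv_eq_iff_eq_mul.1 h5).symm

/-! ### The root `α` -/

/-- the action of the elements without `β`-part on `x 0` -/
def Q0 (x : Fin 6 → K → Y) (z : Y) : Prop := ∃ C D : K,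
  (∀ u, z * x 0 u * z⁻¹ = x 0 u * x 4 (C * u ^ 2 + D * u) * x 5 (C ^ 2 * u)) ∧
  (∀ u, z * x 4 u * z⁻¹ = x 4 u) ∧ ∀ u, z * x 5 u * z⁻¹ = x 5 u

theorem ca0 (t u : K) : x 2 t * x 0 u * (x 2 t)⁻¹ = x 0 u * x 4 (t * u ^ 2) * x 5 (t ^ 2 * u) := by
  have h1 := h.ca u t
  rw [h1]
  calc x 4 (u ^ 2 * t) * x 5 (u * t ^ 2) * (x 0 u * x 2 t) * (x 2 t)⁻¹
      = x 4 (u ^ 2 * t) * (x 5 (u * t ^ 2) * x 0 u) := by group
    _ = x 4 (u ^ 2 * t) * x 0 u * x 5 (u * t ^ 2) := by rw [← h.c05, mul_assoc]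
    _ = x 0 u * x 4 (t * u ^ 2) * x 5 (t ^ 2 * u) := by rw [← h.c04, mul_comm (u ^ 2), mul_comm u]

theorem da0 (t u : K) : x 3 t * x 0 u * (x 3 t)⁻¹ = x 0 u * x 4 (t * u) := by
  have h1 := h.da u t
  rw [h1]
  calc x 4 (u * t) * (x 0 u * x 3 t) * (x 3 t)⁻¹ = x 4 (u * t) * x 0 u := by group
    _ = x 0 u * x 4 (t * u) := by rw [← h.c04, mul_comm u t]

theorem q0_mem (i : Fin 6) (hi : i ≠ 1) (t : K) : Q0 x (x i t) := by
  have hz : ∀ u, x 0 u = x 0 u * x 4 (0 * u ^ 2 + 0 * u) * x 5 ((0 : K) ^ 2 * u) := fun u => by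
    rw [zero_pow two_ne_zero, zero_mul, zero_mul, add_zero, h.zero, h.zero, mul_one, mul_one]
  have h4 : ∀ u, x i t * x 4 u * (x i t)⁻¹ = x 4 u := by
    intro u
    fin_cases i
    · exact h.conj_of_comm h.c04 t u
    · exact absurd rfl hi
    · exact h.conj_of_comm h.c24 t u
    · exact h.conj_of_comm h.c34 t u
    · exact h.conj_of_comm (h.self 4) t u
    · exact h.conj_of_comm (fun t u => (h.c45 u t).symm) t u
  have key : ∃ C D, ∀ u, x i t * x 0 u * (x i t)⁻¹ = x 0 u * x 4 (C * u ^ 2 + D * u) * x 5 (C ^ 2 * u) := by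
    clear h4
    fin_cases i
    · exact ⟨0, 0, fun u => (h.conj_of_comm (h.self 0) t u).trans (hz u)⟩
    · exact absurd rfl hi
    · exact ⟨t, 0, fun u => by rw [zero_mul, add_zero]; exact h.ca0 t u⟩
    · exact ⟨0, t, fun u => by
        rw [zero_pow two_ne_zero, zero_mul, zero_mul, zero_add, h.zero, mul_one]; exact h.da0 t u⟩
    · exact ⟨0, 0, fun u => (h.conj_of_comm (fun t u => (h.c04 u t).symm) t u).trans (hz u)⟩
    · exact ⟨0, 0, fun u => (h.conj_of_comm (fun t u => (h.c05 u t).symm) t u).trans (hz u)⟩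
  obtain ⟨C, D, hCD⟩ := key
  exact ⟨C, D, hCD, h4, h.x5_comm i t⟩

theorem q0_mul {y z : Y} (hy : Q0 x y) (hz : Q0 x z) : Q0 x (y * z) := by
  obtain ⟨C, D, h1, h2, h3⟩ := hy
  obtain ⟨C', D', h1', h2', h3'⟩ := hz
  refine ⟨C + C', D + D', fun u => ?_, fun u => ?_, fun u => ?_⟩
  · have e : y * z * x 0 u * (y * z)⁻¹ = y * (z * x 0 u * z⁻¹) * y⁻¹ := by group
    have e2 : y * (x 0 u * x 4 (C' * u ^ 2 + D' * u) * x 5 (C' ^ 2 * u)) * y⁻¹ =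
        (y * x 0 u * y⁻¹) * (y * x 4 (C' * u ^ 2 + D' * u) * y⁻¹) * (y * x 5 (C' ^ 2 * u) * y⁻¹) := by group
    rw [e, h1', e2, h1, h2, h3]
    have e3 : x 0 u * x 4 (C * u ^ 2 + D * u) * x 5 (C ^ 2 * u) * x 4 (C' * u ^ 2 + D' * u) * x 5 (C' ^ 2 * u) =
        x 0 u * x 4 (C * u ^ 2 + D * u) * (x 5 (C ^ 2 * u) * x 4 (C' * u ^ 2 + D' * u)) * x 5 (C' ^ 2 * u) := by group
    rw [e3, ← h.c45]
    have e4 : x 0 u * x 4 (C * u ^ 2 + D * u) * (x 4 (C' * u ^ 2 + D' * u) * x 5 (C ^ 2 * u)) * x 5 (C' ^ 2 * u) =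
        x 0 u * (x 4 (C * u ^ 2 + D * u) * x 4 (C' * u ^ 2 + D' * u)) * (x 5 (C ^ 2 * u) * x 5 (C' ^ 2 * u)) := by
      group
    rw [e4, ← h.add, ← h.add]
    congr 2
    · ring_nf
    · linear_combination (-(C * C' * u)) * h.two'
  · have e : y * z * x 4 u * (y * z)⁻¹ = y * (z * x 4 u * z⁻¹) * y⁻¹ := by group
    rw [e, h2', h2]
  · have e : y * z * x 5 u * (y * z)⁻¹ = y * (z * x 5 u * z⁻¹) * y⁻¹ := by group
    rw [e, h3', h3]

/-- the group without `β`-part -/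
def P : Subgroup Y := ⨆ i : {i : Fin 6 // i ≠ 1}, h.R i.1

theorem mem_P {i : Fin 6} (hi : i ≠ 1) (t : K) : x i t ∈ h.P :=
  (le_iSup (fun i : {i : Fin 6 // i ≠ 1} => h.R i.1) ⟨i, hi⟩) ⟨t, rfl⟩

theorem q0 {z : Y} (hz : z ∈ h.P) : Q0 x z := by
  refine Subgroup.iSup_induction (fun i : {i : Fin 6 // i ≠ 1} => h.R i.1) (C := Q0 x) hz ?_ ?_ fun _ _ => h.q0_mul
  · rintro ⟨i, hi⟩ _ ⟨t, rfl⟩
    exact h.q0_mem i hi t
  · exact ⟨0, 0, fun u => by simp [h.zero], fun u => by simp, fun u => by simp⟩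

theorem ab' (t u : K) : x 1 t * x 0 u * (x 1 t)⁻¹ =
    (x 2 (t * u) * x 3 (t * u ^ 2) * x 4 (t * u ^ 3))⁻¹ * x 0 u := by
  have h1 := h.ab t u
  calc x 1 t * x 0 u * (x 1 t)⁻¹ = (x 2 (t * u) * x 3 (t * u ^ 2) * x 4 (t * u ^ 3))⁻¹ *
        (x 2 (t * u) * x 3 (t * u ^ 2) * x 4 (t * u ^ 3) * (x 1 t * x 0 u)) * (x 1 t)⁻¹ := by group
    _ = (x 2 (t * u) * x 3 (t * u ^ 2) * x 4 (t * u ^ 3))⁻¹ * (x 0 u * x 1 t) * (x 1 t)⁻¹ := by rw [h1]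
    _ = _ := by group

theorem P_norm (t : K) {z : Y} (hz : z ∈ h.P) : x 1 t * z * (x 1 t)⁻¹ ∈ h.P := by
  refine Subgroup.iSup_induction (fun i : {i : Fin 6 // i ≠ 1} => h.R i.1)
    (C := fun z => x 1 t * z * (x 1 t)⁻¹ ∈ h.P) hz ?_ ?_ ?_
  · rintro ⟨i, hi⟩ _ ⟨u, rfl⟩
    fin_cases i
    · show x 1 t * x 0 u * (x 1 t)⁻¹ ∈ h.P
      rw [h.ab']
      exact mul_mem (inv_mem (mul_mem (mul_mem (h.mem_P (by decide) _) (h.mem_P (by decide) _))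
        (h.mem_P (by decide) _))) (h.mem_P (by decide) _)
    · exact absurd rfl hi
    · show x 1 t * x 2 u * (x 1 t)⁻¹ ∈ h.P
      rw [h.conj_of_comm h.c12]
      exact h.mem_P (by decide) _
    · show x 1 t * x 3 u * (x 1 t)⁻¹ ∈ h.P
      rw [h.conj_of_comm h.c13]
      exact h.mem_P (by decide) _
    · show x 1 t * x 4 u * (x 1 t)⁻¹ ∈ h.P
      rw [h.eb']
      exact mul_mem (h.mem_P (by decide) _) (h.mem_P (by decide) _)
    · show x 1 t * x 5 u * (x 1 t)⁻¹ ∈ h.P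
      rw [h.conj_of_comm h.c15]
      exact h.mem_P (by decide) _
  · simp
  · intro y z hy hz
    have e : x 1 t * (y * z) * (x 1 t)⁻¹ = x 1 t * y * (x 1 t)⁻¹ * (x 1 t * z * (x 1 t)⁻¹) := by group
    rw [e]
    exact mul_mem hy hz

theorem exists_decomp {y : Y} (hy : y ∈ h.U) : ∃ s, ∃ z ∈ h.P, y = x 1 s * z := by
  refine h.U_induction (C := fun y => ∃ s, ∃ z ∈ h.P, y = x 1 s * z) hy ?_ ?_ ?_
  · intro i t
    by_cases hi : i = 1
    · subst hi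
      exact ⟨t, 1, one_mem _, by rw [mul_one]⟩
    · exact ⟨0, x i t, h.mem_P hi t, by rw [h.zero, one_mul]⟩
  · exact ⟨0, 1, one_mem _, by rw [h.zero, one_mul]⟩
  · rintro _ _ ⟨s, z, hz, rfl⟩ ⟨s', z', hz', rfl⟩
    refine ⟨s + s', (x 1 s')⁻¹ * z * x 1 s' * z', mul_mem ?_ hz', ?_⟩
    · have := h.P_norm s' hz
      rw [h.inv] at this
      rw [h.inv]
      exact this
    · rw [h.add]; group

/-- **`α`** -/
theorem star0 {y : Y} (hy : y ∈ h.U) {u : K} (hu : u ≠ 0) (hc : x 0 u * y = y * x 0 u) (v : K) :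
    x 0 v * y = y * x 0 v := by
  obtain ⟨s, z, hz, rfl⟩ := h.exists_decomp hy
  obtain ⟨C, D, h1, h2, h3⟩ := h.q0 hz
  have h4 := h.conj_eq hc
  have e : x 1 s * z * x 0 u * (x 1 s * z)⁻¹ = x 1 s * (z * x 0 u * z⁻¹) * (x 1 s)⁻¹ := by group
  have e2 : x 1 s * (x 0 u * x 4 (C * u ^ 2 + D * u) * x 5 (C ^ 2 * u)) * (x 1 s)⁻¹ =
      (x 1 s * x 0 u * (x 1 s)⁻¹) * (x 1 s * x 4 (C * u ^ 2 + D * u) * (x 1 s)⁻¹) *
        (x 1 s * x 5 (C ^ 2 * u) * (x 1 s)⁻¹) := by group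
  rw [e, h1, e2, h.ab', h.eb', h.x5_comm] at h4
  -- `x 2 (s u) ⋯ = 1`
  have h5 : x 2 (s * u) * x 3 (s * u ^ 2) * x 4 (s * u ^ 3 + (C * u ^ 2 + D * u)) *
      x 5 (s * (C * u ^ 2 + D * u) + C ^ 2 * u) = 1 := by
    set w := C * u ^ 2 + D * u
    have h6 : x 0 u * (x 4 w * x 5 (s * w) * x 5 (C ^ 2 * u)) =
        x 2 (s * u) * x 3 (s * u ^ 2) * x 4 (s * u ^ 3) * x 0 u := by
      have e3 : x 0 u * (x 4 w * x 5 (s * w) * x 5 (C ^ 2 * u)) =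
          x 2 (s * u) * x 3 (s * u ^ 2) * x 4 (s * u ^ 3) *
          ((x 2 (s * u) * x 3 (s * u ^ 2) * x 4 (s * u ^ 3))⁻¹ * x 0 u * (x 4 w * x 5 (s * w)) * x 5 (C ^ 2 * u)) := by
        group
      rw [e3, h4]
    have h7 : x 0 u * (x 4 w * x 5 (s * w) * x 5 (C ^ 2 * u)) = x 4 w * x 5 (s * w) * x 5 (C ^ 2 * u) * x 0 u := by
      rw [← mul_assoc, ← mul_assoc, h.c04, mul_assoc (x 4 w), h.c05, ← mul_assoc, mul_assoc _ (x 0 u), h.c05,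
        ← mul_assoc]
    rw [h7] at h6
    have h8 := mul_right_cancel h6
    have h9 : x 2 (s * u) * x 3 (s * u ^ 2) * x 4 (s * u ^ 3) * (x 4 w * x 5 (s * w) * x 5 (C ^ 2 * u)) = 1 := by
      have e4 : (x 4 w * x 5 (s * w) * x 5 (C ^ 2 * u)) * (x 4 w * x 5 (s * w) * x 5 (C ^ 2 * u)) = 1 := by
        rw [mul_assoc (x 4 w), ← h.add]
        have e5 : x 4 w * x 5 (s * w + C ^ 2 * u) * (x 4 w * x 5 (s * w + C ^ 2 * u)) =
            x 4 w * (x 5 (s * w + C ^ 2 * u) * x 4 w) * x 5 (s * w + C ^ 2 * u) := by group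
        rw [e5, ← h.c45]
        calc x 4 w * (x 4 w * x 5 (s * w + C ^ 2 * u)) * x 5 (s * w + C ^ 2 * u)
            = (x 4 w * x 4 w) * (x 5 (s * w + C ^ 2 * u) * x 5 (s * w + C ^ 2 * u)) := by group
          _ = 1 := by rw [h.sq, h.sq, mul_one]
      rw [← h8]
      exact e4
    rw [h.add 4, h.add 5]
    calc _ = x 2 (s * u) * x 3 (s * u ^ 2) * x 4 (s * u ^ 3) * (x 4 w * x 5 (s * w) * x 5 (C ^ 2 * u)) := by group
      _ = 1 := h9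
  have hs : s = 0 := (mul_eq_zero.1 (h.ind2 _ _ _ _ h5)).resolve_right hu
  subst hs
  rw [zero_mul, zero_mul, zero_mul, zero_mul, zero_add, zero_add, h.zero, h.zero, one_mul, one_mul] at h5
  obtain ⟨h6, h7⟩ := h.ind4 _ _ h5
  have hC : C = 0 := pow_eq_zero_iff two_ne_zero |>.1 ((mul_eq_zero.1 h7).resolve_right hu)
  rw [hC, zero_mul, zero_add] at h6
  have hD : D = 0 := (mul_eq_zero.1 h6).resolve_right hu
  have h8 := h1 v
  simp only [hC, hD, zero_pow two_ne_zero, zero_mul, add_zero, h.zero, mul_one] at h8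
  rw [h.zero, one_mul]
  exact (mul_inv_eq_iff_eq_mul.1 h8).symm

end GU

end Cfsg.Agent.OddHalf.D4.LineGTwo
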