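import Cfsg.Agent.OddHalf.D4.LineRgd
import Cfsg.Agent.KFacts.ChevTwoSysInst
import Cfsg.Agent.KFacts.ChevTwoInstE
import Cfsg.Agent.KFacts.SLRow.SysA
import Cfsg.Agent.KFacts.SLRow.DSys

/-!
# ODD, D4, (1B): the K-fact `LineFacts` for `PSL_n(q)`, `PΩ⁺_2m(q)`, `F_4(q)`, `E_n(q)`, `q ≥ 4` even (helper368)
-/

set_option autoImplicit false
set_option linter.unusedSectionVars false

namespace Cfsg.Agent.OddHalf.D4.LineInst

open Subgroup CoxeterSystem Cfsg.Agent.ChevalleyStructure.CoxeterGeom Cfsg.Agent.Tits.Roots Cfsg.Agent.Tits.Core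
  Cfsg.Agent.Nodes.Reps Cfsg.Agent.Nodes.BNOf Cfsg.Agent.Nodes.Bruhat Cfsg.Agent.Nodes Cfsg.Agent.Nodes.RGDLib
  Cfsg.Agent.KFacts.ChevTwo Cfsg.Agent.KFacts.ChevTwoInst
  Cfsg.Agent.OddHalf.D4.Line Cfsg.Agent.OddHalf.D4.LineFilt Cfsg.Agent.OddHalf.D4.LineRgd

section chev

open Cfsg.Lie Cfsg.Agent.ChevalleyStructure Cfsg.Agent.ChevalleyStructure.Elts
  Cfsg.Agent.ChevalleyStructure.RootVec Cfsg.Agent.ChevalleyStructure.RootVecTab
  Cfsg.Agent.ChevalleyStructure.NPerm Cfsg.Agent.ChevalleyStructure.CoxeterGeomTypes Cfsg.Agent.Nodes.RGDChev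

universe u

theorem GG_top {I W Y : Type*} [Fintype I] [DecidableEq I] [Group W] [Group Y] {M : CoxeterMatrix I}
    {cs : CoxeterSystem M W} {A : I → I → ℤ} {h : IsCartan M A} {T : Subgroup Y} {X : (I → ℤ) → Subgroup Y}
    (hG : G1 cs h X = ⊤) : GG cs h T X = ⊤ := by
  rw [eq_top_iff, ← hG]
  exact le_sup_right

theorem lineFacts_group {D : ChevalleyDatum} {l : ℕ} {M : CoxeterMatrix (Fin l)} (hp : IsType D l M) (hOK : TwoOK D)
    (K : Type u) [Field K] [Finite K] [CharP K 2] (hK : 3 ≤ Nat.card K) : LineFacts ↥(D.group K) := by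
  have hW : Finite M.Group := finite_W hp M.toCoxeterSystem
  exact lineFacts_of_sys (sys (K := K) hp hOK M.toCoxeterSystem) (GG_top (G1_eq_top hp _)) hK

theorem lineFacts_F4 (K : Type u) [Field K] [Finite K] [CharP K 2] (hK : 3 ≤ Nat.card K) :
    LineFacts ↥(chevF4.group K) :=
  lineFacts_group (l := 4) (M := CoxeterMatrix.F₄) (by simp [IsType, typeList]) twoOK_F4 K hK

theorem lineFacts_E6 (K : Type u) [Field K] [Finite K] [CharP K 2] (hK : 3 ≤ Nat.card K) :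
    LineFacts ↥(chevE6.group K) :=
  lineFacts_group (l := 6) (M := CoxeterMatrix.E₆) (by simp [IsType, typeList]) twoOK_E6 K hK

theorem lineFacts_E7 (K : Type u) [Field K] [Finite K] [CharP K 2] (hK : 3 ≤ Nat.card K) :
    LineFacts ↥(chevE7.group K) :=
  lineFacts_group (l := 7) (M := CoxeterMatrix.E₇) (by simp [IsType, typeList]) twoOK_E7 K hK

theorem lineFacts_E8 (K : Type u) [Field K] [Finite K] [CharP K 2] (hK : 3 ≤ Nat.card K) :
    LineFacts ↥(chevE8.group K) :=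
  lineFacts_group (l := 8) (M := CoxeterMatrix.E₈) (by simp [IsType, typeList]) twoOK_E8 K hK

end chev

section typeA

open Matrix Cfsg.Agent.Nodes.RootsA Cfsg.Agent.Nodes.RGDTypeA Cfsg.Agent.KFacts.SLRow.TypeA
  Cfsg.Agent.KFacts.SLRow.SysA
open Cfsg.Agent.LieRecognition.BNCox (cA)

/-- **`PSL_m(q)`**, `m ≥ 2` -/
theorem lineFacts_PSL {m : ℕ} (hm : 1 ≤ m) (F : Type*) [Field F] [Finite F] [CharP F 2] (hF : 3 ≤ Nat.card F) :
    LineFacts (ProjectiveSpecialLinearGroup (Fin m) F) := by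
  obtain ⟨n, rfl⟩ : ∃ n, m = n + 1 := ⟨m - 1, by omega⟩
  have : Fact (Nat.Prime 2) := ⟨Nat.prime_two⟩
  have hW : Finite (cA n).Group := finite_W (cA n).toCoxeterSystem (isCartan n)
  have : Finite (ProjectiveSpecialLinearGroup (Fin (n + 1)) F) := Quotient.finite _
  exact lineFacts_of_sys (sys_PSL (F := F) (cA n).toCoxeterSystem (isCartan n)) (GG_top (G1_psl_eq_top _ _)) hF

end typeA

section typeD

open Cfsg Cfsg.Agent.Nodes.TypeD Cfsg.Agent.Nodes.WittInst Cfsg.Agent.KFacts.SLRow.DSys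
open Cfsg.Agent.TitsThree.StdData Cfsg.Agent.TitsThree.KSideO Cfsg.Agent.LieClassical
  Cfsg.Agent.LieClassical.OrthForms Cfsg.Agent.KFacts.SLRow.OPlus

/-- **`PΩ⁺_2m(q)`**, `m ≥ 3` -/
theorem lineFacts_POmega {m : ℕ} (hm : 3 ≤ m) (F : Type*) [Field F] [Finite F] [CharP F 2] (hF : 3 ≤ Nat.card F) :
    LineFacts (POmega F (quadFormPlus m F)) := by
  rw [← coe_plusForm]
  have : Fact (Nat.Prime 2) := ⟨Nat.prime_two⟩
  obtain ⟨n, rfl⟩ : ∃ n, m = n + 2 := ⟨m - 2, by omega⟩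
  have hW : Finite (M n).Group := finite_W (M n).toCoxeterSystem
  have : Finite (POmega F ⇑(plusForm (n + 2) F)) := Quotient.finite _
  exact lineFacts_of_sys (sys_OPlus F (by omega) (M n).toCoxeterSystem)
    (GG_top (G1D_eq_top (wplus (n + 2) F) (toPOmega _) (toPOmega_surjective _) (adm_plus _) _)) hF

end typeD

end Cfsg.Agent.OddHalf.D4.LineInst
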