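import Cfsg.Agent.OddHalf.D4.LineFilt
import Cfsg.Agent.KFacts.RgdFilt
import Cfsg.Agent.KFacts.RgdTI
import Cfsg.Agent.KFacts.ChevTwoSys
import Cfsg.Agent.Nodes.NormalForm

/-!
# ODD, D4, (1B): the K-fact `LineFacts` for groups with a root group datum (helper368)

* `star_of_LR`: in `U = ⟨X a : a > 0⟩` an element commuting with a nontrivial element of `X a` commutes with `X a`, if
  `X a` is centralised by all `X x` with `⟨x, a^∨⟩ ≥ 0`.
* `lineFacts_of_rgd`: root group datum of characteristic two with the Chevalley commutator formula, abelian root groups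
  generated by lines.
* `lineFacts_of_sys`: the groups with `ChevTwo.Sys` over a field with at least three elements.
-/

set_option autoImplicit false
set_option linter.unusedSectionVars false

namespace Cfsg.Agent.OddHalf.D4.LineRgd

open Subgroup CoxeterSystem Cfsg.Agent.ChevalleyStructure.CoxeterGeom Cfsg.Agent.Tits.Roots Cfsg.Agent.Tits.Core
  Cfsg.Agent.Nodes.Reps Cfsg.Agent.Nodes.BNOf Cfsg.Agent.Nodes.Bruhat Cfsg.Agent.Nodes.OppDec
  Cfsg.Agent.Nodes.NormalForm Cfsg.Agent.Nodes.Coroot Cfsg.Agent.Nodes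
  Cfsg.Agent.KFacts.RgdPar Cfsg.Agent.KFacts.RgdTI Cfsg.Agent.KFacts.RgdFilt Cfsg.Agent.KFacts.RgdBorelTits
  Cfsg.Agent.OddHalf.D4.Line Cfsg.Agent.OddHalf.D4.LineFilt
open scoped commutatorElement

variable {I W Y : Type*} [Fintype I] [DecidableEq I] [Group W] [Group Y] {M : CoxeterMatrix I}
  {cs : CoxeterSystem M W} {A : I → I → ℤ} {h : IsCartan M A} {p : ℕ} {T : Subgroup Y} {n : I → Y}
  {X : (I → ℤ) → Subgroup Y}

/-- the height -/
def ht : (I → ℤ) →+ ℤ where
  toFun x := ∑ i, x i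
  map_zero' := by simp
  map_add' x y := by simp [Finset.sum_add_distrib]

theorem ht_apply (x : I → ℤ) : ht x = ∑ i, x i := rfl

theorem ht_nonneg {x : I → ℤ} (hx : 0 ≤ x) : 0 ≤ ht x := Finset.sum_nonneg fun i _ => hx i

theorem ht_pos {x : I → ℤ} (hx : 0 ≤ x) (h0 : x ≠ 0) : 0 < ht x := by
  rcases (ht_nonneg hx).lt_or_eq with h1 | h1
  · exact h1
  · exfalso
    apply h0
    funext i
    have h2 := (Finset.sum_eq_zero_iff_of_nonneg (fun i _ => hx i)).1 (show ∑ i, x i = 0 from h1.symm) i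
      (Finset.mem_univ i)
    exact h2

section star

variable [Finite W] {R : RGD cs h p T n X} {a : I → ℤ}

/-- **The star property.** -/
theorem star_of_LR (L : LR R a) {y : Y} (hy : y ∈ RGD.Sup X (RGD.Pos cs h)) {x : Y} (hx : x ∈ X a) (hx1 : x ≠ 1)
    (hxy : x * y = y * x) {x' : Y} (hx' : x' ∈ X a) : x' * y = y * x' := by
  have hyG : y ∈ GG cs h T X := by
    have h1 : RGD.Sup X (RGD.Pos cs h) ≤ GG cs h T X := le_trans (RGD.Sup_mono fun z hz => hz.1) le_sup_right
    exact h1 hy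
  have h1 : y ∈ PS T X (Half cs h (ell cs h L.root)) := L.le_PS_of_comm hyG hx hx1 hxy.symm
  have h2 : y ∈ PS T X (Half cs h ht) := by
    have h3 : RGD.Sup X (RGD.Pos cs h) ≤ PS T X (Half cs h ht) := by
      refine RGD.Sup_le fun z hz => X_le_PS (Ω := Half cs h ht) ?_
      exact ⟨hz.1, ht_nonneg hz.2⟩
    exact h3 hy
  have h3 := (inter R [ell cs h L.root, ht] hyG (by
    intro f hf
    simp only [List.mem_cons, List.not_mem_nil, or_false] at hf
    rcases hf with rfl | rfl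
    · exact h1
    · exact h2)).1
  set Ω : Set (I → ℤ) := {x | IsRoot cs h x ∧ ∀ f ∈ [ell cs h L.root, ht], 0 ≤ f x} with hΩ
  have hroot : ∀ x ∈ Ω, IsRoot cs h x := fun x hx => hx.1
  have hpos : Ω ⊆ RGD.Pos cs h := by
    intro x hx
    refine ⟨hx.1, ?_⟩
    rcases hx.1.pos_or_neg with h0 | h0
    · exact h0
    · exfalso
      have h4 : 0 ≤ ht x := hx.2 ht (by simp)
      have h5 : 0 < ht (-x) := ht_pos (by
        intro i
        have := h0 i
        simpa using this) (neg_ne_zero.2 hx.1.ne_zero)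
      rw [map_neg] at h5
      omega
  have hge : Ω ⊆ Ge cs h a := fun x hx => ⟨hx.1, hx.2 (ell cs h L.root) (by simp)⟩
  have hT : T ≤ Subgroup.normalizer (RGD.Sup X Ω : Set Y) := R.T_le_normalizer hroot
  have h4 : y ∈ ((PS T X Ω : Subgroup Y) : Set Y) := h3
  unfold PS at h4
  rw [Subgroup.coe_mul_of_left_le_normalizer_right _ _ hT, Set.mem_mul] at h4
  obtain ⟨t, ht', q, hq, rfl⟩ := h4
  have h5 : t ∈ RGD.Sup X (RGD.Pos cs h) ⊓ T := by
    refine ⟨?_, ht'⟩
    have h6 := mul_mem hy (inv_mem (RGD.Sup_mono hpos hq))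
    rwa [mul_inv_cancel_right] at h6
  rw [U_inf_T R, Subgroup.mem_bot] at h5
  subst h5
  rw [one_mul]
  exact (L.comm' (RGD.Sup_mono hge hq) hx').symm

theorem isLine_of_LR (L : LR R a) (hsq : ∀ x ∈ X a, x * x = 1) (hcard : 3 ≤ Nat.card ↥(X a)) :
    IsLine (RGD.Sup X (RGD.Pos cs h)) (X a) where
  sq := hsq
  card := hcard
  star _ hy _ hx hx1 hxy _ hx' := star_of_LR L hy hx hx1 hxy hx'

end star

/-! ### The height filtration -/

/-- the height of a positive root -/
def wt (x : {x // x ∈ RGD.Pos cs h}) : ℕ := (ht x.1).toNat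

/-- the family of the positive root groups -/
def Yp (X : (I → ℤ) → Subgroup Y) (x : {x // x ∈ RGD.Pos cs h}) : Subgroup Y := X x.1

theorem wt_pos (x : {x // x ∈ RGD.Pos cs h}) : 0 < wt x := by
  have := ht_pos x.2.2 x.2.1.ne_zero
  unfold wt
  omega

theorem wt_cast (x : {x // x ∈ RGD.Pos cs h}) : (wt x : ℤ) = ht x.1 := by
  have := ht_pos x.2.2 x.2.1.ne_zero
  unfold wt
  omega

theorem V_zero : V (Yp (cs := cs) (h := h) X) wt 0 = RGD.Sup X (RGD.Pos cs h) := by
  apply le_antisymm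
  · exact V_le fun i _ => RGD.le_Sup i.2
  · exact RGD.Sup_le fun z hz => le_V (Y := Yp X) (w := wt) (i := ⟨z, hz⟩) (Nat.zero_le _)

theorem X_le_V {z : I → ℤ} (hz : z ∈ RGD.Pos cs h) {d : ℕ} (hd : (d : ℤ) ≤ ht z) :
    X z ≤ V (Yp (cs := cs) (h := h) X) wt d := by
  refine le_V (Y := Yp X) (w := wt) (i := ⟨z, hz⟩) ?_
  have := wt_cast (cs := cs) (h := h) ⟨z, hz⟩
  have h1 : (wt (cs := cs) (h := h) ⟨z, hz⟩ : ℤ) = ht z := this
  omega

/-- **`LineFacts` from a root group datum.** -/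
theorem lineFacts_of_rgd [Finite W] [Finite Y] (R : RGD cs h 2 T n X) (hG : GG cs h T X = ⊤)
    (hI : IntComm cs h X) (hab : ∀ a ∈ RGD.Pos cs h, ∀ u ∈ X a, ∀ v ∈ X a, u * v = v * u)
    (hline : ∀ a ∈ RGD.Pos cs h, ∀ x ∈ X a, x ∈ closure {x | ∃ l : Subgroup Y, l ≤ X a ∧
      IsLine (RGD.Sup X (RGD.Pos cs h)) l ∧ x ∈ l}) : LineFacts Y := by
  have : Fact (Nat.Prime 2) := ⟨Nat.prime_two⟩
  refine lineFacts_of_max (S₀ := RGD.Sup X (RGD.Pos cs h)) (U := V (Yp (cs := cs) (h := h) X) wt) R.isPGroup_Upos ?_ ?_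
  · intro Q hQ hle
    exact eq_U_of_isPGroup R hQ hle (by rw [hG]; exact le_top)
  · rw [← V_zero (X := X) (cs := cs) (h := h)]
    refine filt_of_family ?_ ?_ ?_
    · rintro ⟨x, hx⟩ ⟨y, hy⟩ a ha b hb
      by_cases hxy : x = y
      · subst hxy
        have h1 := hab x hx a ha b hb
        have e : a * b * a⁻¹ * b⁻¹ = 1 := by rw [h1]; group
        rw [e]
        exact one_mem _
      · have hxy' : x ≠ -y := by
          rintro rfl
          have h1 := ht_pos hx.2 hx.1.ne_zero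
          have h2 := ht_pos hy.2 hy.1.ne_zero
          rw [map_neg] at h1
          omega
        have h1 := hI x y hx.1 hy.1 hxy hxy' a ha b hb
        rw [commutatorElement_def] at h1
        refine (FS_le fun z hz => ?_ : FS X {z | IB cs h x y z} ≤ _) h1
        obtain ⟨hz1, i, j, hi, hj, rfl⟩ := hz
        have h2 := ht_pos hx.2 hx.1.ne_zero
        have h3 := ht_pos hy.2 hy.1.ne_zero
        refine X_le_V ⟨hz1, ?_⟩ ?_
        · intro k
          have h4 := hx.2 k
          have h5 := hy.2 k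
          show 0 ≤ i * x k + j * y k
          exact add_nonneg (mul_nonneg hi.le h4) (mul_nonneg hj.le h5)
        · rw [map_add, map_zsmul, map_zsmul, smul_eq_mul, smul_eq_mul]
          have h4 := wt_cast (cs := cs) (h := h) ⟨y, hy⟩
          have h5 : (wt (cs := cs) (h := h) ⟨y, hy⟩ : ℤ) = ht y := h4
          push_cast
          rw [h5]
          nlinarith
    · have hfin : Finite {x // x ∈ RGD.Pos cs h} :=
        ((RGD.finite_roots (cs := cs) (h := h)).subset fun x hx => hx.1).to_subtype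
      obtain ⟨N, hN⟩ := (Set.finite_range (wt (cs := cs) (h := h))).bddAbove
      exact ⟨N + 1, fun i => Nat.lt_succ_of_le (hN ⟨i, rfl⟩)⟩
    · rintro ⟨x, hx⟩ u hu
      refine closure_mono ?_ (hline x hx u hu)
      rintro v ⟨l, hl, hl', hv⟩
      refine Or.inl ⟨l, hl.trans (le_V (Y := Yp X) (w := wt) (i := ⟨x, hx⟩) le_rfl), ?_, hv⟩
      rw [V_zero]
      exact hl'

/-- Root groups which are lines. -/
theorem lineFacts_of_LR [Finite W] [Finite Y] (R : RGD cs h 2 T n X) (hG : GG cs h T X = ⊤)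
    (hI : IntComm cs h X) (hsq : ∀ a ∈ RGD.Pos cs h, ∀ u ∈ X a, u * u = 1)
    (hcard : ∀ a ∈ RGD.Pos cs h, 3 ≤ Nat.card ↥(X a)) (hL : ∀ a ∈ RGD.Pos cs h, LR R a) : LineFacts Y := by
  refine lineFacts_of_rgd R hG hI ?_ ?_
  · intro a ha u hu v hv
    have h1 := hsq a ha _ (mul_mem hu hv)
    have h2 : u⁻¹ = u := inv_eq_of_mul_eq_one_right (hsq a ha u hu)
    have h3 : v⁻¹ = v := inv_eq_of_mul_eq_one_right (hsq a ha v hv)
    calc u * v = (u * v)⁻¹ := eq_inv_of_mul_eq_one_left h1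
      _ = v * u := by rw [mul_inv_rev, h2, h3]
  · intro a ha x hx
    exact subset_closure ⟨X a, le_rfl, isLine_of_LR (hL a ha) (hsq a ha) (hcard a ha), hx⟩

/-! ### `ChevTwo.Sys` -/

section sys

open Cfsg.Agent.KFacts.ChevTwo

variable {K : Type*} [Field K] {e : (I → ℤ) → K → Y}

/-- The Chevalley commutator formula. -/
theorem intComm_of_sys [Finite W] {R : RGD cs h p T n X} (S : Sys R e) : IntComm cs h X := by
  have D := S.data
  have key : ∀ x y, IsRoot cs h x → IsRoot cs h y → x ≠ y → x ≠ -y → -2 ≤ cpr cs h x y → cpr cs h y x = -1 →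
      cpr cs h x y < 0 → ∀ t u, ⁅e x t, e y u⁆ ∈ FS X {z | IB cs h x y z} := by
    intro x y hx hy hxy hxy' h2 h1 h0 t u
    have hadd : IsRoot cs h (x + y) := by
      have := isRoot_refl cs h hy hx
      rwa [h1, neg_one_smul, sub_neg_eq_add, add_comm] at this
    rcases (by omega : cpr cs h x y = -1 ∨ cpr cs h x y = -2) with h3 | h3
    · rw [D.comm1 x y hx hy h3 h1]
      exact le_FS (G := X) (S := {z | IB cs h x y z}) (z := x + y)
        ⟨hadd, 1, 1, one_pos, one_pos, by rw [one_smul, one_smul]⟩ (S.mem hadd _)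
    · have hadd2 : IsRoot cs h (x + (2 : ℤ) • y) := by
        have := isRoot_refl cs h hx hy
        rwa [h3, neg_smul, sub_neg_eq_add] at this
      rw [D.comm2 x y hx hy h3 h1]
      exact mul_mem (le_FS (G := X) (S := {z | IB cs h x y z}) (z := x + y)
        ⟨hadd, 1, 1, one_pos, one_pos, by rw [one_smul, one_smul]⟩ (S.mem hadd _))
        (le_FS (G := X) (S := {z | IB cs h x y z}) (z := x + (2 : ℤ) • y)
        ⟨hadd2, 1, 2, one_pos, two_pos, by rw [one_smul]⟩ (S.mem hadd2 _))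
  intro x y hx hy hxy hxy' a ha b hb
  obtain ⟨t, rfl⟩ := (S.mem_X x hx a).1 ha
  obtain ⟨u, rfl⟩ := (S.mem_X y hy b).1 hb
  rcases lt_or_ge (cpr cs h x y) 0 with h0 | h0
  · have hyx : y ≠ -x := fun h1 => hxy' (by rw [h1, neg_neg])
    have h0' : cpr cs h y x < 0 := by
      have := Fintype.ofFinite W
      have e1 : 0 < cpr cs h (-x) y := by
        rw [cpr_neg cs h x hy]; omega
      rw [cpr_pos_iff cs h _ hy, form_comm, ← cpr_pos_iff cs h _ hx.neg, cpr_neg_right cs h y hx] at e1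
      omega
    have h2 := (D.lace x y hx hy hxy hxy').2
    have h3 := (D.lace y x hy hx hxy.symm hyx).2
    have h4 := Cfsg.Agent.KFacts.RgdSL.cpr_mul_lt hx hy hxy hxy'
    rcases (by omega : cpr cs h y x = -1 ∨ cpr cs h y x = -2) with h5 | h5
    · exact key x y hx hy hxy hxy' h2 h5 h0 t u
    · have h6 : cpr cs h x y = -1 := by
        rw [h5] at h4
        omega
      have h7 := key y x hy hx hxy.symm hyx h3 h6 h0' u t
      have e1 : ⁅e x t, e y u⁆ = (⁅e y u, e x t⁆)⁻¹ := (commutatorElement_inv _ _).symm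
      rw [e1]
      refine inv_mem ?_
      refine (FS_mono fun z hz _ => ⟨?_, le_rfl⟩ : FS X {z | IB cs h y x z} ≤ _) h7
      exact IB.symm hz
  · rw [D.comm0 x y hx hy hxy hxy' h0]
    exact one_mem _

/-- **`LineFacts` from `ChevTwo.Sys`.** -/
theorem lineFacts_of_sys [Finite W] [Finite Y] [Finite K] {R : RGD cs h 2 T n X} (S : Sys R e)
    (hG : GG cs h T X = ⊤) (hK : 3 ≤ Nat.card K) : LineFacts Y := by
  refine lineFacts_of_LR R hG (intComm_of_sys S) ?_ ?_ ?_
  · intro a ha u hu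
    obtain ⟨t, rfl⟩ := (S.mem_X a ha.1 u).1 hu
    exact S.data.sq ha.1 t
  · intro a ha
    have h1 : Nat.card K ≤ Nat.card ↥(X a) := by
      refine Nat.card_le_card_of_injective (fun t : K => (⟨e a t, S.mem ha.1 t⟩ : ↥(X a))) ?_
      intro t u htu
      exact S.data.injective ha.1 (congrArg Subtype.val htu)
    omega
  · intro a ha
    exact S.lr ha.1

end sys

end Cfsg.Agent.OddHalf.D4.LineRgd
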