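import Cfsg.Agent.S0112
import Cfsg.Agent.S0113
import Cfsg.Agent.GH.TOne.Elem

/-!
# 2-groups with an involutory automorphism fixing two elements

`R` of index two in the 2-group `X`, `a ∉ R` an involution, `C_R(a) = {1, z}`, `z` central: if `R` has an involution
other than `z`, the elements of `R` which are not involutions `≠ z` form a subgroup of index two (cut out by the cyclic
subgroup of index two of `X`).
-/

set_option autoImplicit false

namespace Cfsg.Agent.OddHalf.D4.MaxClassFix

open Subgroup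
open Cfsg.Agent.GH.TOne (four mem_four card_four left_mem_four right_mem_four)

/-- In a cyclic subgroup two involutions are equal. -/
theorem eq_of_cyclic {X : Type*} [Group X] [Finite X] {C : Subgroup X} (hC : IsCyclic C) {x y : X} (hx : x ∈ C)
    (hy : y ∈ C) (hx2 : x * x = 1) (hx1 : x ≠ 1) (hy2 : y * y = 1) (hy1 : y ≠ 1) : x = y := by
  classical
  have := Fintype.ofFinite C
  have h1 : orderOf (⟨x, hx⟩ : C) = 2 := by
    rw [Subgroup.orderOf_mk]
    exact orderOf_eq_prime (by rw [pow_two, hx2]) hx1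
  have h2 : orderOf (⟨y, hy⟩ : C) = 2 := by
    rw [Subgroup.orderOf_mk]
    exact orderOf_eq_prime (by rw [pow_two, hy2]) hy1
  have hd : 2 ∣ Fintype.card C := by
    rw [← h1]
    exact orderOf_dvd_card
  have h3 := IsCyclic.card_orderOf_eq_totient (α := C) hd
  rw [Nat.totient_two, Finset.card_eq_one] at h3
  obtain ⟨w, hw⟩ := h3
  have h4 : (⟨x, hx⟩ : C) ∈ ({w} : Finset C) := by rw [← hw]; simp [h1]
  have h5 : (⟨y, hy⟩ : C) ∈ ({w} : Finset C) := by rw [← hw]; simp [h2]
  rw [Finset.mem_singleton] at h4 h5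
  exact congrArg Subtype.val (h4.trans h5.symm)

/-- The structure statement. -/
theorem main {X : Type*} [Group X] [Finite X] (hX : IsPGroup 2 X) (R : Subgroup X) {a z c : X}
    (ha : a * a = 1) (haR : a ∉ R) (hR : ∀ x, x ∉ R → x * a ∈ R) (hz : z ∈ R) (hz2 : z * z = 1) (hz1 : z ≠ 1)
    (hza : ∀ x, x * z = z * x) (hfix : ∀ x ∈ R, x * a = a * x → x = 1 ∨ x = z)
    (hc : c ∈ R) (hc2 : c * c = 1) (hc1 : c ≠ 1) (hcz : c ≠ z) :
    ∃ C : Subgroup X, (∀ x y, x ∉ C → y ∉ C → x * y ∈ C) ∧
      ∀ x ∈ R, (x ∉ C ↔ x * x = 1 ∧ x ≠ 1 ∧ x ≠ z) := by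
  classical
  have : Fact (Nat.Prime 2) := ⟨Nat.prime_two⟩
  have ha1 : a ≠ 1 := fun h => haR (h ▸ one_mem _)
  have haz : a ≠ z := fun h => haR (h ▸ hz)
  -- the four-group
  have iz : Cfsg.Agent.GH.TOne.Inv z := ⟨hz2, hz1⟩
  have ia : Cfsg.Agent.GH.TOne.Inv a := ⟨ha, ha1⟩
  have hai : a⁻¹ = a := inv_eq_of_mul_eq_one_left ha
  let A : Subgroup X := four a z ia iz (hza a)
  have hAcard : Nat.card A = 4 := card_four haz
  have hA2 : ∀ x ∈ A, x * x = 1 := Cfsg.Agent.GH.TOne.four_sq
  have hcen : ∀ x, x * a = a * x → x ∈ A := by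
    intro x hx
    by_cases hxR : x ∈ R
    · rcases hfix x hxR hx with h | h
      · exact Or.inl h
      · exact Or.inr (Or.inr (Or.inl h))
    · have h1 : x * a * a = a * (x * a) := by rw [← mul_assoc, ← hx]
      rcases hfix (x * a) (hR x hxR) h1 with h | h
      · right; left
        calc x = x * a * a⁻¹ := by group
          _ = a := by rw [h, one_mul, hai]
      · right; right; right
        calc x = x * a * a⁻¹ := by group
          _ = a * z := by rw [h, hai, hza a]
  have hcA : c ∉ A := by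
    rintro (h | h | h | h)
    · exact hc1 h
    · exact haR (h ▸ hc)
    · exact hcz h
    · apply haR
      have h1 : a = c * z⁻¹ := by rw [h]; group
      rw [h1]
      exact mul_mem hc (inv_mem hz)
  have hcomm : ∀ x ∈ A, ∀ y ∈ A, x * y = y * x := fun x hx y hy =>
    Cfsg.Agent.GH.TOne.comm_of_sq hA2 hx hy
  have hnc : ¬ ∀ x, x * a = a * x := fun h => hcA (hcen c (h c))
  have hCA : centralizer (A : Set X) = A := by
    apply le_antisymm
    · intro x hx
      exact hcen x (mem_centralizer_iff.mp hx a left_mem_four).symm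
    · intro x hx
      rw [mem_centralizer_iff]
      intro y hy
      exact hcomm y hy x hx
  obtain ⟨n, hn⟩ := IsPGroup.iff_card.mp hX
  have hcl := Cfsg.Agent.S0112.result n hn A (by rw [hAcard]; norm_num) hCA
  have hn3 : 3 ≤ n := by
    by_contra hlt
    have h1 : n ≤ 2 := by omega
    have h2 : Nat.card X ≤ 4 := by
      rw [hn]
      calc 2 ^ n ≤ 2 ^ 2 := Nat.pow_le_pow_right (by norm_num) h1
        _ = 4 := by norm_num
    have h3 : A = ⊤ := Subgroup.eq_top_of_le_card A (by rw [hAcard]; exact h2)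
    apply hcA
    rw [h3]
    exact mem_top c
  obtain ⟨C, hCc, hCi⟩ := Cfsg.Agent.S0113.result n hn3 hn hcl
  have hmul : ∀ {x y : X}, x * y ∈ C ↔ (x ∈ C ↔ y ∈ C) := mul_mem_iff_of_index_two hCi
  have hCn : C.Normal := normal_of_index_eq_two hCi
  have hCcomm : ∀ x ∈ C, ∀ y ∈ C, x * y = y * x := by
    intro x hx y hy
    have := hCc.isMulCommutative
    exact congrArg Subtype.val (IsMulCommutative.is_comm.comm (⟨x, hx⟩ : C) ⟨y, hy⟩)
  have haC : a ∉ C := by
    intro h
    apply hnc
    intro x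
    have h1 : x * a * x⁻¹ = a := by
      apply eq_of_cyclic hCc (hCn.conj_mem a h x) h
      · calc x * a * x⁻¹ * (x * a * x⁻¹) = x * (a * a) * x⁻¹ := by group
          _ = 1 := by rw [ha]; group
      · intro h2
        apply ha1
        calc a = x⁻¹ * (x * a * x⁻¹) * x := by group
          _ = 1 := by rw [h2]; group
      · exact ha
      · exact ha1
    calc x * a = x * a * x⁻¹ * x := by group
      _ = a * x := by rw [h1]
  have hzC : z ∈ C := by
    by_contra hzC
    apply hnc
    have h1 : a * z ∈ C := hmul.mpr ⟨fun h => absurd h haC, fun h => absurd h hzC⟩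
    have h2 : ∀ x ∈ C, x * a = a * x := by
      intro x hx
      have h3 := hCcomm x hx _ h1
      have h4 : x * a * z = a * x * z := by
        calc x * a * z = x * (a * z) := by group
          _ = a * z * x := h3
          _ = a * (z * x) := by group
          _ = a * x * z := by rw [← hza x]; group
      exact mul_right_cancel h4
    intro x
    by_cases hx : x ∈ C
    · exact h2 x hx
    · have h5 := h2 (x * z) (hmul.mpr ⟨fun h => absurd h hx, fun h => absurd h hzC⟩)
      have h6 : x * a * z = a * x * z := by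
        calc x * a * z = x * (a * z) := by group
          _ = x * z * a := by rw [hza a]; group
          _ = a * x * z := by rw [h5]; group
      exact mul_right_cancel h6
  have hcC : c ∉ C := fun h => hcz (eq_of_cyclic hCc h hzC hc2 hc1 hz2 hz1)
  have hci : c⁻¹ = c := inv_eq_of_mul_eq_one_left hc2
  -- `a` inverts `C`
  obtain ⟨g, hg⟩ := hCc.exists_generator
  have hrC : c * a ∈ C := hmul.mpr ⟨fun h => absurd h hcC, fun h => absurd h haC⟩
  have hrR : c * a ∉ R := by
    intro h
    apply haR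
    have : a = c⁻¹ * (c * a) := by group
    rw [this]
    exact mul_mem (inv_mem hc) h
  have hRsq : ∀ x, x * x ∈ R := by
    intro x
    by_cases hx : x ∈ R
    · exact mul_mem hx hx
    · have h1 := hR x hx
      by_cases hxi : x⁻¹ ∈ R
      · exact absurd (by simpa using inv_mem hxi) hx
      have h2 := hR x⁻¹ hxi
      have h3 : x * x = (x * a) * (x⁻¹ * a)⁻¹ := by
        rw [mul_inv_rev, inv_inv]; group
      rw [h3]
      exact mul_mem h1 (inv_mem h2)
  obtain ⟨k, hk⟩ := mem_zpowers_iff.mp (hg ⟨c * a, hrC⟩)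
  have hk' : (g : X) ^ k = c * a := by
    have := congrArg Subtype.val hk
    simpa using this
  have hodd : Odd k := by
    rw [← Int.not_even_iff_odd]
    rintro ⟨j, hj⟩
    apply hrR
    rw [← hk', hj, ← two_mul, zpow_mul]
    apply zpow_mem
    rw [zpow_two]
    exact hRsq g
  obtain ⟨m, hm⟩ := hX (g : X)
  have hcop : IsCoprime k ((2 : ℤ) ^ m) := by
    apply IsCoprime.pow_right
    exact Int.isCoprime_iff_gcd_eq_one.mpr (by
      rw [Int.gcd_comm]
      exact (Int.isCoprime_iff_gcd_eq_one.mp (Int.isCoprime_two_left.mpr hodd)))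
  obtain ⟨u, v, huv⟩ := hcop
  have hgr : (g : X) = (c * a) ^ u := by
    calc (g : X) = (g : X) ^ (1 : ℤ) := (zpow_one _).symm
      _ = (g : X) ^ (k * u + (2 : ℤ) ^ m * v) := by rw [← huv]; ring_nf
      _ = (c * a) ^ u * (((g : X) ^ ((2 : ℤ) ^ m)) ^ v) := by rw [zpow_add, zpow_mul, hk', zpow_mul]
      _ = (c * a) ^ u := by
        have h1 : (g : X) ^ ((2 : ℤ) ^ m) = 1 := by
          have : ((2 : ℤ) ^ m) = ((2 ^ m : ℕ) : ℤ) := by push_cast; rfl
          rw [this, zpow_natCast, hm]
        rw [h1, one_zpow, mul_one]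
  have hinvr : a * (c * a) * a⁻¹ = (c * a)⁻¹ := by
    rw [mul_inv_rev, hai, hci]
    calc a * (c * a) * a = a * c * (a * a) := by group
      _ = a * c := by rw [ha, mul_one]
  have hinv : ∀ y ∈ C, a * y * a⁻¹ = y⁻¹ := by
    intro y hy
    obtain ⟨j, hj⟩ := mem_zpowers_iff.mp (hg ⟨y, hy⟩)
    have hj' : (g : X) ^ j = y := by
      have := congrArg Subtype.val hj
      simpa using this
    rw [← hj', hgr, ← zpow_mul, ← conj_zpow, hinvr, inv_zpow]
  refine ⟨C, fun x y hx hy => hmul.mpr ⟨fun h => absurd h hx, fun h => absurd h hy⟩, ?_⟩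
  intro x hxR
  constructor
  · intro hxC
    have h1 : x * a ∈ C := hmul.mpr ⟨fun h => absurd h hxC, fun h => absurd h haC⟩
    refine ⟨?_, fun h => hxC (h ▸ one_mem _), fun h => hxC (h ▸ hzC)⟩
    have h2 := hinv _ h1
    have h3 : x * x = (x * a) * (a * (x * a) * a⁻¹) := by
      calc x * x = x * 1 * x * 1 := by group
        _ = x * (a * a) * x * (a * a⁻¹) := by rw [ha]; group
        _ = (x * a) * (a * (x * a) * a⁻¹) := by group
    rw [h3, h2, mul_inv_cancel]
  · rintro ⟨h1, h2, h3⟩ hxC
    exact h3 (eq_of_cyclic hCc hxC hzC h1 h2 hz2 hz1)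

end Cfsg.Agent.OddHalf.D4.MaxClassFix
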