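import Cfsg.Agent.OddHalf.D4.Cut
import Cfsg.Agent.OddCyclic.CoverSz
import Cfsg.Agent.KFacts.Mult.SzEight

/-!
# ODD half, D4: the even covers of the Suzuki groups (helper903)

`Sz(q)`, `q ≥ 32`, has no nontrivial perfect central extension by a 2-group (`OddCyclic.CoverSz.center_eq_bot`).
-/

set_option autoImplicit false

namespace Cfsg.Agent.OddHalf.D4.MultSz

open Subgroup Cfsg Cfsg.Agent.OddHalf.D9.Cut Cfsg.Agent.OddHalf.D4.Cut

universe u

/-- a quasisimple group with centre a nontrivial 2-group and a Suzuki quotient: the quotient is `Sz(8)` -/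
theorem xsz8 {K : Type u} [Group K] [Finite K] (hq : IsQuasisimple K) (h2 : IsPGroup 2 ↥(center K))
    (hX : XSz (K ⧸ center K)) (hne : center K ≠ ⊥) : XSz8 (K ⧸ center K) := by
  obtain ⟨F, i1, i2, m, hm, hF, ⟨e⟩⟩ := hX
  rcases Nat.lt_or_ge m 2 with h | h
  · have hm1 : m = 1 := by omega
    subst hm1
    exact ⟨F, i1, i2, by rw [hF]; norm_num, ⟨e⟩⟩
  · exact absurd (Cfsg.Agent.OddCyclic.CoverSz.center_eq_bot (Group.isPerfect_def.mp hq.1) h2 h hF e) hne

/-- **`MultD4.sz`** from the fact on `Sz(8)`. -/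
theorem sz (h8 : ∀ (K : Type u) [Group K], QsCyc K → XSz8 (K ⧸ center K) → center K ≠ ⊥ →
      Nat.card ↥(center K) = 2) :
    ∀ (K : Type u) [Group K], QsCyc K → XSz (K ⧸ center K) → center K ≠ ⊥ →
      XSz8 (K ⧸ center K) ∧ Nat.card ↥(center K) = 2 := by
  intro K _ hK hX hne
  have := hK.1
  have h := xsz8 hK.2.1 hK.2.2.1 hX hne
  exact ⟨h, h8 K hK h hne⟩

/-- noncyclic centre and a Suzuki quotient: the quotient is `Sz(8)` -/
theorem non_xsz8 {K : Type u} [Group K] (hK : QsNon K) (hX : XSz (K ⧸ center K)) :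
    XSz8 (K ⧸ center K) := by
  have := hK.1
  refine xsz8 hK.2.1 hK.2.2.1 hX ?_
  intro h
  apply hK.2.2.2
  rw [h]
  infer_instance

/-- a cyclic nontrivial centre over `Sz(8)` has order two -/
theorem card_two (K : Type u) [Group K] (hK : QsCyc K) (hX : XSz8 (K ⧸ center K)) (hne : center K ≠ ⊥) :
    Nat.card ↥(center K) = 2 := by
  have := hK.1
  have h1 : Nat.card ↥(center K) ∣ 2 :=
    Cfsg.Agent.KFacts.Mult.SzEight.center_cyc hK.2.1.1.commutator_eq_top hK.2.2.1 hK.2.2.2 hX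
  rcases (Nat.dvd_prime Nat.prime_two).1 h1 with h2 | h2
  · exact absurd (card_eq_one.1 h2) hne
  · exact h2

/-- **`MultD4.sz`**, unconditional (with helper917's `SzEight`) -/
theorem sz_main : ∀ (K : Type u) [Group K], QsCyc K → XSz (K ⧸ center K) → center K ≠ ⊥ →
    XSz8 (K ⧸ center K) ∧ Nat.card ↥(center K) = 2 :=
  sz card_two

end Cfsg.Agent.OddHalf.D4.MultSz
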