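import Cfsg.Agent.OddHalf.D4.MultSz
import Cfsg.Agent.KFacts.Mult.SzEight

/-!
# ODD half, D4: the centres of the covers of `Sz(8)`

* `h8`, `sz`: a cyclic centre has order 2 (the field `MultD4.sz`);
* `klein_of`, `klein`, `non`: a noncyclic centre is a Klein four-group.
-/

set_option autoImplicit false

namespace Cfsg.Agent.OddHalf.D4.MultSzEight

open Subgroup Cfsg Cfsg.Agent.OddHalf.D9.Cut Cfsg.Agent.OddHalf.D4.Cut Cfsg.Agent.KFacts.Mult

universe u

theorem h8 (K : Type u) [Group K] (hQ : QsCyc K) (hX : XSz8 (K ⧸ center K)) (hne : center K ≠ ⊥) :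
    Nat.card ↥(center K) = 2 := by
  have := hQ.1
  have h1 := SzEight.center_cyc hQ.2.1.1.commutator_eq_top hQ.2.2.1 hQ.2.2.2 hX
  rcases (Nat.dvd_prime Nat.prime_two).mp h1 with h | h
  · exact absurd (Subgroup.card_eq_one.mp h) hne
  · exact h

/-- **`MultD4.sz`.** -/
theorem sz : ∀ (K : Type u) [Group K], QsCyc K → XSz (K ⧸ center K) → center K ≠ ⊥ →
    XSz8 (K ⧸ center K) ∧ Nat.card ↥(center K) = 2 :=
  MultSz.sz h8

/-- A noncyclic centre of exponent two and order dividing four. -/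
theorem klein_of {K : Type u} [Group K] (hK : QsNon K) (h1 : ∀ z ∈ center K, z * z = 1)
    (h2 : Nat.card ↥(center K) ∣ 4) : IsKleinFour ↥(center K) := by
  have := hK.1
  have h3 : Nat.card ↥(center K) ∈ Nat.divisors 4 := Nat.mem_divisors.2 ⟨h2, by norm_num⟩
  have h4 : Nat.divisors 4 = {1, 2, 4} := by decide
  rw [h4] at h3
  simp only [Finset.mem_insert, Finset.mem_singleton] at h3
  rcases h3 with h | h | h
  · exfalso
    apply hK.2.2.2
    have : Subsingleton ↥(center K) := (Nat.card_eq_one_iff_unique.1 h).1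
    infer_instance
  · exfalso
    apply hK.2.2.2
    have : Fact (Nat.Prime 2) := ⟨Nat.prime_two⟩
    exact isCyclic_of_prime_card h
  · refine ⟨h, ?_⟩
    have h5 : Monoid.exponent ↥(center K) ∣ 2 := Monoid.exponent_dvd_of_forall_pow_eq_one fun z => by
      rw [pow_two]; exact Subtype.ext (h1 z z.2)
    rcases (Nat.dvd_prime Nat.prime_two).mp h5 with h6 | h6
    · exfalso
      have h7 : Subsingleton ↥(center K) := Monoid.exp_eq_one_iff.1 h6
      have h8 := Nat.card_eq_one_iff_unique.2 ⟨h7, ⟨1⟩⟩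
      omega
    · exact h6

/-- **A noncyclic centre.** -/
theorem klein {K : Type u} [Group K] (hK : QsNon K) (hX : XSz8 (K ⧸ center K)) : IsKleinFour ↥(center K) := by
  have := hK.1
  obtain ⟨h1, h2⟩ := SzEight.center_elem hK.2.1.1.commutator_eq_top hK.2.2.1 hX
  exact klein_of hK h1 h2

theorem non {K : Type u} [Group K] (hK : QsNon K) (hX : XSz (K ⧸ center K)) :
    XSz8 (K ⧸ center K) ∧ IsKleinFour ↥(center K) :=
  have h8 := MultSz.non_xsz8 hK hX
  ⟨h8, klein hK h8⟩

end Cfsg.Agent.OddHalf.D4.MultSzEight
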