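import Cfsg.Agent.StrongEmb.Split
import Cfsg.Agent.OddHalf.D4.Basic

/-!
# Strongly embedded subgroups and the centre of a Sylow 2-subgroup

`H` strongly embedded and split (`StrongEmb.Strong.exists_isSplit`): all involutions of a Sylow 2-subgroup are central
in it; there are at least two.
-/

set_option autoImplicit false

namespace Cfsg.Agent.OddHalf.D4.SeCore

open Subgroup Cfsg Cfsg.Agent.TwoFusion.StronglyEmbeddedBasic
open Cfsg.Agent.StrongEmb.TwoRank Cfsg.Agent.StrongEmb.Split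

variable {X : Type*} [Group X] [Finite X]

/-- A Sylow 2-subgroup all of whose involutions are central, and which has two of them. -/
theorem exists_sylow {H Q : Subgroup X} (hH : IsStronglyEmbedded H) (hs : IsSplit H Q) (hQ : IsPGroup 2 ↥Q)
    (hc : CommPair X) : ∃ P : Sylow 2 X, (P : Subgroup X) = Q ∧
      (∀ b ∈ P, orderOf b = 2 → ∀ s ∈ P, s * b = b * s) ∧ ∃ a ∈ P, ∃ b ∈ P, orderOf a = 2 ∧ orderOf b = 2 ∧ a ≠ b := by
  have : Fact (Nat.Prime 2) := ⟨Nat.prime_two⟩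
  have hnorm : ∀ h ∈ H, ∀ u ∈ Q, h * u * h⁻¹ ∈ Q := by
    intro h hh u hu
    have h1 := hs.normal.conj_mem ⟨u, hs.le hu⟩ (mem_subgroupOf.mpr hu) ⟨h, hh⟩
    exact mem_subgroupOf.mp h1
  obtain ⟨g, hg⟩ : ∃ g : X, g ∉ H := by
    by_contra hcon
    push Not at hcon
    exact hH.1 (eq_top_iff.mpr fun x _ => hcon x)
  have hodd := hH.2.2 g hg
  -- every 2-element of `H` is in `Q`
  have hmem : ∀ x ∈ H, (∃ k : ℕ, x ^ 2 ^ k = 1) → x ∈ Q := by
    rintro x hx ⟨k, hk⟩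
    have hodd' : ∃ m : ℕ, Odd m ∧ x ^ m ∈ Q := by
      obtain ⟨u, hu, hux⟩ := hs.trans (x * g) g (fun h => hg (by
        have := H.mul_mem (H.inv_mem hx) h
        simpa using this)) hg
      have hd : u * x ∈ H ⊓ H.map (MulAut.conj g).toMonoidHom := by
        refine ⟨H.mul_mem (hs.le hu) hx, ⟨g⁻¹ * (u * (x * g)), hux, ?_⟩⟩
        simp [mul_assoc]
      refine ⟨Nat.card ↥(H ⊓ H.map (MulAut.conj g).toMonoidHom), hodd, ?_⟩
      have h1 : (u * x) ^ Nat.card ↥(H ⊓ H.map (MulAut.conj g).toMonoidHom) = 1 := by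
        have := pow_card_eq_one' (x := (⟨u * x, hd⟩ : ↥(H ⊓ H.map (MulAut.conj g).toMonoidHom)))
        exact congrArg Subtype.val this
      -- modulo `Q`
      have h2 : ∀ n : ℕ, ∃ q ∈ Q, (u * x) ^ n = q * x ^ n := by
        intro n
        induction n with
        | zero => exact ⟨1, one_mem _, by simp⟩
        | succ n ih =>
          obtain ⟨q, hq, h⟩ := ih
          refine ⟨q * (x ^ n * u * (x ^ n)⁻¹), Q.mul_mem hq (hnorm _ (pow_mem hx n) u hu), ?_⟩
          rw [pow_succ, h, pow_succ]; group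
      obtain ⟨q, hq, h3⟩ := h2 (Nat.card ↥(H ⊓ H.map (MulAut.conj g).toMonoidHom))
      rw [h1] at h3
      have h4 : x ^ Nat.card ↥(H ⊓ H.map (MulAut.conj g).toMonoidHom) = q⁻¹ := (inv_eq_of_mul_eq_one_right h3.symm).symm
      rw [h4]
      exact Q.inv_mem hq
    obtain ⟨m, hm, hxm⟩ := hodd'
    have hcop : Nat.Coprime m (2 ^ k) := Nat.Coprime.pow_right k (Nat.coprime_two_right.mpr hm)
    have h5 : IsCoprime (m : ℤ) ((2 ^ k : ℕ) : ℤ) := Nat.isCoprime_iff_coprime.mpr hcop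
    obtain ⟨a, b, hab⟩ := h5
    have h6 : x = (x ^ m) ^ a := by
      calc x = x ^ (1 : ℤ) := (zpow_one x).symm
        _ = x ^ (a * m + b * ((2 ^ k : ℕ) : ℤ)) := by rw [hab]
        _ = x ^ ((m : ℤ) * a + ((2 ^ k : ℕ) : ℤ) * b) := by ring_nf
        _ = (x ^ m) ^ a := by rw [zpow_add, zpow_mul, zpow_mul, zpow_natCast, zpow_natCast, hk, one_zpow, mul_one]
    rw [h6]
    exact Q.zpow_mem hxm a
  obtain ⟨t, htH, ht⟩ := exists_involution hH
  have hpow : ∀ {b : X}, orderOf b = 2 → ∃ k : ℕ, b ^ 2 ^ k = 1 := fun {b} hb =>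
    ⟨1, by rw [pow_one, ← hb]; exact pow_orderOf_eq_one b⟩
  have htQ : t ∈ Q := hmem t htH (hpow ht)
  -- `Q` is Sylow
  obtain ⟨P, hP⟩ := hQ.exists_le_sylow
  have hPQ : (P : Subgroup X) = Q := by
    by_contra hne
    have hnil : ∃ y ∈ (P : Subgroup X), y ∉ Q ∧ ∀ g ∈ Q, y * g * y⁻¹ ∈ Q := by
      have hnilp : Group.IsNilpotent P := P.2.isNilpotent
      have hlt : Q.subgroupOf P < ⊤ := by
        rw [lt_top_iff_ne_top]
        intro h
        exact hne (le_antisymm (Subgroup.subgroupOf_eq_top.1 h) hP)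
      have h1 := Group.normalizerCondition_of_isNilpotent (Q.subgroupOf P) hlt
      obtain ⟨y, hy, hyT⟩ := Set.exists_of_ssubset h1
      refine ⟨y, y.2, fun h => hyT h, fun g hg => ?_⟩
      exact (Subgroup.mem_normalizer_iff.1 hy ⟨g, hP hg⟩).1 hg
    obtain ⟨y, hyP, hyQ, hy⟩ := hnil
    apply hyQ
    have h1 := hy t htQ
    have hyH : y ∈ H := mem_of_conj_mem hH htH ht (hs.le h1)
    obtain ⟨k, hk⟩ := P.2 ⟨y, hyP⟩
    exact hmem y hyH ⟨k, congrArg Subtype.val hk⟩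
  have hmemP : ∀ x, x ∈ P ↔ x ∈ Q := by
    intro x
    rw [← hPQ]; rfl
  -- a central involution
  have hcen : ∃ z ∈ Q, orderOf z = 2 ∧ ∀ s ∈ Q, s * z = z * s := by
    apply Basic.exists_central_invol (T := Q) (N := Q) hQ le_rfl
    · intro h
      rw [h, mem_bot] at htQ
      rw [htQ, orderOf_one] at ht
      exact absurd ht (by norm_num)
    · intro s hs' n hn
      exact Q.mul_mem (Q.mul_mem hs' hn) (Q.inv_mem hs')
  obtain ⟨z, hzQ, hz, hzc⟩ := hcen
  have hall : ∀ b ∈ Q, orderOf b = 2 → ∀ s ∈ Q, s * b = b * s := by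
    intro b hb hb2 s hsQ
    obtain ⟨x, hx⟩ := isConj_iff.mp (isConj_of_involutions hH z b hz hb2)
    have hxH : x ∈ H := mem_of_conj_mem hH (hs.le hzQ) hz (by rw [hx]; exact hs.le hb)
    have h1 := hzc (x⁻¹ * s * x) (by
      have := hnorm x⁻¹ (H.inv_mem hxH) s hsQ
      rwa [inv_inv] at this)
    rw [← hx]
    calc s * (x * z * x⁻¹) = x * (x⁻¹ * s * x * z) * x⁻¹ := by group
      _ = x * (z * (x⁻¹ * s * x)) * x⁻¹ := by rw [h1]
      _ = x * z * x⁻¹ * s := by group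
  refine ⟨P, hPQ, ?_, ?_⟩
  · intro b hb hb2 s hs'
    exact hall b ((hmemP b).mp hb) hb2 s ((hmemP s).mp hs')
  · obtain ⟨x, y, hx, hy, hxy, hcomm⟩ := hc
    obtain ⟨k, hk⟩ := isConj_iff.mp (isConj_of_involutions hH z x hz hx)
    have h1 : orderOf (k⁻¹ * y * k) = 2 := by
      have := orderOf_conj k⁻¹ y
      rw [inv_inv] at this
      rw [this, hy]
    have hcomm' : x * y = y * x := hcomm
    have h2 : k⁻¹ * y * k * z = z * (k⁻¹ * y * k) := by
      have hz' : z = k⁻¹ * x * k := by rw [← hk]; group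
      rw [hz']
      calc k⁻¹ * y * k * (k⁻¹ * x * k) = k⁻¹ * (y * x) * k := by group
        _ = k⁻¹ * (x * y) * k := by rw [hcomm']
        _ = k⁻¹ * x * k * (k⁻¹ * y * k) := by group
    have h3 : k⁻¹ * y * k ∈ H := mem_of_commute hH (hs.le hzQ) hz h2
    have h4 : k⁻¹ * y * k ∈ Q := hmem _ h3 (hpow h1)
    refine ⟨z, (hmemP z).mpr hzQ, k⁻¹ * y * k, (hmemP _).mpr h4, hz, h1, ?_⟩
    intro h5
    apply hxy
    rw [← hk, h5]; group

/-- If `Z(S)` has only one involution there is no strongly embedded subgroup. -/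
theorem false_of_z1 {H Q : Subgroup X} (hH : IsStronglyEmbedded H) (hs : IsSplit H Q) (hQ : IsPGroup 2 ↥Q)
    (hc : CommPair X)
    (z1 : ∀ S : Sylow 2 X, ∀ a ∈ S, a * a = 1 → a ≠ 1 → (∀ s ∈ S, s * a = a * s) →
      ∀ b ∈ S, b * b = 1 → b ≠ 1 → (∀ s ∈ S, s * b = b * s) → a = b) : False := by
  obtain ⟨P, -, h1, a, ha, b, hb, ha2, hb2, hab⟩ := exists_sylow hH hs hQ hc
  have hne : ∀ {x : X}, orderOf x = 2 → x ≠ 1 := by
    rintro x hx rfl
    rw [orderOf_one] at hx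
    exact absurd hx (by norm_num)
  exact hab (z1 P a ha (mul_self_of_orderOf ha2) (hne ha2) (h1 a ha ha2) b hb (mul_self_of_orderOf hb2) (hne hb2)
    (h1 b hb hb2))

end Cfsg.Agent.OddHalf.D4.SeCore
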