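import Mathlib

/-!
# The affine case of the rank one base cases

`R` is an elementary abelian 2-group, `u : F → G` a root group commuting with `R`, `h : Fˣ → G` a torus acting on the
root group by scalars and centralizing `R`. The conjugates of `R` under `N` are the groups
`{r * u (c * f r)}`, `c : F`. If `|R| ≥ 4` then some element of `N` centralizes the root group and moves `R`.
-/

set_option autoImplicit false

namespace Cfsg.Agent.OddHalf.D4.RkAff

universe u v

variable {G : Type u} [Group G] {F : Type v} [Field F]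

/-- the frame -/
structure Aff (R : Subgroup G) (u : F → G) (h : Fˣ → G) (f : G → F) (N : Subgroup G) : Prop where
  u_add : ∀ a b, u (a + b) = u a * u b
  u_inj : Function.Injective u
  comm : ∀ r ∈ R, ∀ a, u a * r = r * u a
  disj : ∀ a, u a ∈ R → a = 0
  h_u : ∀ (c : Fˣ) a, h c * u a * (h c)⁻¹ = u (c * a)
  h_R : ∀ (c : Fˣ), ∀ r ∈ R, h c * r = r * h c
  h_N : ∀ c : Fˣ, h c ∈ N
  f_add : ∀ r ∈ R, ∀ s ∈ R, f (r * s) = f r + f s
  f_inj : ∀ r ∈ R, f r = 0 → r = 1
  N_u : ∀ x ∈ N, ∀ a, ∃ b, x * u a * x⁻¹ = u b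
  N_R : ∀ x ∈ N, ∃ c : F, ∀ r ∈ R, x * r * x⁻¹ = r * u (c * f r)
  N_tr : ∃ x ∈ N, ∃ r ∈ R, x * r ≠ r * x
  two : ∃ r ∈ R, ∃ s ∈ R, f r ≠ 0 ∧ f s ≠ 0 ∧ f r ≠ f s

namespace Aff

variable {R : Subgroup G} {u : F → G} {h : Fˣ → G} {f : G → F} {N : Subgroup G}

theorem u_zero (H : Aff R u h f N) : u 0 = 1 := by
  have := H.u_add 0 0
  rw [add_zero] at this
  exact (mul_eq_left.mp this.symm)

/-- every scalar is realized -/
theorem exists_all (H : Aff R u h f N) (c : F) (hc : c ≠ 0) :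
    ∃ y ∈ N, ∀ r ∈ R, y * r * y⁻¹ = r * u (c * f r) := by
  obtain ⟨y, hy, r, hr, hne⟩ := H.N_tr
  obtain ⟨c0, hc0⟩ := H.N_R y hy
  have hc00 : c0 ≠ 0 := by
    rintro rfl
    have := hc0 r hr
    rw [zero_mul, H.u_zero, mul_one] at this
    exact hne (mul_inv_eq_iff_eq_mul.mp this)
  let e : Fˣ := Units.mk0 (c / c0) (div_ne_zero hc hc00)
  refine ⟨h e * y * (h e)⁻¹, mul_mem (mul_mem (H.h_N e) hy) (inv_mem (H.h_N e)), fun s hs => ?_⟩
  have h1 : (h e)⁻¹ * s * h e = s := by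
    rw [mul_assoc, ← H.h_R e s hs, inv_mul_cancel_left]
  have h2 : h e * s * (h e)⁻¹ = s := by rw [H.h_R e s hs, mul_inv_cancel_right]
  calc h e * y * (h e)⁻¹ * s * (h e * y * (h e)⁻¹)⁻¹
      = h e * (y * ((h e)⁻¹ * s * h e) * y⁻¹) * (h e)⁻¹ := by group
    _ = h e * (s * u (c0 * f s)) * (h e)⁻¹ := by rw [h1, hc0 s hs]
    _ = (h e * s * (h e)⁻¹) * (h e * u (c0 * f s) * (h e)⁻¹) := by group
    _ = s * u (c * f s) := by
      rw [h2, H.h_u]
      congr 2
      change c / c0 * (c0 * f s) = c * f s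
      field_simp

/-- the action on the root group is additive -/
theorem act_add (H : Aff R u h f N) {x : G} {α : F → F} (hα : ∀ a, x * u a * x⁻¹ = u (α a)) (a b : F) :
    α (a + b) = α a + α b := by
  apply H.u_inj
  rw [← hα, H.u_add, H.u_add, ← hα, ← hα]
  group

/-- `(A)`: the action on the root group is compatible with the members -/
theorem exists_scalar (H : Aff R u h f N) {x : G} (hx : x ∈ N) {α : F → F}
    (hα : ∀ a, x * u a * x⁻¹ = u (α a)) (c : F) (hc : c ≠ 0) : ∃ l : F, ∀ r ∈ R, α (c * f r) = l * f r := by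
  obtain ⟨y, hy, hyr⟩ := H.exists_all c hc
  obtain ⟨c1, hc1⟩ := H.N_R x hx
  obtain ⟨c2, hc2⟩ := H.N_R (x * y) (mul_mem hx hy)
  refine ⟨c2 - c1, fun r hr => ?_⟩
  have h1 : x * y * r * (x * y)⁻¹ = r * u (c1 * f r) * u (α (c * f r)) := by
    calc x * y * r * (x * y)⁻¹ = x * (y * r * y⁻¹) * x⁻¹ := by group
      _ = x * (r * u (c * f r)) * x⁻¹ := by rw [hyr r hr]
      _ = (x * r * x⁻¹) * (x * u (c * f r) * x⁻¹) := by group
      _ = r * u (c1 * f r) * u (α (c * f r)) := by rw [hc1 r hr, hα]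
  rw [hc2 r hr, mul_assoc, ← H.u_add] at h1
  have h2 := H.u_inj (mul_left_cancel h1)
  rw [sub_mul]
  linear_combination -h2

/-- the action on the root group commutes with the scalar `f s / f r` -/
theorem act_scalar (H : Aff R u h f N) {x : G} (hx : x ∈ N) {α : F → F}
    (hα : ∀ a, x * u a * x⁻¹ = u (α a)) {r s : G} (hr : r ∈ R) (hs : s ∈ R) (h0 : f r ≠ 0) (a : F) :
    α (f s / f r * a) = f s / f r * α a := by
  by_cases ha : a = 0
  · have : α 0 = 0 := by
      have := H.act_add hα 0 0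
      rw [add_zero] at this
      exact (add_eq_left.mp this.symm)
    rw [ha, mul_zero, this, mul_zero]
  obtain ⟨l, hl⟩ := H.exists_scalar hx hα (a / f r) (div_ne_zero ha h0)
  have h1 := hl r hr
  have h2 := hl s hs
  rw [div_mul_cancel₀ _ h0] at h1
  have e : f s / f r * a = a / f r * f s := by field_simp
  rw [e, h2, h1]
  field_simp

/-- **some element of `N` centralizes the root group and moves `R`** -/
theorem exists_transl (H : Aff R u h f N) :
    ∃ x ∈ N, (∀ a, x * u a = u a * x) ∧ ∃ r ∈ R, x * r ≠ r * x := by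
  by_contra hcon
  push Not at hcon
  obtain ⟨r, hr, s, hs, hr0, hs0, hrs⟩ := H.two
  let t : Fˣ := Units.mk0 (f s / f r) (div_ne_zero hs0 hr0)
  obtain ⟨x, hx, hxr⟩ := H.exists_all 1 one_ne_zero
  choose α hα using H.N_u x hx
  choose β hβ using H.N_u x⁻¹ (inv_mem hx)
  have hαβ : ∀ a, α (β a) = a := by
    intro a
    apply H.u_inj
    rw [← hα, ← hβ]
    group
  set g := x * h t * x⁻¹ * (h t)⁻¹ with hg
  have hgN : g ∈ N := mul_mem (mul_mem (mul_mem hx (H.h_N t)) (inv_mem hx)) (inv_mem (H.h_N t))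
  have hgu : ∀ a, g * u a = u a * g := by
    intro a
    have h1 : (h t)⁻¹ * u a * h t = u ((t⁻¹ : Fˣ) * a) := by
      have := H.h_u t ((t⁻¹ : Fˣ) * a)
      rw [← mul_assoc, Units.mul_inv, one_mul] at this
      rw [← this]; group
    have h2 : x⁻¹ * u ((t⁻¹ : Fˣ) * a) * x = u (β ((t⁻¹ : Fˣ) * a)) := by
      have := hβ ((t⁻¹ : Fˣ) * a)
      rwa [inv_inv] at this
    have h3 : g * u a * g⁻¹ = u a := by
      calc g * u a * g⁻¹ = x * (h t * (x⁻¹ * ((h t)⁻¹ * u a * h t) * x) * (h t)⁻¹) * x⁻¹ := by rw [hg]; group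
        _ = u (α (t * β ((t⁻¹ : Fˣ) * a))) := by rw [h1, h2, H.h_u, hα]
        _ = u a := by
          have e : α (t * β ((t⁻¹ : Fˣ) * a)) = t * α (β ((t⁻¹ : Fˣ) * a)) :=
            H.act_scalar hx hα hr hs hr0 _
          rw [e, hαβ, ← mul_assoc, Units.mul_inv, one_mul]
    exact mul_inv_eq_iff_eq_mul.mp h3
  have hgR := hcon g hgN hgu
  -- evaluate on `r`
  have e1 : x * h t * x⁻¹ = g * h t := by rw [hg]; group
  have e2 : x * h t * x⁻¹ * (x * r * x⁻¹) * (x * h t * x⁻¹)⁻¹ = x * r * x⁻¹ := by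
    calc x * h t * x⁻¹ * (x * r * x⁻¹) * (x * h t * x⁻¹)⁻¹ = x * (h t * r * (h t)⁻¹) * x⁻¹ := by group
      _ = x * r * x⁻¹ := by rw [H.h_R t r hr]; group
  rw [e1, hxr r hr, one_mul] at e2
  have e3 : g * h t * (r * u (f r)) * (g * h t)⁻¹ = r * u (t * f r) := by
    calc g * h t * (r * u (f r)) * (g * h t)⁻¹
        = g * ((h t * r * (h t)⁻¹) * (h t * u (f r) * (h t)⁻¹)) * g⁻¹ := by group
      _ = g * (r * u (t * f r)) * g⁻¹ := by rw [H.h_R t r hr, H.h_u]; group
      _ = (g * r * g⁻¹) * (g * u (t * f r) * g⁻¹) := by group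
      _ = r * u (t * f r) := by rw [hgR r hr, hgu]; group
  rw [e3] at e2
  have e4 := H.u_inj (mul_left_cancel e2)
  have e5 : (t : F) * f r = f s := div_mul_cancel₀ _ hr0
  exact hrs (e4.symm.trans e5)

/-- all translations are realized -/
theorem exists_transl_all (H : Aff R u h f N) (c : F) :
    ∃ x ∈ N, (∀ a, x * u a = u a * x) ∧ ∀ r ∈ R, x * r * x⁻¹ = r * u (c * f r) := by
  by_cases hc : c = 0
  · refine ⟨1, one_mem _, fun a => by rw [one_mul, mul_one], fun r _ => ?_⟩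
    rw [hc, zero_mul, H.u_zero]; group
  obtain ⟨y, hy, hyu, r, hr, hne⟩ := H.exists_transl
  obtain ⟨c0, hc0⟩ := H.N_R y hy
  have hc00 : c0 ≠ 0 := by
    rintro rfl
    have := hc0 r hr
    rw [zero_mul, H.u_zero, mul_one] at this
    exact hne (mul_inv_eq_iff_eq_mul.mp this)
  let e : Fˣ := Units.mk0 (c / c0) (div_ne_zero hc hc00)
  refine ⟨h e * y * (h e)⁻¹, mul_mem (mul_mem (H.h_N e) hy) (inv_mem (H.h_N e)), fun a => ?_, fun s hs => ?_⟩
  · have h1 : (h e)⁻¹ * u a * h e = u ((e⁻¹ : Fˣ) * a) := by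
      have := H.h_u e ((e⁻¹ : Fˣ) * a)
      rw [← mul_assoc, Units.mul_inv, one_mul] at this
      rw [← this]; group
    have h2 : h e * y * (h e)⁻¹ * u a * (h e * y * (h e)⁻¹)⁻¹ = u a := by
      calc h e * y * (h e)⁻¹ * u a * (h e * y * (h e)⁻¹)⁻¹
          = h e * (y * ((h e)⁻¹ * u a * h e) * y⁻¹) * (h e)⁻¹ := by group
        _ = h e * u ((e⁻¹ : Fˣ) * a) * (h e)⁻¹ := by rw [h1, hyu, mul_inv_cancel_right]
        _ = u a := by rw [H.h_u, ← mul_assoc, Units.mul_inv, one_mul]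
    exact mul_inv_eq_iff_eq_mul.mp h2
  · have h1 : (h e)⁻¹ * s * h e = s := by
      rw [mul_assoc, ← H.h_R e s hs, inv_mul_cancel_left]
    have h2 : h e * s * (h e)⁻¹ = s := by rw [H.h_R e s hs, mul_inv_cancel_right]
    calc h e * y * (h e)⁻¹ * s * (h e * y * (h e)⁻¹)⁻¹
        = h e * (y * ((h e)⁻¹ * s * h e) * y⁻¹) * (h e)⁻¹ := by group
      _ = h e * (s * u (c0 * f s)) * (h e)⁻¹ := by rw [h1, hc0 s hs]
      _ = (h e * s * (h e)⁻¹) * (h e * u (c0 * f s) * (h e)⁻¹) := by group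
      _ = s * u (c * f s) := by
        rw [h2, H.h_u]
        congr 2
        change c / c0 * (c0 * f s) = c * f s
        field_simp

end Aff

/-- **Hua's trick**: an additive map `g` with `g 1 = 0` and `g t = t g (t⁻¹)` vanishes in characteristic 2 -/
theorem hua [CharP F 2] [Finite F] {g : F → F} (hadd : ∀ a b, g (a + b) = g a + g b) (h1 : g 1 = 0)
    (hinv : ∀ t, t ≠ 0 → g t = t * g t⁻¹) : ∀ t, g t = 0 := by
  have h0 : g 0 = 0 := by
    have := hadd 0 0
    rw [add_zero] at this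
    exact add_eq_left.mp this.symm
  have key : ∀ t : F, g (t * t) = 0 := by
    intro t
    by_cases ht : t = 0
    · rw [ht, mul_zero, h0]
    by_cases ht1 : t + 1 = 0
    · have : t = 1 := by
        have h2 : (1 : F) + 1 = 0 := CharTwo.add_self_eq_zero 1
        linear_combination ht1 - h2
      rw [this, mul_one, h1]
    have e1 : t⁻¹ + (t + 1)⁻¹ = (t * (t + 1))⁻¹ := by
      field_simp
      have h2 : (1 : F) + 1 = 0 := CharTwo.add_self_eq_zero 1
      linear_combination t * h2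
    have e2 : g t⁻¹ = g t / t := by rw [hinv t ht]; field_simp
    have e3 : g (t + 1)⁻¹ = g (t + 1) / (t + 1) := by rw [hinv (t + 1) ht1]; field_simp
    have e4 : g (t * (t + 1))⁻¹ = g (t * (t + 1)) / (t * (t + 1)) := by
      rw [hinv (t * (t + 1)) (mul_ne_zero ht ht1)]
      field_simp
    have e5 := congrArg g e1
    rw [hadd, e2, e3, e4, hadd, h1, add_zero, mul_add, mul_one, hadd] at e5
    field_simp at e5
    rw [pow_two] at e5
    have h2 : (1 : F) + 1 = 0 := CharTwo.add_self_eq_zero 1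
    linear_combination -e5 + (t * g t) * h2
  intro t
  obtain ⟨s, hs⟩ : ∃ s : F, s * s = t := by
    have hinj : Function.Injective (fun x : F => x * x) := by
      intro a b hab
      have h2 : (1 : F) + 1 = 0 := CharTwo.add_self_eq_zero 1
      have : (a - b) * (a - b) = 0 := by
        have hab' : a * a = b * b := hab
        linear_combination hab' - (a * b - b * b) * h2
      exact sub_eq_zero.mp (mul_self_eq_zero.mp this)
    exact (Finite.surjective_of_injective hinj) t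
  rw [← hs]; exact key s

end Cfsg.Agent.OddHalf.D4.RkAff
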