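import Cfsg.Agent.OddHalf.D4.Spor.Row
import Cfsg.Agent.OddHalf.D4.ThreeD4Two.Sheet
import Cfsg.Agent.OddHalf.D4.UFiveTwo.Sheet

/-!
# ODD half, D4: the rows `³D₄(2)`, `U₅(2)`
-/

set_option autoImplicit false

namespace Cfsg.Agent.OddHalf.D4.RowsTwoA

open Cfsg.Agent.OddHalf.D4 Cfsg.Agent.OddHalf.D4.Spor

universe u

/-- **D4, `K ≅ ³D₄(2)`.** -/
theorem d4t2 (h1173 : Start.P1173.{u}) (hFT : FTT.{u}) (hse : PSE.{u}) : Cut.Row1.{u} (fun K _ => Cut.D4t2 K) :=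
  row_of_sheet h1173 hFT hse fun X _ _ _ h => by
    obtain ⟨F, _, _, hF, ⟨e⟩⟩ := h
    exact ThreeD4Two.sheet hF e

/-- **D4, `K ≅ U₅(2)`.** -/
theorem u52 (h1173 : Start.P1173.{u}) (hFT : FTT.{u}) (hse : PSE.{u}) : Cut.Row1.{u} (fun K _ => Cut.U52 K) :=
  row_of_sheet h1173 hFT hse fun X _ _ _ h => by
    obtain ⟨F, _, _, hF, ⟨e⟩⟩ := h
    exact UFiveTwo.sheet_psu hF e

end Cfsg.Agent.OddHalf.D4.RowsTwoA
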