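import Cfsg.Agent.StrongEmb.Strong
import Cfsg.Agent.OddHalf.D4.SeCore

/-!
# A simple group whose Sylow 2-subgroups have one central involution has no strongly embedded subgroup
-/

set_option autoImplicit false

namespace Cfsg.Agent.OddHalf.D4.Se

open Cfsg Cfsg.Agent.TwoFusion.StronglyEmbeddedBasic

/-- From Bender's theorem. -/
theorem not_stronglyEmbedded {X : Type*} [Group X] [Finite X] [IsSimpleGroup X] (hna : ∃ a b : X, a * b ≠ b * a)
    (z1 : ∀ S : Sylow 2 X, ∀ a ∈ S, a * a = 1 → a ≠ 1 → (∀ s ∈ S, s * a = a * s) →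
      ∀ b ∈ S, b * b = 1 → b ≠ 1 → (∀ s ∈ S, s * b = b * s) → a = b) (H : Subgroup X) :
    ¬ IsStronglyEmbedded H := by
  intro hH
  obtain ⟨z, -, hz⟩ := exists_involution hH
  obtain ⟨Q, hs, hQ⟩ := Cfsg.Agent.StrongEmb.Strong.exists_isSplit hna H hH
  exact SeCore.false_of_z1 hH hs hQ (Cfsg.Agent.StrongEmb.Simple.commPair_of_simple hna hz) z1

end Cfsg.Agent.OddHalf.D4.Se
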