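import Cfsg.Agent.OddHalf.D4.SpFourShort
import Cfsg.Agent.OddHalf.D4.SpFourCent

/-!
# ODD D4, `K = Sp₄(q)`: transport of the coordinates to a section (helper684)

`toSub B X h`: `B` in a subgroup `X` containing all its elements. `map B f`: the image under a homomorphism which is
injective on `U` and on `t U`. `IsN4Q` and `swap` are compatible with both.
-/

set_option autoImplicit false

namespace Cfsg.Agent.OddHalf.D4.SpFourQuot

open Cfsg.Agent.StdSpFour Subgroup
open Cfsg.Agent.StdSpFour.Swap Cfsg.Agent.OddHalf.D4.SpFourDefs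

variable {F G H : Type*} [Field F] [Group G] [Group H]

/-- all elements of `B` lie in `X` -/
structure InX (B : Base F G) (X : Subgroup G) : Prop where
  t : B.t ∈ X
  xa : ∀ u, B.xa u ∈ X
  xb : ∀ u, B.xb u ∈ X
  zs : ∀ u, B.zs u ∈ X
  zl : ∀ u, B.zl u ∈ X
  h : ∀ α β, B.h α β ∈ X
  na : B.na ∈ X
  nb : B.nb ∈ X

/-- `B` in the subgroup `X` -/
def toSub (B : Base F G) (X : Subgroup G) (hX : InX B X) : Base F ↥X where
  t := ⟨B.t, hX.t⟩
  xa := fun u => ⟨B.xa u, hX.xa u⟩
  xb := fun u => ⟨B.xb u, hX.xb u⟩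
  zs := fun u => ⟨B.zs u, hX.zs u⟩
  zl := fun u => ⟨B.zl u, hX.zl u⟩
  h := fun α β => ⟨B.h α β, hX.h α β⟩
  na := ⟨B.na, hX.na⟩
  nb := ⟨B.nb, hX.nb⟩
  tt := Subtype.ext B.tt
  xa_add := fun u v => Subtype.ext (B.xa_add u v)
  xb_add := fun u v => Subtype.ext (B.xb_add u v)
  zs_add := fun u v => Subtype.ext (B.zs_add u v)
  zl_add := fun u v => Subtype.ext (B.zl_add u v)
  t_xa := fun u => Subtype.ext (B.t_xa u).eq
  t_xb := fun u => Subtype.ext (B.t_xb u).eq
  t_zs := fun u => Subtype.ext (B.t_zs u).eq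
  t_zl := fun u => Subtype.ext (B.t_zl u).eq
  t_h := fun α β => Subtype.ext (B.t_h α β).eq
  t_na := Subtype.ext B.t_na.eq
  t_nb := Subtype.ext B.t_nb.eq
  xa_zs := fun u m => Subtype.ext (B.xa_zs u m).eq
  xa_zl := fun u m => Subtype.ext (B.xa_zl u m).eq
  xb_zs := fun u m => Subtype.ext (B.xb_zs u m).eq
  xb_zl := fun u m => Subtype.ext (B.xb_zl u m).eq
  zs_zl := fun u m => Subtype.ext (B.zs_zl u m).eq
  xa_xb := fun u s => Subtype.ext (B.xa_xb u s)
  h_mul := fun α β α' β' => Subtype.ext (B.h_mul α β α' β')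
  h_xa := fun α β u => Subtype.ext (B.h_xa α β u)
  h_xb := fun α β u => Subtype.ext (B.h_xb α β u)
  h_zs := fun α β u => Subtype.ext (B.h_zs α β u)
  h_zl := fun α β u => Subtype.ext (B.h_zl α β u)
  na_h := fun α β => Subtype.ext (B.na_h α β)
  nb_h := fun α β => Subtype.ext (B.nb_h α β)
  na_xb := fun u => Subtype.ext (B.na_xb u)
  na_zl := fun u => Subtype.ext (B.na_zl u)
  na_zs := fun u => Subtype.ext (B.na_zs u)
  nb_xa := fun u => Subtype.ext (B.nb_xa u)
  nb_zs := fun u => Subtype.ext (B.nb_zs u)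
  nb_zl := fun u => Subtype.ext (B.nb_zl u)
  inj := fun u s m r e => B.inj u s m r (congrArg Subtype.val e)
  t_ne := fun u s m r e => B.t_ne u s m r (congrArg Subtype.val e)

/-- injectivity on `⟨t⟩ U` -/
structure InjU (B : Base F G) (f : G →* H) : Prop where
  inj : ∀ u s m r, f (B.xa u * B.xb s * B.zs m * B.zl r) = 1 → B.xa u * B.xb s * B.zs m * B.zl r = 1
  ne : ∀ u s m r, f (B.xa u * B.xb s * B.zs m * B.zl r) ≠ f B.t

theorem cm {f : G →* H} {x y : G} (h : Commute x y) : Commute (f x) (f y) := h.map f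

/-- the image of `B` -/
def map (B : Base F G) (f : G →* H) (hf : InjU B f) : Base F H where
  t := f B.t
  xa := fun u => f (B.xa u)
  xb := fun u => f (B.xb u)
  zs := fun u => f (B.zs u)
  zl := fun u => f (B.zl u)
  h := fun α β => f (B.h α β)
  na := f B.na
  nb := f B.nb
  tt := by rw [← map_mul, B.tt, map_one]
  xa_add := fun u v => by rw [B.xa_add, map_mul]
  xb_add := fun u v => by rw [B.xb_add, map_mul]
  zs_add := fun u v => by rw [B.zs_add, map_mul]
  zl_add := fun u v => by rw [B.zl_add, map_mul]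
  t_xa := fun u => cm (B.t_xa u)
  t_xb := fun u => cm (B.t_xb u)
  t_zs := fun u => cm (B.t_zs u)
  t_zl := fun u => cm (B.t_zl u)
  t_h := fun α β => cm (B.t_h α β)
  t_na := cm B.t_na
  t_nb := cm B.t_nb
  xa_zs := fun u m => cm (B.xa_zs u m)
  xa_zl := fun u m => cm (B.xa_zl u m)
  xb_zs := fun u m => cm (B.xb_zs u m)
  xb_zl := fun u m => cm (B.xb_zl u m)
  zs_zl := fun u m => cm (B.zs_zl u m)
  xa_xb := fun u s => by rw [← map_mul, B.xa_xb, map_mul, map_mul, map_mul]
  h_mul := fun α β α' β' => by rw [B.h_mul, map_mul]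
  h_xa := fun α β u => by rw [← map_mul, B.h_xa, map_mul]
  h_xb := fun α β u => by rw [← map_mul, B.h_xb, map_mul]
  h_zs := fun α β u => by rw [← map_mul, B.h_zs, map_mul]
  h_zl := fun α β u => by rw [← map_mul, B.h_zl, map_mul]
  na_h := fun α β => by rw [← map_mul, B.na_h, map_mul]
  nb_h := fun α β => by rw [← map_mul, B.nb_h, map_mul]
  na_xb := fun u => by rw [← map_mul, B.na_xb, map_mul]
  na_zl := fun u => by rw [← map_mul, B.na_zl, map_mul]
  na_zs := fun u => by rw [← map_mul, B.na_zs, map_mul]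
  nb_xa := fun u => by rw [← map_mul, B.nb_xa, map_mul]
  nb_zs := fun u => by rw [← map_mul, B.nb_zs, map_mul]
  nb_zl := fun u => by rw [← map_mul, B.nb_zl, map_mul]
  inj := fun u s m r e => B.inj u s m r (hf.inj u s m r (by rw [map_mul, map_mul, map_mul]; exact e))
  t_ne := fun u s m r e => hf.ne u s m r (by rw [map_mul, map_mul, map_mul]; exact e)

section swap

variable [CharP F 2] [Finite F] {B : Base F G}

theorem InX.swap {X : Subgroup G} (h : InX B X) : InX (swap B) X where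
  t := h.t
  xa := fun u => h.xb _
  xb := fun u => h.xa _
  zs := fun u => h.zl _
  zl := fun u => h.zs _
  h := fun α β => h.h _ _
  na := h.nb
  nb := h.na

theorem swap_toSub {X : Subgroup G} (h : InX B X) : swap (toSub B X h) = toSub (swap B) X (InX.swap h) := rfl

theorem InjU.swap {f : G →* H} (h : InjU B f) : InjU (swap B) f where
  inj := by
    intro u s m r e
    obtain ⟨u', s', m', r', e'⟩ := SpFourCent.isU_swap.1 (⟨u, s, m, r, rfl⟩ :
      SpFourCent.IsU (Swap.swap B) ((Swap.swap B).xa u * (Swap.swap B).xb s * (Swap.swap B).zs m * (Swap.swap B).zl r))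
    rw [e'] at e ⊢
    exact h.inj _ _ _ _ e
  ne := by
    intro u s m r e
    obtain ⟨u', s', m', r', e'⟩ := SpFourCent.isU_swap.1 (⟨u, s, m, r, rfl⟩ :
      SpFourCent.IsU (Swap.swap B) ((Swap.swap B).xa u * (Swap.swap B).xb s * (Swap.swap B).zs m * (Swap.swap B).zl r))
    rw [e'] at e
    exact h.ne _ _ _ _ e

theorem swap_map {f : G →* H} (h : InjU B f) : swap (map B f h) = map (swap B) f (InjU.swap h) := rfl

end swap

end Cfsg.Agent.OddHalf.D4.SpFourQuot
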