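import Cfsg.Agent.OddHalf.D4.SpFourDefs

/-!
# ODD D4, `Sp₄(q)`: the graph symmetry `Swap.swap` for `QC`, `QB`, `ShortQ`, `LongQ`.
-/

set_option autoImplicit false

namespace Cfsg.Agent.OddHalf.D4.SpFourSwapQ

open Cfsg.Agent.StdSpFour Cfsg.Agent.StdSpFour.Comm Cfsg.Agent.StdSpFour.Swap Subgroup
open Cfsg.Agent.OddHalf.D4.SpFourDefs

variable {F G : Type*} [Field F] [Group G] [CharP F 2] [Finite F] {B : Base F G} {Q : Subgroup G}

theorem swapQC (hB : QC B Q) : QC (swap B) Q where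
  t_mem := hB.t_mem
  sq := hB.sq
  xa := fun t ht u => hB.xb t ht u
  xb := fun t ht _ => hB.xa t ht _
  zs := fun t ht u => hB.zl t ht u
  zl := fun t ht _ => hB.zs t ht _
  h := fun t ht _ _ => hB.h t ht _ _
  na := hB.nb
  nb := hB.na
  disj := by
    intro t ht u s m r h
    change B.xb u * B.xa (rt s) * B.zl m * B.zs (rt r) = t at h
    rw [norm_eq] at h
    exact hB.disj t ht _ _ _ _ h

theorem swapQB (hB : QB B Q) : QB (swap B) Q where
  toQC := swapQC hB.toQC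
  cent1 := by
    intro g h1 h2 h3 h4
    obtain ⟨t, ht, s, m, r, h⟩ := hB.cent2 g h1 (fun u => by
      have := h2 (u ^ 2)
      simp only [swap, rt_sq] at this
      exact this) (fun u => by
      have := h4 (u ^ 2)
      simp only [swap, rt_sq] at this
      exact this) h3
    refine ⟨t, ht, s ^ 2, r, m ^ 2, ?_⟩
    show g = t * (B.xa (rt (s ^ 2)) * B.zl r * B.zs (rt (m ^ 2)))
    rw [rt_sq, rt_sq, mul_assoc (B.xa s), ← (B.zs_zl m r).eq, ← mul_assoc (B.xa s)]
    exact h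
  cent2 := by
    intro g h1 h2 h3 h4
    obtain ⟨t, ht, s, m, r, h⟩ := hB.cent1 g h1 h2 (fun u => by
      have := h4 (u ^ 2)
      simp only [swap, rt_sq] at this
      exact this) h3
    refine ⟨t, ht, s, r, m ^ 2, ?_⟩
    show g = t * (B.xb s * B.zl r * B.zs (rt (m ^ 2)))
    rw [rt_sq, mul_assoc (B.xb s), ← (B.zs_zl m r).eq, ← mul_assoc (B.xb s)]
    exact h
  centZ := by
    intro g h1 h2 h3
    obtain ⟨t, ht, u, s, m, r, h⟩ := hB.centZ g h1 (fun u => by
      have := h3 (u ^ 2)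
      simp only [swap, rt_sq] at this
      exact this) h2
    refine ⟨t, ht, s, u ^ 2, u ^ 2 * s + r, (u * s + m) ^ 2, ?_⟩
    show g = t * (B.xb s * B.xa (rt (u ^ 2)) * B.zl (u ^ 2 * s + r) * B.zs (rt ((u * s + m) ^ 2)))
    rw [rt_sq, rt_sq, norm_eq]
    have e1 : u * s + (u * s + m) = m := by
      rw [← add_assoc, CharTwo.add_self_eq_zero, zero_add]
    have e2 : u ^ 2 * s + (u ^ 2 * s + r) = r := by
      rw [← add_assoc, CharTwo.add_self_eq_zero, zero_add]
    rw [e1, e2]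
    exact h
  ti := hB.ti

/-- the long layer as short layer of `swap B` -/
noncomputable def swapS (L : LongQ B Q) : ShortQ (swap B) Q where
  p := L.q
  a := L.b
  e := L.e ^ 2
  c := L.c
  a_ne := L.b_ne
  p_zero := L.q_zero
  t_p := L.t_q
  p_xb := fun m _ => L.q_xa m _
  p_zs := L.q_zl
  p_zl := fun m _ => L.q_zs m _
  p_p := L.q_q
  p_add := L.q_add
  p_sq := L.q_sq
  xa_p := by
    intro u m
    have h := L.xb_q (rt u) (rt m)
    rw [sq_rt, sq_rt] at h
    show B.xb u * L.q m = L.q m * B.xb u * B.zs (rt (L.e ^ 2 * u * m))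
    rw [h, rt_mul, rt_mul, rt_sq, mul_assoc L.e (rt u) (rt m)]
  h_p := by
    intro α β m
    show B.h (rtU β) α * L.q m = L.q (α * β * m) * B.h (rtU β) α
    rw [L.h_q, rtU_val, sq_rt, mul_comm (β : F)]

/-- the short layer as long layer of `swap B` -/
noncomputable def swapL (S : ShortQ B Q) : LongQ (swap B) Q where
  q := fun r => S.p (rt r)
  b := fun t => S.a t ^ 2
  e := S.e
  c := S.c ^ 2
  b_ne := fun t ht h1 => pow_ne_zero 2 (S.a_ne t ht h1)
  q_zero := by rw [rt_zero]; exact S.p_zero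
  t_q := by
    intro t ht r
    show t * S.p (rt r) = S.p (rt r) * t * B.zs (rt (S.a t ^ 2 * r))
    rw [rt_mul, rt_sq]
    exact S.t_p t ht _
  q_xa := fun m s => S.p_xb _ s
  q_zs := fun m s => S.p_zl _ s
  q_zl := fun m s => S.p_zs _ _
  q_q := fun m m' => S.p_p _ _
  q_add := by
    intro m m'
    obtain ⟨k, hk⟩ := S.p_add (rt m) (rt m')
    refine ⟨k ^ 2, ?_⟩
    show S.p (rt m) * S.p (rt m') = S.p (rt (m + m')) * B.zs (rt (k ^ 2))
    rw [rt_sq, rt_add]
    exact hk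
  q_sq := by
    intro r
    show S.p (rt r) * S.p (rt r) = B.zs (rt (S.c ^ 2 * r))
    rw [rt_mul, rt_sq]
    exact S.p_sq _
  xb_q := by
    intro s r
    show B.xa (rt (s ^ 2)) * S.p (rt (r ^ 2)) = S.p (rt (r ^ 2)) * B.xa (rt (s ^ 2)) * B.zl (S.e * (s * r))
    rw [rt_sq, rt_sq, S.xa_p, mul_assoc S.e]
  h_q := by
    intro α β r
    show B.h (rtU β) α * S.p (rt r) = S.p (rt (α ^ 2 * β * r)) * B.h (rtU β) α
    rw [S.h_p, rtU_val, rt_mul, rt_mul, rt_sq, mul_comm (rt (β : F))]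

/-- a short layer of `swap B` gives a long layer of `B` -/
noncomputable def unswapS (S : ShortQ (swap B) Q) : LongQ B Q where
  q := S.p
  b := S.a
  e := rt S.e
  c := S.c
  b_ne := S.a_ne
  q_zero := S.p_zero
  t_q := S.t_p
  q_xa := by
    intro m s
    have := S.p_xb m (s ^ 2)
    simp only [swap, rt_sq] at this
    exact this
  q_zs := by
    intro m s
    have := S.p_zl m (s ^ 2)
    simp only [swap, rt_sq] at this
    exact this
  q_zl := S.p_zs
  q_q := S.p_p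
  q_add := S.p_add
  q_sq := S.p_sq
  xb_q := by
    intro s r
    have h : B.xb (s ^ 2) * S.p (r ^ 2) = S.p (r ^ 2) * B.xb (s ^ 2) * B.zs (rt (S.e * s ^ 2 * r ^ 2)) :=
      S.xa_p (s ^ 2) (r ^ 2)
    rw [h, rt_mul, rt_mul, rt_sq, rt_sq, mul_assoc (rt S.e)]
  h_q := by
    intro α β r
    have h : B.h (rtU (α ^ 2)) β * S.p r = S.p (β * ((α ^ 2 : Fˣ) : F) * r) * B.h (rtU (α ^ 2)) β :=
      S.h_p β (α ^ 2) r
    rw [rtU_sq, Units.val_pow_eq_pow_val, mul_comm (β : F)] at h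
    exact h

end Cfsg.Agent.OddHalf.D4.SpFourSwapQ
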