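import Cfsg.Agent.OddHalf.D4.LineRgd

/-!
# ODD, D4, (1B): the star property by leading terms (helper128)

For a root group datum with the Chevalley commutator formula:
* `Cl.inf`: `⟨X S⟩ ⊓ ⟨X S'⟩ ≤ ⟨X (S ∩ S')⟩` for closed sets of positive roots;
* `star_of_loc`: an element of `U` commuting with `x` commutes with `l`, if this holds for the leading factors;
* `lead`: the leading factor `z` of an element commuting with `x`: `⁅z, x⁆` lies above the height `ht s + ht r`.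
-/

set_option autoImplicit false
set_option linter.unusedSectionVars false

namespace Cfsg.Agent.OddHalf.D4.StarLoc

open Cfsg.Agent.Tits.Roots hiding ht
open Subgroup CoxeterSystem Cfsg.Agent.ChevalleyStructure.CoxeterGeom Cfsg.Agent.Tits.Core
  Cfsg.Agent.Nodes.Reps Cfsg.Agent.Nodes.BNOf Cfsg.Agent.Nodes.Bruhat Cfsg.Agent.Nodes.OppDec
  Cfsg.Agent.Nodes.NormalForm Cfsg.Agent.Nodes.Coroot Cfsg.Agent.Nodes
  Cfsg.Agent.KFacts.RgdPar Cfsg.Agent.KFacts.RgdTI Cfsg.Agent.KFacts.RgdFilt Cfsg.Agent.KFacts.RgdBorelTits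
  Cfsg.Agent.OddHalf.D4.LineRgd
open scoped commutatorElement

variable {I W Y : Type*} [Fintype I] [DecidableEq I] [Group W] [Group Y] {M : CoxeterMatrix I}
  {cs : CoxeterSystem M W} {A : I → I → ℤ} {h : IsCartan M A} {p : ℕ} {T : Subgroup Y} {n : I → Y}
  {X : (I → ℤ) → Subgroup Y}

/-! ### closed sets -/

theorem ib_ht {x y z : I → ℤ} (hz : IB cs h x y z) : ∃ i j : ℤ, 0 < i ∧ 0 < j ∧ z = i • x + j • y ∧
    ht z = i * ht x + j * ht y := by
  obtain ⟨-, i, j, hi, hj, rfl⟩ := hz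
  exact ⟨i, j, hi, hj, rfl, by rw [map_add, map_zsmul, map_zsmul, smul_eq_mul, smul_eq_mul]⟩

theorem ht_pos' {x : I → ℤ} (hx : x ∈ RGD.Pos cs h) : 0 < ht x := ht_pos hx.2 hx.1.ne_zero

theorem ib_pos {x y z : I → ℤ} (hx : x ∈ RGD.Pos cs h) (hy : y ∈ RGD.Pos cs h) (hz : IB cs h x y z) :
    z ∈ RGD.Pos cs h := by
  refine ⟨hz.1, ?_⟩
  obtain ⟨-, i, j, hi, hj, rfl⟩ := hz
  intro k
  exact add_nonneg (mul_nonneg hi.le (hx.2 k)) (mul_nonneg hj.le (hy.2 k))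

theorem ib_add_le {x y z : I → ℤ} (hx : x ∈ RGD.Pos cs h) (hy : y ∈ RGD.Pos cs h) (hz : IB cs h x y z) :
    ht x + ht y ≤ ht z ∧ (ht z = ht x + ht y → z = x + y) := by
  obtain ⟨i, j, hi, hj, e, e'⟩ := ib_ht hz
  have h1 := ht_pos' hx
  have h2 := ht_pos' hy
  constructor
  · rw [e']
    nlinarith
  · intro h3
    rw [e'] at h3
    have hi1 : i = 1 := by
      by_contra hne
      have h4 : 2 ≤ i := by omega
      nlinarith
    have hj1 : j = 1 := by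
      by_contra hne
      have h4 : 2 ≤ j := by omega
      nlinarith
    rw [e, hi1, hj1, one_smul, one_smul]

theorem ne_neg {x y : I → ℤ} (hx : x ∈ RGD.Pos cs h) (hy : y ∈ RGD.Pos cs h) : x ≠ -y := by
  rintro rfl
  have h1 := ht_pos' hx
  have h2 := ht_pos' hy
  rw [map_neg] at h1
  omega

/-- the commutators of two positive root groups -/
theorem comm_mem (hI : IntComm cs h X) {x y : I → ℤ} (hx : x ∈ RGD.Pos cs h) (hy : y ∈ RGD.Pos cs h)
    (hxy : x ≠ y) {S : Set (I → ℤ)} (hS : ∀ z, IB cs h x y z → z ∈ S) {a b : Y} (ha : a ∈ X x) (hb : b ∈ X y) :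
    ⁅a, b⁆ ∈ RGD.Sup X S := by
  have h1 := hI x y hx.1 hy.1 hxy (ne_neg hx hy) a ha b hb
  exact (FS_le fun z hz => RGD.le_Sup (hS z hz) : FS X {z | IB cs h x y z} ≤ RGD.Sup X S) h1

/-- a closed set of positive roots -/
def Cl (cs : CoxeterSystem M W) (h : IsCartan M A) (S : Set (I → ℤ)) : Prop :=
  S ⊆ RGD.Pos cs h ∧ ∀ x ∈ S, ∀ y ∈ S, x ≠ y → ∀ z, IB cs h x y z → z ∈ S

theorem FS_cut {S : Set (I → ℤ)} (hS : S ⊆ RGD.Pos cs h) : FS (cut S X) (RGD.Pos cs h) = RGD.Sup X S := by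
  apply le_antisymm
  · refine FS_le fun z _ => ?_
    by_cases hz : z ∈ S
    · rw [cut_pos hz]; exact RGD.le_Sup hz
    · rw [cut_neg hz]; exact bot_le
  · refine RGD.Sup_le fun z hz => ?_
    have h1 := le_FS (G := cut S X) (S := RGD.Pos cs h) (hS hz)
    rwa [cut_pos hz] at h1

/-- **Independence.** -/
theorem Cl.inf [Finite W] (R : RGD cs h p T n X) (hI : IntComm cs h X) {S S' : Set (I → ℤ)} (hS : Cl cs h S)
    (hS' : Cl cs h S') : RGD.Sup X S ⊓ RGD.Sup X S' ≤ RGD.Sup X (S ∩ S') := by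
  have hPS : PS' cs h (1 : W) = RGD.Pos cs h := by
    ext x
    simp [PS', RGD.Pos]
  have hFC : ∀ {S : Set (I → ℤ)}, Cl cs h S → FC cs h (cut S X) (PS' cs h (1 : W)) := by
    intro S hS x _ y _ hxy a ha b hb
    by_cases hx : x ∈ S
    · by_cases hy : y ∈ S
      · rw [cut_pos hx] at ha
        rw [cut_pos hy] at hb
        refine FS_mono (fun z hz _ => ?_) (hI x y (hS.1 hx).1 (hS.1 hy).1 hxy (ne_neg (hS.1 hx) (hS.1 hy)) a ha b hb)
        have hz' : IB cs h x y z := hz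
        refine ⟨hz'.btwn, ?_⟩
        rw [cut_pos (hS.2 x hx y hy hxy z hz')]
      · rw [cut_neg hy, Subgroup.mem_bot] at hb
        rw [hb, commutatorElement_one_right]
        exact one_mem _
    · rw [cut_neg hx, Subgroup.mem_bot] at ha
      rw [ha, commutatorElement_one_left]
      exact one_mem _
  have h1 := inf_w R (G := cut S X) (G' := cut S' X) (1 : W) (hFC hS) (hFC hS') (fun x _ => cut_le _ _ _)
    (fun x _ => cut_le _ _ _)
  rw [hPS, FS_cut hS.1, FS_cut hS'.1] at h1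
  refine h1.trans (FS_le fun z _ => ?_)
  by_cases hz : z ∈ S
  · by_cases hz' : z ∈ S'
    · rw [cut_pos hz, inf_comm, cut_pos hz', inf_idem]
      exact RGD.le_Sup ⟨hz, hz'⟩
    · rw [cut_neg hz', inf_bot_eq]; exact bot_le
  · rw [cut_neg hz, bot_inf_eq]; exact bot_le

/-- a set of positive roots closed upwards -/
def Up (cs : CoxeterSystem M W) (h : IsCartan M A) (S : Set (I → ℤ)) : Prop :=
  S ⊆ RGD.Pos cs h ∧ ∀ s ∈ S, ∀ t ∈ RGD.Pos cs h, ht s < ht t → t ∈ S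

theorem Up.ib {S : Set (I → ℤ)} (hS : Up cs h S) {x y z : I → ℤ} (hx : x ∈ RGD.Pos cs h) (hy : y ∈ S)
    (hz : IB cs h x y z) : z ∈ S := by
  refine hS.2 y hy z (ib_pos hx (hS.1 hy) hz) ?_
  have h1 := (ib_add_le hx (hS.1 hy) hz).1
  have h2 := ht_pos' hx
  omega

theorem Up.cl {S : Set (I → ℤ)} (hS : Up cs h S) : Cl cs h S :=
  ⟨hS.1, fun x hx _ hy _ _ hz => hS.ib (hS.1 hx) hy hz⟩

/-- The positive root groups normalise `⟨X S⟩`. -/
theorem Up.conj (hI : IntComm cs h X) {S : Set (I → ℤ)} (hS : Up cs h S) {x : I → ℤ} (hx : x ∈ RGD.Pos cs h)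
    {g : Y} (hg : g ∈ X x) {u : Y} (hu : u ∈ RGD.Sup X S) : g * u * g⁻¹ ∈ RGD.Sup X S := by
  by_cases hxS : x ∈ S
  · have h1 : g ∈ RGD.Sup X S := RGD.le_Sup hxS hg
    exact mul_mem (mul_mem h1 hu) (inv_mem h1)
  · have h1 : RGD.Sup X S ≤ (RGD.Sup X S).comap (MulAut.conj g).toMonoidHom := by
      refine RGD.Sup_le fun y hy v hv => ?_
      show g * v * g⁻¹ ∈ RGD.Sup X S
      have hne : x ≠ y := by rintro rfl; exact hxS hy
      have h2 : ⁅g, v⁆ ∈ RGD.Sup X S := comm_mem hI hx (hS.1 hy) hne (fun z hz => hS.ib hx hy hz) hg hv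
      have h3 := mul_mem h2 (RGD.le_Sup hy hv)
      rwa [commutatorElement_def, inv_mul_cancel_right] at h3
    exact h1 hu

theorem Up.le_normalizer (hI : IntComm cs h X) {S : Set (I → ℤ)} (hS : Up cs h S) {x : I → ℤ}
    (hx : x ∈ RGD.Pos cs h) : X x ≤ Subgroup.normalizer (RGD.Sup X S : Set Y) := by
  intro g hg
  rw [Subgroup.mem_normalizer_iff]
  intro u
  refine ⟨fun hu => hS.conj hI hx hg hu, fun hu => ?_⟩
  have h1 := hS.conj hI hx (inv_mem hg) hu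
  have e : g⁻¹ * (g * u * g⁻¹) * g⁻¹⁻¹ = u := by group
  rwa [e] at h1

/-- the positive roots of height at least `ht s` other than `s` -/
def Oth (cs : CoxeterSystem M W) (h : IsCartan M A) (s : I → ℤ) : Set (I → ℤ) :=
  {t | t ∈ RGD.Pos cs h ∧ ht s ≤ ht t ∧ t ≠ s}

/-- the positive roots of height greater than `m` -/
def Gt (cs : CoxeterSystem M W) (h : IsCartan M A) (m : ℤ) : Set (I → ℤ) := {t | t ∈ RGD.Pos cs h ∧ m < ht t}

theorem up_oth (s : I → ℤ) : Up cs h (Oth cs h s) := by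
  refine ⟨fun t ht' => ht'.1, ?_⟩
  rintro t ⟨-, h2, -⟩ t' ht' hlt
  refine ⟨ht', by omega, ?_⟩
  rintro rfl
  omega

theorem up_gt (m : ℤ) : Up cs h (Gt cs h m) :=
  ⟨fun _ ht' => ht'.1, fun _ hs t ht' hlt => ⟨ht', hs.2.trans hlt⟩⟩

/-- **The star property by leading factors.** -/
theorem star_of_loc [Finite W] (hI : IntComm cs h X) {x : Y} {l : Set Y} (hxl : x ∈ l)
    (hloc : ∀ s ∈ RGD.Pos cs h, ∀ z ∈ X s, ∀ u ∈ RGD.Sup X (Oth cs h s), z * u * x = x * (z * u) →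
      ∀ x' ∈ l, z * x' = x' * z) :
    ∀ u ∈ RGD.Sup X (RGD.Pos cs h), u * x = x * u → ∀ x' ∈ l, u * x' = x' * u := by
  have hfin : (RGD.Pos cs h).Finite := (RGD.finite_roots (cs := cs) (h := h)).subset fun x hx => hx.1
  have key : ∀ m : ℕ, ∀ S : Set (I → ℤ), Up cs h S → S.ncard ≤ m →
      ∀ u ∈ RGD.Sup X S, u * x = x * u → ∀ x' ∈ l, u * x' = x' * u := by
    intro m
    induction m with
    | zero =>
      intro S hS hm u hu _ x' _
      have h1 : S = ∅ := (Set.ncard_eq_zero (hfin.subset hS.1)).1 (Nat.le_zero.1 hm)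
      have h2 : RGD.Sup X S ≤ ⊥ := by
        rw [h1]
        exact RGD.Sup_le fun z hz => absurd hz (Set.notMem_empty z)
      have h3 := Subgroup.mem_bot.1 (h2 hu)
      rw [h3, one_mul, mul_one]
    | succ m ih =>
      intro S hS hm u hu hux x' hx'
      rcases S.eq_empty_or_nonempty with h1 | h1
      · exact ih S hS (by rw [h1]; simp) u hu hux x' hx'
      obtain ⟨s, hs, hmin⟩ := Set.exists_min_image S ht (hfin.subset hS.1) h1
      have hS' : Up cs h (S \ {s}) := by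
        refine ⟨fun t ht' => hS.1 ht'.1, ?_⟩
        rintro t ⟨ht', hts⟩ t' ht'' hlt
        refine ⟨hS.2 t ht' t' ht'' hlt, ?_⟩
        rintro rfl
        have := hmin t ht'
        omega
      have hle : RGD.Sup X S ≤ X s ⊔ RGD.Sup X (S \ {s}) := by
        refine RGD.Sup_le fun t ht' => ?_
        by_cases hts : t = s
        · rw [hts]; exact le_sup_left
        · exact (RGD.le_Sup (S := S \ {s}) ⟨ht', hts⟩).trans le_sup_right
      have h2 : u ∈ ((X s ⊔ RGD.Sup X (S \ {s}) : Subgroup Y) : Set Y) := hle hu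
      rw [Subgroup.coe_mul_of_left_le_normalizer_right _ _ (hS'.le_normalizer hI (hS.1 hs)), Set.mem_mul] at h2
      obtain ⟨z, hz, u', hu', rfl⟩ := h2
      have hsub : S \ {s} ⊆ Oth cs h s := fun t ht' => ⟨hS.1 ht'.1, hmin t ht'.1, ht'.2⟩
      have hcard : (S \ {s}).ncard ≤ m := by
        have h3 := Set.ncard_diff_singleton_add_one hs (hfin.subset hS.1)
        omega
      have hz1 := hloc s (hS.1 hs) z hz u' (RGD.Sup_mono hsub hu') hux
      have hz2 := hz1 x hxl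
      have hu1 : u' * x = x * u' := by
        apply mul_left_cancel (a := z)
        rw [← mul_assoc, hux, ← mul_assoc, ← hz2, mul_assoc]
      rw [mul_assoc, ih _ hS' hcard u' hu' hu1 x' hx', ← mul_assoc, hz1 x' hx', mul_assoc]
  intro u hu
  exact key _ _ ⟨le_rfl, fun _ _ t ht' _ => ht'⟩ le_rfl u hu

/-- the commutator of `⟨X (Oth s)⟩` and `X r` avoids `s + r` -/
theorem comm_oth (hI : IntComm cs h X) {s r : I → ℤ} (hs : s ∈ RGD.Pos cs h) (hr : r ∈ RGD.Pos cs h)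
    (hab : ∀ a ∈ X r, ∀ b ∈ X r, a * b = b * a) {x u : Y} (hx : x ∈ X r) (hu : u ∈ RGD.Sup X (Oth cs h s)) :
    ⁅u, x⁆ ∈ RGD.Sup X {t | t ∈ RGD.Pos cs h ∧ ht s + ht r ≤ ht t ∧ t ≠ s + r} := by
  have hB : Up cs h {t | t ∈ RGD.Pos cs h ∧ ht s + ht r ≤ ht t ∧ t ≠ s + r} := by
    refine ⟨fun t ht' => ht'.1, ?_⟩
    rintro t ⟨-, h2, -⟩ t' ht' hlt
    refine ⟨ht', by omega, ?_⟩
    rintro rfl
    rw [map_add] at hlt
    omega
  have hP : ∀ t ∈ RGD.Pos cs h, ∀ g ∈ X t, ∀ v ∈ RGD.Sup X {t | t ∈ RGD.Pos cs h ∧ ht s + ht r ≤ ht t ∧ t ≠ s + r},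
      g * v * g⁻¹ ∈ RGD.Sup X {t | t ∈ RGD.Pos cs h ∧ ht s + ht r ≤ ht t ∧ t ≠ s + r} :=
    fun t ht' g hg v hv => hB.conj hI ht' hg hv
  have hconj : ∀ g ∈ RGD.Sup X (Oth cs h s),
      ∀ v ∈ RGD.Sup X {t | t ∈ RGD.Pos cs h ∧ ht s + ht r ≤ ht t ∧ t ≠ s + r},
      g * v * g⁻¹ ∈ RGD.Sup X {t | t ∈ RGD.Pos cs h ∧ ht s + ht r ≤ ht t ∧ t ≠ s + r} := by
    intro g hg
    refine Subgroup.iSup_induction (fun t : ↥(Oth cs h s) => X t.1) (C := fun g => ∀ v ∈ RGD.Sup X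
      {t | t ∈ RGD.Pos cs h ∧ ht s + ht r ≤ ht t ∧ t ≠ s + r}, g * v * g⁻¹ ∈ RGD.Sup X
      {t | t ∈ RGD.Pos cs h ∧ ht s + ht r ≤ ht t ∧ t ≠ s + r}) hg ?_ ?_ ?_
    · intro t g hg v hv
      exact hP t.1 t.2.1 g hg v hv
    · intro v hv
      rwa [one_mul, inv_one, mul_one]
    · intro g g' h1 h2 v hv
      have e : g * g' * v * (g * g')⁻¹ = g * (g' * v * g'⁻¹) * g⁻¹ := by group
      rw [e]
      exact h1 _ (h2 _ hv)
  have hu' : u ∈ RGD.Sup X (Oth cs h s) ∧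
      ⁅u, x⁆ ∈ RGD.Sup X {t | t ∈ RGD.Pos cs h ∧ ht s + ht r ≤ ht t ∧ t ≠ s + r} := by
    refine Subgroup.iSup_induction (fun t : ↥(Oth cs h s) => X t.1) (C := fun u => u ∈ RGD.Sup X (Oth cs h s) ∧
      ⁅u, x⁆ ∈ RGD.Sup X {t | t ∈ RGD.Pos cs h ∧ ht s + ht r ≤ ht t ∧ t ≠ s + r}) hu ?_ ?_ ?_
    · rintro ⟨t, ht1, ht2, ht3⟩ g hg
      refine ⟨RGD.le_Sup (S := Oth cs h s) ⟨ht1, ht2, ht3⟩ hg, ?_⟩
      by_cases htr : t = r
      · subst htr
        have e : ⁅g, x⁆ = 1 := commutatorElement_eq_one_iff_mul_comm.2 (hab g hg x hx)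
        rw [e]
        exact one_mem _
      · refine comm_mem (S := {t | t ∈ RGD.Pos cs h ∧ ht s + ht r ≤ ht t ∧ t ≠ s + r}) hI ht1 hr htr
          (fun z hz => ⟨ib_pos ht1 hr hz, ?_, ?_⟩) hg hx
        · have h1 := (ib_add_le ht1 hr hz).1
          omega
        · intro he
          have h1 := ib_add_le ht1 hr hz
          rw [he, map_add] at h1
          have h2 := h1.2 (by omega)
          exact ht3 (add_right_cancel h2).symm
    · refine ⟨one_mem _, ?_⟩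
      rw [commutatorElement_one_left]
      exact one_mem _
    · rintro g g' ⟨h1, h2⟩ ⟨h3, h4⟩
      refine ⟨mul_mem h1 h3, ?_⟩
      have e : ⁅g * g', x⁆ = g * ⁅g', x⁆ * g⁻¹ * ⁅g, x⁆ := by
        simp only [commutatorElement_def]; group
      rw [e]
      exact mul_mem (hconj g h1 _ h4) h2
  exact hu'.2

/-- **The leading factor.** -/
theorem lead [Finite W] (R : RGD cs h p T n X) (hI : IntComm cs h X) {s r : I → ℤ} (hs : s ∈ RGD.Pos cs h)
    (hr : r ∈ RGD.Pos cs h) (hab : ∀ a ∈ X r, ∀ b ∈ X r, a * b = b * a) {x z u : Y} (hx : x ∈ X r) (hz : z ∈ X s)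
    (hu : u ∈ RGD.Sup X (Oth cs h s)) (hc : z * u * x = x * (z * u)) :
    ⁅z, x⁆ ∈ RGD.Sup X (Gt cs h (ht s + ht r)) := by
  by_cases hsr : s = r
  · subst hsr
    rw [commutatorElement_eq_one_iff_mul_comm.2 (hab z hz x hx)]
    exact one_mem _
  have hB : Up cs h {t | t ∈ RGD.Pos cs h ∧ ht s + ht r ≤ ht t ∧ t ≠ s + r} := by
    refine ⟨fun t ht' => ht'.1, ?_⟩
    rintro t ⟨-, h2, -⟩ t' ht' hlt
    refine ⟨ht', by omega, ?_⟩
    rintro rfl
    rw [map_add] at hlt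
    omega
  have hA : Up cs h {t | t ∈ RGD.Pos cs h ∧ (ht s + ht r < ht t ∨ t = s + r)} := by
    refine ⟨fun t ht' => ht'.1, ?_⟩
    rintro t ⟨-, h2⟩ t' ht' hlt
    refine ⟨ht', Or.inl ?_⟩
    rcases h2 with h2 | rfl
    · omega
    · rwa [map_add] at hlt
  have h1 : ⁅z, x⁆ ∈ RGD.Sup X {t | t ∈ RGD.Pos cs h ∧ (ht s + ht r < ht t ∨ t = s + r)} := by
    refine comm_mem (S := {t | t ∈ RGD.Pos cs h ∧ (ht s + ht r < ht t ∨ t = s + r)}) hI hs hr hsr
      (fun w hw => ⟨ib_pos hs hr hw, ?_⟩) hz hx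
    have h2 := ib_add_le hs hr hw
    rcases h2.1.lt_or_eq with h3 | h3
    · exact Or.inl h3
    · exact Or.inr (h2.2 h3.symm)
  have h2 : ⁅z, x⁆ ∈ RGD.Sup X {t | t ∈ RGD.Pos cs h ∧ ht s + ht r ≤ ht t ∧ t ≠ s + r} := by
    have h3 := comm_oth hI hs hr hab hx hu
    have h4 := hB.conj hI hs hz h3
    have e : ⁅z, x⁆ = (z * ⁅u, x⁆ * z⁻¹)⁻¹ := by
      have h5 : z * ⁅u, x⁆ * z⁻¹ * ⁅z, x⁆ = 1 := by
        have h6 : z * ⁅u, x⁆ * z⁻¹ * ⁅z, x⁆ = z * u * x * (x * (z * u))⁻¹ := by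
          simp only [commutatorElement_def]; group
        rw [h6, hc, mul_inv_cancel]
      exact eq_inv_of_mul_eq_one_right h5
    rw [e]
    exact inv_mem h4
  refine (RGD.Sup_mono ?_) (hA.cl.inf R hI hB.cl ⟨h1, h2⟩)
  rintro t ⟨⟨h3, h4⟩, -, h5, h6⟩
  exact ⟨h3, h4.resolve_right h6⟩

/-- A product of root elements above a height. -/
theorem eq_one_of_gt [Finite W] (R : RGD cs h p T n X) (hI : IntComm cs h X) {a : I → ℤ} (ha : a ∈ RGD.Pos cs h)
    {y y' : Y} (hy : y ∈ X a) (hy' : y' ∈ RGD.Sup X (Gt cs h (ht a))) (hyy : y * y' ∈ RGD.Sup X (Gt cs h (ht a))) :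
    y = 1 := by
  have h1 : y ∈ RGD.Sup X (Gt cs h (ht a)) := by
    have h2 := mul_mem hyy (inv_mem hy')
    rwa [mul_inv_cancel_right] at h2
  have h2 : Cl cs h {a} := by
    refine ⟨fun t ht' => by rw [Set.mem_singleton_iff.1 ht']; exact ha, ?_⟩
    rintro x hx y hy hxy
    exact absurd ((Set.mem_singleton_iff.1 hx).trans (Set.mem_singleton_iff.1 hy).symm) hxy
  have h3 := h2.inf R hI (up_gt (cs := cs) (h := h) (ht a)).cl
    ⟨RGD.le_Sup (S := {a}) (Set.mem_singleton a) hy, h1⟩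
  have h4 : RGD.Sup X ({a} ∩ Gt cs h (ht a)) ≤ ⊥ := by
    refine RGD.Sup_le ?_
    rintro z ⟨hz, hz'⟩
    rw [Set.mem_singleton_iff] at hz
    subst hz
    exact absurd hz'.2 (lt_irrefl _)
  exact Subgroup.mem_bot.1 (h4 h3)

end Cfsg.Agent.OddHalf.D4.StarLoc
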