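import Cfsg.Agent.OddHalf.D4.StarLoc
import Cfsg.Agent.Nodes.RGDTwActE6
import Cfsg.Agent.KFacts.RgdFiltTwAll

/-!
# ODD, D4, (1B): the star property for twisted groups, coordinates (helper128)

* `intComm_sub`: the Chevalley commutator formula in the twisted group;
* `rp_x`: representatives of the Weyl group act on the root elements by `a ↦ c * φ^k a`.
-/

set_option autoImplicit false
set_option linter.unusedSectionVars false

namespace Cfsg.Agent.OddHalf.D4.StarTw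

open CoxeterSystem Cfsg.Agent.ChevalleyStructure.CoxeterGeom Cfsg.Agent.Tits.Roots Cfsg.Agent.Tits.Core
  Cfsg.Agent.Nodes.BNOf Cfsg.Agent.Nodes.Reps Cfsg.Agent.Nodes.RGDTwGen Cfsg.Agent.Nodes.RGDChev
  Cfsg.Agent.Nodes.RGDFold Cfsg.Agent.Nodes.RGDFoldSL Cfsg.Agent.Nodes.RGDTwCoord
open Cfsg.Lie Cfsg.Agent.ChevalleyStructure Cfsg.Agent.ChevalleyStructure.Elts
open Cfsg.Agent.KFacts.RgdBorelTits Cfsg.Agent.KFacts.RgdFilt
open scoped commutatorElement

universe u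

section Group

variable {D : ChevalleyDatum} {l : ℕ} {M' : CoxeterMatrix (Fin l)} {hp : IsType D l M'} {K : Type u} [Field K]
variable {m : ℕ} {M : CoxeterMatrix (Fin m)} {W : Type*} [Group W] (cs : CoxeterSystem M W)
  {A : Fin m → Fin m → ℤ} (h : IsCartan M A)
variable {J : Fin m → List (Fin l)} {L : List (List ℕ)} {σ : GL D.Idx K →* GL D.Idx K} {ρ ρ' : ℕ → ℕ}
    {f : ℕ → K → K} {G : Subgroup (GL D.Idx K)} {φ : K →+* K} {ε δ : ℕ → ℤ} {O : List (List ℕ)}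
    {dg : ℕ → ℕ → ℕ}

/-- The Chevalley commutator formula in the twisted group. -/
theorem intComm_sub [Finite K] (FD : FoldData D M A J L) (FG : FoldGrp hp K J L σ ρ ρ' f G) (p : ℕ)
    [Fact p.Prime] [CharP K p] :
    IntComm cs h (fun z => (R D hp K J σ z).subgroupOf G) := by
  intro x y hx hy hxy hxy' a ha b hb
  have h1 := KFacts.RgdFiltTwAll.intComm_fold cs h FD FG p x y hx hy hxy hxy' a ha b hb
  have h2 : FS (fun z => (R D hp K J σ z).subgroupOf G) {z | IB cs h x y z} =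
      (FS (R D hp K J σ) {z | IB cs h x y z}).subgroupOf G := by
    unfold FS
    rw [Nodes.RGDLib.iSup_subgroupOf]
    rintro ⟨z, hz⟩
    exact R_le cs h FD FG p hz.1
  rw [h2, Subgroup.mem_subgroupOf]
  exact h1

theorem phi_iter (ψ : K →+* K) {t : K} (ht : ψ t = t) (k : ℕ) : ψ^[k] t = t := by
  induction k with
  | zero => rfl
  | succ k ih => rw [Function.iterate_succ_apply, ht, ih]

/-- The elements fixed by `φ` are coordinates. -/
theorem ok_mul_fix {z : Fin m → ℤ} {a t : K} (ha : Ok D J O φ z a) (ht : φ t = t) : Ok D J O φ z (t * a) := by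
  unfold Ok at *
  rw [iterate_map_mul, ha, phi_iter φ ht]

/-- **The action of the representatives of the Weyl group.** -/
theorem rp_x [Finite K] (Tw : TwC hp K M A J L σ ρ ρ' f G φ ε δ O dg) (p : ℕ) [Fact p.Prime] [CharP K p]
    (hN : NSys M ((D.diagonalSubgroup K ⊓ G).subgroupOf G) (fun i => (⟨nI hp K (J i), Tw.FG.nG i⟩ : ↥G)))
    {w : W} {g : ↥G} (hg : Rp cs hN w g) {z : Fin m → ℤ} (hz : IsRoot cs h z) :
    ∃ (c : K) (k : ℕ), c ≠ 0 ∧ ∀ a, Ok D J O φ z a → Ok D J O φ (rep cs h w z) (c * φ^[k] a) ∧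
      g * x hp J φ δ O G z a * g⁻¹ = x hp J φ δ O G (rep cs h w z) (c * φ^[k] a) := by
  obtain ⟨ω, rfl⟩ := cs.wordProd_surjective w
  induction ω generalizing g with
  | nil =>
    rw [wordProd_nil] at hg ⊢
    rw [map_one, Module.End.one_apply]
    obtain ⟨χ, h1, h2, h3⟩ := Tw.tor_x cs h p hg.mem_of_one hz
    exact ⟨χ, 0, h1, fun a ha => ⟨Ok.mul h2 ha, h3 a ha⟩⟩
  | cons i ω ih =>
    rw [wordProd_cons] at hg ⊢
    have h1 : Rp cs hN (cs.wordProd ω) ((⟨nI hp K (J i), Tw.FG.nG i⟩ : ↥G)⁻¹ * g) := by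
      have := (rp_simple cs hN i).inv.mul hg
      rwa [inv_mul_cancel_left] at this
    obtain ⟨c, k, hc, h2⟩ := ih h1
    obtain ⟨η, hη, h3⟩ := Tw.conj_x cs h p i (hz.act (cs.wordProd ω))
    refine ⟨η * φ^[ex D J A O i (rep cs h (cs.wordProd ω) z)] c, ex D J A O i (rep cs h (cs.wordProd ω) z) + k,
      mul_ne_zero hη.ne_zero ?_, fun a ha => ?_⟩
    · intro h0
      exact hc (φ.injective.iterate _ (by rw [h0, iterate_map_zero]))
    · obtain ⟨h4, h5⟩ := h2 a ha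
      obtain ⟨h6, h7⟩ := h3 _ h4
      have e1 : η * φ^[ex D J A O i (rep cs h (cs.wordProd ω) z)] c *
          φ^[ex D J A O i (rep cs h (cs.wordProd ω) z) + k] a =
          η * φ^[ex D J A O i (rep cs h (cs.wordProd ω) z)] (c * φ^[k] a) := by
        rw [Function.iterate_add_apply, iterate_map_mul, mul_assoc]
      rw [e1, rep_mul_apply]
      refine ⟨h6, ?_⟩
      rw [← h7, ← h5]
      group

/-- The lines over the field fixed by `φ`. -/
theorem rp_star [Finite K] (Tw : TwC hp K M A J L σ ρ ρ' f G φ ε δ O dg) (p : ℕ) [Fact p.Prime] [CharP K p]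
    (hN : NSys M ((D.diagonalSubgroup K ⊓ G).subgroupOf G) (fun i => (⟨nI hp K (J i), Tw.FG.nG i⟩ : ↥G)))
    {u : ↥G} (hst : ∀ z ∈ RGD.Pos cs h, ∀ a, Ok D J O φ z a → a ≠ 0 → u * x hp J φ δ O G z a = x hp J φ δ O G z a * u →
      ∀ t, φ t = t → u * x hp J φ δ O G z (t * a) = x hp J φ δ O G z (t * a) * u)
    {w : W} {g : ↥G} (hg : Rp cs hN w g) {z : Fin m → ℤ} (hz : IsRoot cs h z) (hw : rep cs h w z ∈ RGD.Pos cs h)
    {a : K} (ha : Ok D J O φ z a) (ha0 : a ≠ 0)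
    (hu : u * (g * x hp J φ δ O G z a * g⁻¹) = g * x hp J φ δ O G z a * g⁻¹ * u) {t : K} (ht : φ t = t) :
    u * (g * x hp J φ δ O G z (t * a) * g⁻¹) = g * x hp J φ δ O G z (t * a) * g⁻¹ * u := by
  obtain ⟨c, k, hc, h1⟩ := rp_x cs h Tw p hN hg hz
  obtain ⟨h2, h3⟩ := h1 a ha
  obtain ⟨h4, h5⟩ := h1 _ (ok_mul_fix ha ht)
  rw [h3] at hu
  rw [h5]
  have e : c * φ^[k] (t * a) = t * (c * φ^[k] a) := by
    rw [iterate_map_mul, phi_iter φ ht]
    ring
  rw [e]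
  refine hst _ hw _ h2 (mul_ne_zero hc fun h0 => ha0 (φ.injective.iterate _ (by rw [h0, iterate_map_zero]))) hu t ht

/-- The structure constants. -/
theorem NN_of_tm (Tw : TwC hp K M A J L σ ρ ρ' f G φ ε δ O dg) {o o' : List ℕ} (ho : ∀ r ∈ o, r < D.nroots)
    (ho' : ∀ r ∈ o', r < D.nroots) {k₀ : ℕ} {v : ℤ} {i j : ℕ} (hm : (v, i, j) ∈ tm dg δ o o' k₀) : v * v = 1 := by
  unfold tm at hm
  rw [List.mem_flatMap] at hm
  obtain ⟨r, hr, hm⟩ := hm
  obtain ⟨s, hs, e⟩ := List.mem_map.1 hm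
  rw [List.mem_filter, decide_eq_true_eq] at hs
  have h1 : NN dg δ r s = v := congrArg Prod.fst e
  rw [← h1]
  exact Tw.NN_sq (ho r hr) (ho' s hs.1) hs.2.1

end Group

end Cfsg.Agent.OddHalf.D4.StarTw
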