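import Mathlib
import Cfsg.Agent.OddHalf.D4.TwLin
import Cfsg.Agent.OddHalf.D4.StarESix
import Cfsg.Agent.OddHalf.DblR.SheetTwE6
import Cfsg.Agent.KFacts.TwESix.OutTwo
import Cfsg.Agent.KFacts.TwESix.Faith
import Cfsg.Agent.KFacts.TwESix.Dat
import Cfsg.Agent.KFacts.RgdFiltTwAll

/-!
# ODD, D4, (1B): the linear root group datum of `²E₆(q)`, `q` even

* `xE_eq` : the coordinates `PhiE` of the simple root groups are the root elements `Cfsg.Agent.Nodes.RGDTwComE6.x`;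
* **`lin`** : `TwLin.Lin` for `²E₆(q)`.
-/

set_option autoImplicit false
set_option linter.unusedSectionVars false

namespace Cfsg.Agent.OddHalf.D4.TwESixLin

open Subgroup CoxeterSystem Cfsg.Agent.ChevalleyStructure.CoxeterGeom Cfsg.Agent.Tits.Roots Cfsg.Agent.Tits.Core
  Cfsg.Agent.Tits.Exchange Cfsg.Agent.Nodes.Reps Cfsg.Agent.Nodes.BNOf Cfsg.Agent.Nodes.RGDTwGen
  Cfsg.Agent.Nodes.RGDChev Cfsg.Agent.Nodes.RGDFold Cfsg.Agent.Nodes.RGDFoldSL Cfsg.Agent.KFacts.RgdTI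
  Cfsg.Agent.KFacts.RgdCent Cfsg.Agent.KFacts.RgdPar Cfsg.Agent.KFacts.RgdFilt
  Cfsg.Agent.KFacts.RgdOpp Cfsg.Agent.KFacts.RgdAut Cfsg.Agent.KFacts.RgdDiag Cfsg.Agent.KFacts.RgdRigid
  Cfsg.Agent.KFacts.RgdField Cfsg.Agent.KFacts.RgdTau Cfsg.Agent.KFacts.RgdNodes Cfsg.Agent.OddHalf.D4.TwWt
  Cfsg.Agent.OddHalf.D4.TwLin
open Cfsg.Lie Cfsg.Agent.ChevalleyStructure
open Cfsg.Agent.ChevalleyStructure.SL2Hom (up lo)
open Cfsg.Agent.ChevalleyStructure.TwE6Basic (sg)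
open Cfsg.Agent.KFacts.TwESix.Comb Cfsg.Agent.KFacts.TwESix.Facts Cfsg.Agent.KFacts.TwESix.QRho
  Cfsg.Agent.KFacts.TwESix.NodeCoord Cfsg.Agent.KFacts.TwESix.Out Cfsg.Agent.KFacts.TwESix.OutTwo
open Cfsg.Agent.Nodes.RGDTwE6 Cfsg.Agent.Nodes.RGDTwNode.E6
open scoped commutatorElement

universe u

variable {K : Type u} [Field K] [Fintype K] {q : ℕ} {φ : K →+* K}

/-- the coordinates -/
noncomputable def xE (hφ : ∀ x, φ x = x ^ q) (hqq : ∀ t : K, (t ^ q) ^ q = t) (i : Fin 4) (a : KF φ i) :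
    ↥(twistedE6 K q) := PhiE hφ hqq i (up a)

theorem cl_sr : ∀ i : Fin 4, Cfsg.Agent.Nodes.RGDTwCoord.cl chevE6 J Cfsg.Agent.Nodes.RGDTwCoordE6.O (sr i) = rep i :: rest i := by decide +kernel

theorem dl_sr : ∀ i : Fin 4, ∀ s ∈ rep i :: rest i, Cfsg.Agent.Nodes.RGDTwCoordE6.dl s = 1 := by decide +kernel

theorem yv_congr {Γ : Type*} [Group Γ] {x y : ℕ → K → Γ} {o : List ℕ} (h : ∀ s ∈ o, ∀ t, x s t = y s t) (a : K) :
    yv x φ o a = yv y φ o a := by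
  induction o generalizing a with
  | nil => rfl
  | cons s o ih =>
    show x s a * yv x φ o (φ a) = y s a * yv y φ o (φ a)
    rw [h s List.mem_cons_self, ih fun s' hs' => h s' (List.mem_cons_of_mem _ hs')]

theorem ok_sr (i : Fin 4) (a : KF φ i) : Cfsg.Agent.Nodes.RGDTwCoord.Ok chevE6 J Cfsg.Agent.Nodes.RGDTwCoordE6.O φ (sr i) (a : K) := by
  unfold Cfsg.Agent.Nodes.RGDTwCoord.Ok
  rw [cl_sr]
  exact mem_Fx.1 a.2

theorem xE_eq (hφ : ∀ x, φ x = x ^ q) (hqq : ∀ t : K, (t ^ q) ^ q = t) (i : Fin 4) (a : KF φ i) :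
    xE hφ hqq i a = Cfsg.Agent.Nodes.RGDTwComE6.x φ q (sr i) (a : K) := by
  apply Subtype.ext
  rw [Cfsg.Agent.Nodes.RGDTwComE6.coe_x (cs := CoxeterMatrix.F₄.toCoxeterSystem) hφ hqq (isRoot_sr _ isCartan i) (ok_sr i a)]
  have h1 : ((xE hφ hqq i a : ↥(twistedE6 K q)) : GL chevE6.Idx K) =
      yv (Elts.xG hp.inList) φ (rep i :: rest i) (a : K) :=
    coe_Phi_up (foldGrp hφ hqq) (nodeOK i) (hf i) a
  rw [h1]
  show _ = yv (Cfsg.Agent.Nodes.RGDTwCoord.xs hp Cfsg.Agent.Nodes.RGDTwCoordE6.dl) φ (Cfsg.Agent.Nodes.RGDTwCoord.cl chevE6 J Cfsg.Agent.Nodes.RGDTwCoordE6.O (sr i)) (a : K)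
  rw [cl_sr]
  refine yv_congr (fun s hs t => ?_) _
  show _ = Elts.xG hp.inList s (((Cfsg.Agent.Nodes.RGDTwCoordE6.dl s : ℤ) : K) * t)
  rw [dl_sr i s hs, Int.cast_one, one_mul]

theorem F1_le (i : Fin 4) : Fx φ 1 ≤ KF φ i := by
  have h : (rest i).length + 1 = 1 ∨ (rest i).length + 1 = 2 := by revert i; decide +kernel
  show Fx φ 1 ≤ Fx φ _
  rcases h with h | h <;> rw [h]
  exact F1_le_F2

/-- the highest root -/
abbrev rho : Fin 4 → ℤ := Cfsg.Agent.KFacts.TwESix.Comb.rho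

theorem rho_nonneg : (0 : Fin 4 → ℤ) ≤ rho := by
  intro i
  fin_cases i <;> simp [Cfsg.Agent.KFacts.TwESix.Comb.rho]

theorem rts_pos : ∀ b ∈ rts, 1 ≤ b 0 → ∀ i, 0 ≤ b i := by decide +kernel

variable [CharP K 2]

/-- **`Lin` for `²E₆(q)`** -/
theorem lin {W : Type*} [Group W] (cs : CoxeterSystem CoxeterMatrix.F₄ W) (hφ : ∀ x, φ x = x ^ q)
    (hqq : ∀ t : K, (t ^ q) ^ q = t) (hq : IsPrimePow q) (hK : Fintype.card K = q ^ 2) :
    Lin (rgd cs hφ hqq 2) (Fx φ 1) (KF φ) (xE hφ hqq) (chE hφ hqq) (fun z => (LineRgd.ht z).toNat) rho where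
  gen := G1_eq_top cs hφ hqq
  coord := coordE hφ hqq
  le := F1_le
  top := ⟨2, F2_eq_top hφ hqq⟩
  one β σ D := by
    have : Finite W := finiteW cs
    apply perm_F4 σ (D.matrix (rgd cs hφ hqq 2))
    intro h3
    have h4 := Diag.card_eq D 0
    rw [h3] at h4
    exact card_ne hφ hqq hK hq.one_lt h4
  tau β D := by
    have : Finite W := finiteW cs
    obtain ⟨τ, hτ⟩ := exists_ftau hφ hqq cs 2 D
    exact ⟨τ, hτ.char⟩
  wts := Wts.of_ht (StarESix.intComm hφ hqq) fun a ha u hu v hv => abel (rgd cs hφ hqq 2) ha.1 hu hv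
  star w i g hg hpos a ha u hu hux t ht := by
    have : Finite W := finiteW cs
    have : Fact (Nat.Prime 2) := ⟨Nat.prime_two⟩
    rw [xE_eq] at hux ⊢
    have ht' : φ (t : K) = t := ht
    exact StarESix.star hφ hqq 2 hg (isRoot_sr cs isCartan i) hpos (ok_sr i a)
      (fun h => ha (Subtype.ext h)) hu hux ht'
  rho := by
    obtain ⟨w, hw⟩ := exists_rep_long cs (rho_root cs) rho_long
    exact ⟨w, 0, hw, rfl⟩
  rho_pos := ⟨rho_root cs, rho_nonneg⟩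
  cen z hz := by
    have : Finite W := finiteW cs
    have D := Cfsg.Agent.KFacts.TwESix.Dat.dat cs hφ hqq hK hq.one_lt
    have hN := Cfsg.Agent.OddHalf.DblR.SheetTwE6.noCent cs hφ hqq hq hK
    constructor
    · intro h
      refine Cfsg.Agent.KFacts.TwESix.Faith.cent_Q D hN ?_ fun v hv => ?_
      · rw [Cfsg.Agent.KFacts.RgdRigid.GG_eq_top (T := T K q) (G1_eq_top cs hφ hqq)]
        trivial
      · refine (h v ?_).symm
        revert v
        show QQ cs (X φ q) ≤ RGD.Sup (X φ q) (RGD.Pos cs isCartan)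
        exact QQ_le fun b hb h1 => RGD.le_Sup ⟨hb, rts_pos b ((mem_rts cs).1 hb) h1⟩
    · intro h u hu
      refine (cen_PP D h ?_).symm
      revert u
      show RGD.Sup (X φ q) (RGD.Pos cs isCartan) ≤ PP cs (X φ q)
      exact RGD.Sup_le fun b hb => le_PP hb.1 (hb.2 0)

end Cfsg.Agent.OddHalf.D4.TwESixLin
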